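import Mathlib
import Cfsg.Agent.Lib.Cores

/-! Sylow `p`-subgroups normalizing Sylow `q`-subgroups and `O_{p'}(G)` (helper76). -/

set_option autoImplicit false

namespace Cfsg.Agent.Helper76

open Subgroup

/-- If `H ⊔ K = ⊤` with `K` normal then the index of `H` divides the order of `K`. -/
theorem index_dvd_card_of_sup_eq_top {G : Type*} [Group G] [Finite G] (H K : Subgroup G)
    [K.Normal] (h : H ⊔ K = ⊤) : H.index ∣ Nat.card K := by
  have h1 : K.relIndex H = K.index := by
    rw [← Subgroup.relIndex_sup_right H K, h, Subgroup.relIndex_top_right]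
  have h2 : Nat.card G = Nat.card K * K.relIndex H := by
    rw [h1]; exact (Subgroup.card_mul_index K).symm
  have h3 : Nat.card H = K.relIndex H * Nat.card (K.subgroupOf H) :=
    (Subgroup.index_mul_card (K.subgroupOf H)).symm
  have h4 : H.index * Nat.card H = Nat.card G := Subgroup.index_mul_card H
  have hpos : 0 < K.relIndex H := by
    rw [h1]; exact Nat.pos_of_ne_zero Subgroup.index_ne_zero_of_finite
  refine ⟨Nat.card (K.subgroupOf H), ?_⟩
  have : (H.index * Nat.card (K.subgroupOf H)) * K.relIndex H = Nat.card K * K.relIndex H := by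
    rw [← h2, ← h4, h3]; ring
  exact (Nat.eq_of_mul_eq_mul_right hpos this).symm

/-- A Sylow `q`-subgroup lies in any normal subgroup whose index is prime to `q`. -/
theorem sylow_le_normal_of_not_dvd_index {G : Type*} [Group G] [Finite G] {q : ℕ}
    [hq : Fact q.Prime] (K : Subgroup G) [K.Normal] (hK : ¬ q ∣ K.index) (Q : Sylow q G) :
    (Q : Subgroup G) ≤ K := by
  intro x hx
  rw [← QuotientGroup.eq_one_iff]
  obtain ⟨a, ha⟩ := (IsPGroup.iff_orderOf.mp Q.2) ⟨x, hx⟩
  have h1 : orderOf (x : G ⧸ K) ∣ q ^ a := by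
    have : orderOf x = q ^ a := by
      rw [← ha]; exact (Subgroup.orderOf_coe (⟨x, hx⟩ : (Q : Subgroup G)))
    rw [← this]
    exact orderOf_map_dvd (QuotientGroup.mk' K) x
  have h2 : orderOf (x : G ⧸ K) ∣ K.index := orderOf_dvd_natCard _
  have hcop : Nat.Coprime (q ^ a) K.index :=
    Nat.Coprime.pow_left a ((Nat.Prime.coprime_iff_not_dvd hq.out).mpr hK)
  exact orderOf_eq_one_iff.mp (Nat.eq_one_of_dvd_coprimes hcop h1 h2)

/-- If `q ∤ [G : O_{p'}(G)]` then some Sylow `p`-subgroup normalizes some Sylow `q`-subgroup. -/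
theorem exists_sylow_normalizing_of_not_dvd {G : Type*} [Group G] [Finite G] (p q : ℕ)
    [hp : Fact p.Prime] [hq : Fact q.Prime] (h : ¬ q ∣ (Cfsg.pPrimeCore p G).index) :
    ∃ (P : Sylow p G) (Q : Sylow q G),
      (P : Subgroup G) ≤ Subgroup.normalizer ((Q : Subgroup G) : Set G) := by
  classical
  set K := Cfsg.pPrimeCore p G with hK
  have hKc : K.Characteristic := Cfsg.Agent.Lib.pPrimeCore_characteristic p
  have hKn : K.Normal := Subgroup.normal_of_characteristic K
  have hKcop : (Nat.card K).Coprime p := Cfsg.Agent.Lib.card_pPrimeCore_coprime p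
  obtain ⟨P⟩ : Nonempty (Sylow p G) := inferInstance
  obtain ⟨Q₀⟩ : Nonempty (Sylow q G) := inferInstance
  have hQ₀K : (Q₀ : Subgroup G) ≤ K := sylow_le_normal_of_not_dvd_index K h Q₀
  have hfr := Sylow.normalizer_sup_eq_top' Q₀ hQ₀K
  have hidx : (normalizer ((Q₀ : Subgroup G) : Set G)).index ∣ Nat.card K :=
    index_dvd_card_of_sup_eq_top _ K hfr
  have hcard : ¬ p ∣ Nat.card (Sylow q G) := by
    rw [Sylow.card_eq_index_normalizer Q₀]
    intro hdvd
    have := Nat.Coprime.coprime_dvd_left hidx hKcop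
    exact (Nat.Prime.coprime_iff_not_dvd hp.out).mp this.symm hdvd
  -- P acts on the Sylow q-subgroups with a fixed point
  have hPG : IsPGroup p (P : Subgroup G) := P.2
  obtain ⟨Q, hQ⟩ := hPG.nonempty_fixed_point_of_prime_not_dvd_card (Sylow q G) hcard
  refine ⟨P, Q, ?_⟩
  intro g hg
  have := hQ ⟨g, hg⟩
  exact Sylow.smul_eq_iff_mem_normalizer.mp this

/-- `O_{p'}(G / O_{p'}(G)) = 1`. -/
theorem pPrimeCore_quotient_pPrimeCore {G : Type*} [Group G] [Finite G] (p : ℕ)
    [hK : (Cfsg.pPrimeCore p G).Normal] :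
    Cfsg.pPrimeCore p (G ⧸ Cfsg.pPrimeCore p G) = ⊥ := by
  classical
  set K := Cfsg.pPrimeCore p G with hKdef
  set M := Cfsg.pPrimeCore p (G ⧸ K) with hM
  have hMc : M.Characteristic := Cfsg.Agent.Lib.pPrimeCore_characteristic p
  have hMn : M.Normal := Subgroup.normal_of_characteristic M
  have hMcop : (Nat.card M).Coprime p := Cfsg.Agent.Lib.card_pPrimeCore_coprime p
  have hKcop : (Nat.card K).Coprime p := Cfsg.Agent.Lib.card_pPrimeCore_coprime p
  set L := M.comap (QuotientGroup.mk' K) with hL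
  have hLn : L.Normal := Subgroup.Normal.comap hMn _
  have hLcard : Nat.card L = Nat.card K * Nat.card M := by
    have h1 : L.index = M.index := Subgroup.index_comap_of_surjective M (QuotientGroup.mk'_surjective K)
    have h2 := L.card_mul_index
    have h3 := M.card_mul_index
    have h4 : Nat.card (G ⧸ K) = K.index := rfl
    have h5 := K.card_mul_index
    have hpos : 0 < M.index := Nat.pos_of_ne_zero Subgroup.index_ne_zero_of_finite
    have : Nat.card L * M.index = (Nat.card K * Nat.card M) * M.index := by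
      rw [mul_assoc, h3, h4, h5, ← h1, h2]
    exact Nat.eq_of_mul_eq_mul_right hpos this
  have hLcop : (Nat.card L).Coprime p := by rw [hLcard]; exact Nat.Coprime.mul_left hKcop hMcop
  have hLK : L ≤ K := Cfsg.Agent.Lib.le_pPrimeCore hLn hLcop
  rw [eq_bot_iff]
  intro m hm
  obtain ⟨g, rfl⟩ := QuotientGroup.mk'_surjective K m
  have : g ∈ L := hm
  have hgK : g ∈ K := hLK this
  rw [Subgroup.mem_bot]
  exact (QuotientGroup.eq_one_iff g).mpr hgK

/-- The `⇒` direction of S4602, given the Hall–Higman lemma for the quotient. -/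
theorem not_dvd_index_of_sylow_normalizes {G : Type*} [Group G] [Finite G] (p q : ℕ)
    [hp : Fact p.Prime] [hq : Fact q.Prime] (hpq : p ≠ q)
    [hKn : (Cfsg.pPrimeCore p G).Normal]
    (hHH : Subgroup.centralizer ((Cfsg.pCore p (G ⧸ Cfsg.pPrimeCore p G) : Subgroup _) : Set _)
      ≤ Cfsg.pCore p (G ⧸ Cfsg.pPrimeCore p G))
    (P : Sylow p G) (Q : Sylow q G)
    (hPQ : (P : Subgroup G) ≤ Subgroup.normalizer ((Q : Subgroup G) : Set G)) :
    ¬ q ∣ (Cfsg.pPrimeCore p G).index := by
  classical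
  set K := Cfsg.pPrimeCore p G with hKdef
  set π := QuotientGroup.mk' K with hπ
  have hπs : Function.Surjective π := QuotientGroup.mk'_surjective K
  set Op := Cfsg.pCore p (G ⧸ K) with hOp
  have hOpc : Op.Characteristic := Cfsg.Agent.Lib.pCore_characteristic p
  have hOpn : Op.Normal := Subgroup.normal_of_characteristic Op
  have hOpP : IsPGroup p Op := Cfsg.Agent.Lib.isPGroup_pCore p
  set Pb : Sylow p (G ⧸ K) := P.mapSurjective hπs with hPb
  have hOpPb : Op ≤ (Pb : Subgroup (G ⧸ K)) := Cfsg.Agent.Lib.pCore_le_sylow Pb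
  have hPbcoe : (Pb : Subgroup (G ⧸ K)) = (P : Subgroup G).map π := Sylow.coe_mapSurjective hπs P
  set Qb : Subgroup (G ⧸ K) := (Q : Subgroup G).map π with hQb
  have hQbq : IsPGroup q Qb := Q.2.map π
  -- Pb normalizes Qb
  have hnorm : ∀ a ∈ (Pb : Subgroup (G ⧸ K)), ∀ b ∈ Qb, a * b * a⁻¹ ∈ Qb := by
    intro a ha b hb
    rw [hPbcoe] at ha
    obtain ⟨x, hx, rfl⟩ := ha
    obtain ⟨y, hy, rfl⟩ := hb
    refine ⟨x * y * x⁻¹, ?_, by simp⟩
    have := (Subgroup.mem_normalizer_iff.mp (hPQ hx)) y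
    exact this.mp hy
  have hdisj : Disjoint Op Qb := IsPGroup.disjoint_of_ne p q hpq Op Qb hOpP hQbq
  -- Qb centralizes Op
  have hcent : Qb ≤ Subgroup.centralizer (Op : Set (G ⧸ K)) := by
    intro b hb
    rw [Subgroup.mem_centralizer_iff]
    intro a ha
    have h1 : a * b * a⁻¹ * b⁻¹ ∈ Op := by
      have : a * b * a⁻¹ * b⁻¹ = a * (b * a⁻¹ * b⁻¹) := by group
      rw [this]
      exact Op.mul_mem ha (hOpn.conj_mem _ (Op.inv_mem ha) b)
    have h2 : a * b * a⁻¹ * b⁻¹ ∈ Qb :=
      Qb.mul_mem (hnorm a (hOpPb ha) b hb) (Qb.inv_mem hb)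
    have h3 : a * b * a⁻¹ * b⁻¹ = 1 := by
      have := (Subgroup.disjoint_def.mp hdisj) h1 h2
      exact this
    calc a * b = (a * b * a⁻¹ * b⁻¹) * b * a := by group
      _ = b * a := by rw [h3, one_mul]
  have hQbot : Qb = ⊥ := by
    rw [eq_bot_iff]
    intro b hb
    have h1 : b ∈ Op := hHH (hcent hb)
    exact (Subgroup.disjoint_def.mp hdisj) h1 hb
  have hQK : (Q : Subgroup G) ≤ K := by
    intro x hx
    have : π x ∈ Qb := ⟨x, hx, rfl⟩
    rw [hQbot, Subgroup.mem_bot] at this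
    exact (QuotientGroup.eq_one_iff x).mp this
  intro hdvd
  exact Q.not_dvd_index (hdvd.trans (Subgroup.index_dvd_of_le hQK))

end Cfsg.Agent.Helper76
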