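import Mathlib
import Cfsg.Agent.Lib.Cores
import Cfsg.Agent.Helper11.PSolvable
import Cfsg.Agent.Helper76.SylowNormalizes

/-!
# Class sizes of `q`-elements and Sylow normalizers

If no `q`-element of the finite group `G` has class size divisible by `p`, and `G` is `p`-solvable
or `q`-solvable, then some Sylow `p`-subgroup normalizes a Sylow `q`-subgroup.
-/

set_option autoImplicit false

namespace Cfsg.Agent.Helper76

open Subgroup

universe u

/-- A subgroup of index prime to `p` contains a Sylow `p`-subgroup. -/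
theorem exists_sylow_le_of_not_dvd_index' {G : Type*} [Group G] [Finite G] {p : ℕ}
    [hp : Fact p.Prime] (C : Subgroup G) (hC : ¬ p ∣ C.index) :
    ∃ P : Sylow p G, (P : Subgroup G) ≤ C := by
  classical
  obtain ⟨P₀⟩ : Nonempty (Sylow p G) := inferInstance
  have hPG : IsPGroup p (P₀ : Subgroup G) := P₀.2
  obtain ⟨x, hx⟩ := hPG.nonempty_fixed_point_of_prime_not_dvd_card (G ⧸ C) hC
  obtain ⟨g, rfl⟩ := QuotientGroup.mk_surjective x
  refine ⟨g⁻¹ • P₀, ?_⟩
  intro z hz
  rw [Sylow.coe_subgroup_smul, Subgroup.mem_pointwise_smul_iff_inv_smul_mem] at hz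
  have hz' : g * z * g⁻¹ ∈ (P₀ : Subgroup G) := by simpa [MulAut.smul_def] using hz
  have := hx ⟨g * z * g⁻¹, hz'⟩
  have h2 : ((g * z * g⁻¹ * g : G) : G ⧸ C) = (g : G ⧸ C) := this
  rw [QuotientGroup.eq] at h2
  have : (g * z * g⁻¹ * g)⁻¹ * g = z⁻¹ := by group
  rw [this] at h2
  exact (Subgroup.inv_mem_iff C).mp h2

/-- Class sizes can only shrink (in the divisibility order) under surjective homomorphisms. -/
theorem index_centralizer_map_dvd {G H : Type*} [Group G] [Group H] [Finite G] (f : G →* H)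
    (hf : Function.Surjective f) (y : G) :
    (centralizer ({f y} : Set H)).index ∣ (centralizer ({y} : Set G)).index := by
  have h1 : (centralizer ({y} : Set G)).map f ≤ centralizer ({f y} : Set H) := by
    rintro _ ⟨c, hc, rfl⟩
    rw [SetLike.mem_coe] at hc
    rw [Subgroup.mem_centralizer_iff] at hc ⊢
    intro h hh
    rw [Set.mem_singleton_iff] at hh
    subst hh
    rw [← map_mul, ← map_mul, hc y rfl]
  exact (Subgroup.index_dvd_of_le h1).trans (Subgroup.index_map_dvd _ hf)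

/-- `|HK : H| = |K : H ∩ K|` for `K` normal. -/
theorem relIndex_sup_eq_of_normal {G : Type*} [Group G] [Finite G] (H K : Subgroup G) [K.Normal] :
    H.relIndex (H ⊔ K) = (H ⊓ K).relIndex K := by
  have e1 : Nat.card (H ⊓ K : Subgroup G) * (H ⊓ K).relIndex H = Nat.card H := by
    have := Subgroup.relIndex_mul_relIndex ⊥ (H ⊓ K) H bot_le inf_le_left
    rwa [Subgroup.relIndex_bot_left, Subgroup.relIndex_bot_left] at this
  have e2 : Nat.card (H ⊓ K : Subgroup G) * (H ⊓ K).relIndex K = Nat.card K := by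
    have := Subgroup.relIndex_mul_relIndex ⊥ (H ⊓ K) K bot_le inf_le_right
    rwa [Subgroup.relIndex_bot_left, Subgroup.relIndex_bot_left] at this
  have e3 : Nat.card H * H.relIndex (H ⊔ K) = Nat.card (H ⊔ K : Subgroup G) := by
    have := Subgroup.relIndex_mul_relIndex ⊥ H (H ⊔ K) bot_le le_sup_left
    rwa [Subgroup.relIndex_bot_left, Subgroup.relIndex_bot_left] at this
  have e4 : Nat.card K * K.relIndex (H ⊔ K) = Nat.card (H ⊔ K : Subgroup G) := by
    have := Subgroup.relIndex_mul_relIndex ⊥ K (H ⊔ K) bot_le le_sup_right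
    rwa [Subgroup.relIndex_bot_left, Subgroup.relIndex_bot_left] at this
  rw [Subgroup.relIndex_sup_right, ← Subgroup.inf_relIndex_left] at e4
  have hpos1 : 0 < Nat.card (H ⊓ K : Subgroup G) := Nat.card_pos
  have hpos2 : 0 < (H ⊓ K).relIndex H := by
    rcases Nat.eq_zero_or_pos ((H ⊓ K).relIndex H) with h | h
    · rw [h, mul_zero] at e1
      have : 0 < Nat.card H := Nat.card_pos
      omega
    · exact h
  have key : (Nat.card (H ⊓ K : Subgroup G) * (H ⊓ K).relIndex H) * H.relIndex (H ⊔ K)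
      = (Nat.card (H ⊓ K : Subgroup G) * (H ⊓ K).relIndex H) * (H ⊓ K).relIndex K := by
    rw [e1, e3, ← e4, ← e2, ← e1]; ring
  exact Nat.eq_of_mul_eq_mul_left (Nat.mul_pos hpos1 hpos2) key

/-- Every `q`-element of a quotient lifts to a `q`-element. -/
theorem exists_qElement_lift {G : Type*} [Group G] [Finite G] {q : ℕ} [hq : Fact q.Prime]
    (N : Subgroup G) [N.Normal] (y' : G ⧸ N) (hy' : ∃ k : ℕ, orderOf y' = q ^ k) :
    ∃ y : G, (∃ k : ℕ, orderOf y = q ^ k) ∧ (QuotientGroup.mk' N) y = y' := by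
  classical
  have hπs : Function.Surjective (QuotientGroup.mk' N) := QuotientGroup.mk'_surjective N
  have hz : IsPGroup q (zpowers y') := by
    obtain ⟨k, hk⟩ := hy'
    apply IsPGroup.of_card (n := k)
    rw [Nat.card_zpowers, hk]
  obtain ⟨Q', hQ'⟩ := hz.exists_le_sylow
  obtain ⟨Q, rfl⟩ := Sylow.mapSurjective_surjective hπs q Q'
  have hmem : y' ∈ ((Q.mapSurjective hπs : Sylow q (G ⧸ N)) : Subgroup (G ⧸ N)) :=
    hQ' (Subgroup.mem_zpowers y')
  rw [Sylow.coe_mapSurjective] at hmem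
  obtain ⟨y, hy, rfl⟩ := hmem
  refine ⟨y, ?_, rfl⟩
  obtain ⟨k, hk⟩ := (IsPGroup.iff_orderOf.mp Q.2) ⟨y, hy⟩
  exact ⟨k, by rw [← hk]; exact (Subgroup.orderOf_coe (⟨y, hy⟩ : (Q : Subgroup G)))⟩

/-- The class-size hypothesis passes to quotients. -/
theorem classSize_hyp_quotient {G : Type*} [Group G] [Finite G] {p q : ℕ} [hq : Fact q.Prime]
    (N : Subgroup G) [N.Normal]
    (h : ∀ y : G, (∃ k : ℕ, orderOf y = q ^ k) →
      ¬ p ∣ (Subgroup.centralizer ({y} : Set G)).index) :
    ∀ y' : G ⧸ N, (∃ k : ℕ, orderOf y' = q ^ k) →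
      ¬ p ∣ (Subgroup.centralizer ({y'} : Set (G ⧸ N))).index := by
  intro y' hy' hdvd
  obtain ⟨y, hy, rfl⟩ := exists_qElement_lift N y' hy'
  exact h y hy (hdvd.trans (index_centralizer_map_dvd (QuotientGroup.mk' N)
    (QuotientGroup.mk'_surjective N) y))

/-- A normal `p`-subgroup lies in every subgroup of index prime to `p`. -/
theorem normal_pGroup_le_of_not_dvd_index {G : Type*} [Group G] [Finite G] {p : ℕ}
    [hp : Fact p.Prime] (V C : Subgroup G) [V.Normal] (hV : IsPGroup p V)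
    (hC : ¬ p ∣ C.index) : V ≤ C := by
  obtain ⟨P, hP⟩ := exists_sylow_le_of_not_dvd_index' C hC
  exact (Cfsg.Agent.Lib.normal_pGroup_le_sylow inferInstance hV P).trans hP

/-- S4601, the `p`-solvable case. -/
theorem sylow_normalizes_of_pSolvable {G : Type*} [Group G] [Finite G] (p q : ℕ)
    [hp : Fact p.Prime] [hq : Fact q.Prime] (hpq : p ≠ q) (hsolv : Cfsg.IsPSolvable p G)
    (h : ∀ y : G, (∃ k : ℕ, orderOf y = q ^ k) →
      ¬ p ∣ (Subgroup.centralizer ({y} : Set G)).index) :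
    ∃ (P : Sylow p G) (Q : Sylow q G),
      (P : Subgroup G) ≤ Subgroup.normalizer ((Q : Subgroup G) : Set G) := by
  classical
  apply exists_sylow_normalizing_of_not_dvd p q
  have hKc : (Cfsg.pPrimeCore p G).Characteristic := Cfsg.Agent.Lib.pPrimeCore_characteristic p
  have hKn : (Cfsg.pPrimeCore p G).Normal := Subgroup.normal_of_characteristic _
  set K := Cfsg.pPrimeCore p G with hK
  have hsolvQ : Cfsg.IsPSolvable p (G ⧸ K) := Cfsg.Agent.Helper11.isPSolvable_quotient _ hsolv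
  have hbot : Cfsg.pPrimeCore p (G ⧸ K) = ⊥ := pPrimeCore_quotient_pPrimeCore p
  have hHH := Cfsg.Agent.Helper11.centralizer_pCore_le_of_isPSolvable hsolvQ hbot
  have hq' := classSize_hyp_quotient (p := p) K h
  set Op := Cfsg.pCore p (G ⧸ K) with hOp
  have hOpc : Op.Characteristic := Cfsg.Agent.Lib.pCore_characteristic p
  have hOpn : Op.Normal := Subgroup.normal_of_characteristic Op
  have hOpP : IsPGroup p Op := Cfsg.Agent.Lib.isPGroup_pCore p
  intro hdvd
  have hdvd' : q ∣ Nat.card (G ⧸ K) := hdvd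
  obtain ⟨y', hy'⟩ := exists_prime_orderOf_dvd_card' q hdvd'
  have hy'q : ∃ k : ℕ, orderOf y' = q ^ k := ⟨1, by rw [hy', pow_one]⟩
  have h1 := hq' y' hy'q
  have h2 : Op ≤ centralizer ({y'} : Set (G ⧸ K)) :=
    normal_pGroup_le_of_not_dvd_index Op _ hOpP h1
  have h3 : y' ∈ centralizer (Op : Set (G ⧸ K)) := by
    rw [Subgroup.mem_centralizer_iff]
    intro a ha
    have := Subgroup.mem_centralizer_iff.mp (h2 ha) y' rfl
    exact this.symm
  have h4 : y' ∈ Op := hHH h3
  obtain ⟨k, hk⟩ := (IsPGroup.iff_orderOf.mp hOpP) ⟨y', h4⟩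
  have h5 : orderOf y' = p ^ k := by
    rw [← hk]; exact (Subgroup.orderOf_coe (⟨y', h4⟩ : Op))
  rw [hy'] at h5
  have : q ∣ p ^ k := h5 ▸ dvd_rfl
  have := (Nat.prime_dvd_prime_iff_eq hq.out hp.out).mp (hq.out.dvd_of_dvd_pow this)
  exact hpq this.symm

/-- Conjugation action of a subgroup `A` on a subset `S` stable under `A`-conjugation. -/
@[reducible] def conjActOn {G : Type*} [Group G] (A : Subgroup G) (S : Set G)
    (hS : ∀ a ∈ A, ∀ s ∈ S, a * s * a⁻¹ ∈ S) : MulAction A S where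
  smul a s := ⟨a * s * a⁻¹, hS a a.2 s s.2⟩
  one_smul s := Subtype.ext (by show ((1 : A) : G) * s * ((1 : A) : G)⁻¹ = s; simp)
  mul_smul a b s := Subtype.ext (by
    show ((a * b : A) : G) * s * ((a * b : A) : G)⁻¹ = (a : G) * ((b : G) * s * (b : G)⁻¹) * (a : G)⁻¹
    simp [mul_assoc])

/-- Glauberman-type step: if the `q`-element `y` normalizes the `p`-subgroup... `P₀ ≤ N`
(`N` a normal `q'`-subgroup) and centralizes the conjugate `n P₀ n⁻¹` (`n ∈ N`), then `y`
centralizes `P₀`. -/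
theorem le_centralizer_of_conj_le_centralizer {G : Type*} [Group G] [Finite G] {q : ℕ}
    [hq : Fact q.Prime] (N : Subgroup G) [N.Normal] (hN : (Nat.card N).Coprime q)
    (P₀ : Subgroup G) (y : G) (hyq : ∃ k : ℕ, orderOf y = q ^ k)
    (hy : y ∈ normalizer (P₀ : Set G)) (n : G) (hn : n ∈ N)
    (hcent : ∀ x ∈ P₀, n * x * n⁻¹ ∈ centralizer ({y} : Set G)) :
    P₀ ≤ centralizer ({y} : Set G) := by
  classical
  set A := zpowers y with hA
  have hAq : IsPGroup q A := by
    obtain ⟨k, hk⟩ := hyq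
    apply IsPGroup.of_card (n := k)
    rw [Nat.card_zpowers, hk]
  -- n⁻¹ a n centralizes P₀ for a ∈ A
  have hA1 : A ≤ (centralizer (P₀ : Set G)).comap (MulAut.conj n⁻¹).toMonoidHom := by
    rw [hA, Subgroup.zpowers_le, Subgroup.mem_comap, Subgroup.mem_centralizer_iff]
    intro x hx
    have h1 := Subgroup.mem_centralizer_iff.mp (hcent x hx) y rfl
    -- y * (n x n⁻¹) = (n x n⁻¹) * y
    show x * (n⁻¹ * y * n⁻¹⁻¹) = (n⁻¹ * y * n⁻¹⁻¹) * x
    rw [inv_inv]
    calc x * (n⁻¹ * y * n) = n⁻¹ * ((n * x * n⁻¹) * y) * n := by group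
      _ = n⁻¹ * (y * (n * x * n⁻¹)) * n := by rw [h1]
      _ = (n⁻¹ * y * n) * x := by group
  have hA2 : A ≤ normalizer (P₀ : Set G) := by
    rw [hA, Subgroup.zpowers_le]; exact hy
  set S : Set G := {c | c ∈ N ∧ c * n ∈ normalizer (P₀ : Set G)} with hS
  have hSinv : ∀ a ∈ A, ∀ s ∈ S, a * s * a⁻¹ ∈ S := by
    intro a ha s hs
    refine ⟨Subgroup.Normal.conj_mem inferInstance s hs.1 a, ?_⟩
    have h1 : n⁻¹ * a * n ∈ normalizer (P₀ : Set G) := by
      have := hA1 ha
      rw [Subgroup.mem_comap] at this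
      have h2 : n⁻¹ * a * n ∈ centralizer (P₀ : Set G) := by
        have h3 : (MulAut.conj n⁻¹).toMonoidHom a = n⁻¹ * a * n := by
          show n⁻¹ * a * n⁻¹⁻¹ = _
          rw [inv_inv]
        rw [← h3]; exact this
      exact Subgroup.centralizer_le_normalizer _ h2
    have h4 : a * s * a⁻¹ * n = a * (s * n) * (n⁻¹ * a * n)⁻¹ := by group
    rw [h4]
    exact Subgroup.mul_mem _ (Subgroup.mul_mem _ (hA2 ha) hs.2) (Subgroup.inv_mem _ h1)
  letI : MulAction A S := conjActOn A S hSinv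
  -- card S divides card N
  have hcardS : Nat.card S = Nat.card (normalizer (P₀ : Set G) ⊓ N : Subgroup G) := by
    apply Nat.card_congr
    refine ⟨fun c => ⟨c.1 * n, c.2.2, N.mul_mem c.2.1 hn⟩,
      fun m => ⟨m.1 * n⁻¹, N.mul_mem m.2.2 (N.inv_mem hn), by
        show m.1 * n⁻¹ * n ∈ normalizer (P₀ : Set G)
        rw [inv_mul_cancel_right]; exact m.2.1⟩, ?_, ?_⟩
    · intro c; apply Subtype.ext; show c.1 * n * n⁻¹ = c.1; group
    · intro m; apply Subtype.ext; show m.1 * n⁻¹ * n = m.1; group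
  have hSq : ¬ q ∣ Nat.card S := by
    rw [hcardS]
    intro hdvd
    have h1 : q ∣ Nat.card N := hdvd.trans (Subgroup.card_dvd_of_le inf_le_right)
    exact (Nat.Prime.coprime_iff_not_dvd hq.out).mp hN.symm h1
  have hSfin : Finite S := Set.toFinite S |>.to_subtype
  obtain ⟨c, hc⟩ := hAq.nonempty_fixed_point_of_prime_not_dvd_card S hSq
  have hcy : y * c.1 * y⁻¹ = c.1 := by
    have := hc ⟨y, Subgroup.mem_zpowers y⟩
    exact congrArg Subtype.val this
  have hcC : c.1 ∈ centralizer ({y} : Set G) := by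
    rw [Subgroup.mem_centralizer_iff]
    intro h hh
    rw [Set.mem_singleton_iff] at hh
    subst hh
    calc h * c.1 = (h * c.1 * h⁻¹) * h := by group
      _ = c.1 * h := by rw [hcy]
  intro x hx
  have hcn : c.1 * n ∈ normalizer (P₀ : Set G) := c.2.2
  have hx' : (c.1 * n)⁻¹ * x * (c.1 * n) ∈ P₀ := (Subgroup.mem_normalizer_iff''.mp hcn x).mp hx
  have h1 := hcent _ hx'
  have h2 : x = c.1 * (n * ((c.1 * n)⁻¹ * x * (c.1 * n)) * n⁻¹) * c.1⁻¹ := by group
  rw [h2]
  exact Subgroup.mul_mem _ (Subgroup.mul_mem _ hcC h1) (Subgroup.inv_mem _ hcC)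

/-- Under the class-size hypothesis, some Sylow `q`-subgroup centralizes a Sylow `p`-subgroup of
the normal `q'`-subgroup `N`. -/
theorem exists_sylow_not_dvd_relIndex_centralizer {G : Type*} [Group G] [Finite G] (p q : ℕ)
    [hp : Fact p.Prime] [hq : Fact q.Prime] (N : Subgroup G) [N.Normal]
    (hN : (Nat.card N).Coprime q)
    (h : ∀ y : G, (∃ k : ℕ, orderOf y = q ^ k) →
      ¬ p ∣ (Subgroup.centralizer ({y} : Set G)).index) :
    ∃ Q : Sylow q G, ¬ p ∣ (centralizer ((Q : Subgroup G) : Set G) ⊓ N).relIndex N := by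
  classical
  obtain ⟨P₁⟩ : Nonempty (Sylow p N) := inferInstance
  set P₀ : Subgroup G := (P₁ : Subgroup N).map N.subtype with hP₀
  have hP₀N : P₀ ≤ N := Subgroup.map_subtype_le _
  have hfr : normalizer (P₀ : Set G) ⊔ N = ⊤ := Sylow.normalizer_sup_eq_top P₁
  have hidx : (normalizer (P₀ : Set G)).index ∣ Nat.card N :=
    index_dvd_card_of_sup_eq_top _ N hfr
  have hqD : ¬ q ∣ (normalizer (P₀ : Set G)).index := by
    intro hdvd
    exact (Nat.Prime.coprime_iff_not_dvd hq.out).mp hN.symm (hdvd.trans hidx)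
  obtain ⟨Q, hQ⟩ := exists_sylow_le_of_not_dvd_index' (normalizer (P₀ : Set G)) hqD
  refine ⟨Q, ?_⟩
  -- every y ∈ Q centralizes P₀
  have hcentQ : ∀ y ∈ (Q : Subgroup G), P₀ ≤ centralizer ({y} : Set G) := by
    intro y hyQ
    have hyq : ∃ k : ℕ, orderOf y = q ^ k := by
      obtain ⟨k, hk⟩ := (IsPGroup.iff_orderOf.mp Q.2) ⟨y, hyQ⟩
      exact ⟨k, by rw [← hk]; exact (Subgroup.orderOf_coe (⟨y, hyQ⟩ : (Q : Subgroup G)))⟩
    have hH := h y hyq
    -- C_N(y) has p'-index in N
    set C' : Subgroup N := (centralizer ({y} : Set G)).subgroupOf N with hC'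
    have hC'idx : ¬ p ∣ C'.index := by
      intro hdvd
      apply hH
      have h1 : C'.index = (centralizer ({y} : Set G)).relIndex N := rfl
      rw [h1, ← Subgroup.inf_relIndex_right, ← relIndex_sup_eq_of_normal] at hdvd
      exact hdvd.trans (Subgroup.relIndex_dvd_index_of_le le_sup_left)
    obtain ⟨P₂, hP₂⟩ := exists_sylow_le_of_not_dvd_index' C' hC'idx
    obtain ⟨n, hn⟩ := MulAction.exists_smul_eq N P₁ P₂
    apply le_centralizer_of_conj_le_centralizer N hN P₀ y hyq (hQ hyQ) (n : G) n.2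
    rintro _ ⟨x, hx, rfl⟩
    have hmem : n * x * n⁻¹ ∈ (P₂ : Subgroup N) := by
      rw [← hn, Sylow.coe_subgroup_smul]
      have : n * x * n⁻¹ = MulAut.conj n • x := rfl
      rw [this]
      exact Subgroup.smul_mem_pointwise_smul x _ _ hx
    have := hP₂ hmem
    exact this
  have hle : P₀ ≤ centralizer ((Q : Subgroup G) : Set G) ⊓ N := by
    refine le_inf ?_ hP₀N
    intro x hx
    rw [Subgroup.mem_centralizer_iff]
    intro y hy
    have := Subgroup.mem_centralizer_iff.mp (hcentQ y hy hx) y rfl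
    exact this
  intro hdvd
  have h1 : (centralizer ((Q : Subgroup G) : Set G) ⊓ N).relIndex N ∣ P₀.relIndex N :=
    Subgroup.relIndex_dvd_of_le_left N hle
  have h2 : P₀.relIndex N = (P₁ : Subgroup N).index := by
    show (P₀.subgroupOf N).index = _
    congr 1
    rw [hP₀]
    exact Subgroup.comap_map_eq_self_of_injective N.subtype_injective _
  rw [h2] at h1
  exact P₁.not_dvd_index (hdvd.trans h1)

/-- Frattini: the normalizer of `Q N` is `N_G(Q) N` for a Sylow subgroup `Q` and normal `N`. -/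
theorem normalizer_sup_le {G : Type*} [Group G] [Finite G] {q : ℕ} [hq : Fact q.Prime]
    (Q : Sylow q G) (N : Subgroup G) [N.Normal] :
    normalizer (((Q : Subgroup G) ⊔ N : Subgroup G) : Set G) ≤
      normalizer ((Q : Subgroup G) : Set G) ⊔ N := by
  classical
  intro t ht
  set H : Subgroup G := (Q : Subgroup G) ⊔ N with hH
  have hQH : (Q : Subgroup G) ≤ H := le_sup_left
  have hQ'H : ((t • Q : Sylow q G) : Subgroup G) ≤ H := by
    intro x hx
    rw [Sylow.coe_subgroup_smul, Subgroup.mem_pointwise_smul_iff_inv_smul_mem] at hx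
    have hx' : t⁻¹ * x * t ∈ (Q : Subgroup G) := by simpa [MulAut.smul_def] using hx
    have h1 : t⁻¹ * x * t ∈ H := hQH hx'
    have := (Subgroup.mem_normalizer_iff''.mp ht x).mpr h1
    exact this
  obtain ⟨h, hh⟩ := MulAction.exists_smul_eq H (Q.subtype hQH) ((t • Q).subtype hQ'H)
  rw [Sylow.smul_subtype hQH h] at hh
  have h2 : (h • Q : Sylow q G) = t • Q := Sylow.subtype_injective hh
  have h3 : ((h : G)⁻¹ * t) • Q = Q := by
    rw [mul_smul, ← h2]
    show (h : G)⁻¹ • ((h : G) • Q) = Q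
    rw [inv_smul_smul]
  have h4 : (h : G)⁻¹ * t ∈ normalizer ((Q : Subgroup G) : Set G) :=
    Sylow.smul_eq_iff_mem_normalizer.mp h3
  have h5 : t = (h : G) * ((h : G)⁻¹ * t) := by group
  rw [h5]
  have hHle : H ≤ normalizer ((Q : Subgroup G) : Set G) ⊔ N :=
    sup_le (le_trans Subgroup.le_normalizer le_sup_left) le_sup_right
  exact Subgroup.mul_mem _ (hHle h.2) (le_sup_left (a := normalizer ((Q : Subgroup G) : Set G)) h4)

/-- A nontrivial `q`-solvable group has a nontrivial normal subgroup which is a `q`-group or a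
`q'`-group. -/
theorem exists_normal_of_isPSolvable {G : Type*} [Group G] [Nontrivial G] {q : ℕ}
    (hsolv : Cfsg.IsPSolvable q G) :
    ∃ N : Subgroup G, N.Normal ∧ N ≠ ⊥ ∧ ((∃ m : ℕ, Nat.card N = q ^ m) ∨ (Nat.card N).Coprime q) := by
  classical
  obtain ⟨n, H, h0, hlast, hmono, hnorm, hstep⟩ := hsolv
  have hex : ∃ i : ℕ, ∃ hi : i < n + 1, H ⟨i, hi⟩ ≠ ⊥ := by
    refine ⟨n, Nat.lt_succ_self n, ?_⟩
    have : (⟨n, Nat.lt_succ_self n⟩ : Fin (n + 1)) = Fin.last n := rfl
    rw [this, hlast]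
    exact top_ne_bot
  obtain ⟨hi, hne⟩ := Nat.find_spec hex
  set i := Nat.find hex with hidef
  have hi0 : i ≠ 0 := by
    intro h
    apply hne
    have : (⟨i, hi⟩ : Fin (n + 1)) = 0 := Fin.ext h
    rw [this, h0]
  obtain ⟨j, hj⟩ : ∃ j, i = j + 1 := ⟨i - 1, by omega⟩
  have hjn : j < n := by omega
  have hprev : H ⟨j, by omega⟩ = ⊥ := by
    by_contra hcon
    have := Nat.find_min hex (m := j) (by omega)
    exact this ⟨by omega, hcon⟩
  have hs := hstep ⟨j, hjn⟩
  have e1 : (⟨j, hjn⟩ : Fin n).castSucc = ⟨j, by omega⟩ := rfl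
  have e2 : (⟨j, hjn⟩ : Fin n).succ = ⟨i, hi⟩ := Fin.ext (by simp [hj])
  rw [e1, e2, hprev, Subgroup.relIndex_bot_left] at hs
  exact ⟨H ⟨i, hi⟩, hnorm _, hne, hs⟩

/-- The inductive step: pass from `G ⧸ N` to `G`. -/
theorem not_dvd_card_sylow_step {G : Type u} [Group G] [Finite G] (p q : ℕ)
    [hp : Fact p.Prime] [hq : Fact q.Prime] (N : Subgroup G) [N.Normal]
    (hN : (∃ m : ℕ, Nat.card N = q ^ m) ∨ (Nat.card N).Coprime q)
    (h : ∀ y : G, (∃ k : ℕ, orderOf y = q ^ k) →
      ¬ p ∣ (Subgroup.centralizer ({y} : Set G)).index)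
    (hquot : ¬ p ∣ Nat.card (Sylow q (G ⧸ N))) : ¬ p ∣ Nat.card (Sylow q G) := by
  classical
  set π := QuotientGroup.mk' N with hπ
  have hπs : Function.Surjective π := QuotientGroup.mk'_surjective N
  -- for any Sylow q-subgroup Q, the preimage of the normalizer of its image
  have hT : ∀ Q : Sylow q G,
      (normalizer (((Q : Subgroup G) ⊔ N : Subgroup G) : Set G)).index
        = Nat.card (Sylow q (G ⧸ N)) := by
    intro Q
    have hc : Nat.card (Sylow q (G ⧸ N)) =
        (normalizer (((Q : Subgroup G).map π : Subgroup (G ⧸ N)) : Set (G ⧸ N))).index := by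
      have := Sylow.card_eq_index_normalizer (Q.mapSurjective hπs)
      rw [this]
      rfl
    rw [hc, ← Subgroup.index_comap_of_surjective _ hπs,
      Subgroup.comap_normalizer_eq_of_surjective _ hπs,
      Subgroup.comap_map_eq, QuotientGroup.ker_mk']
  rcases hN with ⟨m, hm⟩ | hcop
  · -- N is a q-group: N ≤ Q
    obtain ⟨Q⟩ : Nonempty (Sylow q G) := inferInstance
    have hNQ : N ≤ (Q : Subgroup G) :=
      Cfsg.Agent.Lib.normal_pGroup_le_sylow inferInstance (IsPGroup.of_card hm) Q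
    have hc : Nat.card (Sylow q G) = (normalizer ((Q : Subgroup G) : Set G)).index :=
      Sylow.card_eq_index_normalizer Q
    rw [hc]
    have := hT Q
    rw [sup_of_le_left hNQ] at this
    rw [this]
    exact hquot
  · obtain ⟨Q, hQ⟩ := exists_sylow_not_dvd_relIndex_centralizer p q N hcop h
    have hc : Nat.card (Sylow q G) = (normalizer ((Q : Subgroup G) : Set G)).index :=
      Sylow.card_eq_index_normalizer Q
    rw [hc]
    set NQ := normalizer ((Q : Subgroup G) : Set G) with hNQ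
    set T := normalizer (((Q : Subgroup G) ⊔ N : Subgroup G) : Set G) with hTdef
    have hTidx : ¬ p ∣ T.index := by rw [hT Q]; exact hquot
    have hle1 : NQ ≤ T := by
      intro x hx
      have h1 : π x ∈ normalizer (((Q : Subgroup G).map π : Subgroup (G ⧸ N)) : Set (G ⧸ N)) :=
        Subgroup.le_normalizer_map π ⟨x, hx, rfl⟩
      have h2 : x ∈ (normalizer (((Q : Subgroup G).map π : Subgroup (G ⧸ N)) : Set (G ⧸ N))).comap π := h1
      rw [Subgroup.comap_normalizer_eq_of_surjective _ hπs, Subgroup.comap_map_eq,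
        QuotientGroup.ker_mk'] at h2
      exact h2
    have hle2 : T ≤ NQ ⊔ N := normalizer_sup_le Q N
    have h1 : NQ.relIndex T * T.index = NQ.index := Subgroup.relIndex_mul_index hle1
    have h2 : NQ.relIndex T ∣ NQ.relIndex (NQ ⊔ N) :=
      ⟨_, (Subgroup.relIndex_mul_relIndex NQ T (NQ ⊔ N) hle1 hle2).symm⟩
    have h3 : NQ.relIndex (NQ ⊔ N) = (NQ ⊓ N).relIndex N := relIndex_sup_eq_of_normal NQ N
    have h4 : (NQ ⊓ N).relIndex N ∣ (centralizer ((Q : Subgroup G) : Set G) ⊓ N).relIndex N :=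
      Subgroup.relIndex_dvd_of_le_left N
        (inf_le_inf_right N (Subgroup.centralizer_le_normalizer _))
    have h5 : ¬ p ∣ NQ.relIndex T := fun hd => hQ ((hd.trans h2).trans (h3 ▸ h4))
    rw [← h1]
    intro hd
    rcases (Nat.Prime.dvd_mul hp.out).mp hd with hd | hd
    · exact h5 hd
    · exact hTidx hd

/-- In a finite `q`-solvable group in which no `q`-element has class size divisible by `p`, the
number of Sylow `q`-subgroups is prime to `p`. -/
theorem not_dvd_card_sylow_of_qSolvable (p q : ℕ) [hp : Fact p.Prime] [hq : Fact q.Prime] :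
    ∀ (n : ℕ) (G : Type u) [Group G] [Finite G], Nat.card G = n → Cfsg.IsPSolvable q G →
      (∀ y : G, (∃ k : ℕ, orderOf y = q ^ k) →
        ¬ p ∣ (Subgroup.centralizer ({y} : Set G)).index) →
      ¬ p ∣ Nat.card (Sylow q G) := by
  intro n
  induction n using Nat.strong_induction_on with
  | _ n ih =>
    intro G _ _ hcard hsolv h
    rcases subsingleton_or_nontrivial G with hs | hnt
    · have : Nat.card (Sylow q G) = 1 := by
        obtain ⟨Q⟩ : Nonempty (Sylow q G) := inferInstance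
        rw [Sylow.card_eq_index_normalizer Q, Subgroup.index_eq_one]
        exact Subsingleton.elim _ _
      rw [this]
      intro hd
      exact hp.out.one_lt.ne' (Nat.eq_one_of_dvd_one hd)
    · obtain ⟨N, hNn, hNne, hN⟩ := exists_normal_of_isPSolvable hsolv
      have hlt : Nat.card (G ⧸ N) < n := by
        rw [← hcard, ← Subgroup.index_mul_card N]
        have h1 : 1 < Nat.card N := by
          rw [Subgroup.one_lt_card_iff_ne_bot]; exact hNne
        have h2 : 0 < N.index := Nat.pos_of_ne_zero Subgroup.index_ne_zero_of_finite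
        show N.index < N.index * Nat.card N
        nlinarith
      have hquot := ih (Nat.card (G ⧸ N)) hlt (G ⧸ N) rfl
        (Cfsg.Agent.Helper11.isPSolvable_quotient N hsolv) (classSize_hyp_quotient N h)
      exact not_dvd_card_sylow_step p q N hN h hquot

end Cfsg.Agent.Helper76
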