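import Mathlib

/-! Small p-group lemmas (helper76): normal subgroups of prime order, the commutator
homomorphism in class two, groups of order `p ^ 4`. -/

set_option autoImplicit false

namespace Cfsg.Agent.Helper76

open Subgroup
open scoped commutatorElement

/-- A normal subgroup of prime order `p` in a finite `p`-group is central. -/
theorem normal_le_center_of_card_prime {P : Type*} [Group P] [Finite P] {p : ℕ} [hp : Fact p.Prime]
    (hP : IsPGroup p P) (H : Subgroup P) [H.Normal] (hH : Nat.card H = p) : H ≤ center P := by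
  classical
  have hC : IsPGroup p (ConjAct P) := hP.of_equiv ConjAct.toConjAct
  have hmod := hC.card_modEq_card_fixedPoints H
  rw [hH] at hmod
  have hdvd : p ∣ Nat.card (MulAction.fixedPoints (ConjAct P) H) := by
    have : Nat.card (MulAction.fixedPoints (ConjAct P) H) ≡ 0 [MOD p] :=
      hmod.symm.trans (Nat.modEq_zero_iff_dvd.mpr dvd_rfl)
    exact Nat.modEq_zero_iff_dvd.mp this
  have h1 : (1 : H) ∈ MulAction.fixedPoints (ConjAct P) H := by
    intro g; exact smul_one g
  have hpos : 0 < Nat.card (MulAction.fixedPoints (ConjAct P) H) :=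
    Finite.card_pos_iff.mpr ⟨⟨1, h1⟩⟩
  have hle : p ≤ Nat.card (MulAction.fixedPoints (ConjAct P) H) := Nat.le_of_dvd hpos hdvd
  have hall : MulAction.fixedPoints (ConjAct P) H = Set.univ := by
    apply Set.eq_univ_of_forall
    by_contra hne
    push Not at hne
    obtain ⟨h, hh⟩ := hne
    have hlt : Nat.card (MulAction.fixedPoints (ConjAct P) H) < Nat.card H := by
      have hsub : MulAction.fixedPoints (ConjAct P) H ⊂ Set.univ :=
        Set.ssubset_univ_iff.mpr (fun heq => hh (heq ▸ Set.mem_univ h))
      have := Set.ncard_lt_ncard hsub (Set.finite_univ)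
      rwa [Set.ncard_univ, ← Nat.card_coe_set_eq] at this
    omega
  intro h hh
  rw [Subgroup.mem_center_iff]
  intro g
  have : (⟨h, hh⟩ : H) ∈ MulAction.fixedPoints (ConjAct P) H := by rw [hall]; trivial
  have h2 := this (ConjAct.toConjAct g)
  have h3 := congrArg Subtype.val h2
  rw [ConjAct.Subgroup.val_conj_smul, ConjAct.smul_def] at h3
  simp only [ConjAct.ofConjAct_toConjAct] at h3
  -- g * h * g⁻¹ = h
  calc g * h = g * h * g⁻¹ * g := by group
    _ = h * g := by rw [h3]

/-- If all commutators `a g a⁻¹ g⁻¹` are central, then `g ↦ a g a⁻¹ g⁻¹` is a homomorphism. -/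
def commHom {P : Type*} [Group P] (a : P) (h : ∀ g : P, a * g * a⁻¹ * g⁻¹ ∈ center P) : P →* P where
  toFun g := a * g * a⁻¹ * g⁻¹
  map_one' := by group
  map_mul' g k := by
    have hk := Subgroup.mem_center_iff.mp (h k) g
    -- a g k a⁻¹ k⁻¹ g⁻¹ = a g a⁻¹ (a k a⁻¹ k⁻¹) g⁻¹
    calc a * (g * k) * a⁻¹ * (g * k)⁻¹ = a * g * a⁻¹ * (a * k * a⁻¹ * k⁻¹) * g⁻¹ := by group
      _ = a * g * a⁻¹ * ((a * k * a⁻¹ * k⁻¹) * g⁻¹) := by group
      _ = a * g * a⁻¹ * (g⁻¹ * (a * k * a⁻¹ * k⁻¹)) := by
          congr 1
          have := hk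
          -- g * c = c * g → c * g⁻¹ = g⁻¹ * c
          calc (a * k * a⁻¹ * k⁻¹) * g⁻¹ = g⁻¹ * (g * (a * k * a⁻¹ * k⁻¹)) * g⁻¹ := by group
            _ = g⁻¹ * ((a * k * a⁻¹ * k⁻¹) * g) * g⁻¹ := by rw [this]
            _ = g⁻¹ * (a * k * a⁻¹ * k⁻¹) := by group
      _ = a * g * a⁻¹ * g⁻¹ * (a * k * a⁻¹ * k⁻¹) := by group

@[simp] theorem commHom_apply {P : Type*} [Group P] (a : P)
    (h : ∀ g : P, a * g * a⁻¹ * g⁻¹ ∈ center P) (g : P) : commHom a h g = a * g * a⁻¹ * g⁻¹ := rfl

theorem mem_ker_commHom {P : Type*} [Group P] (a : P)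
    (h : ∀ g : P, a * g * a⁻¹ * g⁻¹ ∈ center P) (g : P) :
    g ∈ (commHom a h).ker ↔ a * g = g * a := by
  rw [MonoidHom.mem_ker, commHom_apply]
  constructor
  · intro h1
    calc a * g = (a * g * a⁻¹ * g⁻¹) * g * a := by group
      _ = g * a := by rw [h1, one_mul]
  · intro h1
    calc a * g * a⁻¹ * g⁻¹ = (a * g) * a⁻¹ * g⁻¹ := by group
      _ = 1 := by rw [h1]; group

/-- If a subgroup `H` of the centre of a finite group has index dividing a prime, the group is
commutative. -/
theorem comm_of_le_center_of_index_dvd_prime {G : Type*} [Group G] [Finite G] {p : ℕ}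
    (hp : p.Prime) (H : Subgroup G) (hH : H ≤ center G) (hidx : H.index ∣ p) (a b : G) :
    a * b = b * a := by
  have h1 : (center G).index ∣ p := (Subgroup.index_dvd_of_le hH).trans hidx
  have hcyc : IsCyclic (G ⧸ center G) := by
    rcases (Nat.dvd_prime hp).mp h1 with h | h
    · have hc : Nat.card (G ⧸ center G) = 1 := h
      have : Subsingleton (G ⧸ center G) := (Nat.card_eq_one_iff_unique.mp hc).1
      exact isCyclic_of_subsingleton
    · have : Fact p.Prime := ⟨hp⟩
      exact isCyclic_of_prime_card (p := p) (by rw [← h]; rfl)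
  have hcomm := MonoidHom.isMulCommutative_of_isCyclic_of_ker_le_center
    (QuotientGroup.mk' (center G)) (by rw [QuotientGroup.ker_mk'])
  exact hcomm.is_comm.comm a b

/-- A subgroup of the centre is normal. -/
theorem normal_of_le_center' {G : Type*} [Group G] (H : Subgroup G) (hH : H ≤ center G) :
    H.Normal := by
  constructor
  intro n hn g
  have := Subgroup.mem_center_iff.mp (hH hn) g
  have h2 : g * n * g⁻¹ = n := by
    calc g * n * g⁻¹ = n * g * g⁻¹ := by rw [this]
      _ = n := by group
  rw [h2]; exact hn

/-- In a finite `p`-group whose centre has index `p ^ 2`, all commutators are central. -/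
theorem commutator_mem_center_of_index_center {P : Type*} [Group P] [Finite P] {p : ℕ}
    [hp : Fact p.Prime] (hZ : (center P).index = p ^ 2) (a b : P) :
    a * b * a⁻¹ * b⁻¹ ∈ center P := by
  have hcard : Nat.card (P ⧸ center P) = p ^ 2 := hZ
  have hc := (IsPGroup.isMulCommutative_of_card_eq_prime_sq hcard).is_comm.comm
  rw [← QuotientGroup.eq_one_iff]
  simp only [QuotientGroup.mk_mul, QuotientGroup.mk_inv]
  rw [hc (a : P ⧸ center P) b]
  group

/-- In a finite `p`-group whose centre has index `p ^ 2`, the derived subgroup has order `p`. -/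
theorem card_commutator_eq_prime_of_index_center {P : Type*} [Group P] [Finite P] {p : ℕ}
    [hp : Fact p.Prime] (hZ : (center P).index = p ^ 2) :
    Nat.card (_root_.commutator P) = p := by
  classical
  have hp1 : 1 < p := hp.out.one_lt
  have hcen := commutator_mem_center_of_index_center hZ
  -- a noncentral element
  have hne : center P ≠ ⊤ := by
    intro h
    rw [← Subgroup.index_eq_one] at h
    rw [h] at hZ
    have : 1 < p ^ 2 := Nat.one_lt_pow (by norm_num) hp1
    omega
  obtain ⟨a, ha⟩ : ∃ a : P, a ∉ center P := by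
    by_contra hcon
    push Not at hcon
    exact hne (eq_top_iff.mpr (fun x _ => hcon x))
  set f := commHom a (hcen a) with hf
  set C := f.ker with hC
  have hZC : center P ≤ C := by
    intro z hz
    rw [hC, mem_ker_commHom]
    exact (Subgroup.mem_center_iff.mp hz a)
  have haC : a ∈ C := by rw [hC, mem_ker_commHom]
  have hCtop : C ≠ ⊤ := by
    intro h
    apply ha
    rw [Subgroup.mem_center_iff]
    intro g
    have : g ∈ C := by rw [h]; trivial
    rw [hC, mem_ker_commHom] at this
    exact this.symm
  have hZltC : center P < C := lt_of_le_of_ne hZC (fun h => ha (h ▸ haC))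
  have hCidx : C.index = p := by
    have h1 : C.index ∣ p ^ 2 := hZ ▸ Subgroup.index_dvd_of_le hZC
    have h2 : C.index < p ^ 2 := hZ ▸ Subgroup.index_strictAnti hZltC
    have h3 : C.index ≠ 1 := fun h => hCtop (Subgroup.index_eq_one.mp h)
    obtain ⟨m, hm, hm2⟩ := (Nat.dvd_prime_pow hp.out).mp h1
    interval_cases m
    · rw [pow_zero] at hm2; exact absurd hm2 h3
    · rw [pow_one] at hm2; exact hm2
    · rw [hm2] at h2; exact absurd h2 (lt_irrefl _)
  set K := f.range with hK
  have hKcard : Nat.card K = p := by rw [hK, ← Subgroup.index_ker, ← hC, hCidx]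
  have hKZ : K ≤ center P := by
    rintro _ ⟨g, rfl⟩
    exact hcen a g
  have hKn : K.Normal := normal_of_le_center' K hKZ
  -- P ⧸ K is commutative
  set W := (center (P ⧸ K)).comap (QuotientGroup.mk' K) with hW
  have hZW : center P ≤ W := by
    intro z hz
    rw [hW, Subgroup.mem_comap, Subgroup.mem_center_iff]
    intro q
    obtain ⟨g, rfl⟩ := QuotientGroup.mk'_surjective K q
    rw [← map_mul, ← map_mul, Subgroup.mem_center_iff.mp hz g]
  have haW : a ∈ W := by
    rw [hW, Subgroup.mem_comap, Subgroup.mem_center_iff]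
    intro q
    obtain ⟨g, rfl⟩ := QuotientGroup.mk'_surjective K q
    rw [← map_mul, ← map_mul]
    -- g * a = a * g mod K
    simp only [QuotientGroup.mk'_apply]
    rw [QuotientGroup.eq]
    -- (g * a)⁻¹ * (a * g) ∈ K
    have : (g * a)⁻¹ * (a * g) = (f (a⁻¹ * g⁻¹))⁻¹ := by
      rw [hf, commHom_apply]; group
    rw [this]
    exact K.inv_mem ⟨_, rfl⟩
  have hZltW : center P < W := lt_of_le_of_ne hZW (fun h => ha (h ▸ haW))
  have hWidx : W.index ∣ p := by
    have h1 : W.index ∣ p ^ 2 := hZ ▸ Subgroup.index_dvd_of_le hZW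
    have h2 : W.index < p ^ 2 := hZ ▸ Subgroup.index_strictAnti hZltW
    obtain ⟨m, hm, hm2⟩ := (Nat.dvd_prime_pow hp.out).mp h1
    interval_cases m
    · rw [pow_zero] at hm2; rw [hm2]; exact one_dvd p
    · rw [pow_one] at hm2; rw [hm2]
    · rw [hm2] at h2; exact absurd h2 (lt_irrefl _)
  have hcidx : (center (P ⧸ K)).index ∣ p := by
    rw [← Subgroup.index_comap_of_surjective (center (P ⧸ K)) (QuotientGroup.mk'_surjective K)]
    exact hWidx
  have hcomm := comm_of_le_center_of_index_dvd_prime hp.out (center (P ⧸ K)) le_rfl hcidx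
  have hcK : _root_.commutator P ≤ K := by
    rw [_root_.commutator_def, Subgroup.commutator_le]
    intro g₁ _ g₂ _
    rw [← QuotientGroup.eq_one_iff, commutatorElement_def]
    simp only [QuotientGroup.mk_mul, QuotientGroup.mk_inv]
    rw [hcomm (g₁ : P ⧸ K) g₂]
    group
  have hdvd : Nat.card (_root_.commutator P) ∣ p := hKcard ▸ Subgroup.card_dvd_of_le hcK
  rcases (Nat.dvd_prime hp.out).mp hdvd with h | h
  · exfalso
    apply ha
    rw [Subgroup.mem_center_iff]
    intro g
    have hbot : _root_.commutator P = ⊥ := (Subgroup.card_eq_one).mp h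
    have : ⁅g, a⁆ ∈ _root_.commutator P := by
      rw [_root_.commutator_def]
      exact Subgroup.commutator_mem_commutator (Subgroup.mem_top g) (Subgroup.mem_top a)
    rw [hbot, Subgroup.mem_bot, commutatorElement_eq_one_iff_mul_comm] at this
    exact this
  · exact h

/-- If the centre has index `p ^ 3`, all commutators are central and `x` is a noncentral element
whose centralizer `ker (commHom x)` has index `p`, then that centralizer is commutative. -/
theorem ker_commHom_comm {P : Type*} [Group P] [Finite P] {p : ℕ} [hp : Fact p.Prime]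
    (hZ : (center P).index = p ^ 3) (hcen : ∀ a g : P, a * g * a⁻¹ * g⁻¹ ∈ center P)
    (x : P) (hx : x ∉ center P) (hidx : (commHom x (hcen x)).ker.index = p) :
    ∀ u ∈ (commHom x (hcen x)).ker, ∀ v ∈ (commHom x (hcen x)).ker, u * v = v * u := by
  classical
  set A := (commHom x (hcen x)).ker with hA
  have hZA : center P ≤ A := by
    intro z hz
    rw [hA, mem_ker_commHom]
    exact (Subgroup.mem_center_iff.mp hz x)
  have hxA : x ∈ A := by rw [hA, mem_ker_commHom]
  set B := center P ⊔ zpowers x with hB
  have hBA : B ≤ A := sup_le hZA ((Subgroup.zpowers_le).mpr hxA)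
  have hZB : center P < B := by
    refine lt_of_le_of_ne le_sup_left (fun h => hx ?_)
    rw [h]
    exact (le_sup_right : zpowers x ≤ B) (Subgroup.mem_zpowers x)
  have hBidx : B.index ∣ p ^ 2 := by
    have h1 : B.index ∣ p ^ 3 := hZ ▸ Subgroup.index_dvd_of_le le_sup_left
    have h2 : B.index < p ^ 3 := hZ ▸ Subgroup.index_strictAnti hZB
    obtain ⟨m, hm, hm2⟩ := (Nat.dvd_prime_pow hp.out).mp h1
    have hm3 : m ≠ 3 := by
      rintro rfl
      rw [hm2] at h2; exact absurd h2 (lt_irrefl _)
    rw [hm2]
    exact pow_dvd_pow p (by omega)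
  have hrel : B.relIndex A ∣ p := by
    have h1 := Subgroup.relIndex_mul_index hBA
    rw [hidx] at h1
    have h2 : B.relIndex A * p ∣ p * p := by rw [h1, ← sq]; exact hBidx
    rw [mul_comm] at h2
    exact (Nat.mul_dvd_mul_iff_left hp.out.pos).mp h2
  have hBcen : B.subgroupOf A ≤ center A := by
    intro h hh
    rw [Subgroup.mem_center_iff]
    intro g
    apply Subtype.ext
    rw [Subgroup.coe_mul, Subgroup.coe_mul]
    have hhB : (h : P) ∈ B := hh
    have hle : B ≤ centralizer (A : Set P) := by
      apply sup_le
      · intro z hz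
        rw [Subgroup.mem_centralizer_iff]
        intro a _
        exact (Subgroup.mem_center_iff.mp hz a)
      · rw [Subgroup.zpowers_le, Subgroup.mem_centralizer_iff]
        intro a ha
        have : a ∈ A := ha
        rw [hA, mem_ker_commHom] at this
        exact this.symm
    exact (Subgroup.mem_centralizer_iff.mp (hle hhB)) g g.2
  intro u hu v hv
  have := comm_of_le_center_of_index_dvd_prime hp.out (B.subgroupOf A) hBcen hrel ⟨u, hu⟩ ⟨v, hv⟩
  exact congrArg Subtype.val this

/-- In a group of order `p ^ 4` whose derived subgroup has order `p`, the centre has index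
`p ^ 2`. -/
theorem index_center_of_card_commutator {P : Type*} [Group P] [Finite P] {p : ℕ}
    [hp : Fact p.Prime] (hP : Nat.card P = p ^ 4) (hc : Nat.card (_root_.commutator P) = p) :
    (center P).index = p ^ 2 := by
  classical
  have hp1 : 1 < p := hp.out.one_lt
  have hPG : IsPGroup p P := IsPGroup.of_card hP
  have hcZ : _root_.commutator P ≤ center P :=
    normal_le_center_of_card_prime hPG (_root_.commutator P) hc
  have hcomm_mem : ∀ a g : P, a * g * a⁻¹ * g⁻¹ ∈ _root_.commutator P := by
    intro a g
    rw [_root_.commutator_def]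
    exact Subgroup.commutator_mem_commutator (Subgroup.mem_top a) (Subgroup.mem_top g)
  have hcen : ∀ a g : P, a * g * a⁻¹ * g⁻¹ ∈ center P := fun a g => hcZ (hcomm_mem a g)
  -- the centre is not everything
  have hne : center P ≠ ⊤ := by
    intro h
    have hbot : _root_.commutator P = ⊥ := by
      rw [eq_bot_iff, _root_.commutator_def, Subgroup.commutator_le]
      intro a _ g _
      rw [Subgroup.mem_bot, commutatorElement_eq_one_iff_mul_comm]
      have : g ∈ center P := by rw [h]; trivial
      exact (Subgroup.mem_center_iff.mp this a)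
    rw [hbot] at hc
    simp at hc
    omega
  have hdvd : (center P).index ∣ p ^ 4 := by
    rw [← hP]; exact Subgroup.index_dvd_card _
  obtain ⟨m, hm, hm2⟩ := (Nat.dvd_prime_pow hp.out).mp hdvd
  have hm0 : m ≠ 0 := by
    rintro rfl
    rw [pow_zero] at hm2
    exact hne (Subgroup.index_eq_one.mp hm2)
  have hm1 : m ≠ 1 := by
    rintro rfl
    rw [pow_one] at hm2
    apply hne
    rw [eq_top_iff]
    intro x _
    rw [Subgroup.mem_center_iff]
    intro g
    exact comm_of_le_center_of_index_dvd_prime hp.out (center P) le_rfl (hm2 ▸ dvd_rfl) g x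
  have hm4 : m ≠ 4 := by
    rintro rfl
    have hnt : Nontrivial P := by
      rw [← Finite.one_lt_card_iff_nontrivial, hP]
      exact Nat.one_lt_pow (by norm_num) hp1
    have h1 : Nontrivial (center P) := hPG.center_nontrivial
    have h2 : 1 < Nat.card (center P) := Finite.one_lt_card
    have h3 := Subgroup.index_mul_card (center P)
    rw [hm2, hP] at h3
    have : Nat.card (center P) = 1 := by
      have hpos : 0 < p ^ 4 := pow_pos hp.out.pos 4
      exact Nat.eq_of_mul_eq_mul_left hpos (by rw [h3, mul_one])
    omega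
  have hm3 : m ≠ 3 := by
    rintro rfl
    -- pick a noncentral element x
    obtain ⟨x, hx⟩ : ∃ a : P, a ∉ center P := by
      by_contra hcon
      push Not at hcon
      exact hne (eq_top_iff.mpr (fun x _ => hcon x))
    -- general fact: centralizers of noncentral elements have index p
    have hidx : ∀ y : P, y ∉ center P → (commHom y (hcen y)).ker.index = p := by
      intro y hy
      rw [Subgroup.index_ker]
      have hle : (commHom y (hcen y)).range ≤ _root_.commutator P := by
        rintro _ ⟨g, rfl⟩
        exact hcomm_mem y g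
      have hd : Nat.card (commHom y (hcen y)).range ∣ p := hc ▸ Subgroup.card_dvd_of_le hle
      rcases (Nat.dvd_prime hp.out).mp hd with h | h
      · exfalso
        apply hy
        rw [Subgroup.mem_center_iff]
        intro g
        have hbot : (commHom y (hcen y)).range = ⊥ := Subgroup.card_eq_one.mp h
        have : commHom y (hcen y) g ∈ (commHom y (hcen y)).range := ⟨g, rfl⟩
        rw [hbot, Subgroup.mem_bot] at this
        have h2 : g ∈ (commHom y (hcen y)).ker := this
        rw [mem_ker_commHom] at h2
        exact h2.symm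
      · exact h
    set A := (commHom x (hcen x)).ker with hA
    have hAidx : A.index = p := hidx x hx
    have hAcomm := ker_commHom_comm hm2 hcen x hx hAidx
    have hZA : center P ≤ A := by
      intro z hz
      rw [hA, mem_ker_commHom]
      exact (Subgroup.mem_center_iff.mp hz x)
    have hAne : A ≠ ⊤ := by
      intro h
      rw [← Subgroup.index_eq_one, hAidx] at h
      omega
    obtain ⟨y, hy⟩ : ∃ y : P, y ∉ A := by
      by_contra hcon
      push Not at hcon
      exact hAne (eq_top_iff.mpr (fun x _ => hcon x))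
    have hyZ : y ∉ center P := fun h => hy (hZA h)
    set A' := (commHom y (hcen y)).ker with hA'
    have hA'idx : A'.index = p := hidx y hyZ
    have hA'comm := ker_commHom_comm hm2 hcen y hyZ hA'idx
    have hyA' : y ∈ A' := by rw [hA', mem_ker_commHom]
    -- A ⊔ A' = ⊤
    have hsup : A ⊔ A' = ⊤ := by
      have hlt : A < A ⊔ A' := by
        refine lt_of_le_of_ne le_sup_left (fun h => hy ?_)
        rw [h]
        exact (le_sup_right : A' ≤ A ⊔ A') hyA'
      have h1 : (A ⊔ A').index ∣ p := hAidx ▸ Subgroup.index_dvd_of_le le_sup_left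
      have h2 : (A ⊔ A').index < p := hAidx ▸ Subgroup.index_strictAnti hlt
      rcases (Nat.dvd_prime hp.out).mp h1 with h | h
      · exact Subgroup.index_eq_one.mp h
      · omega
    -- A ⊓ A' ≤ Z
    have hD : A ⊓ A' ≤ center P := by
      intro d hd
      have hle : A ⊔ A' ≤ centralizer ({d} : Set P) := by
        apply sup_le
        · intro a ha
          rw [Subgroup.mem_centralizer_iff]
          intro h hh
          rw [Set.mem_singleton_iff] at hh
          subst hh
          exact hAcomm h hd.1 a ha
        · intro a ha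
          rw [Subgroup.mem_centralizer_iff]
          intro h hh
          rw [Set.mem_singleton_iff] at hh
          subst hh
          exact hA'comm h hd.2 a ha
      rw [hsup] at hle
      rw [Subgroup.mem_center_iff]
      intro g
      have := Subgroup.mem_centralizer_iff.mp (hle (Subgroup.mem_top g)) d rfl
      exact this.symm
    have h1 : (A ⊓ A').index ≤ p * p := by
      have := Subgroup.index_inf_le (H := A) (K := A')
      rwa [hAidx, hA'idx] at this
    have h2 : (center P).index ≤ (A ⊓ A').index := Subgroup.index_antitone hD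
    rw [hm2] at h2
    have : p ^ 3 ≤ p * p := h2.trans h1
    have h3 : p * p < p ^ 3 := by
      have : p ^ 3 = p * p * p := by ring
      rw [this]
      have hpp : 0 < p * p := Nat.mul_pos hp.out.pos hp.out.pos
      nlinarith
    omega
  have : m = 2 := by omega
  rw [hm2, this]

end Cfsg.Agent.Helper76
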