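import Mathlib

/-!
# Conjugate subgroups and minimal invariant subgroups

`conjSub g S = g S g⁻¹`; `IsMinInv N S`: `S` is a minimal nontrivial `N`-invariant subgroup of `N`.
Distinct minimal invariant subgroups meet trivially and commute.
-/

set_option autoImplicit false

namespace Cfsg.Agent.Helper76

section conj

variable {G : Type*} [Group G]

/-- The conjugate subgroup `g S g⁻¹`. -/
def conjSub (g : G) (S : Subgroup G) : Subgroup G := S.map (MulAut.conj g).toMonoidHom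

theorem mem_conjSub {g x : G} {S : Subgroup G} : x ∈ conjSub g S ↔ g⁻¹ * x * g ∈ S := by
  unfold conjSub
  constructor
  · rintro ⟨y, hy, rfl⟩
    have : g⁻¹ * ((MulAut.conj g).toMonoidHom y) * g = y := by
      simp [MulAut.conj_apply, mul_assoc]
    rw [this]; exact hy
  · intro h
    refine ⟨g⁻¹ * x * g, h, ?_⟩
    simp [MulAut.conj_apply, mul_assoc]

theorem conj_mem_conjSub {g x : G} {S : Subgroup G} (hx : x ∈ S) : g * x * g⁻¹ ∈ conjSub g S := by
  rw [mem_conjSub]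
  have : g⁻¹ * (g * x * g⁻¹) * g = x := by group
  rw [this]; exact hx

theorem conjSub_mul (a b : G) (S : Subgroup G) : conjSub (a * b) S = conjSub a (conjSub b S) := by
  ext x
  rw [mem_conjSub, mem_conjSub, mem_conjSub]
  have : (a * b)⁻¹ * x * (a * b) = b⁻¹ * (a⁻¹ * x * a) * b := by group
  rw [this]

theorem conjSub_one (S : Subgroup G) : conjSub 1 S = S := by
  ext x
  rw [mem_conjSub]
  simp

theorem conjSub_mono (g : G) {S S' : Subgroup G} (h : S ≤ S') : conjSub g S ≤ conjSub g S' :=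
  Subgroup.map_mono h

theorem conjSub_inv_conjSub (g : G) (S : Subgroup G) : conjSub g⁻¹ (conjSub g S) = S := by
  rw [← conjSub_mul, inv_mul_cancel, conjSub_one]

theorem conjSub_conjSub_inv (g : G) (S : Subgroup G) : conjSub g (conjSub g⁻¹ S) = S := by
  rw [← conjSub_mul, mul_inv_cancel, conjSub_one]

theorem conjSub_eq_self_iff {g : G} {S : Subgroup G} :
    conjSub g S = S ↔ g ∈ Subgroup.normalizer (S : Set G) := by
  rw [Subgroup.mem_normalizer_iff'']
  constructor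
  · intro h x
    rw [← mem_conjSub, h]
  · intro h
    ext x
    rw [mem_conjSub]
    exact (h x).symm

theorem conjSub_ne_bot {g : G} {S : Subgroup G} (h : S ≠ ⊥) : conjSub g S ≠ ⊥ := by
  intro h1
  apply h
  rw [eq_bot_iff]
  intro x hx
  have h2 := conj_mem_conjSub (g := g) hx
  rw [h1, Subgroup.mem_bot] at h2
  rw [Subgroup.mem_bot]
  have : x = g⁻¹ * (g * x * g⁻¹) * g := by group
  rw [this, h2]; group

theorem conjSub_iSup {ι : Sort*} (g : G) (f : ι → Subgroup G) :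
    conjSub g (⨆ i, f i) = ⨆ i, conjSub g (f i) :=
  Subgroup.map_iSup _ _

theorem conjSub_inf (g : G) (S S' : Subgroup G) :
    conjSub g (S ⊓ S') = conjSub g S ⊓ conjSub g S' := by
  ext x
  rw [mem_conjSub, Subgroup.mem_inf, Subgroup.mem_inf, mem_conjSub, mem_conjSub]

/-- `H` normalizes `K` as soon as each `v ∈ H` conjugates `K` into itself. -/
theorem le_normalizer_of_conjSub_le {H K : Subgroup G} (h : ∀ v ∈ H, conjSub v K ≤ K) :
    H ≤ Subgroup.normalizer (K : Set G) := by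
  intro v hv
  rw [← conjSub_eq_self_iff]
  apply le_antisymm (h v hv)
  have h1 := conjSub_mono v (h v⁻¹ (H.inv_mem hv))
  rwa [conjSub_conjSub_inv] at h1

/-- A join of `H`-invariant subgroups is `H`-invariant. -/
theorem le_normalizer_iSup {ι : Sort*} (H : Subgroup G) (f : ι → Subgroup G)
    (h : ∀ i, H ≤ Subgroup.normalizer (f i : Set G)) :
    H ≤ Subgroup.normalizer ((⨆ i, f i : Subgroup G) : Set G) := by
  apply le_normalizer_of_conjSub_le
  intro v hv
  rw [conjSub_iSup]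
  apply iSup_le
  intro i
  rw [conjSub_eq_self_iff.2 (h i hv)]
  exact le_iSup f i

/-- If `N ⊴ G` normalizes `S` then it normalizes every conjugate of `S`. -/
theorem le_normalizer_conjSub {N S : Subgroup G} (hN : N.Normal)
    (h : N ≤ Subgroup.normalizer (S : Set G)) (g : G) :
    N ≤ Subgroup.normalizer (conjSub g S : Set G) := by
  intro n hn
  rw [← conjSub_eq_self_iff, ← conjSub_mul]
  have h1 : g⁻¹ * n * g ∈ N := by
    have := hN.conj_mem n hn g⁻¹
    simpa using this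
  have h2 : n * g = g * (g⁻¹ * n * g) := by group
  rw [h2, conjSub_mul, conjSub_eq_self_iff.2 (h h1)]

theorem conjSub_le_of_normal {N S : Subgroup G} (hN : N.Normal) (h : S ≤ N) (g : G) :
    conjSub g S ≤ N := by
  intro x hx
  rw [mem_conjSub] at hx
  have := hN.conj_mem _ (h hx) g
  have h2 : g * (g⁻¹ * x * g) * g⁻¹ = x := by group
  rwa [h2] at this

/-- `S` is a minimal nontrivial `N`-invariant subgroup of `N`. -/
def IsMinInv (N S : Subgroup G) : Prop :=
  S ≤ N ∧ S ≠ ⊥ ∧ N ≤ Subgroup.normalizer (S : Set G) ∧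
    ∀ S' : Subgroup G, S' ≤ S → S' ≠ ⊥ → N ≤ Subgroup.normalizer (S' : Set G) → S' = S

theorem IsMinInv.conj {N S : Subgroup G} (hN : N.Normal) (h : IsMinInv N S) (g : G) :
    IsMinInv N (conjSub g S) := by
  obtain ⟨h1, h2, h3, h4⟩ := h
  refine ⟨conjSub_le_of_normal hN h1 g, conjSub_ne_bot h2, le_normalizer_conjSub hN h3 g, ?_⟩
  intro S' hS' hS'0 hS'N
  have h5 : conjSub g⁻¹ S' ≤ S := by
    have := conjSub_mono g⁻¹ hS'
    rwa [conjSub_inv_conjSub] at this
  have h6 := h4 _ h5 (conjSub_ne_bot hS'0) (le_normalizer_conjSub hN hS'N g⁻¹)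
  rw [← h6, conjSub_conjSub_inv]

theorem le_normalizer_inf {N S₁ S₂ : Subgroup G} (h₁ : N ≤ Subgroup.normalizer (S₁ : Set G))
    (h₂ : N ≤ Subgroup.normalizer (S₂ : Set G)) :
    N ≤ Subgroup.normalizer ((S₁ ⊓ S₂ : Subgroup G) : Set G) := by
  apply le_normalizer_of_conjSub_le
  intro v hv
  rw [conjSub_inf, conjSub_eq_self_iff.2 (h₁ hv), conjSub_eq_self_iff.2 (h₂ hv)]

/-- Two minimal invariant subgroups are equal or meet trivially. -/
theorem IsMinInv.eq_or_disjoint {N S₁ S₂ : Subgroup G} (h₁ : IsMinInv N S₁) (h₂ : IsMinInv N S₂) :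
    S₁ = S₂ ∨ S₁ ⊓ S₂ = ⊥ := by
  by_cases h : S₁ ⊓ S₂ = ⊥
  · exact Or.inr h
  · left
    have hN := le_normalizer_inf h₁.2.2.1 h₂.2.2.1
    have e1 := h₁.2.2.2 _ inf_le_left h hN
    have e2 := h₂.2.2.2 _ inf_le_right h hN
    rw [← e1, e2]

/-- Distinct minimal invariant subgroups commute elementwise. -/
theorem IsMinInv.commute_of_ne {N S₁ S₂ : Subgroup G} (h₁ : IsMinInv N S₁) (h₂ : IsMinInv N S₂)
    (hne : S₁ ≠ S₂) : ∀ a ∈ S₁, ∀ b ∈ S₂, a * b = b * a := by
  intro a ha b hb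
  have hdisj : S₁ ⊓ S₂ = ⊥ := (h₁.eq_or_disjoint h₂).resolve_left hne
  have hb1 : b ∈ Subgroup.normalizer (S₁ : Set G) := h₁.2.2.1 (h₂.1 hb)
  have ha2 : a ∈ Subgroup.normalizer (S₂ : Set G) := h₂.2.2.1 (h₁.1 ha)
  have h1 : a * b * a⁻¹ * b⁻¹ ∈ S₁ := by
    have : b * a⁻¹ * b⁻¹ ∈ S₁ := (Subgroup.mem_normalizer_iff.1 hb1 a⁻¹).1 (S₁.inv_mem ha)
    have h2 : a * b * a⁻¹ * b⁻¹ = a * (b * a⁻¹ * b⁻¹) := by group
    rw [h2]; exact S₁.mul_mem ha this
  have h2 : a * b * a⁻¹ * b⁻¹ ∈ S₂ := by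
    have : a * b * a⁻¹ ∈ S₂ := (Subgroup.mem_normalizer_iff.1 ha2 b).1 hb
    exact S₂.mul_mem this (S₂.inv_mem hb)
  have h3 : a * b * a⁻¹ * b⁻¹ ∈ S₁ ⊓ S₂ := Subgroup.mem_inf.2 ⟨h1, h2⟩
  rw [hdisj, Subgroup.mem_bot] at h3
  calc a * b = (a * b * a⁻¹ * b⁻¹) * (b * a) := by group
    _ = b * a := by rw [h3, one_mul]

/-- In a product of two elementwise commuting subgroups, every element is a product. -/
theorem exists_mul_of_mem_sup_of_commute {H K : Subgroup G}
    (hc : ∀ h ∈ H, ∀ k ∈ K, h * k = k * h) {x : G} (hx : x ∈ H ⊔ K) :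
    ∃ h ∈ H, ∃ k ∈ K, x = h * k := by
  let M : Subgroup G :=
    { carrier := {x | ∃ h ∈ H, ∃ k ∈ K, x = h * k}
      one_mem' := ⟨1, H.one_mem, 1, K.one_mem, (mul_one 1).symm⟩
      mul_mem' := by
        rintro _ _ ⟨h, hh, k, hk, rfl⟩ ⟨h', hh', k', hk', rfl⟩
        refine ⟨h * h', H.mul_mem hh hh', k * k', K.mul_mem hk hk', ?_⟩
        calc h * k * (h' * k') = h * (k * h') * k' := by group
          _ = h * (h' * k) * k' := by rw [hc h' hh' k hk]
          _ = h * h' * (k * k') := by group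
      inv_mem' := by
        rintro _ ⟨h, hh, k, hk, rfl⟩
        refine ⟨h⁻¹, H.inv_mem hh, k⁻¹, K.inv_mem hk, ?_⟩
        rw [mul_inv_rev, ← hc h⁻¹ (H.inv_mem hh) k⁻¹ (K.inv_mem hk)] }
  have hle : H ⊔ K ≤ M := by
    apply sup_le
    · intro h hh; exact ⟨h, hh, 1, K.one_mem, (mul_one h).symm⟩
    · intro k hk; exact ⟨1, H.one_mem, k, hk, (one_mul k).symm⟩
  exact hle hx

end conj

end Cfsg.Agent.Helper76
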