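import Mathlib
import Cfsg.Agent.Helper76.PGroup

/-! Groups of order `p ^ 4`: nilpotency class and the derived subgroup (helper76). -/

set_option autoImplicit false

namespace Cfsg.Agent.Helper76

open Subgroup
open scoped commutatorElement

/-- A group whose order divides `p ^ 2` is commutative. -/
theorem comm_of_card_dvd_prime_sq {G : Type*} [Group G] [Finite G] {p : ℕ} [hp : Fact p.Prime]
    (h : Nat.card G ∣ p ^ 2) (a b : G) : a * b = b * a := by
  obtain ⟨m, hm, hm2⟩ := (Nat.dvd_prime_pow hp.out).mp h
  interval_cases m
  · rw [pow_zero] at hm2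
    have : Subsingleton G := (Nat.card_eq_one_iff_unique.mp hm2).1
    exact Subsingleton.elim _ _
  · rw [pow_one] at hm2
    have : IsCyclic G := isCyclic_of_prime_card hm2
    exact (IsCyclic.isMulCommutative (α := G)).is_comm.comm a b
  · exact (IsPGroup.isMulCommutative_of_card_eq_prime_sq hm2).is_comm.comm a b

/-- The quotient by the centre is commutative iff the derived subgroup is central. -/
theorem quotient_center_comm_iff {G : Type*} [Group G] :
    (∀ a b : G ⧸ center G, a * b = b * a) ↔ _root_.commutator G ≤ center G := by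
  constructor
  · intro h
    rw [_root_.commutator_def, Subgroup.commutator_le]
    intro a _ b _
    rw [← QuotientGroup.eq_one_iff, commutatorElement_def]
    simp only [QuotientGroup.mk_mul, QuotientGroup.mk_inv]
    rw [h (a : G ⧸ center G) b]
    group
  · intro h a b
    obtain ⟨a, rfl⟩ := QuotientGroup.mk_surjective a
    obtain ⟨b, rfl⟩ := QuotientGroup.mk_surjective b
    rw [← QuotientGroup.mk_mul, ← QuotientGroup.mk_mul, QuotientGroup.eq]
    have : (a * b)⁻¹ * (b * a) = ⁅b⁻¹, a⁻¹⁆ := by
      rw [commutatorElement_def]; group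
    rw [this]
    apply h
    rw [_root_.commutator_def]
    exact Subgroup.commutator_mem_commutator (Subgroup.mem_top _) (Subgroup.mem_top _)

/-- A nilpotent group has class at most two iff its derived subgroup is central. -/
theorem nilpotencyClass_le_two_iff {G : Type*} [Group G] [Group.IsNilpotent G] :
    Group.nilpotencyClass G ≤ 2 ↔ _root_.commutator G ≤ center G := by
  rw [← quotient_center_comm_iff]
  have h1 : Group.nilpotencyClass (G ⧸ center G) = Group.nilpotencyClass G - 1 :=
    Group.nilpotencyClass_quotient_center
  have h2 : Group.nilpotencyClass (G ⧸ center G) ≤ 1 ↔ IsMulCommutative (G ⧸ center G) :=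
    Group.IsNilpotent.nilpotencyClass_le_one_iff
  constructor
  · intro h
    have : Group.nilpotencyClass (G ⧸ center G) ≤ 1 := by omega
    exact (h2.mp this).is_comm.comm
  · intro h
    have : Group.nilpotencyClass (G ⧸ center G) ≤ 1 := h2.mpr ⟨⟨h⟩⟩
    omega

/-- A nontrivial finite `p`-group has a centre of order divisible by `p`. -/
theorem dvd_card_center {G : Type*} [Group G] [Finite G] {p : ℕ} [hp : Fact p.Prime]
    (hG : IsPGroup p G) [Nontrivial G] : p ∣ Nat.card (center G) := by
  have h1 : Nontrivial (center G) := hG.center_nontrivial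
  have h2 : IsPGroup p (center G) := hG.to_subgroup _
  rcases h2.card_eq_or_dvd with h | h
  · have : 1 < Nat.card (center G) := Finite.one_lt_card
    omega
  · exact h

/-- If `card G ∣ p ^ (n + 1)` then `(center G).index ∣ p ^ n`. -/
theorem index_center_dvd {G : Type*} [Group G] [Finite G] {p : ℕ} [hp : Fact p.Prime] (n : ℕ)
    (h : Nat.card G ∣ p ^ (n + 1)) : (center G).index ∣ p ^ n := by
  have hG : IsPGroup p G := IsPGroup.of_card_dvd_pow h
  rcases subsingleton_or_nontrivial G with hs | hn
  · have : (center G).index = 1 := by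
      rw [Subgroup.index_eq_one]; exact Subsingleton.elim _ _
    rw [this]; exact one_dvd _
  · have h1 := dvd_card_center hG
    have h2 := Subgroup.index_mul_card (center G)
    obtain ⟨c, hc⟩ := h1
    rw [hc] at h2
    have h3 : (center G).index * c * p ∣ p ^ n * p := by
      rw [← pow_succ]
      have : (center G).index * c * p = Nat.card G := by rw [← h2]; ring
      rw [this]; exact h
    have h4 : (center G).index * c ∣ p ^ n := (Nat.mul_dvd_mul_iff_right hp.out.pos).mp h3
    exact (dvd_mul_right _ _).trans h4

/-- A group of order `p ^ 4` has class at most three. -/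
theorem nilpotencyClass_le_three {P : Type*} [Group P] [Finite P] {p : ℕ} [hp : Fact p.Prime]
    (hP : Nat.card P = p ^ 4) [Group.IsNilpotent P] : Group.nilpotencyClass P ≤ 3 := by
  have h1 : Group.nilpotencyClass (P ⧸ center P) = Group.nilpotencyClass P - 1 :=
    Group.nilpotencyClass_quotient_center
  suffices h : Group.nilpotencyClass (P ⧸ center P) ≤ 2 by omega
  rw [nilpotencyClass_le_two_iff, ← quotient_center_comm_iff]
  have hQ : Nat.card (P ⧸ center P) ∣ p ^ 3 := index_center_dvd 3 (hP ▸ dvd_rfl)
  have hQ2 : Nat.card ((P ⧸ center P) ⧸ center (P ⧸ center P)) ∣ p ^ 2 := index_center_dvd 2 hQ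
  exact comm_of_card_dvd_prime_sq hQ2

/-- In a group of order `p ^ 4`, the derived subgroup has index `p ^ 2` iff it is not central. -/
theorem index_commutator_eq_sq_iff {P : Type*} [Group P] [Finite P] {p : ℕ} [hp : Fact p.Prime]
    (hP : Nat.card P = p ^ 4) :
    (_root_.commutator P).index = p ^ 2 ↔ ¬ _root_.commutator P ≤ center P := by
  classical
  have hp1 : 1 < p := hp.out.one_lt
  have hPG : IsPGroup p P := IsPGroup.of_card hP
  constructor
  · intro hidx hle
    -- |P'| = p^2
    have hcard : Nat.card (_root_.commutator P) = p ^ 2 := by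
      have := Subgroup.index_mul_card (_root_.commutator P)
      rw [hidx, hP] at this
      have h4 : p ^ 4 = p ^ 2 * p ^ 2 := by ring
      rw [h4] at this
      exact Nat.eq_of_mul_eq_mul_left (pow_pos hp.out.pos 2) this
    have hZdvd : (center P).index ∣ p ^ 2 := hidx ▸ Subgroup.index_dvd_of_le hle
    obtain ⟨m, hm, hm2⟩ := (Nat.dvd_prime_pow hp.out).mp hZdvd
    have hcomm_of : (∀ a b : P, a * b = b * a) → False := by
      intro h
      have : _root_.commutator P = ⊥ := (commutator_eq_bot_iff P).mpr ⟨⟨h⟩⟩
      rw [this] at hcard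
      simp at hcard
      have : 1 < p ^ 2 := Nat.one_lt_pow (by norm_num) hp1
      omega
    interval_cases m
    · rw [pow_zero] at hm2
      exact hcomm_of (comm_of_le_center_of_index_dvd_prime hp.out (center P) le_rfl
        (hm2 ▸ one_dvd p))
    · rw [pow_one] at hm2
      exact hcomm_of (comm_of_le_center_of_index_dvd_prime hp.out (center P) le_rfl
        (hm2 ▸ dvd_rfl))
    · have := card_commutator_eq_prime_of_index_center hm2
      rw [hcard] at this
      have : p * p = p := by rw [← sq]; exact this
      nlinarith
  · intro hnle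
    set Q := P ⧸ center P with hQ
    have hQG : IsPGroup p Q := hPG.to_quotient _
    -- Q is not commutative
    have hQnc : ¬ ∀ a b : Q, a * b = b * a := fun h => hnle (quotient_center_comm_iff.mp h)
    have hQdvd : Nat.card Q ∣ p ^ 3 := index_center_dvd 3 (hP ▸ dvd_rfl)
    have hQcard : Nat.card Q = p ^ 3 := by
      obtain ⟨m, hm, hm2⟩ := (Nat.dvd_prime_pow hp.out).mp hQdvd
      have : m = 3 := by
        by_contra hne
        have hm' : m ≤ 2 := by omega
        exact hQnc (comm_of_card_dvd_prime_sq (hm2 ▸ pow_dvd_pow p hm'))
      rw [hm2, this]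
    -- the centre of Q has index p^2
    have hZQ : (center Q).index = p ^ 2 := by
      have hd : (center Q).index ∣ p ^ 2 := index_center_dvd 2 (hQcard ▸ dvd_rfl)
      obtain ⟨m, hm, hm2⟩ := (Nat.dvd_prime_pow hp.out).mp hd
      interval_cases m
      · rw [pow_zero] at hm2
        exact absurd (comm_of_le_center_of_index_dvd_prime hp.out (center Q) le_rfl
          (hm2 ▸ one_dvd p)) hQnc
      · rw [pow_one] at hm2
        exact absurd (comm_of_le_center_of_index_dvd_prime hp.out (center Q) le_rfl
          (hm2 ▸ dvd_rfl)) hQnc
      · exact hm2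
    have hcQ : Nat.card (_root_.commutator Q) = p := card_commutator_eq_prime_of_index_center hZQ
    have hcQidx : (_root_.commutator Q).index = p ^ 2 := by
      have := Subgroup.index_mul_card (_root_.commutator Q)
      rw [hcQ, hQcard] at this
      have h3 : p ^ 3 = p ^ 2 * p := by ring
      rw [h3] at this
      exact Nat.eq_of_mul_eq_mul_right hp.out.pos this
    -- commutator Q is the image of commutator P
    have hmap : (_root_.commutator P).map (QuotientGroup.mk' (center P)) = _root_.commutator Q := by
      rw [_root_.commutator_def, _root_.commutator_def, Subgroup.map_commutator,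
        Subgroup.map_top_of_surjective _ (QuotientGroup.mk'_surjective _)]
    have hdvd1 : p ^ 2 ∣ (_root_.commutator P).index := by
      rw [← hcQidx, ← hmap]
      exact Subgroup.index_map_dvd _ (QuotientGroup.mk'_surjective _)
    have hdvd2 : (_root_.commutator P).index ∣ p ^ 4 := hP ▸ Subgroup.index_dvd_card _
    obtain ⟨m, hm, hm2⟩ := (Nat.dvd_prime_pow hp.out).mp hdvd2
    have hm_ge : 2 ≤ m := by
      rw [hm2] at hdvd1
      exact (Nat.pow_dvd_pow_iff_le_right hp1).mp hdvd1
    have hcard : Nat.card (_root_.commutator P) * p ^ m = p ^ 4 := by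
      rw [← hm2, ← hP]; exact Subgroup.card_mul_index _
    have hm3 : m ≠ 3 := by
      rintro rfl
      have : Nat.card (_root_.commutator P) = p := by
        have h4 : p ^ 4 = p * p ^ 3 := by ring
        rw [h4] at hcard
        exact Nat.eq_of_mul_eq_mul_right (pow_pos hp.out.pos 3) hcard
      exact hnle (normal_le_center_of_card_prime hPG _ this)
    have hm4 : m ≠ 4 := by
      rintro rfl
      have : Nat.card (_root_.commutator P) = 1 := by
        exact Nat.eq_of_mul_eq_mul_right (pow_pos hp.out.pos 4) (by rw [hcard, one_mul])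
      apply hnle
      rw [Subgroup.card_eq_one.mp this]
      exact bot_le
    have : m = 2 := by omega
    rw [hm2, this]

end Cfsg.Agent.Helper76
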