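import Mathlib
import Cfsg.Agent.Helper1.HKK.Basic
import Cfsg.Agent.Helper1.HKK.LoopDefs

/-!
# (A2a) of #6245 for helper1 (S3779): the eigen-family is a graded family (helper76)
-/

set_option autoImplicit false
open Cfsg.Agent.Helper1.HKK

namespace Cfsg.Agent.Helper76.HKK

variable {p : ℕ} [Fact p.Prime] {L : Type*} [LieRing L]

/-- (A2a) the eigen-family is a graded family. -/
theorem isGradedFam_eigenFam (φ : L →+ L) (hφ : ∀ x y, φ ⁅x, y⁆ = ⁅φ x, φ y⁆)
    (hfix : ∀ a, φ a = a → a = 0) : IsGradedFam (eigenFam (p := p) φ) := by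
  constructor
  · intro i j f g hf hg
    rw [mem_eigenFam] at hf hg ⊢
    intro k
    rw [Loop.lie_apply, Loop.lie_apply, map_sum]
    simp only [hφ, hf, hg]
    refine Fintype.sum_equiv (Equiv.subRight i) _ _ (fun m => ?_)
    simp only [Equiv.subRight_apply]
    congr 2
    abel
  · rw [eq_bot_iff]
    intro f hf
    rw [mem_eigenFam] at hf
    rw [AddSubgroup.mem_bot]
    ext k
    have := hf k
    rw [sub_zero] at this
    rw [hfix _ this]
    rfl

end Cfsg.Agent.Helper76.HKK
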