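import Mathlib
import Cfsg.Agent.Helper1.HKK.Basic
import Cfsg.Agent.Helper1.HKK.LoopDefs

/-!
# (A2c) of #6245 for helper1 (S3779): brackets of spreads (helper76)
-/

set_option autoImplicit false
open Cfsg.Agent.Helper1.HKK

namespace Cfsg.Agent.Helper76.HKK

variable {p : ℕ} [Fact p.Prime] {L : Type*} [LieRing L]

theorem ite_lie_aux (c : Prop) [Decidable c] (x y : L) :
    ⁅(if c then x else 0), y⁆ = if c then ⁅x, y⁆ else 0 := by
  split_ifs <;> simp

theorem lie_ite_aux (c : Prop) [Decidable c] (x y : L) :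
    ⁅y, (if c then x else 0)⁆ = if c then ⁅y, x⁆ else 0 := by
  split_ifs <;> simp

theorem spread_apply_sub (x : L) (i : ZMod p) :
    spread p x i = (if i = 0 then p • x else 0) - x := by
  have hp : 1 ≤ p := (Fact.out : p.Prime).one_lt.le
  rw [spread_apply]
  split_ifs
  · have : p • x = (p - 1) • x + x := by
      rw [← succ_nsmul, Nat.sub_add_cancel hp]
    rw [this, add_sub_cancel_right]
  · rw [zero_sub]

/-- (A2c) brackets of spreads. -/
theorem lie_spread (a b : L) : ⁅spread p a, spread p b⁆ = p • spread p ⁅a, b⁆ := by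
  ext k
  rw [Loop.lie_apply, Loop.nsmul_apply, spread_apply_sub ⁅a, b⁆ k]
  simp only [spread_apply_sub a, spread_apply_sub b]
  simp only [sub_lie, lie_sub, ite_lie_aux, lie_ite_aux, Finset.sum_sub_distrib,
    Finset.sum_ite_eq', Finset.mem_univ, if_true, Finset.sum_const, Finset.card_univ,
    ZMod.card, sub_eq_zero, Finset.sum_ite_eq]
  split_ifs <;> simp [smul_sub]
  rw [← lie_skew b a, smul_neg]

end Cfsg.Agent.Helper76.HKK
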