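import Mathlib
import Cfsg.Prelude.Def_Transfer
import Cfsg.Agent.Helper4.KleinSylow
import Cfsg.Agent.Helper17.Klein
import Cfsg.Agent.Helper53.NormalComplement
import Cfsg.Agent.Helper55.DihComplement

set_option autoImplicit false

/-!
# Groups of order `4 g₀` (`g₀` odd) without a normal 2-complement

The Sylow 2-subgroups are Klein four-groups and all involutions are conjugate.
-/

namespace Cfsg.Agent.Helper76

variable {G : Type*} [Group G] [Finite G]

/-- In a group of order `4 g₀` with `g₀` odd the Sylow 2-subgroups have order 4. -/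
theorem orderFour_sylow_card (g₀ : ℕ) (hg₀ : Odd g₀) (hG : Nat.card G = 4 * g₀)
    (P : Sylow 2 G) : Nat.card P = 4 := by
  haveI : Fact (Nat.Prime 2) := ⟨Nat.prime_two⟩
  have hg0 : g₀ ≠ 0 := by
    rintro rfl
    exact absurd hg₀ (by decide)
  have h2 : ¬ 2 ∣ g₀ := by
    rw [← even_iff_two_dvd, Nat.not_even_iff_odd]; exact hg₀
  have h := Sylow.card_eq_multiplicity P
  have hfac : (Nat.card G).factorization 2 = 2 := by
    rw [hG, Nat.factorization_mul (by norm_num) hg0]
    simp only [Finsupp.coe_add, Pi.add_apply]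
    rw [Nat.factorization_eq_zero_of_not_dvd h2]
    have : (4 : ℕ) = 2 ^ 2 := by norm_num
    rw [this, Nat.Prime.factorization_pow Nat.prime_two]
    simp
  rw [hfac] at h
  rw [h]
  norm_num

/-- In a group of order `4 g₀` (`g₀` odd) without normal subgroup of order `g₀`, the
Sylow 2-subgroups have exponent 2. -/
theorem orderFour_sylow_exp (g₀ : ℕ) (hg₀ : Odd g₀) (hG : Nat.card G = 4 * g₀)
    (hnc : ¬ ∃ N : Subgroup G, N.Normal ∧ Nat.card N = g₀) (P : Sylow 2 G) :
    IsKleinFour (P : Subgroup G) := by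
  have hP4 : Nat.card (P : Subgroup G) = 4 := orderFour_sylow_card g₀ hg₀ hG P
  apply Helper17.isKleinFour_of_card_four_of_not_isCyclic hP4
  intro hcyc
  obtain ⟨P', N, hN, hc⟩ := Helper53.hasNormalPComplement_two_of_isCyclic P hcyc
  apply hnc
  refine ⟨N, hN, ?_⟩
  have h1 := hc.card_mul_card
  have h2 : Nat.card (P' : Subgroup G) = 4 := orderFour_sylow_card g₀ hg₀ hG P'
  rw [h2, hG] at h1
  omega

theorem orderFour_sylow_mul_self (g₀ : ℕ) (hg₀ : Odd g₀) (hG : Nat.card G = 4 * g₀)
    (hnc : ¬ ∃ N : Subgroup G, N.Normal ∧ Nat.card N = g₀) (P : Sylow 2 G) :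
    ∀ x : P, x * x = 1 := by
  intro x
  haveI := orderFour_sylow_exp g₀ hg₀ hG hnc P
  exact IsKleinFour.mul_self x

/-- In a group of order `4 g₀` (`g₀` odd) without normal subgroup of order `g₀`, the normalizer
of a Sylow 2-subgroup does not centralize it. -/
theorem orderFour_normalizer_not_le (g₀ : ℕ) (hg₀ : Odd g₀) (hG : Nat.card G = 4 * g₀)
    (hnc : ¬ ∃ N : Subgroup G, N.Normal ∧ Nat.card N = g₀) (P : Sylow 2 G) :
    ¬ Subgroup.normalizer ((P : Subgroup G) : Set G) ≤ Subgroup.centralizer (P : Set G) := by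
  intro hle
  obtain ⟨K, hK, hodd, k, hk⟩ := Helper55.exists_normal_two_complement_of_burnside P hle
  apply hnc
  refine ⟨K, hK, ?_⟩
  have h1 := K.card_mul_index
  rw [hk, hG] at h1
  -- Nat.card K * 2 ^ k = 4 * g₀ with both Nat.card K and g₀ odd
  have h2 : (Nat.card K).Coprime (2 ^ 2) := by
    apply Nat.Coprime.pow_right
    exact (Nat.coprime_two_right).2 hodd
  have h3 : g₀.Coprime (2 ^ k) := by
    apply Nat.Coprime.pow_right
    exact (Nat.coprime_two_right).2 hg₀
  have h4 : Nat.card K ∣ g₀ := by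
    have : Nat.card K ∣ 2 ^ 2 * g₀ := ⟨2 ^ k, by rw [h1]; norm_num⟩
    exact (Nat.Coprime.dvd_mul_left h2).1 this
  have h5 : g₀ ∣ Nat.card K := by
    have : g₀ ∣ 2 ^ k * Nat.card K := ⟨4, by rw [mul_comm (2 ^ k), h1]; ring⟩
    exact (Nat.Coprime.dvd_mul_left h3).1 this
  exact Nat.dvd_antisymm h4 h5

/-- In a group of order `4 g₀` (`g₀` odd) without normal subgroup of order `g₀`, all involutions
are conjugate. -/
theorem orderFour_involutions_conj (g₀ : ℕ) (hg₀ : Odd g₀) (hG : Nat.card G = 4 * g₀)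
    (hnc : ¬ ∃ N : Subgroup G, N.Normal ∧ Nat.card N = g₀) :
    ∀ s t : G, orderOf s = 2 → orderOf t = 2 → IsConj s t := by
  haveI : Fact (Nat.Prime 2) := ⟨Nat.prime_two⟩
  obtain ⟨P⟩ : Nonempty (Sylow 2 G) := inferInstance
  have hK := orderFour_sylow_exp g₀ hg₀ hG hnc P
  have hnot := orderFour_normalizer_not_le g₀ hg₀ hG hnc P
  -- a normalizing element moving some element of `P`
  obtain ⟨n, hn, hnc'⟩ := Set.not_subset.1 hnot
  have hex : ∃ a ∈ (P : Subgroup G), n⁻¹ * a * n ≠ a := by
    by_contra hcon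
    push Not at hcon
    apply hnc'
    rw [SetLike.mem_coe, Subgroup.mem_centralizer_iff]
    intro a ha
    have := hcon a ha
    calc a * n = n * (n⁻¹ * a * n) := by group
      _ = n * a := by rw [this]
  obtain ⟨a, ha, hne⟩ := hex
  set b := n⁻¹ * a * n with hb
  have hbP : b ∈ (P : Subgroup G) := by
    have h1 := (Subgroup.mem_normalizer_iff'.mp hn (n⁻¹ * a)).mpr
    have : n * (n⁻¹ * a) = a := by group
    rw [this] at h1
    exact h1 ha
  have ha1 : a ≠ 1 := by
    intro h
    apply hne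
    rw [hb, h]
    group
  have hb1 : b ≠ 1 := by
    intro h
    apply ha1
    have : a = n * b * n⁻¹ := by rw [hb]; group
    rw [this, h]; group
  have hab : a ≠ b := fun h => hne h.symm
  have hconj : IsConj a b := isConj_iff.mpr ⟨n⁻¹, by rw [inv_inv]⟩
  have hconj2 : IsConj a (a * b) := Helper4.klein_fusion P hK a b ha hbP ha1 hb1 hab hconj
  -- every involution of `P` is conjugate to `a`
  have hall : ∀ c ∈ (P : Subgroup G), c ≠ 1 → IsConj a c := by
    intro c hc hc1
    by_cases hca : c = a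
    · rw [hca]
    by_cases hcb : c = b
    · rw [hcb]; exact hconj
    rw [Helper4.klein_third P hK a b c ha hbP hc ha1 hb1 hab hc1 hca hcb]
    exact hconj2
  -- every involution of `G` is conjugate into `P`
  have hinto : ∀ s : G, orderOf s = 2 → IsConj a s := by
    intro s hs
    have hs2 : s * s = 1 := by
      have := pow_orderOf_eq_one s
      rwa [hs, pow_two] at this
    have hs1 : s ≠ 1 := by
      intro h; rw [h, orderOf_one] at hs; omega
    obtain ⟨h, h1, -⟩ := Helper4.exists_conj_pair_mem_sylow P hs2 hs2 0 (by rw [hs2]; simp)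
    have hne1 : h * s * h⁻¹ ≠ 1 := by
      intro hh
      apply hs1
      have : s = h⁻¹ * (h * s * h⁻¹) * h := by group
      rw [this, hh]; group
    have := hall _ h1 hne1
    exact this.trans (isConj_iff.mpr ⟨h, rfl⟩).symm
  intro s t hs ht
  exact (hinto s hs).symm.trans (hinto t ht)

end Cfsg.Agent.Helper76
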