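import Cfsg.Agent.Helper9.DihedralSylow
import Cfsg.Agent.Lib.Cores
import Cfsg.Prelude.Def_Local

/-!
# Groups with a Klein four Sylow 2-subgroup: local structure

For a finite group `G` with a Sylow 2-subgroup of order 4 and exponent 2, the centralizer of every
involution has a normal 2-complement, and its elements of odd order lie in `O_{2'}` of the centralizer.
-/

set_option autoImplicit false

namespace Cfsg.Agent.Helper76

open Cfsg

section KleinFourGroup

variable {G : Type*} [Group G] [Finite G]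

/-- A Sylow 2-subgroup of order 4 and exponent 2 is isomorphic to the dihedral group of order 4. -/
theorem sylow_four_mulEquiv_dihedral (P : Sylow 2 G) (hP : Nat.card P = 4)
    (hexp : ∀ x : P, x * x = 1) : Nonempty ((P : Subgroup G) ≃* DihedralGroup 2) := by
  haveI : IsKleinFour (P : Subgroup G) := by
    refine ⟨hP, ?_⟩
    apply Nat.dvd_antisymm
    · apply Monoid.exponent_dvd_of_forall_pow_eq_one
      intro x
      rw [pow_two]
      exact hexp x
    · by_contra h
      have h1 : Monoid.exponent (P : Subgroup G) = 1 := by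
        have hd : Monoid.exponent (P : Subgroup G) ∣ 2 := by
          apply Monoid.exponent_dvd_of_forall_pow_eq_one
          intro x
          rw [pow_two]
          exact hexp x
        rcases (Nat.dvd_prime Nat.prime_two).1 hd with h1 | h2
        · exact h1
        · exact absurd (by rw [h2]) h
      have h2 : Subsingleton (P : Subgroup G) := Monoid.exp_eq_one_iff.1 h1
      have h3 : Nat.card (P : Subgroup G) ≤ 1 := Finite.card_le_one_iff_subsingleton.2 h2
      have h4 : Nat.card (P : Subgroup G) = 4 := hP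
      omega
  exact IsKleinFour.nonempty_mulEquiv

/-- The centralizer of an involution has a normal 2-complement: `O_{2'}` of the centralizer has
2-power index. -/
theorem pPrimeCore_centralizer_index_of_sylow_four (P : Sylow 2 G) (hP : Nat.card P = 4)
    (hexp : ∀ x : P, x * x = 1) (t : G) (ht : orderOf t = 2) :
    ∃ k : ℕ, (Cfsg.pPrimeCore 2 (Subgroup.centralizer ({t} : Set G))).index = 2 ^ k := by
  obtain ⟨N, hN, hodd, k, hk⟩ := Helper9.centralizer_involution_normal_two_complement P 2
    (sylow_four_mulEquiv_dihedral P hP hexp) t ht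
  have hle : N ≤ Cfsg.pPrimeCore 2 (Subgroup.centralizer ({t} : Set G)) := by
    apply Cfsg.Agent.Lib.le_pPrimeCore hN
    exact Nat.coprime_two_right.2 hodd
  have hdvd : (Cfsg.pPrimeCore 2 (Subgroup.centralizer ({t} : Set G))).index ∣ 2 ^ k := by
    rw [← hk]
    exact Subgroup.index_dvd_of_le hle
  obtain ⟨j, _, hj⟩ := (Nat.dvd_prime_pow Nat.prime_two).1 hdvd
  exact ⟨j, hj⟩

/-- An element of odd order of a group whose `O_{2'}` has 2-power index lies in `O_{2'}`. -/
theorem mem_pPrimeCore_of_odd_order {H : Type*} [Group H] [Finite H]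
    (hidx : ∃ k : ℕ, (Cfsg.pPrimeCore 2 H).index = 2 ^ k) (y : H) (hy : ¬ 2 ∣ orderOf y) :
    y ∈ Cfsg.pPrimeCore 2 H := by
  haveI : (Cfsg.pPrimeCore 2 H).Characteristic := Cfsg.Agent.Lib.pPrimeCore_characteristic 2
  haveI hKn : (Cfsg.pPrimeCore 2 H).Normal := Subgroup.normal_of_characteristic _
  obtain ⟨k, hk⟩ := hidx
  rw [← QuotientGroup.eq_one_iff]
  have h1 : (QuotientGroup.mk y : H ⧸ Cfsg.pPrimeCore 2 H) ^ orderOf y = 1 := by
    rw [← QuotientGroup.mk_pow, pow_orderOf_eq_one, QuotientGroup.mk_one]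
  have h2 : (QuotientGroup.mk y : H ⧸ Cfsg.pPrimeCore 2 H) ^ 2 ^ k = 1 := by
    have : Nat.card (H ⧸ Cfsg.pPrimeCore 2 H) = 2 ^ k := by rw [← hk]; rfl
    rw [← this]
    exact pow_card_eq_one'
  have h3 : orderOf (QuotientGroup.mk y : H ⧸ Cfsg.pPrimeCore 2 H) ∣ Nat.gcd (orderOf y) (2 ^ k) :=
    Nat.dvd_gcd (orderOf_dvd_of_pow_eq_one h1) (orderOf_dvd_of_pow_eq_one h2)
  have h4 : Nat.gcd (orderOf y) (2 ^ k) = 1 := by
    apply Nat.Coprime.pow_right
    exact (Nat.Prime.coprime_iff_not_dvd Nat.prime_two).2 hy |>.symm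
  rw [h4, Nat.dvd_one, orderOf_eq_one_iff] at h3
  exact h3

end KleinFourGroup

end Cfsg.Agent.Helper76
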