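import Cfsg.Agent.Helper76.KleinFourGroup
import Cfsg.Agent.S0942
import Cfsg.Agent.S0947
import Cfsg.Agent.S0925
import Cfsg.Agent.Helper3.CharVal
import Cfsg.Agent.Helper74.CharBasic
import Cfsg.Agent.Helper78.LocalRing
import Cfsg.Agent.Helper79.Linear
import Cfsg.Agent.Helper79.CharComplete
import Cfsg.Agent.Helper16.SecondMainKappa

/-!
# The principal 2-block of a group with Klein four Sylow 2-subgroups and one class of involutions

It consists of exactly four characters, each taking a constant value `±1` on the elements of even order,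
and the signed sum `Σ ζ(u) ζ` vanishes on the elements of odd order.
-/

set_option autoImplicit false

namespace Cfsg.Agent.Helper76

open Cfsg
open scoped ComplexConjugate

section Basic

variable {G : Type*} [Group G]

/-- The value of a character at an involution is a rational integer. -/
theorem isCharacter_involution_int {χ : G → ℂ} (hχ : IsCharacter G χ) (t : G)
    (ht : orderOf t = 2) : ∃ n : ℤ, χ t = n := by
  obtain ⟨n, ρ, rfl⟩ := hχ
  have hfin : IsOfFinOrder t := orderOf_pos_iff.1 (by rw [ht]; norm_num)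
  obtain ⟨μ, hμ, hk, _⟩ := Helper3.exists_roots_char_pow ρ t hfin
  have h1 := hk 1
  rw [pow_one] at h1
  rw [h1]
  apply Finset.sum_induction (fun i => μ i ^ 1) (fun x : ℂ => ∃ n : ℤ, x = n)
  · rintro a b ⟨m, rfl⟩ ⟨k, rfl⟩
    exact ⟨m + k, by push_cast; rfl⟩
  · exact ⟨0, by simp⟩
  · intro i _
    rw [pow_one]
    have h2 := hμ i
    rw [ht] at h2
    have h3 : (μ i - 1) * (μ i + 1) = 0 := by ring_nf; rw [h2]; ring
    rcases mul_eq_zero.1 h3 with h | h
    · exact ⟨1, by rw [sub_eq_zero.1 h]; simp⟩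
    · exact ⟨-1, by rw [eq_neg_of_add_eq_zero_left h]; simp⟩

variable [Finite G]

/-- In a group whose Sylow 2-subgroups have exponent 2, every 2-element squares to 1. -/
theorem mul_self_eq_one_of_two_element (P : Sylow 2 G) (hexp : ∀ x : P, x * x = 1) (x : G)
    (hx : ∃ k : ℕ, orderOf x = 2 ^ k) : x * x = 1 := by
  have hpg : IsPGroup 2 (Subgroup.zpowers x) := by
    obtain ⟨k, hk⟩ := hx
    apply IsPGroup.of_card (n := k)
    rw [Nat.card_zpowers, hk]
  obtain ⟨Q, hQ⟩ := hpg.exists_le_sylow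
  obtain ⟨g, rfl⟩ := MulAction.exists_smul_eq G P Q
  have hxQ : x ∈ ((g • P : Sylow 2 G) : Subgroup G) := hQ (Subgroup.mem_zpowers x)
  rw [Sylow.coe_subgroup_smul, Subgroup.mem_pointwise_smul_iff_inv_smul_mem] at hxQ
  have h1 := hexp ⟨_, hxQ⟩
  have h2 : ((MulAut.conj g)⁻¹ • x) * ((MulAut.conj g)⁻¹ • x) = 1 := congrArg Subtype.val h1
  simp only [MulAut.smul_def, MulAut.inv_apply, MulAut.conj_symm_apply] at h2
  have h3 : g⁻¹ * (x * x) * g = 1 := by rw [← h2]; group
  have h4 : x * x = g * (g⁻¹ * (x * x) * g) * g⁻¹ := by group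
  rw [h4, h3]; group

/-- Some Sylow 2-subgroup (of exponent 2) centralizes a given involution: `4 ∣ #C_G(u)`. -/
theorem four_dvd_card_centralizer_involution (P : Sylow 2 G) (hP : Nat.card P = 4)
    (hexp : ∀ x : P, x * x = 1) (u : G) (hu : orderOf u = 2) :
    4 ∣ Nat.card (Subgroup.centralizer ({u} : Set G)) := by
  haveI : Fact (Nat.Prime 2) := ⟨Nat.prime_two⟩
  have hpg : IsPGroup 2 (Subgroup.zpowers u) := by
    apply IsPGroup.of_card (n := 1)
    rw [Nat.card_zpowers, hu, pow_one]
  obtain ⟨Q, hQ⟩ := hpg.exists_le_sylow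
  have huQ : u ∈ (Q : Subgroup G) := hQ (Subgroup.mem_zpowers u)
  have hQ4 : Nat.card Q = 4 := by
    rw [Sylow.card_eq_multiplicity, ← Sylow.card_eq_multiplicity P, hP]
  have h2el : ∀ q ∈ (Q : Subgroup G), q * q = 1 := by
    intro q hq
    apply mul_self_eq_one_of_two_element P hexp
    have := (IsPGroup.iff_orderOf.1 Q.2) ⟨q, hq⟩
    obtain ⟨k, hk⟩ := this
    exact ⟨k, by rw [← hk, Subgroup.orderOf_mk]⟩
  have hle : (Q : Subgroup G) ≤ Subgroup.centralizer ({u} : Set G) := by
    intro q hq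
    rw [Subgroup.mem_centralizer_iff]
    intro h hh
    rw [Set.mem_singleton_iff] at hh
    rw [hh]
    have h1 := h2el q hq
    have h2 := h2el u huQ
    have h3 := h2el (u * q) (Subgroup.mul_mem _ huQ hq)
    have hq' : q⁻¹ = q := inv_eq_of_mul_eq_one_right h1
    have hu' : u⁻¹ = u := inv_eq_of_mul_eq_one_right h2
    have huq' : (u * q)⁻¹ = u * q := inv_eq_of_mul_eq_one_right h3
    calc u * q = (u * q)⁻¹ := huq'.symm
      _ = q⁻¹ * u⁻¹ := mul_inv_rev u q
      _ = q * u := by rw [hq', hu']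
  have := Subgroup.card_dvd_of_le hle
  rw [← hQ4]
  exact this

/-- If a Sylow 2-subgroup has order 4, the exponent of 2 in `#G` is 2. -/
theorem factorization_two_of_sylow_four (P : Sylow 2 G) (hP : Nat.card P = 4) :
    (Nat.card G).factorization 2 = 2 := by
  haveI : Fact (Nat.Prime 2) := ⟨Nat.prime_two⟩
  have h := Sylow.card_eq_multiplicity P
  rw [hP] at h
  have h4 : (2 : ℕ) ^ 2 = 2 ^ (Nat.card G).factorization 2 := by rw [← h]; norm_num
  exact (Nat.pow_right_injective (le_refl 2) h4).symm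

theorem factorization_two_card_centralizer_involution (P : Sylow 2 G) (hP : Nat.card P = 4)
    (hexp : ∀ x : P, x * x = 1) (u : G) (hu : orderOf u = 2) :
    (Nat.card (Subgroup.centralizer ({u} : Set G))).factorization 2 = 2 := by
  have h1 := four_dvd_card_centralizer_involution P hP hexp u hu
  have h2 : Nat.card (Subgroup.centralizer ({u} : Set G)) ∣ Nat.card G :=
    Subgroup.card_subgroup_dvd_card _
  have hpos : Nat.card (Subgroup.centralizer ({u} : Set G)) ≠ 0 := Nat.card_pos.ne'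
  have hG : Nat.card G ≠ 0 := Nat.card_pos.ne'
  apply le_antisymm
  · have h3 := (Nat.factorization_le_iff_dvd hpos hG).2 h2 2
    rw [factorization_two_of_sylow_four P hP] at h3
    exact h3
  · have : (2 : ℕ) ^ 2 ∣ Nat.card (Subgroup.centralizer ({u} : Set G)) := by norm_num; exact h1
    exact (Nat.Prime.pow_dvd_iff_le_factorization Nat.prime_two hpos).1 this

theorem not_two_dvd_index_centralizer_involution (P : Sylow 2 G) (hP : Nat.card P = 4)
    (hexp : ∀ x : P, x * x = 1) (u : G) (hu : orderOf u = 2) :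
    ¬ 2 ∣ (Subgroup.centralizer ({u} : Set G)).index := by
  intro h
  have h1 := four_dvd_card_centralizer_involution P hP hexp u hu
  have h2 := Subgroup.card_mul_index (Subgroup.centralizer ({u} : Set G))
  have h3 : (2 : ℕ) ^ 3 ∣ Nat.card G := by
    rw [← h2]
    have : (2 : ℕ) ^ 3 = 4 * 2 := by norm_num
    rw [this]
    exact Nat.mul_dvd_mul h1 h
  have hG : Nat.card G ≠ 0 := Nat.card_pos.ne'
  have := (Nat.Prime.pow_dvd_iff_le_factorization Nat.prime_two hG).1 h3
  rw [factorization_two_of_sylow_four P hP] at this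
  omega

end Basic

section Main

variable {G : Type*} [Group G] [Finite G] {M : Ideal AlgInt}

/-- Brauer's lemma in the Klein four situation: a principal block character is constant on `t * y`,
`t` an involution and `y` an element of odd order commuting with `t`. -/
theorem principal_apply_involution_mul_odd (hM : IsPModular 2 M) (P : Sylow 2 G)
    (hP : Nat.card P = 4) (hexp : ∀ x : P, x * x = 1) (t : G) (ht : orderOf t = 2) (y : G)
    (hcomm : Commute t y) (hy : ¬ 2 ∣ orderOf y) (ζ : IrrCharacter G)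
    (hζ : ζ ∈ principalBlock M G) : (ζ : G → ℂ) (t * y) = (ζ : G → ℂ) t := by
  haveI : Fact (Nat.Prime 2) := ⟨Nat.prime_two⟩
  have hyC : y ∈ Subgroup.centralizer ({t} : Set G) := by
    rw [Subgroup.mem_centralizer_iff]
    intro h hh
    rw [Set.mem_singleton_iff] at hh
    rw [hh]
    exact hcomm.eq
  have hidx := pPrimeCore_centralizer_index_of_sylow_four P hP hexp t ht
  have hy' : ¬ 2 ∣ orderOf (⟨y, hyC⟩ : Subgroup.centralizer ({t} : Set G)) := by
    rw [Subgroup.orderOf_mk]; exact hy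
  have hmem := mem_pPrimeCore_of_odd_order hidx ⟨y, hyC⟩ hy'
  have hv : y ∈ Cfsg.centralizerPPrimeCore 2 t := by
    unfold Cfsg.centralizerPPrimeCore
    exact ⟨⟨y, hyC⟩, hmem, rfl⟩
  exact Cfsg.Agent.S0942.result 2 M hM t ⟨1, by rw [ht, pow_one]⟩ y hv ζ hζ

/-- A principal block character takes the same value at every element of even order. -/
theorem principal_apply_even (hM : IsPModular 2 M) (P : Sylow 2 G)
    (hP : Nat.card P = 4) (hexp : ∀ x : P, x * x = 1)
    (hone : ∀ s t : G, orderOf s = 2 → orderOf t = 2 → IsConj s t)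
    (u : G) (hu : orderOf u = 2) (g : G) (hg : 2 ∣ orderOf g) (ζ : IrrCharacter G)
    (hζ : ζ ∈ principalBlock M G) : (ζ : G → ℂ) g = (ζ : G → ℂ) u := by
  obtain ⟨x, y, hxy, hcomm, hx, hy⟩ := Helper16.exists_isPPart 2 Nat.prime_two g
  have hxx : x * x = 1 := mul_self_eq_one_of_two_element P hexp x hx
  have hx1 : x ≠ 1 := by
    intro h1
    rw [h1, one_mul] at hxy
    rw [hxy] at hy
    exact hy hg
  have hox : orderOf x = 2 := by
    apply orderOf_eq_prime
    · rw [pow_two]; exact hxx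
    · exact hx1
  rw [← hxy, principal_apply_involution_mul_odd hM P hP hexp x hox y hcomm hy ζ hζ]
  obtain ⟨c, hc⟩ := isConj_iff.1 (hone x u hox hu)
  rw [← hc]
  exact (Helper79.irr_isClassFunction ζ x c).symm

/-- A principal block character does not vanish at an involution. -/
theorem principal_apply_involution_ne_zero (hM : IsPModular 2 M) (P : Sylow 2 G)
    (hP : Nat.card P = 4) (hexp : ∀ x : P, x * x = 1) (u : G) (hu : orderOf u = 2)
    (ζ : IrrCharacter G) (hζ : ζ ∈ principalBlock M G) : (ζ : G → ℂ) u ≠ 0 := by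
  intro h0
  have h : MemLocalIdeal M (centralChar (fun _ : G => (1 : ℂ)) u - centralChar (ζ : G → ℂ) u) :=
    hζ u
  unfold centralChar at h
  rw [h0, mul_zero, zero_div, sub_zero, mul_one, div_one,
    Helper78.memLocalIdeal_natCast_iff hM] at h
  exact not_two_dvd_index_centralizer_involution P hP hexp u hu h

/-- The trivial character lies in the principal block. -/
theorem principalIrr_mem_principalBlock' (hM : IsPModular 2 M) :
    Helper79.principalIrr G ∈ principalBlock M G := by
  haveI := Helper78.isPrime_of_isPModular hM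
  exact Helper78.principalIrr_mem_principalBlock M inferInstance G

/-- Structure of the principal 2-block for Klein four Sylow 2-subgroups: each member takes the value
`±1` at an involution, and there are exactly four members. -/
theorem kleinFour_principal_structure (hM : IsPModular 2 M) (P : Sylow 2 G)
    (hP : Nat.card P = 4) (hexp : ∀ x : P, x * x = 1) (u : G) (hu : orderOf u = 2) :
    (∀ ζ ∈ principalBlock M G, (ζ : G → ℂ) u = 1 ∨ (ζ : G → ℂ) u = -1) ∧
      Nat.card (principalBlock M G) = 4 := by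
  classical
  haveI : Fintype (IrrCharacter G) := Helper74.irrFintype G
  haveI : Fact (Nat.Prime 2) := ⟨Nat.prime_two⟩
  have hu1 : u ≠ 1 := by
    intro h; rw [h, orderOf_one] at hu; omega
  set Bf := (Set.toFinite (principalBlock M G)).toFinset with hBf
  have hmem : ∀ ζ, ζ ∈ Bf ↔ ζ ∈ principalBlock M G := fun ζ => Set.Finite.mem_toFinset _
  -- the norm sum
  have hsum : ∑ ζ ∈ Bf, ‖(ζ : G → ℂ) u‖ ^ 2 = 4 := by
    have h := (Cfsg.Agent.S0947.result 2 M hM u ⟨1, by rw [hu, pow_one]⟩ hu1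
      (1 : Subgroup.centralizer ({u} : Set G)) (by rw [orderOf_one]; norm_num)).2
      (pPrimeCore_centralizer_index_of_sylow_four P hP hexp u hu)
    rw [finsum_mem_eq_finite_toFinset_sum _ (Set.toFinite (principalBlock M G)),
      factorization_two_card_centralizer_involution P hP hexp u hu] at h
    simp only [Subgroup.coe_one, mul_one] at h
    rw [h]; norm_num
  -- integrality and nonvanishing
  have hint : ∀ ζ ∈ Bf, ∃ n : ℤ, (ζ : G → ℂ) u = n ∧ n ≠ 0 := by
    intro ζ hζ
    obtain ⟨n, hn⟩ := isCharacter_involution_int (Helper74.irr_isCharacter ζ) u hu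
    refine ⟨n, hn, ?_⟩
    intro h0
    apply principal_apply_involution_ne_zero hM P hP hexp u hu ζ ((hmem ζ).1 hζ)
    rw [hn, h0]; simp
  have hterm : ∀ ζ ∈ Bf, (1 : ℝ) ≤ ‖(ζ : G → ℂ) u‖ ^ 2 := by
    intro ζ hζ
    obtain ⟨n, hn, hn0⟩ := hint ζ hζ
    rw [hn, Complex.norm_intCast, sq_abs]
    have : (1 : ℤ) ≤ n ^ 2 := by
      have := sq_nonneg n
      rcases lt_trichotomy n 0 with h | h | h
      · nlinarith
      · exact absurd h hn0
      · nlinarith
    exact_mod_cast this
  have h1mem : Helper79.principalIrr G ∈ Bf := (hmem _).2 (principalIrr_mem_principalBlock' hM)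
  have h1val : ‖((Helper79.principalIrr G : IrrCharacter G) : G → ℂ) u‖ ^ 2 = 1 := by
    show ‖(1 : ℂ)‖ ^ 2 = 1
    simp
  -- all values are ±1
  have hval : ∀ ζ ∈ Bf, (ζ : G → ℂ) u = 1 ∨ (ζ : G → ℂ) u = -1 := by
    intro ζ hζ
    obtain ⟨n, hn, hn0⟩ := hint ζ hζ
    by_cases hbig : 4 ≤ n ^ 2
    · exfalso
      have hne : ζ ≠ Helper79.principalIrr G := by
        intro h
        rw [h] at hn
        have : ((1 : ℤ) : ℂ) = n := by rw [← hn]; simp [Helper79.principalIrr]
        have h1 : (1 : ℤ) = n := by exact_mod_cast this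
        rw [← h1] at hbig; norm_num at hbig
      have hsub : ({Helper79.principalIrr G, ζ} : Finset (IrrCharacter G)) ⊆ Bf := by
        intro x hx
        rw [Finset.mem_insert, Finset.mem_singleton] at hx
        rcases hx with rfl | rfl
        · exact h1mem
        · exact hζ
      have hle := Finset.sum_le_sum_of_subset_of_nonneg (f := fun ζ : IrrCharacter G =>
        ‖(ζ : G → ℂ) u‖ ^ 2) hsub (fun i _ _ => sq_nonneg _)
      rw [Finset.sum_pair hne.symm, hsum, h1val] at hle
      have h4 : (4 : ℝ) ≤ ‖(ζ : G → ℂ) u‖ ^ 2 := by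
        rw [hn, Complex.norm_intCast, sq_abs]
        exact_mod_cast hbig
      linarith
    · have h2 : -2 < n ∧ n < 2 := by
        constructor <;> nlinarith
      have : n = 1 ∨ n = -1 := by omega
      rcases this with h | h
      · left; rw [hn, h]; simp
      · right; rw [hn, h]; simp
  refine ⟨fun ζ hζ => hval ζ ((hmem ζ).2 hζ), ?_⟩
  have hone' : ∀ ζ ∈ Bf, ‖(ζ : G → ℂ) u‖ ^ 2 = 1 := by
    intro ζ hζ
    rcases hval ζ hζ with h | h <;> rw [h] <;> simp
  rw [Finset.sum_congr rfl hone', Finset.sum_const, nsmul_eq_mul, mul_one] at hsum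
  rw [Nat.card_coe_set_eq, Set.ncard_eq_toFinset_card _ (Set.toFinite _)]
  exact_mod_cast hsum

/-- Block orthogonality between an involution and an element of odd order. -/
theorem principal_orthogonality_involution_odd (hM : IsPModular 2 M) (u : G) (hu : orderOf u = 2)
    (y : G) (hy : ¬ 2 ∣ orderOf y) :
    ∑ᶠ ζ ∈ principalBlock M G, (ζ : G → ℂ) y * (ζ : G → ℂ) u = 0 := by
  haveI : Fact (Nat.Prime 2) := ⟨Nat.prime_two⟩
  have hu1 : u ≠ 1 := by
    intro h; rw [h, orderOf_one] at hu; omega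
  have huinv : u⁻¹ = u := by
    apply inv_eq_of_mul_eq_one_right
    have := pow_orderOf_eq_one u
    rw [hu, pow_two] at this
    exact this
  have h := (Cfsg.Agent.S0925.result 2 M hM).2 y u 1 u
    ⟨y, one_mul y, Commute.one_left y, ⟨0, by rw [orderOf_one, pow_zero]⟩, hy⟩
    ⟨1, mul_one u, Commute.one_right u, ⟨1, by rw [hu, pow_one]⟩, by rw [orderOf_one]; norm_num⟩
    (by rw [isConj_one_right]; exact fun h => hu1 h)
    (principalBlock M G) (Helper78.isPBlock_principalBlock M G)
  rw [huinv] at h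
  exact h

/-- Finset form of the orthogonality relation. -/
theorem principal_orthogonality_involution_odd_finset [Fintype (IrrCharacter G)]
    (hM : IsPModular 2 M) (u : G) (hu : orderOf u = 2)
    (y : G) (hy : ¬ 2 ∣ orderOf y) :
    ∑ ζ ∈ (Set.toFinite (principalBlock M G)).toFinset, (ζ : G → ℂ) y * (ζ : G → ℂ) u = 0 := by
  have h := principal_orthogonality_involution_odd hM u hu y hy
  rw [finsum_mem_eq_finite_toFinset_sum _ (Set.toFinite (principalBlock M G))] at h
  exact h

/-- A Sylow 2-subgroup of order 4 contains an involution. -/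
theorem exists_involution_mem_sylow_four (P : Sylow 2 G) (hP : Nat.card P = 4)
    (hexp : ∀ x : P, x * x = 1) : ∃ u : G, u ∈ (P : Subgroup G) ∧ orderOf u = 2 := by
  haveI : Nontrivial (P : Subgroup G) := by
    rw [← Finite.one_lt_card_iff_nontrivial]
    have : Nat.card (P : Subgroup G) = 4 := hP
    omega
  obtain ⟨x, hx⟩ := exists_ne (1 : (P : Subgroup G))
  refine ⟨x, x.2, ?_⟩
  apply orderOf_eq_prime
  · rw [pow_two]
    have := congrArg Subtype.val (hexp x)
    exact this
  · intro h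
    apply hx
    exact Subtype.ext h

/-- The degree of an irreducible character is congruent mod 4 to its value on involutions
(Klein four Sylow 2-subgroup, one class of involutions). -/
theorem four_dvd_degree_sub_involution_value (P : Sylow 2 G)
    (hP : Nat.card P = 4) (hexp : ∀ x : P, x * x = 1)
    (hone : ∀ s t : G, orderOf s = 2 → orderOf t = 2 → IsConj s t)
    (u : G) (hu : orderOf u = 2) (ζ : IrrCharacter G) (e : ℤ) (he : (ζ : G → ℂ) u = e) :
    (4 : ℤ) ∣ (charDegree (ζ : G → ℂ) : ℤ) - e := by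
  classical
  haveI : Fintype (P : Subgroup G) := Fintype.ofFinite _
  have hchar : IsCharacter (P : Subgroup G) (fun h : (P : Subgroup G) => (ζ : G → ℂ) h) :=
    Helper74.isCharacter_restrict _ (Helper74.irr_isCharacter ζ)
  obtain ⟨m, hm⟩ := Helper74.isCharacter_inner_irr_nat hchar (Helper79.principalIrr (P : Subgroup G))
  rw [Helper74.classInner_def] at hm
  have hval : ∀ x : (P : Subgroup G), x ≠ 1 → (ζ : G → ℂ) x = e := by
    intro x hx
    have hox : orderOf (x : G) = 2 := by
      apply orderOf_eq_prime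
      · rw [pow_two]
        exact congrArg Subtype.val (hexp x)
      · intro h
        exact hx (Subtype.ext h)
    obtain ⟨c, hc⟩ := isConj_iff.1 (hone (x : G) u hox hu)
    rw [← he, ← hc]
    exact (Helper79.irr_isClassFunction ζ x c).symm
  have hsum : ∑ g : (P : Subgroup G), (ζ : G → ℂ) g *
      conj (((Helper79.principalIrr ↥(P : Subgroup G) : IrrCharacter ↥(P : Subgroup G)) :
        ↥(P : Subgroup G) → ℂ) g) = (charDegree (ζ : G → ℂ) : ℂ) + 3 * (e : ℂ) := by
    have h1 : ∀ g : (P : Subgroup G), (ζ : G → ℂ) g *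
      conj (((Helper79.principalIrr ↥(P : Subgroup G) : IrrCharacter ↥(P : Subgroup G)) :
        ↥(P : Subgroup G) → ℂ) g) = (ζ : G → ℂ) g := by
      intro g
      show (ζ : G → ℂ) g * conj (1 : ℂ) = _
      rw [map_one, mul_one]
    rw [Finset.sum_congr rfl (fun g _ => h1 g), ← Finset.add_sum_erase _ _ (Finset.mem_univ 1),
      Finset.sum_congr rfl (fun g hg => hval g (Finset.ne_of_mem_erase hg)), Finset.sum_const,
      Finset.card_erase_of_mem (Finset.mem_univ _), Finset.card_univ, ← Nat.card_eq_fintype_card,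
      hP, Subgroup.coe_one, Helper74.charDegree_cast (Helper74.irr_isCharacter ζ)]
    simp
  rw [hsum, hP] at hm
  have h4 : (charDegree (ζ : G → ℂ) : ℂ) + 3 * (e : ℂ) = 4 * (m : ℂ) := by
    have : ((4 : ℕ) : ℂ) ≠ 0 := by norm_num
    field_simp at hm
    push_cast at hm
    linear_combination hm
  have h5 : (charDegree (ζ : G → ℂ) : ℤ) + 3 * e = 4 * (m : ℤ) := by exact_mod_cast h4
  exact ⟨(m : ℤ) - e, by linarith⟩

/-- The principal block is `{1, ζ₂, ζ₃, ζ₄}` with `ζ₂(u) = 1`, `ζ₃(u) = ε`, `ζ₄(u) = -1`. -/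
theorem kleinFour_principal_triple (hM : IsPModular 2 M) (P : Sylow 2 G)
    (hP : Nat.card P = 4) (hexp : ∀ x : P, x * x = 1) (u : G) (hu : orderOf u = 2) :
    ∃ ζ₂ ζ₃ ζ₄ : IrrCharacter G, ∃ ε : ℤ, (ε = 1 ∨ ε = -1) ∧
      ζ₂ ≠ Helper79.principalIrr G ∧ ζ₃ ≠ Helper79.principalIrr G ∧
      ζ₄ ≠ Helper79.principalIrr G ∧ ζ₂ ≠ ζ₃ ∧ ζ₂ ≠ ζ₄ ∧ ζ₃ ≠ ζ₄ ∧
      (∀ ζ : IrrCharacter G, ζ ∈ principalBlock M G ↔
        (ζ = Helper79.principalIrr G ∨ ζ = ζ₂ ∨ ζ = ζ₃ ∨ ζ = ζ₄)) ∧
      (ζ₂ : G → ℂ) u = 1 ∧ (ζ₃ : G → ℂ) u = ε ∧ (ζ₄ : G → ℂ) u = -1 := by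
  classical
  haveI : Fintype (IrrCharacter G) := Helper74.irrFintype G
  obtain ⟨hval, hcard⟩ := kleinFour_principal_structure hM P hP hexp u hu
  set Bf := (Set.toFinite (principalBlock M G)).toFinset with hBf
  have hmem : ∀ ζ, ζ ∈ Bf ↔ ζ ∈ principalBlock M G := fun ζ => Set.Finite.mem_toFinset _
  have hBcard : Bf.card = 4 := by
    rw [Nat.card_coe_set_eq, Set.ncard_eq_toFinset_card _ (Set.toFinite _)] at hcard
    exact hcard
  have h1mem : Helper79.principalIrr G ∈ Bf := (hmem _).2 (principalIrr_mem_principalBlock' hM)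
  set T := Bf.erase (Helper79.principalIrr G) with hT
  have hTcard : T.card = 3 := by
    rw [hT, Finset.card_erase_of_mem h1mem, hBcard]
  have hTval : ∀ ζ ∈ T, (ζ : G → ℂ) u = 1 ∨ (ζ : G → ℂ) u = -1 := fun ζ hζ =>
    hval ζ ((hmem ζ).1 (Finset.mem_of_mem_erase hζ))
  have horth := principal_orthogonality_involution_odd_finset hM u hu 1
    (by rw [orderOf_one]; norm_num)
  rw [← hBf, ← Finset.add_sum_erase _ _ h1mem, ← hT] at horth
  have h11 : ((Helper79.principalIrr G : IrrCharacter G) : G → ℂ) 1 *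
      ((Helper79.principalIrr G : IrrCharacter G) : G → ℂ) u = 1 := by
    show (1 : ℂ) * 1 = 1
    rw [mul_one]
  rw [h11] at horth
  have hdeg : ∀ ζ : IrrCharacter G, (ζ : G → ℂ) 1 = (charDegree (ζ : G → ℂ) : ℂ) := fun ζ =>
    (Helper74.charDegree_cast (Helper74.irr_isCharacter ζ)).symm
  have hpos : ∀ ζ : IrrCharacter G, 1 ≤ charDegree (ζ : G → ℂ) := fun ζ =>
    Helper78.charDegree_pos_of_isIrrCharacter ζ.2
  -- some member of `T` has value `1`
  have hex1 : ∃ x ∈ T, (x : G → ℂ) u = 1 := by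
    by_contra hno
    push Not at hno
    have hall : ∀ ζ ∈ T, (ζ : G → ℂ) 1 * (ζ : G → ℂ) u = -(charDegree (ζ : G → ℂ) : ℂ) := by
      intro ζ hζ
      rcases hTval ζ hζ with h | h
      · exact absurd h (hno ζ hζ)
      · rw [h, hdeg ζ, mul_neg, mul_one]
    rw [Finset.sum_congr rfl hall, Finset.sum_neg_distrib] at horth
    have h3 : (∑ ζ ∈ T, (charDegree (ζ : G → ℂ) : ℂ)) = 1 := by linear_combination -horth
    have h4 : ∑ ζ ∈ T, charDegree (ζ : G → ℂ) = 1 := by exact_mod_cast h3
    have h5 : T.card • 1 ≤ ∑ ζ ∈ T, charDegree (ζ : G → ℂ) :=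
      Finset.card_nsmul_le_sum _ _ _ (fun ζ _ => hpos ζ)
    rw [hTcard, h4] at h5
    simp at h5
  -- some member of `T` has value `-1`
  have hexm : ∃ z ∈ T, (z : G → ℂ) u = -1 := by
    by_contra hno
    push Not at hno
    have hall : ∀ ζ ∈ T, (ζ : G → ℂ) 1 * (ζ : G → ℂ) u = (charDegree (ζ : G → ℂ) : ℂ) := by
      intro ζ hζ
      rcases hTval ζ hζ with h | h
      · rw [h, hdeg ζ, mul_one]
      · exact absurd h (hno ζ hζ)
    rw [Finset.sum_congr rfl hall] at horth
    have h3 : ((1 + ∑ ζ ∈ T, charDegree (ζ : G → ℂ) : ℕ) : ℂ) = 0 := by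
      push_cast
      exact horth
    have h4 : 1 + ∑ ζ ∈ T, charDegree (ζ : G → ℂ) = 0 := by exact_mod_cast h3
    omega
  obtain ⟨x, hxT, hx⟩ := hex1
  obtain ⟨z, hzT, hz⟩ := hexm
  have hxz : x ≠ z := by
    intro h
    rw [h, hz] at hx
    norm_num at hx
  have hzT' : z ∈ T.erase x := Finset.mem_erase.2 ⟨hxz.symm, hzT⟩
  have hc1 : ((T.erase x).erase z).card = 1 := by
    rw [Finset.card_erase_of_mem hzT', Finset.card_erase_of_mem hxT, hTcard]
  obtain ⟨w, hw⟩ := Finset.card_eq_one.1 hc1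
  have hwmem : w ∈ (T.erase x).erase z := by rw [hw]; exact Finset.mem_singleton_self w
  have hwz : w ≠ z := Finset.ne_of_mem_erase hwmem
  have hwx : w ≠ x := Finset.ne_of_mem_erase (Finset.mem_of_mem_erase hwmem)
  have hwT : w ∈ T := Finset.mem_of_mem_erase (Finset.mem_of_mem_erase hwmem)
  have hne1 : ∀ ζ ∈ T, ζ ≠ Helper79.principalIrr G := fun ζ hζ => Finset.ne_of_mem_erase hζ
  obtain ⟨ε, hε, hwval⟩ : ∃ ε : ℤ, (ε = 1 ∨ ε = -1) ∧ (w : G → ℂ) u = ε := by
    rcases hTval w hwT with h | h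
    · exact ⟨1, Or.inl rfl, by rw [h]; simp⟩
    · exact ⟨-1, Or.inr rfl, by rw [h]; simp⟩
  refine ⟨x, w, z, ε, hε, hne1 x hxT, hne1 w hwT, hne1 z hzT, hwx.symm, hxz, hwz, ?_, hx, hwval, hz⟩
  intro ζ
  rw [← hmem ζ]
  constructor
  · intro hζ
    by_cases h1 : ζ = Helper79.principalIrr G
    · exact Or.inl h1
    · right
      by_cases h2 : ζ = x
      · exact Or.inl h2
      · right
        by_cases h3 : ζ = z
        · exact Or.inr h3
        · left
          have : ζ ∈ (T.erase x).erase z :=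
            Finset.mem_erase.2 ⟨h3, Finset.mem_erase.2 ⟨h2, Finset.mem_erase.2 ⟨h1, hζ⟩⟩⟩
          rw [hw, Finset.mem_singleton] at this
          exact this
  · rintro (h | h | h | h)
    · rw [h]; exact h1mem
    · rw [h]; exact Finset.mem_of_mem_erase hxT
    · rw [h]; exact Finset.mem_of_mem_erase hwT
    · rw [h]; exact Finset.mem_of_mem_erase hzT

end Main

end Cfsg.Agent.Helper76
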