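import Mathlib
import Cfsg.Agent.Helper76.KleinFourGroup
import Cfsg.Agent.Helper76.KleinFourPrincipal
import Cfsg.Agent.Helper16.Omega
import Cfsg.Agent.Helper4.KleinSylow
import Cfsg.Agent.Helper16.SylowIn

set_option autoImplicit false

/-!
# Local counting of involutions for Klein four Sylow 2-subgroups
-/

namespace Cfsg.Agent.Helper76

open Cfsg

section Abstract

variable {H : Type*} [Group H] [Finite H]

/-- If `t` is an involution and `t * o` is again of square one, with `o` of odd order,
then `t * o` is conjugate to `t` by a power of `o`. -/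
theorem conj_pow_of_inverts (t o : H) (ht : t * t = 1) (hy : (t * o) * (t * o) = 1)
    (k : ℕ) (hk : o ^ (2 * k + 1) = 1) : o ^ k * t * (o ^ k)⁻¹ = t * o := by
  have hinv : t * o * t = o⁻¹ := by
    have h1 : t * o * t * o = 1 := by rw [← hy]; group
    exact eq_inv_of_mul_eq_one_left h1
  have htinv : t⁻¹ = t := inv_eq_of_mul_eq_one_right ht
  have hpow : ∀ j : ℕ, t * o ^ j * t = (o ^ j)⁻¹ := by
    intro j
    induction j with
    | zero => simp [ht]
    | succ j ih =>
      calc t * o ^ (j + 1) * t = (t * o ^ j * t) * (t * o * t) := by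
            rw [pow_succ]
            calc t * (o ^ j * o) * t = t * o ^ j * (1) * o * t := by group
              _ = t * o ^ j * (t * t) * o * t := by rw [ht]
              _ = (t * o ^ j * t) * (t * o * t) := by group
        _ = (o ^ j)⁻¹ * o⁻¹ := by rw [ih, hinv]
        _ = (o ^ (j + 1))⁻¹ := by
            rw [pow_succ', mul_inv_rev]
  -- `o ^ k * t = t * (o ^ k)⁻¹`
  have h2 : o ^ k * t = t * (o ^ k)⁻¹ := by
    have := hpow k
    calc o ^ k * t = (t * t) * o ^ k * t := by rw [ht, one_mul]
      _ = t * (t * o ^ k * t) := by group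
      _ = t * (o ^ k)⁻¹ := by rw [this]
  have h3 : (o ^ k)⁻¹ * (o ^ k)⁻¹ = o := by
    have h4 : o ^ k * o ^ k * o = 1 := by
      rw [← pow_add, ← pow_succ, ← hk]
      congr 1
      ring
    have h5 : (o ^ k * o ^ k)⁻¹ = o := by
      exact inv_eq_of_mul_eq_one_right h4
    rw [← mul_inv_rev]
    exact h5
  calc o ^ k * t * (o ^ k)⁻¹ = t * ((o ^ k)⁻¹ * (o ^ k)⁻¹) := by rw [h2]; group
    _ = t * o := by rw [h3]

/-- In a group with a normal subgroup `N` of odd order and index 4, the elements of square one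
in the coset `t N` of an element `t` of square one are exactly the conjugates of `t`. -/
theorem sq_one_coset_iff_isConj (N : Subgroup H) [N.Normal] (hodd : Odd (Nat.card N))
    (hidx : N.index = 4) (t : H) (ht : t * t = 1) (y : H) :
    (y * y = 1 ∧ t⁻¹ * y ∈ N) ↔ IsConj t y := by
  constructor
  · rintro ⟨hy, hmem⟩
    set o := t⁻¹ * y with ho
    have hyo : y = t * o := by rw [ho]; group
    have hord : orderOf o ∣ Nat.card N := by
      have := orderOf_dvd_natCard (⟨o, hmem⟩ : N)
      rwa [Subgroup.orderOf_mk] at this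
    have hoddo : Odd (orderOf o) := Odd.of_dvd_nat hodd hord
    obtain ⟨k, hk⟩ := hoddo
    have hk' : o ^ (2 * k + 1) = 1 := by rw [← hk]; exact pow_orderOf_eq_one o
    rw [hyo] at hy
    have := conj_pow_of_inverts t o ht hy k hk'
    rw [isConj_iff]
    exact ⟨o ^ k, by rw [this, hyo]⟩
  · intro h
    obtain ⟨c, rfl⟩ := isConj_iff.mp h
    refine ⟨by
      calc c * t * c⁻¹ * (c * t * c⁻¹) = c * (t * t) * c⁻¹ := by group
        _ = 1 := by rw [ht]; group, ?_⟩
    -- the quotient `H ⧸ N` is commutative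
    haveI : Fact (Nat.Prime 2) := ⟨Nat.prime_two⟩
    have hcard : Nat.card (H ⧸ N) = 2 ^ 2 := by
      rw [← Subgroup.index_eq_card, hidx]; norm_num
    have hcomm := (IsPGroup.isMulCommutative_of_card_eq_prime_sq hcard).is_comm.comm
    rw [← QuotientGroup.eq_one_iff]
    have h1 : ((t⁻¹ * (c * t * c⁻¹) : H) : H ⧸ N) =
        ((t : H) : H ⧸ N)⁻¹ * (((c : H) : H ⧸ N) * ((t : H) : H ⧸ N) * ((c : H) : H ⧸ N)⁻¹) := by
      simp only [QuotientGroup.mk_mul, QuotientGroup.mk_inv]
    rw [h1, hcomm ((c : H) : H ⧸ N) ((t : H) : H ⧸ N)]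
    group

end Abstract

section Local

variable {G : Type*} [Group G] [Finite G]

/-- The `2'`-core of the centralizer of an involution has odd order. -/
theorem core_centralizer_card_odd (b : G) :
    Odd (Nat.card (Cfsg.pPrimeCore 2 (Subgroup.centralizer ({b} : Set G)))) :=
  Nat.coprime_two_right.1 (Cfsg.Agent.Lib.card_pPrimeCore_coprime 2)

/-- With Klein four Sylow 2-subgroups, the `2'`-core of the centralizer of an involution has
index 4. -/
theorem core_centralizer_index_four (P : Sylow 2 G) (hP : Nat.card P = 4)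
    (hexp : ∀ x : P, x * x = 1) (b : G) (hb : orderOf b = 2) :
    (Cfsg.pPrimeCore 2 (Subgroup.centralizer ({b} : Set G))).index = 4 := by
  obtain ⟨k, hk⟩ := pPrimeCore_centralizer_index_of_sylow_four P hP hexp b hb
  have hodd := core_centralizer_card_odd b
  have hfac := factorization_two_card_centralizer_involution P hP hexp b hb
  have hmul := (Cfsg.pPrimeCore 2 (Subgroup.centralizer ({b} : Set G))).card_mul_index
  rw [hk] at hmul
  rw [← hmul, Nat.factorization_mul Nat.card_pos.ne' (pow_ne_zero _ (by norm_num))] at hfac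
  simp only [Finsupp.coe_add, Pi.add_apply] at hfac
  rw [Nat.factorization_eq_zero_of_not_dvd (by
    rw [← even_iff_two_dvd, Nat.not_even_iff_odd]; exact hodd),
    Nat.Prime.factorization_pow Nat.prime_two] at hfac
  simp at hfac
  rw [hk, hfac]
  norm_num

/-- The centralizer in `C(b)` of an element `t` of `C(b)` has the order of `C(b) ⊓ C(t)`. -/
theorem card_centralizer_in_centralizer (b t : G)
    (ht : t ∈ Subgroup.centralizer ({b} : Set G)) :
    Nat.card (Subgroup.centralizer
      ({(⟨t, ht⟩ : Subgroup.centralizer ({b} : Set G))} : Set (Subgroup.centralizer ({b} : Set G)))) =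
    Nat.card (Subgroup.centralizer ({b} : Set G) ⊓ Subgroup.centralizer ({t} : Set G) :
      Subgroup G) := by
  apply Nat.card_congr
  refine
    { toFun := fun x => ⟨x.1.1, ⟨x.1.2, ?_⟩⟩
      invFun := fun x => ⟨⟨x.1, x.2.1⟩, ?_⟩
      left_inv := fun x => rfl
      right_inv := fun x => rfl }
  · have h := x.2
    rw [Subgroup.mem_centralizer_singleton_iff] at h
    exact Subgroup.mem_centralizer_singleton_iff.2 (congrArg Subtype.val h)
  · have h : x.1 ∈ Subgroup.centralizer ({t} : Set G) := x.2.2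
    rw [Subgroup.mem_centralizer_singleton_iff] at h
    exact Subgroup.mem_centralizer_singleton_iff.2 (Subtype.ext h)

open Classical in
/-- Counting the elements of square one in a coset of the core `O(C(b))` inside `C(b)`. -/
theorem card_sq_one_coset (P : Sylow 2 G) (hP : Nat.card P = 4)
    (hexp : ∀ x : P, x * x = 1) (b : G) (hb : orderOf b = 2) (t : G) (ht : t * t = 1)
    (htb : t ∈ Subgroup.centralizer ({b} : Set G)) :
    Nat.card {y : G // y * y = 1 ∧ t⁻¹ * y ∈ Cfsg.centralizerPPrimeCore 2 b} *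
      Nat.card (Subgroup.centralizer ({b} : Set G) ⊓ Subgroup.centralizer ({t} : Set G) :
        Subgroup G) =
      Nat.card (Subgroup.centralizer ({b} : Set G)) := by
  haveI : Fintype (Subgroup.centralizer ({b} : Set G)) := Fintype.ofFinite _
  haveI hchar : (Cfsg.pPrimeCore 2 (Subgroup.centralizer ({b} : Set G))).Characteristic :=
    Cfsg.Agent.Lib.pPrimeCore_characteristic 2
  haveI hnorm : (Cfsg.pPrimeCore 2 (Subgroup.centralizer ({b} : Set G))).Normal :=
    Subgroup.normal_of_characteristic _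
  set Hb := Subgroup.centralizer ({b} : Set G) with hHb
  set N := Cfsg.pPrimeCore 2 Hb with hN
  set t' : Hb := ⟨t, htb⟩ with ht'
  have ht'2 : t' * t' = 1 := Subtype.ext ht
  have hiff := sq_one_coset_iff_isConj N (core_centralizer_card_odd b)
    (core_centralizer_index_four P hP hexp b hb) t' ht'2
  -- transfer to `Hb`
  have hcard1 : Nat.card {y : G // y * y = 1 ∧ t⁻¹ * y ∈ Cfsg.centralizerPPrimeCore 2 b} =
      Nat.card {y' : Hb // IsConj t' y'} := by
    apply Nat.card_congr
    refine ((Equiv.subtypeEquivRight ?_).trans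
      (Equiv.subtypeSubtypeEquivSubtypeExists (fun y : G => y ∈ Hb)
        (fun y' : Hb => IsConj t' y')).symm)
    intro y
    constructor
    · rintro ⟨hy, hmem⟩
      unfold Cfsg.centralizerPPrimeCore at hmem
      rw [Subgroup.mem_map] at hmem
      obtain ⟨n, hn, hne⟩ := hmem
      have hyH : y ∈ Hb := by
        have : y = t * (t⁻¹ * y) := by group
        rw [this, ← hne]
        exact Subgroup.mul_mem _ htb n.2
      refine ⟨hyH, (hiff ⟨y, hyH⟩).1 ⟨Subtype.ext hy, ?_⟩⟩
      have : t'⁻¹ * ⟨y, hyH⟩ = n := by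
        apply Subtype.ext
        exact hne.symm
      rw [this]
      exact hn
    · rintro ⟨hyH, hconj⟩
      obtain ⟨h1, h2⟩ := (hiff ⟨y, hyH⟩).2 hconj
      refine ⟨congrArg Subtype.val h1, ?_⟩
      unfold Cfsg.centralizerPPrimeCore
      rw [Subgroup.mem_map]
      exact ⟨_, h2, rfl⟩
  have hcard2 : Nat.card {y' : Hb // IsConj t' y'} =
      (Subgroup.centralizer ({t'} : Set Hb)).index := by
    have h := Helper16.card_filter_isConj' t'
    rw [Nat.card_eq_fintype_card, Fintype.card_subtype]
    exact_mod_cast h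
  rw [hcard1, hcard2, ← card_centralizer_in_centralizer b t htb, mul_comm]
  exact Subgroup.card_mul_index _

/-- A Sylow 2-subgroup of order 4 and exponent 2 is a Klein four-group. -/
theorem isKleinFour_of_sylow_four (P : Sylow 2 G) (hP : Nat.card P = 4)
    (hexp : ∀ x : P, x * x = 1) : IsKleinFour (P : Subgroup G) := by
  refine ⟨hP, ?_⟩
  apply Nat.dvd_antisymm
  · apply Monoid.exponent_dvd_of_forall_pow_eq_one
    intro x
    rw [pow_two]
    exact hexp x
  · by_contra h
    have h1 : Monoid.exponent (P : Subgroup G) = 1 := by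
      have hd : Monoid.exponent (P : Subgroup G) ∣ 2 := by
        apply Monoid.exponent_dvd_of_forall_pow_eq_one
        intro x
        rw [pow_two]
        exact hexp x
      rcases (Nat.dvd_prime Nat.prime_two).1 hd with h1 | h2
      · exact h1
      · exact absurd (by rw [h2]) h
    have h2 : Subsingleton (P : Subgroup G) := Monoid.exp_eq_one_iff.1 h1
    have h3 : Nat.card (P : Subgroup G) ≤ 1 := Finite.card_le_one_iff_subsingleton.2 h2
    have h4 : Nat.card (P : Subgroup G) = 4 := hP
    omega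

/-- The common centralizer of two distinct commuting involutions has the order of the
centralizer of a Sylow 2-subgroup. -/
theorem card_centralizer_pair_eq (P : Sylow 2 G) (hP : Nat.card P = 4)
    (hexp : ∀ x : P, x * x = 1) (b t : G) (hb : b * b = 1) (ht : t * t = 1) (hb1 : b ≠ 1)
    (ht1 : t ≠ 1) (hbt : b ≠ t) (hcomm : Commute b t) :
    Nat.card (Subgroup.centralizer ({b} : Set G) ⊓ Subgroup.centralizer ({t} : Set G) :
      Subgroup G) = Nat.card (Subgroup.centralizer ((P : Subgroup G) : Set G)) := by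
  have hK := isKleinFour_of_sylow_four P hP hexp
  have hc : (b * t) ^ (2 ^ 1) = 1 := by
    rw [pow_one, pow_two]
    calc b * t * (b * t) = b * (t * b) * t := by group
      _ = b * (b * t) * t := by rw [hcomm.eq]
      _ = (b * b) * (t * t) := by group
      _ = 1 := by rw [hb, ht, one_mul]
  obtain ⟨h, hbP, htP⟩ := Helper4.exists_conj_pair_mem_sylow P hb ht 1 hc
  set b' := h * b * h⁻¹ with hb'
  set t' := h * t * h⁻¹ with ht'
  have hb'1 : b' ≠ 1 := by
    intro hh
    apply hb1
    have : b = h⁻¹ * b' * h := by rw [hb']; group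
    rw [this, hh]; group
  have ht'1 : t' ≠ 1 := by
    intro hh
    apply ht1
    have : t = h⁻¹ * t' * h := by rw [ht']; group
    rw [this, hh]; group
  have hb't' : b' ≠ t' := by
    intro hh
    apply hbt
    have h1 : b = h⁻¹ * b' * h := by rw [hb']; group
    have h2 : t = h⁻¹ * t' * h := by rw [ht']; group
    rw [h1, h2, hh]
  have hPmem : ∀ p ∈ (P : Subgroup G), p = 1 ∨ p = b' ∨ p = t' ∨ p = b' * t' := by
    intro p hp
    by_cases h1 : p = 1
    · exact Or.inl h1
    by_cases h2 : p = b'
    · exact Or.inr (Or.inl h2)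
    by_cases h3 : p = t'
    · exact Or.inr (Or.inr (Or.inl h3))
    exact Or.inr (Or.inr (Or.inr
      (Helper4.klein_third P hK b' t' p hbP htP hp hb'1 ht'1 hb't' h1 h2 h3)))
  apply Nat.card_congr
  refine Equiv.subtypeEquiv (MulAut.conj h).toEquiv ?_
  intro x
  show x ∈ _ ↔ h * x * h⁻¹ ∈ _
  rw [Subgroup.mem_inf, Subgroup.mem_centralizer_singleton_iff,
    Subgroup.mem_centralizer_singleton_iff, Subgroup.mem_centralizer_iff]
  constructor
  · rintro ⟨hxb, hxt⟩
    have e1 : b' * (h * x * h⁻¹) = h * x * h⁻¹ * b' := by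
      rw [hb']
      calc h * b * h⁻¹ * (h * x * h⁻¹) = h * (b * x) * h⁻¹ := by group
        _ = h * (x * b) * h⁻¹ := by rw [hxb]
        _ = h * x * h⁻¹ * (h * b * h⁻¹) := by group
    have e2 : t' * (h * x * h⁻¹) = h * x * h⁻¹ * t' := by
      rw [ht']
      calc h * t * h⁻¹ * (h * x * h⁻¹) = h * (t * x) * h⁻¹ := by group
        _ = h * (x * t) * h⁻¹ := by rw [hxt]
        _ = h * x * h⁻¹ * (h * t * h⁻¹) := by group
    intro p hp
    rcases hPmem p hp with rfl | rfl | rfl | rfl
    · simp
    · exact e1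
    · exact e2
    · rw [mul_assoc, e2, ← mul_assoc, e1, mul_assoc]
  · intro hx
    constructor
    · have := hx b' hbP
      rw [hb'] at this
      have h2 : h * (x * b) * h⁻¹ = h * (b * x) * h⁻¹ := by
        calc h * (x * b) * h⁻¹ = h * x * h⁻¹ * (h * b * h⁻¹) := by group
          _ = h * b * h⁻¹ * (h * x * h⁻¹) := this.symm
          _ = h * (b * x) * h⁻¹ := by group
      exact mul_left_cancel (mul_right_cancel h2)
    · have := hx t' htP
      rw [ht'] at this
      have h2 : h * (x * t) * h⁻¹ = h * (t * x) * h⁻¹ := by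
        calc h * (x * t) * h⁻¹ = h * x * h⁻¹ * (h * t * h⁻¹) := by group
          _ = h * t * h⁻¹ * (h * x * h⁻¹) := this.symm
          _ = h * (t * x) * h⁻¹ := by group
      exact mul_left_cancel (mul_right_cancel h2)

end Local

section Powers

variable {G : Type*} [Group G] [Finite G]

/-- An element of square one raised to an odd power is itself. -/
theorem pow_odd_of_mul_self {x : G} (hx : x * x = 1) {n : ℕ} (hn : Odd n) : x ^ n = x := by
  obtain ⟨k, rfl⟩ := hn
  rw [pow_succ, pow_mul, pow_two, hx, one_pow, one_mul]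

/-- An element of square one raised to an even power is trivial. -/
theorem pow_even_of_mul_self {x : G} (hx : x * x = 1) {n : ℕ} (hn : Even n) : x ^ n = 1 := by
  obtain ⟨k, rfl⟩ := hn
  rw [← two_mul, pow_mul, pow_two, hx, one_pow]

/-- In a group of order `4 g₀` with Sylow 2-subgroups of exponent 2, every `2 g₀`-th power is
trivial. -/
theorem pow_two_mul_eq_one (g₀ : ℕ) (hG : Nat.card G = 4 * g₀) (P : Sylow 2 G)
    (hexp : ∀ x : P, x * x = 1) (w : G) : (w ^ g₀) * (w ^ g₀) = 1 := by
  apply mul_self_eq_one_of_two_element P hexp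
  have h4 : (w ^ g₀) ^ (2 ^ 2) = 1 := by
    rw [← pow_mul, mul_comm, show (2 : ℕ) ^ 2 = 4 by norm_num, ← hG]
    exact pow_card_eq_one'
  have hdvd := orderOf_dvd_of_pow_eq_one h4
  obtain ⟨k, -, hk⟩ := (Nat.dvd_prime_pow Nat.prime_two).1 hdvd
  exact ⟨k, hk⟩

/-- In a group of order `4 g₀` (`g₀` odd), an element has odd order iff its `g₀`-th power is
trivial. -/
theorem odd_order_iff_pow_eq_one (g₀ : ℕ) (hg₀ : Odd g₀) (hG : Nat.card G = 4 * g₀) (w : G) :
    ¬ 2 ∣ orderOf w ↔ w ^ g₀ = 1 := by
  constructor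
  · intro h
    apply orderOf_dvd_iff_pow_eq_one.1
    have h1 : orderOf w ∣ 4 * g₀ := hG ▸ orderOf_dvd_natCard w
    have h2 : (orderOf w).Coprime 4 := by
      have : (orderOf w).Coprime (2 ^ 2) := by
        apply Nat.Coprime.pow_right
        rw [Nat.coprime_comm]
        exact (Nat.Prime.coprime_iff_not_dvd Nat.prime_two).2 h
      simpa using this
    exact (Nat.Coprime.dvd_mul_left h2).1 h1
  · intro h h2
    have h1 : orderOf w ∣ g₀ := orderOf_dvd_of_pow_eq_one h
    have : 2 ∣ g₀ := dvd_trans h2 h1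
    rw [← even_iff_two_dvd, ← Nat.not_odd_iff_even] at this
    exact this hg₀

/-- In a group of order `4 g₀` (`g₀` odd) with Sylow 2-subgroups of exponent 2, the `g₀`-th power
of an element of even order is an involution. -/
theorem orderOf_pow_of_even_order (g₀ : ℕ) (hg₀ : Odd g₀) (hG : Nat.card G = 4 * g₀)
    (P : Sylow 2 G) (hexp : ∀ x : P, x * x = 1) (w : G) (hw : 2 ∣ orderOf w) :
    orderOf (w ^ g₀) = 2 := by
  apply orderOf_eq_prime
  · rw [pow_two]
    exact pow_two_mul_eq_one g₀ hG P hexp w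
  · intro h
    exact ((odd_order_iff_pow_eq_one g₀ hg₀ hG w).2 h) hw

end Powers

section Core

variable {G : Type*} [Group G] [Finite G]

theorem centralizerPPrimeCore_le (b : G) :
    Cfsg.centralizerPPrimeCore 2 b ≤ Subgroup.centralizer ({b} : Set G) := by
  unfold Cfsg.centralizerPPrimeCore
  intro x hx
  rw [Subgroup.mem_map] at hx
  obtain ⟨n, -, rfl⟩ := hx
  exact n.2

/-- Elements of the core `O(C(b))` have odd order dividing `g₀`. -/
theorem pow_eq_one_of_mem_centralizerPPrimeCore (g₀ : ℕ) (hG : Nat.card G = 4 * g₀) (b x : G)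
    (hx : x ∈ Cfsg.centralizerPPrimeCore 2 b) : x ^ g₀ = 1 := by
  unfold Cfsg.centralizerPPrimeCore at hx
  rw [Subgroup.mem_map] at hx
  obtain ⟨n, hn, rfl⟩ := hx
  have hodd := core_centralizer_card_odd b
  have h1 : orderOf (⟨n, hn⟩ : Cfsg.pPrimeCore 2 (Subgroup.centralizer ({b} : Set G))) ∣
      Nat.card (Cfsg.pPrimeCore 2 (Subgroup.centralizer ({b} : Set G))) := orderOf_dvd_natCard _
  rw [Subgroup.orderOf_mk] at h1
  have h2 : Nat.card (Cfsg.pPrimeCore 2 (Subgroup.centralizer ({b} : Set G))) ∣ 4 * g₀ := by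
    rw [← hG]
    exact dvd_trans (Subgroup.card_subgroup_dvd_card _) (Subgroup.card_subgroup_dvd_card _)
  have h3 : (Nat.card (Cfsg.pPrimeCore 2 (Subgroup.centralizer ({b} : Set G)))).Coprime 4 := by
    have : (Nat.card (Cfsg.pPrimeCore 2 (Subgroup.centralizer ({b} : Set G)))).Coprime (2 ^ 2) := by
      apply Nat.Coprime.pow_right
      exact Nat.coprime_two_right.2 hodd
    simpa using this
  have h4 := (Nat.Coprime.dvd_mul_left h3).1 h2
  have h5 : orderOf n ∣ g₀ := dvd_trans h1 h4
  have h6 : n ^ g₀ = 1 := orderOf_dvd_iff_pow_eq_one.1 h5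
  have := congrArg Subtype.val h6
  simpa using this

/-- An element of square one in the core `O(C(b))` is trivial. -/
theorem eq_one_of_mem_centralizerPPrimeCore_of_mul_self (g₀ : ℕ) (hg₀ : Odd g₀)
    (hG : Nat.card G = 4 * g₀) (b x : G)
    (hx : x ∈ Cfsg.centralizerPPrimeCore 2 b) (hxx : x * x = 1) : x = 1 := by
  have h1 := pow_eq_one_of_mem_centralizerPPrimeCore g₀ hG b x hx
  rw [pow_odd_of_mul_self hxx hg₀] at h1
  exact h1

/-- With Klein four Sylow 2-subgroups: an element of `C(b)` (`b` an involution) whose `g₀`-th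
power is trivial lies in the core `O(C(b))`. -/
theorem mem_centralizerPPrimeCore_of_pow (g₀ : ℕ) (hg₀ : Odd g₀) (hG : Nat.card G = 4 * g₀)
    (P : Sylow 2 G) (hP : Nat.card P = 4) (hexp : ∀ x : P, x * x = 1) (b : G)
    (hb : orderOf b = 2) (x : G) (hxb : x ∈ Subgroup.centralizer ({b} : Set G))
    (hx : x ^ g₀ = 1) : x ∈ Cfsg.centralizerPPrimeCore 2 b := by
  have hidx := pPrimeCore_centralizer_index_of_sylow_four P hP hexp b hb
  have h1 : ¬ 2 ∣ orderOf (⟨x, hxb⟩ : Subgroup.centralizer ({b} : Set G)) := by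
    rw [Subgroup.orderOf_mk]
    exact (odd_order_iff_pow_eq_one g₀ hg₀ hG x).2 hx
  have h2 := mem_pPrimeCore_of_odd_order hidx ⟨x, hxb⟩ h1
  unfold Cfsg.centralizerPPrimeCore
  rw [Subgroup.mem_map]
  exact ⟨_, h2, rfl⟩

theorem mul_self_of_orderOf_two {x : G} (hx : orderOf x = 2) : x * x = 1 := by
  have := pow_orderOf_eq_one x
  rwa [hx, pow_two] at this

theorem ne_one_of_orderOf_two' {x : G} (hx : orderOf x = 2) : x ≠ 1 := by
  intro h; rw [h, orderOf_one] at hx; omega

theorem orderOf_two_of_mul_self {x : G} (hx : x * x = 1) (hx1 : x ≠ 1) : orderOf x = 2 := by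
  apply orderOf_eq_prime
  · rw [pow_two]; exact hx
  · exact hx1

/-- Description of the involutions `y` such that the 2-part of `J * y` is a given involution
`z ≠ J` of `C(J)`: they are the elements of square one in the coset `J z O(C(z))`. -/
theorem involution_fiber_iff (g₀ : ℕ) (hg₀ : Odd g₀) (hG : Nat.card G = 4 * g₀)
    (P : Sylow 2 G) (hP : Nat.card P = 4) (hexp : ∀ x : P, x * x = 1) (J z : G)
    (hJ : orderOf J = 2) (hz : orderOf z = 2) (hzJ : z ≠ J) (hcomm : Commute z J) (y : G) :
    (orderOf y = 2 ∧ (J * y) ^ g₀ = z) ↔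
      (y * y = 1 ∧ (J * z)⁻¹ * y ∈ Cfsg.centralizerPPrimeCore 2 z) := by
  have hJJ := mul_self_of_orderOf_two hJ
  have hzz := mul_self_of_orderOf_two hz
  have hJinv : J⁻¹ = J := inv_eq_of_mul_eq_one_right hJJ
  have hzinv : z⁻¹ = z := inv_eq_of_mul_eq_one_right hzz
  constructor
  · rintro ⟨hy, hw⟩
    have hyy := mul_self_of_orderOf_two hy
    refine ⟨hyy, ?_⟩
    set w := J * y with hwdef
    have hzw : Commute z w := by
      rw [← hw]
      exact (Commute.refl w).pow_left g₀
    have hkey : (J * z)⁻¹ * y = w ^ (g₀ + 1) := by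
      rw [pow_succ, hw, mul_inv_rev, hJinv, hzinv, hwdef]
      group
    rw [hkey]
    apply mem_centralizerPPrimeCore_of_pow g₀ hg₀ hG P hP hexp z hz
    · rw [Subgroup.mem_centralizer_singleton_iff]
      exact ((hzw.pow_right (g₀ + 1)).eq).symm
    · rw [← pow_mul, mul_comm, pow_mul, hw]
      exact pow_even_of_mul_self hzz (Odd.add_one hg₀)
  · rintro ⟨hyy, hmem⟩
    set o := (J * z)⁻¹ * y with ho
    have hyo : y = J * z * o := by rw [ho]; group
    have hoz : Commute z o := by
      have := centralizerPPrimeCore_le z hmem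
      rw [Subgroup.mem_centralizer_singleton_iff] at this
      exact this.symm
    have hog := pow_eq_one_of_mem_centralizerPPrimeCore g₀ hG z o hmem
    have hJy : J * y = z * o := by
      rw [hyo]
      calc J * (J * z * o) = (J * J) * z * o := by group
        _ = z * o := by rw [hJJ, one_mul]
    constructor
    · apply orderOf_two_of_mul_self hyy
      intro h1
      have h2 : o = (J * z)⁻¹ := by rw [ho, h1, mul_one]
      have h3 : (J * z) * (J * z) = 1 := by
        calc J * z * (J * z) = J * (z * J) * z := by group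
          _ = J * (J * z) * z := by rw [hcomm.eq]
          _ = (J * J) * (z * z) := by group
          _ = 1 := by rw [hJJ, hzz, one_mul]
      have h4 : o * o = 1 := by
        rw [h2, ← mul_inv_rev, h3, inv_one]
      have h5 := eq_one_of_mem_centralizerPPrimeCore_of_mul_self g₀ hg₀ hG z o hmem h4
      rw [h5] at h2
      have h6 : J * z = 1 := by
        rw [← inv_inv (J * z), ← h2, inv_one]
      apply hzJ
      have h7 : z = J⁻¹ := eq_inv_of_mul_eq_one_right h6
      rw [h7, hJinv]
    · rw [hJy, hoz.mul_pow, hog, mul_one]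
      exact pow_odd_of_mul_self hzz hg₀

/-- Every element of `C(J)` lies in a coset `p O(C(J))` with `p` in the Sylow 2-subgroup. -/
theorem exists_mem_sylow_mul_mem_core (g₀ : ℕ) (hg₀ : Odd g₀) (hG : Nat.card G = 4 * g₀)
    (P : Sylow 2 G) (hP : Nat.card P = 4) (hexp : ∀ x : P, x * x = 1) (J : G)
    (hJP : J ∈ (P : Subgroup G)) (hJ : orderOf J = 2) (z : G)
    (hz : z ∈ Subgroup.centralizer ({J} : Set G)) :
    ∃ p ∈ (P : Subgroup G), p⁻¹ * z ∈ Cfsg.centralizerPPrimeCore 2 J := by
  have hK := isKleinFour_of_sylow_four P hP hexp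
  have hPle : (P : Subgroup G) ≤ Subgroup.centralizer ({J} : Set G) := by
    intro p hp
    rw [Subgroup.mem_centralizer_singleton_iff]
    exact Helper4.klein_comm P hK p J hp hJP
  haveI hchar : (Cfsg.pPrimeCore 2 (Subgroup.centralizer ({J} : Set G))).Characteristic :=
    Cfsg.Agent.Lib.pPrimeCore_characteristic 2
  haveI hnorm : (Cfsg.pPrimeCore 2 (Subgroup.centralizer ({J} : Set G))).Normal :=
    Subgroup.normal_of_characteristic _
  set Hb := Subgroup.centralizer ({J} : Set G) with hHb
  set N := Cfsg.pPrimeCore 2 Hb with hN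
  let φ : (P : Subgroup G) →* Hb ⧸ N := (QuotientGroup.mk' N).comp (Subgroup.inclusion hPle)
  have hinj : Function.Injective φ := by
    rw [injective_iff_map_eq_one]
    intro p hp
    have h1 : Subgroup.inclusion hPle p ∈ N := by
      rw [← QuotientGroup.eq_one_iff]
      exact hp
    have h2 : (p : G) ∈ Cfsg.centralizerPPrimeCore 2 J := by
      unfold Cfsg.centralizerPPrimeCore
      rw [Subgroup.mem_map]
      exact ⟨_, h1, rfl⟩
    have h3 : (p : G) * (p : G) = 1 := congrArg Subtype.val (hexp p)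
    exact Subtype.ext (eq_one_of_mem_centralizerPPrimeCore_of_mul_self g₀ hg₀ hG J p h2 h3)
  have hcard : Nat.card (Hb ⧸ N) ≤ Nat.card (P : Subgroup G) := by
    have h1 : Nat.card (Hb ⧸ N) = 4 := by
      rw [← Subgroup.index_eq_card]
      exact core_centralizer_index_four P hP hexp J hJ
    have h2 : Nat.card (P : Subgroup G) = 4 := hP
    rw [h1, h2]
  have hbij := hinj.bijective_of_nat_card_le hcard
  obtain ⟨p, hp⟩ := hbij.2 (QuotientGroup.mk' N ⟨z, hz⟩)
  refine ⟨p, p.2, ?_⟩
  have h1 : (Subgroup.inclusion hPle p)⁻¹ * ⟨z, hz⟩ ∈ N := by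
    rw [← QuotientGroup.eq]
    exact hp
  unfold Cfsg.centralizerPPrimeCore
  rw [Subgroup.mem_map]
  exact ⟨_, h1, rfl⟩

/-- The involutions of `C(J)` other than `J` are the elements of square one in the two cosets
`v O(C(J))` and `J v O(C(J))`. -/
theorem involution_centralizer_iff (g₀ : ℕ) (hg₀ : Odd g₀) (hG : Nat.card G = 4 * g₀)
    (P : Sylow 2 G) (hP : Nat.card P = 4) (hexp : ∀ x : P, x * x = 1) (J v : G)
    (hJP : J ∈ (P : Subgroup G)) (hvP : v ∈ (P : Subgroup G)) (hJ : orderOf J = 2)
    (hv1 : v ≠ 1) (hvJ : v ≠ J) (z : G) :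
    (orderOf z = 2 ∧ z ≠ J ∧ Commute z J) ↔
      ((z * z = 1 ∧ v⁻¹ * z ∈ Cfsg.centralizerPPrimeCore 2 J) ∨
        (z * z = 1 ∧ (J * v)⁻¹ * z ∈ Cfsg.centralizerPPrimeCore 2 J)) := by
  have hK := isKleinFour_of_sylow_four P hP hexp
  have hJJ := mul_self_of_orderOf_two hJ
  have hJ1 := ne_one_of_orderOf_two' hJ
  have hvv : v * v = 1 := Helper4.klein_sq P hK v hvP
  have hJv : J * v = v * J := Helper4.klein_comm P hK J v hJP hvP
  have hJinv : J⁻¹ = J := inv_eq_of_mul_eq_one_right hJJ
  have hvinv : v⁻¹ = v := inv_eq_of_mul_eq_one_right hvv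
  have hJvP : J * v ∈ (P : Subgroup G) := Subgroup.mul_mem _ hJP hvP
  have hvC : v ∈ Subgroup.centralizer ({J} : Set G) := by
    rw [Subgroup.mem_centralizer_singleton_iff]; exact hJv.symm
  have hJC : J ∈ Subgroup.centralizer ({J} : Set G) := by
    rw [Subgroup.mem_centralizer_singleton_iff]
  have hcore1 : ∀ x : G, x ∈ Cfsg.centralizerPPrimeCore 2 J → x * x = 1 → x = 1 :=
    fun x hx hxx => eq_one_of_mem_centralizerPPrimeCore_of_mul_self g₀ hg₀ hG J x hx hxx
  constructor
  · rintro ⟨hz, hzJ, hcomm⟩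
    have hzz := mul_self_of_orderOf_two hz
    have hz1 := ne_one_of_orderOf_two' hz
    have hzC : z ∈ Subgroup.centralizer ({J} : Set G) := by
      rw [Subgroup.mem_centralizer_singleton_iff]; exact hcomm.eq
    obtain ⟨p, hpP, hmem⟩ := exists_mem_sylow_mul_mem_core g₀ hg₀ hG P hP hexp J hJP hJ z hzC
    have hpcases : p = 1 ∨ p = J ∨ p = v ∨ p = J * v := by
      by_cases h1 : p = 1
      · exact Or.inl h1
      by_cases h2 : p = J
      · exact Or.inr (Or.inl h2)
      by_cases h3 : p = v
      · exact Or.inr (Or.inr (Or.inl h3))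
      exact Or.inr (Or.inr (Or.inr
        (Helper4.klein_third P hK J v p hJP hvP hpP hJ1 hv1 (Ne.symm hvJ) h1 h2 h3)))
    rcases hpcases with rfl | rfl | rfl | rfl
    · exfalso
      rw [inv_one, one_mul] at hmem
      exact hz1 (hcore1 z hmem hzz)
    · exfalso
      have h1 : (p⁻¹ * z) * (p⁻¹ * z) = 1 := by
        rw [hJinv]
        calc p * z * (p * z) = p * (z * p) * z := by group
          _ = p * (p * z) * z := by rw [hcomm.eq]
          _ = (p * p) * (z * z) := by group
          _ = 1 := by rw [hJJ, hzz, one_mul]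
      have h2 := hcore1 _ hmem h1
      apply hzJ
      have : z = p := by
        have h3 : p * (p⁻¹ * z) = p * 1 := by rw [h2]
        rw [mul_one] at h3
        rw [← h3]; group
      exact this
    · exact Or.inl ⟨hzz, hmem⟩
    · exact Or.inr ⟨hzz, hmem⟩
  · have hgen : ∀ q : G, q ∈ (P : Subgroup G) → q ≠ 1 → q ≠ J → q * q = 1 → Commute q J →
        z * z = 1 → q⁻¹ * z ∈ Cfsg.centralizerPPrimeCore 2 J →
        (orderOf z = 2 ∧ z ≠ J ∧ Commute z J) := by
      intro q hqP hq1 hqJ hqq hqcomm hzz hmem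
      have hqinv : q⁻¹ = q := inv_eq_of_mul_eq_one_right hqq
      have hoC := centralizerPPrimeCore_le J hmem
      have hqC : q ∈ Subgroup.centralizer ({J} : Set G) := by
        rw [Subgroup.mem_centralizer_singleton_iff]; exact hqcomm.eq
      have hzC : z ∈ Subgroup.centralizer ({J} : Set G) := by
        have : z = q * (q⁻¹ * z) := by group
        rw [this]
        exact Subgroup.mul_mem _ hqC hoC
      have hzcomm : Commute z J := by
        rw [Subgroup.mem_centralizer_singleton_iff] at hzC
        exact hzC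
      refine ⟨?_, ?_, hzcomm⟩
      · apply orderOf_two_of_mul_self hzz
        intro h1
        rw [h1, mul_one] at hmem
        have h2 := hcore1 _ hmem (by rw [hqinv]; exact hqq)
        apply hq1
        rw [← hqinv, h2]
      · intro h1
        rw [h1] at hmem
        have h2 : (q⁻¹ * J) * (q⁻¹ * J) = 1 := by
          rw [hqinv]
          calc q * J * (q * J) = q * (J * q) * J := by group
            _ = q * (q * J) * J := by rw [hqcomm.eq]
            _ = (q * q) * (J * J) := by group
            _ = 1 := by rw [hqq, hJJ, one_mul]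
        have h3 := hcore1 _ hmem h2
        apply hqJ
        have h4 : q * (q⁻¹ * J) = q * 1 := by rw [h3]
        rw [mul_one] at h4
        rw [← h4]; group
    rintro (⟨hzz, hmem⟩ | ⟨hzz, hmem⟩)
    · exact hgen v hvP hv1 hvJ hvv hJv.symm hzz hmem
    · refine hgen (J * v) hJvP ?_ ?_ ?_ ?_ hzz hmem
      · intro h
        apply hvJ
        have : v = J⁻¹ := eq_inv_of_mul_eq_one_right h
        rw [this, hJinv]
      · intro h
        apply hv1
        have : J * v = J * 1 := by rw [mul_one]; exact h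
        exact mul_left_cancel this
      · calc J * v * (J * v) = J * (v * J) * v := by group
          _ = J * (J * v) * v := by rw [hJv]
          _ = (J * J) * (v * v) := by group
          _ = 1 := by rw [hJJ, hvv, one_mul]
      · show J * v * J = J * (J * v)
        rw [mul_assoc, ← hJv]

/-- The two cosets `v O(C(J))` and `J v O(C(J))` are disjoint. -/
theorem involution_centralizer_disjoint (g₀ : ℕ) (hg₀ : Odd g₀) (hG : Nat.card G = 4 * g₀)
    (J v : G) (hJ : orderOf J = 2) (hJv : J * v = v * J) (z : G)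
    (h1 : v⁻¹ * z ∈ Cfsg.centralizerPPrimeCore 2 J)
    (h2 : (J * v)⁻¹ * z ∈ Cfsg.centralizerPPrimeCore 2 J) : False := by
  have hJJ := mul_self_of_orderOf_two hJ
  have hJ1 := ne_one_of_orderOf_two' hJ
  have h3 : (v⁻¹ * z) * ((J * v)⁻¹ * z)⁻¹ ∈ Cfsg.centralizerPPrimeCore 2 J :=
    Subgroup.mul_mem _ h1 (Subgroup.inv_mem _ h2)
  have h4 : (v⁻¹ * z) * ((J * v)⁻¹ * z)⁻¹ = J := by
    calc (v⁻¹ * z) * ((J * v)⁻¹ * z)⁻¹ = v⁻¹ * (J * v) := by group
      _ = v⁻¹ * (v * J) := by rw [hJv]
      _ = J := by group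
  rw [h4] at h3
  exact hJ1 (eq_one_of_mem_centralizerPPrimeCore_of_mul_self g₀ hg₀ hG J J h3 hJJ)

end Core

section Count

variable {G : Type*} [Group G] [Fintype G]

open Classical in
/-- Finset form of `card_sq_one_coset` combined with `card_centralizer_pair_eq`. -/
theorem card_filter_sq_one_coset (P : Sylow 2 G) (hP : Nat.card P = 4)
    (hexp : ∀ x : P, x * x = 1) (b t : G) (hb : orderOf b = 2) (ht : t * t = 1) (ht1 : t ≠ 1)
    (htb : t ≠ b) (hcomm : Commute b t) :
    (Finset.univ.filter
        (fun y : G => y * y = 1 ∧ t⁻¹ * y ∈ Cfsg.centralizerPPrimeCore 2 b)).card *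
      Nat.card (Subgroup.centralizer ((P : Subgroup G) : Set G)) =
      Nat.card (Subgroup.centralizer ({b} : Set G)) := by
  have htC : t ∈ Subgroup.centralizer ({b} : Set G) := by
    rw [Subgroup.mem_centralizer_singleton_iff]; exact hcomm.eq.symm
  have h1 := card_sq_one_coset P hP hexp b hb t ht htC
  have h2 := card_centralizer_pair_eq P hP hexp b t (mul_self_of_orderOf_two hb) ht
    (ne_one_of_orderOf_two' hb) ht1 (Ne.symm htb) hcomm
  rw [h2, Nat.card_eq_fintype_card, Fintype.card_subtype] at h1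
  exact h1

open Classical in
/-- The local count: the number of involutions `y` with `J * y` of even order. -/
theorem kleinFour_local_count (g₀ : ℕ) (hg₀ : Odd g₀) (hG : Nat.card G = 4 * g₀)
    (P : Sylow 2 G) (hP : Nat.card P = 4) (hexp : ∀ x : P, x * x = 1)
    (hone : ∀ s t : G, orderOf s = 2 → orderOf t = 2 → IsConj s t)
    (J : G) (hJP : J ∈ (P : Subgroup G)) (hJ : orderOf J = 2) :
    (Finset.univ.filter (fun y : G => orderOf y = 2 ∧ 2 ∣ orderOf (J * y))).card *
      Nat.card (Subgroup.centralizer ((P : Subgroup G) : Set G)) ^ 2 =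
    2 * Nat.card (Subgroup.centralizer ({J} : Set G)) ^ 2 := by
  have hK := isKleinFour_of_sylow_four P hP hexp
  have hJJ := mul_self_of_orderOf_two hJ
  have hJ1 := ne_one_of_orderOf_two' hJ
  have hJinv : J⁻¹ = J := inv_eq_of_mul_eq_one_right hJJ
  set cP := Nat.card (Subgroup.centralizer ((P : Subgroup G) : Set G)) with hcP
  set cJ := Nat.card (Subgroup.centralizer ({J} : Set G)) with hcJ
  -- a third element of `P`
  obtain ⟨v, hvP, hv1, hvJ⟩ : ∃ v : G, v ∈ (P : Subgroup G) ∧ v ≠ 1 ∧ v ≠ J := by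
    have h3 := Helper4.klein_card_ne_one P hK
    haveI : Nontrivial {t : (P : Subgroup G) // t ≠ 1} := by
      rw [← Finite.one_lt_card_iff_nontrivial, h3]; norm_num
    obtain ⟨x, y, hxy⟩ := exists_pair_ne {t : (P : Subgroup G) // t ≠ 1}
    by_cases hx : (x.1 : G) = J
    · refine ⟨y.1, y.1.2, fun h => y.2 (Subtype.ext h), ?_⟩
      intro hy
      apply hxy
      apply Subtype.ext
      apply Subtype.ext
      rw [hx, hy]
    · exact ⟨x.1, x.1.2, fun h => x.2 (Subtype.ext h), hx⟩
  have hvv : v * v = 1 := Helper4.klein_sq P hK v hvP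
  have hJv : J * v = v * J := Helper4.klein_comm P hK J v hJP hvP
  -- the set `I` of involutions of `C(J)` other than `J`
  set I := Finset.univ.filter (fun z : G => orderOf z = 2 ∧ z ≠ J ∧ Commute z J) with hI
  have hIcard : I.card * cP = 2 * cJ := by
    have hIeq : I = Finset.univ.filter
          (fun z : G => z * z = 1 ∧ v⁻¹ * z ∈ Cfsg.centralizerPPrimeCore 2 J) ∪
        Finset.univ.filter
          (fun z : G => z * z = 1 ∧ (J * v)⁻¹ * z ∈ Cfsg.centralizerPPrimeCore 2 J) := by
      ext z
      rw [hI, Finset.mem_union, Finset.mem_filter, Finset.mem_filter, Finset.mem_filter]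
      simp only [Finset.mem_univ, true_and]
      exact involution_centralizer_iff g₀ hg₀ hG P hP hexp J v hJP hvP hJ hv1 hvJ z
    have hdisj : Disjoint (Finset.univ.filter
          (fun z : G => z * z = 1 ∧ v⁻¹ * z ∈ Cfsg.centralizerPPrimeCore 2 J))
        (Finset.univ.filter
          (fun z : G => z * z = 1 ∧ (J * v)⁻¹ * z ∈ Cfsg.centralizerPPrimeCore 2 J)) := by
      rw [Finset.disjoint_left]
      intro z hz1 hz2
      rw [Finset.mem_filter] at hz1 hz2
      exact involution_centralizer_disjoint g₀ hg₀ hG J v hJ hJv z hz1.2.2 hz2.2.2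
    rw [hIeq, Finset.card_union_of_disjoint hdisj, add_mul]
    have e1 := card_filter_sq_one_coset P hP hexp J v hJ hvv hv1 hvJ hJv
    have hJv1 : J * v ≠ 1 := by
      intro h
      apply hvJ
      have : v = J⁻¹ := eq_inv_of_mul_eq_one_right h
      rw [this, hJinv]
    have hJvJ : J * v ≠ J := by
      intro h
      apply hv1
      have : J * v = J * 1 := by rw [mul_one]; exact h
      exact mul_left_cancel this
    have hJvJv : (J * v) * (J * v) = 1 := by
      calc J * v * (J * v) = J * (v * J) * v := by group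
        _ = J * (J * v) * v := by rw [hJv]
        _ = (J * J) * (v * v) := by group
        _ = 1 := by rw [hJJ, hvv, one_mul]
    have hJJv : Commute J (J * v) := by
      show J * (J * v) = J * v * J
      rw [mul_assoc, ← hJv]
    have e2 := card_filter_sq_one_coset P hP hexp J (J * v) hJ hJvJv hJv1 hJvJ hJJv
    rw [e1, e2, ← hcJ]
    ring
  -- the set `Y` fibred over `I`
  set Y := Finset.univ.filter (fun y : G => orderOf y = 2 ∧ 2 ∣ orderOf (J * y)) with hY
  have hmaps : ∀ y ∈ Y, (J * y) ^ g₀ ∈ I := by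
    intro y hy
    rw [hY, Finset.mem_filter] at hy
    obtain ⟨-, hy2, heven⟩ := hy
    have hyy := mul_self_of_orderOf_two hy2
    have hyinv : y⁻¹ = y := inv_eq_of_mul_eq_one_right hyy
    have hz2 := orderOf_pow_of_even_order g₀ hg₀ hG P hexp (J * y) heven
    have hzz := mul_self_of_orderOf_two hz2
    have hzinv : ((J * y) ^ g₀)⁻¹ = (J * y) ^ g₀ := inv_eq_of_mul_eq_one_right hzz
    have hsemi : SemiconjBy J (J * y) (J * y)⁻¹ := by
      show J * (J * y) = (J * y)⁻¹ * J
      rw [mul_inv_rev, hyinv, hJinv]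
      calc J * (J * y) = (J * J) * y := by group
        _ = y := by rw [hJJ, one_mul]
        _ = y * (J * J) := by rw [hJJ, mul_one]
        _ = y * J * J := by group
    have hsemi2 := hsemi.pow_right g₀
    rw [inv_pow, hzinv] at hsemi2
    have hcommz : Commute ((J * y) ^ g₀) J := hsemi2.symm
    rw [hI, Finset.mem_filter]
    refine ⟨Finset.mem_univ _, hz2, ?_, hcommz⟩
    intro hzJ
    -- then `J` commutes with `J * y`
    have hc1 : Commute J (J * y) := by
      have h := (Commute.refl (J * y)).pow_left g₀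
      rw [hzJ] at h
      exact h
    have hww : (J * y) = (J * y)⁻¹ := by
      have h1 : J * (J * y) = (J * y)⁻¹ * J := hsemi
      rw [hc1.eq] at h1
      exact mul_right_cancel h1
    have hww2 : (J * y) * (J * y) = 1 := by
      nth_rewrite 2 [hww]
      exact mul_inv_cancel _
    rw [pow_odd_of_mul_self hww2 hg₀] at hzJ
    have : y = 1 := by
      have h2 : J * y = J * 1 := by rw [mul_one]; exact hzJ
      exact mul_left_cancel h2
    exact ne_one_of_orderOf_two' hy2 this
  have hfib : ∀ z ∈ I, (Y.filter (fun y => (J * y) ^ g₀ = z)).card * cP = cJ := by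
    intro z hz
    rw [hI, Finset.mem_filter] at hz
    obtain ⟨-, hz2, hzJ, hzcomm⟩ := hz
    have hzz := mul_self_of_orderOf_two hz2
    have hz1 := ne_one_of_orderOf_two' hz2
    have hzinv : z⁻¹ = z := inv_eq_of_mul_eq_one_right hzz
    have hfeq : Y.filter (fun y => (J * y) ^ g₀ = z) = Finset.univ.filter
        (fun y : G => y * y = 1 ∧ (J * z)⁻¹ * y ∈ Cfsg.centralizerPPrimeCore 2 z) := by
      ext y
      rw [Finset.mem_filter, hY, Finset.mem_filter, Finset.mem_filter]
      simp only [Finset.mem_univ, true_and]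
      rw [← involution_fiber_iff g₀ hg₀ hG P hP hexp J z hJ hz2 hzJ hzcomm y]
      constructor
      · rintro ⟨⟨h1, -⟩, h3⟩
        exact ⟨h1, h3⟩
      · rintro ⟨h1, h3⟩
        refine ⟨⟨h1, ?_⟩, h3⟩
        by_contra hodd
        have := (odd_order_iff_pow_eq_one g₀ hg₀ hG (J * y)).1 hodd
        rw [h3] at this
        exact hz1 this
    rw [hfeq]
    have hJz1 : J * z ≠ 1 := by
      intro h
      apply hzJ
      have : z = J⁻¹ := eq_inv_of_mul_eq_one_right h
      rw [this, hJinv]
    have hJzz : J * z ≠ z := by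
      intro h
      apply hJ1
      have : J * z = 1 * z := by rw [one_mul]; exact h
      exact mul_right_cancel this
    have hJzJz : (J * z) * (J * z) = 1 := by
      calc J * z * (J * z) = J * (z * J) * z := by group
        _ = J * (J * z) * z := by rw [hzcomm.eq]
        _ = (J * J) * (z * z) := by group
        _ = 1 := by rw [hJJ, hzz, one_mul]
    have hzJz : Commute z (J * z) := by
      show z * (J * z) = J * z * z
      rw [← mul_assoc, hzcomm.eq]
    have e := card_filter_sq_one_coset P hP hexp z (J * z) hz2 hJzJz hJz1 hJzz hzJz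
    rw [e, hcJ]
    exact Helper16.card_centralizer_of_isConj (hone J z hJ hz2)
  have hYcard : Y.card * cP = I.card * cJ := by
    rw [Finset.card_eq_sum_card_fiberwise hmaps, Finset.sum_mul]
    rw [Finset.sum_congr rfl hfib]
    rw [Finset.sum_const, smul_eq_mul]
  calc Y.card * cP ^ 2 = (Y.card * cP) * cP := by ring
    _ = I.card * cJ * cP := by rw [hYcard]
    _ = (I.card * cP) * cJ := by ring
    _ = 2 * cJ * cJ := by rw [hIcard]
    _ = 2 * cJ ^ 2 := by ring

end Count

end Cfsg.Agent.Helper76
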