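import Mathlib
import Cfsg.Agent.Helper76.KleinFourFusion
import Cfsg.Agent.Helper76.KleinFourLocal
import Cfsg.Agent.Helper16.Omega
import Cfsg.Agent.Helper17.SylowKit2

/-!
# Involution centralizers with a normal Klein four Sylow 2-subgroup

Group-theoretic lemmas for the situation: `x` an involution of `G`, `S₀ ≤ C(x)` a Klein four
subgroup which is normal and of odd index in `C(x)`.
-/

set_option autoImplicit false

namespace Cfsg.Agent.Helper76

section NormalSylowOfCentralizer

variable {G : Type*} [Group G]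

/-- If `S₀ ∩ C` is normal in `C`, the `|C : S₀|`-th power of an element of `C` lies in `S₀`. -/
theorem pow_relIndex_mem_of_normal (S₀ C : Subgroup G) (hn : (S₀.subgroupOf C).Normal)
    {g : G} (hg : g ∈ C) : g ^ S₀.relIndex C ∈ S₀ := by
  haveI := hn
  have h := Subgroup.pow_index_mem (S₀.subgroupOf C) (⟨g, hg⟩ : C)
  rw [Subgroup.mem_subgroupOf] at h
  have h' : g ^ (S₀.subgroupOf C).index ∈ S₀ := by simpa using h
  exact h'

/-- An element of `C` whose order is coprime to `|C : S₀|` lies in `S₀` (for `S₀` normal in `C`). -/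
theorem mem_of_coprime_relIndex (S₀ C : Subgroup G) (hn : (S₀.subgroupOf C).Normal)
    {g : G} (hg : g ∈ C) (hcop : (S₀.relIndex C).Coprime (orderOf g)) : g ∈ S₀ := by
  obtain ⟨m, hm⟩ := exists_pow_eq_self_of_coprime hcop
  rw [← hm]
  exact Subgroup.pow_mem _ (pow_relIndex_mem_of_normal S₀ C hn hg) m

/-- A 2-subgroup of `C` lies in `S₀` when `S₀` is normal of odd index in `C`. -/
theorem le_of_isPGroup_two_of_odd_relIndex (S₀ C : Subgroup G) (hn : (S₀.subgroupOf C).Normal)
    (hodd : ¬ 2 ∣ S₀.relIndex C) (Q : Subgroup G) (hQ : IsPGroup 2 Q) (hQC : Q ≤ C) :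
    Q ≤ S₀ := by
  intro g hg
  apply mem_of_coprime_relIndex S₀ C hn (hQC hg)
  obtain ⟨k, hk⟩ := hQ ⟨g, hg⟩
  have hk' : g ^ 2 ^ k = 1 := by
    have := congrArg Subtype.val hk
    simpa using this
  have hdvd : orderOf g ∣ 2 ^ k := orderOf_dvd_of_pow_eq_one hk'
  have h2 : (S₀.relIndex C).Coprime 2 := Nat.coprime_two_right.2 (Nat.odd_iff.2 (by omega))
  exact Nat.Coprime.coprime_dvd_right hdvd (h2.pow_right k)

/-- An involution of `C` lies in `S₀` when `S₀` is normal of odd index in `C`. -/
theorem mem_of_orderOf_two_of_odd_relIndex (S₀ C : Subgroup G) (hn : (S₀.subgroupOf C).Normal)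
    (hodd : ¬ 2 ∣ S₀.relIndex C) {g : G} (hg : g ∈ C) (hg2 : orderOf g = 2) : g ∈ S₀ := by
  apply mem_of_coprime_relIndex S₀ C hn hg
  rw [hg2]
  exact Nat.coprime_two_right.2 (Nat.odd_iff.2 (by omega))

/-- If `S₀` of order 4 is normal of odd index in `C`, then `C` has at most three involutions. -/
theorem card_involutions_le_three [Finite G] (S₀ C : Subgroup G) (hK : Nat.card S₀ = 4)
    (hn : (S₀.subgroupOf C).Normal) (hodd : ¬ 2 ∣ S₀.relIndex C) :
    Nat.card {u : ↥C // orderOf u = 2} ≤ 3 := by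
  classical
  have hmem : ∀ u : {u : ↥C // orderOf u = 2}, (u.1 : G) ∈ S₀ := by
    intro u
    apply mem_of_orderOf_two_of_odd_relIndex S₀ C hn hodd u.1.2
    rw [Subgroup.orderOf_coe]
    exact u.2
  have hne : ∀ u : {u : ↥C // orderOf u = 2}, (⟨(u.1 : G), hmem u⟩ : ↥S₀) ≠ 1 := by
    intro u h
    have h1 : (u.1 : G) = 1 := congrArg Subtype.val h
    have h2 : u.1 = 1 := Subtype.ext h1
    have := u.2
    rw [h2, orderOf_one] at this
    omega
  have hinj : Function.Injective
      (fun u : {u : ↥C // orderOf u = 2} => (⟨⟨(u.1 : G), hmem u⟩, hne u⟩ : {s : ↥S₀ // s ≠ 1})) := by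
    intro u v huv
    simp only [Subtype.mk.injEq] at huv
    exact Subtype.ext (Subtype.ext huv)
  have h3 : Nat.card {s : ↥S₀ // s ≠ 1} = 3 := by
    haveI : Fintype ↥S₀ := Fintype.ofFinite _
    rw [Nat.card_eq_fintype_card, Fintype.card_subtype_compl, Fintype.card_subtype_eq,
      ← Nat.card_eq_fintype_card, hK]
  calc Nat.card {u : ↥C // orderOf u = 2} ≤ Nat.card {s : ↥S₀ // s ≠ 1} :=
        Nat.card_le_card_of_injective _ hinj
    _ = 3 := h3

/-- If the Klein four group `S₀` is normal of odd index in the centralizer of the involution `x`,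
then `C(x)` centralizes `S₀`. -/
theorem commute_of_mem_centralizer_of_kleinFour (S₀ : Subgroup G) (x : G)
    (hx : orderOf x = 2) (hle : S₀ ≤ Subgroup.centralizer ({x} : Set G)) (hK : IsKleinFour ↥S₀)
    (hodd : ¬ 2 ∣ S₀.relIndex (Subgroup.centralizer ({x} : Set G)))
    (hn : (S₀.subgroupOf (Subgroup.centralizer ({x} : Set G))).Normal)
    {g : G} (hg : g ∈ Subgroup.centralizer ({x} : Set G)) {a : G} (ha : a ∈ S₀) :
    Commute g a := by
  set C := Subgroup.centralizer ({x} : Set G) with hC
  have hxC : x ∈ C := by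
    rw [hC, Subgroup.mem_centralizer_iff]
    intro h hh
    rw [Set.mem_singleton_iff.1 hh]
  have hxS : x ∈ S₀ := mem_of_orderOf_two_of_odd_relIndex S₀ C hn hodd hxC hx
  have hgx : Commute g x := by
    have := Subgroup.mem_centralizer_iff.1 hg x (Set.mem_singleton x)
    exact this.symm
  have hxx : x * x = 1 := by
    have := pow_orderOf_eq_one x
    rwa [hx, pow_two] at this
  have hx1 : x ≠ 1 := by
    intro h; rw [h, orderOf_one] at hx; omega
  have hnorm : ∀ s ∈ S₀, g * s * g⁻¹ ∈ S₀ := by
    intro s hs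
    have := hn.conj_mem ⟨s, hle hs⟩ (Subgroup.mem_subgroupOf.2 hs) ⟨g, hg⟩
    rw [Subgroup.mem_subgroupOf] at this
    simpa using this
  have hcommS : ∀ s ∈ S₀, ∀ t ∈ S₀, Commute s t := by
    intro s hs t ht
    have := mul_comm_of_exponent_two (IsKleinFour.exponent_two (G := ↥S₀)) ⟨s, hs⟩ ⟨t, ht⟩
    exact congrArg Subtype.val this
  have hgxg : g * x * g⁻¹ = x := by
    rw [hgx.eq, mul_assoc, mul_inv_cancel, mul_one]
  have hsq : Commute (g ^ 2) a := by
    by_cases ha1 : a = 1
    · rw [ha1]; exact Commute.one_right _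
    by_cases hax : a = x
    · rw [hax]; exact hgx.pow_left 2
    by_cases hz : g * a * g⁻¹ = a
    · have : Commute g a := by
        show g * a = a * g
        calc g * a = g * a * g⁻¹ * g := by group
          _ = a * g := by rw [hz]
      exact this.pow_left 2
    · have hzeq : (⟨g * a * g⁻¹, hnorm a ha⟩ : ↥S₀) = ⟨x, hxS⟩ * ⟨a, ha⟩ := by
        apply IsKleinFour.eq_mul_of_ne_all
        · intro h; exact hx1 (congrArg Subtype.val h)
        · intro h; exact ha1 (congrArg Subtype.val h)
        · intro h; exact hax (congrArg Subtype.val h).symm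
        · intro h
          have h1 : g * a * g⁻¹ = 1 := congrArg Subtype.val h
          apply ha1
          calc a = g⁻¹ * (g * a * g⁻¹) * g := by group
            _ = 1 := by rw [h1]; group
        · intro h
          have h1 : g * a * g⁻¹ = x := congrArg Subtype.val h
          apply hax
          calc a = g⁻¹ * (g * a * g⁻¹) * g := by group
            _ = g⁻¹ * (g * x * g⁻¹) * g := by rw [h1, hgxg]
            _ = x := by group
        · intro h; exact hz (congrArg Subtype.val h)
      have hz' : g * a * g⁻¹ = x * a := congrArg Subtype.val hzeq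
      have hconj : g ^ 2 * a * (g ^ 2)⁻¹ = a := by
        calc g ^ 2 * a * (g ^ 2)⁻¹ = g * (g * a * g⁻¹) * g⁻¹ := by
              rw [pow_two, mul_inv_rev]; simp only [mul_assoc]
          _ = g * (x * a) * g⁻¹ := by rw [hz']
          _ = (g * x * g⁻¹) * (g * a * g⁻¹) := by group
          _ = x * (x * a) := by rw [hz', hgxg]
          _ = a := by rw [← mul_assoc, hxx, one_mul]
      show g ^ 2 * a = a * g ^ 2
      calc g ^ 2 * a = g ^ 2 * a * (g ^ 2)⁻¹ * g ^ 2 := by
            rw [inv_mul_cancel_right]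
        _ = a * g ^ 2 := by rw [hconj]
  have hr : g ^ S₀.relIndex C ∈ S₀ := pow_relIndex_mem_of_normal S₀ C hn hg
  obtain ⟨j, hj⟩ : Odd (S₀.relIndex C) := Nat.odd_iff.2 (by omega)
  have h1 : Commute (g ^ (2 * j + 1)) a := by rw [← hj]; exact hcommS _ hr _ ha
  have h2 : Commute ((g ^ 2) ^ j) a := hsq.pow_left j
  have h3 : g = ((g ^ 2) ^ j)⁻¹ * g ^ (2 * j + 1) := by
    rw [pow_succ g (2 * j), pow_mul, inv_mul_cancel_left]
  rw [h3]
  exact (h2.inv_left).mul_left h1

/-- In the same situation `x ∈ S₀`. -/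
theorem involution_mem_of_kleinFour (S₀ : Subgroup G) (x : G)
    (hx : orderOf x = 2)
    (hodd : ¬ 2 ∣ S₀.relIndex (Subgroup.centralizer ({x} : Set G)))
    (hn : (S₀.subgroupOf (Subgroup.centralizer ({x} : Set G))).Normal) : x ∈ S₀ := by
  have hxC : x ∈ Subgroup.centralizer ({x} : Set G) := by
    rw [Subgroup.mem_centralizer_iff]
    intro h hh
    rw [Set.mem_singleton_iff.1 hh]
  exact mem_of_orderOf_two_of_odd_relIndex S₀ _ hn hodd hxC hx

/-- In the same situation `C_G(S₀) = C_G(x)`. -/
theorem centralizer_eq_of_kleinFour (S₀ : Subgroup G) (x : G)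
    (hx : orderOf x = 2) (hle : S₀ ≤ Subgroup.centralizer ({x} : Set G)) (hK : IsKleinFour ↥S₀)
    (hodd : ¬ 2 ∣ S₀.relIndex (Subgroup.centralizer ({x} : Set G)))
    (hn : (S₀.subgroupOf (Subgroup.centralizer ({x} : Set G))).Normal) :
    Subgroup.centralizer (S₀ : Set G) = Subgroup.centralizer ({x} : Set G) := by
  apply le_antisymm
  · apply Subgroup.centralizer_le
    rw [Set.singleton_subset_iff]
    exact involution_mem_of_kleinFour S₀ x hx hodd hn
  · intro g hg
    rw [Subgroup.mem_centralizer_iff]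
    intro a ha
    exact (commute_of_mem_centralizer_of_kleinFour S₀ x hx hle hK hodd hn hg ha).eq.symm

end NormalSylowOfCentralizer

section SylowCount

variable {G : Type*} [Group G] [Finite G]

/-- In the situation of a normal Klein four Sylow 2-subgroup `S₀` of `C(x)` which is a Sylow
2-subgroup `S` of `G`: `S` is the only Sylow 2-subgroup of exponent 2 containing `x`. -/
theorem sylow_eq_of_involution_mem (S₀ : Subgroup G) (x : G)
    (hodd : ¬ 2 ∣ S₀.relIndex (Subgroup.centralizer ({x} : Set G)))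
    (hn : (S₀.subgroupOf (Subgroup.centralizer ({x} : Set G))).Normal)
    (S : Sylow 2 G) (hS : (S : Subgroup G) = S₀)
    (Q : Sylow 2 G) (hQexp : ∀ g ∈ (Q : Subgroup G), g * g = 1)
    (hxQ : x ∈ (Q : Subgroup G)) : Q = S := by
  have hQC : (Q : Subgroup G) ≤ Subgroup.centralizer ({x} : Set G) := by
    intro q hq
    rw [Subgroup.mem_centralizer_iff]
    intro h hh
    rw [Set.mem_singleton_iff.1 hh]
    have h1 := inv_eq_of_mul_eq_one_right (hQexp q hq)
    have h2 := inv_eq_of_mul_eq_one_right (hQexp x hxQ)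
    have h3 := inv_eq_of_mul_eq_one_right (hQexp (x * q) (mul_mem hxQ hq))
    calc x * q = (x * q)⁻¹ := h3.symm
      _ = q⁻¹ * x⁻¹ := mul_inv_rev _ _
      _ = q * x := by rw [h1, h2]
  have hle : (Q : Subgroup G) ≤ S₀ :=
    le_of_isPGroup_two_of_odd_relIndex S₀ _ hn hodd Q Q.isPGroup' hQC
  have hmax := Q.is_maximal' S.isPGroup' (hS ▸ hle)
  exact Sylow.ext hmax.symm

/-- A Sylow 2-subgroup of order 4 and exponent 2 has exactly three involutions. -/
theorem card_involutions_sylow_four (Q : Sylow 2 G) (hcard : Nat.card Q = 4)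
    (hexp : ∀ g ∈ (Q : Subgroup G), g * g = 1) :
    Nat.card {t : G // t ∈ (Q : Subgroup G) ∧ orderOf t = 2} = 3 := by
  classical
  let e : {t : G // t ∈ (Q : Subgroup G) ∧ orderOf t = 2} ≃ {s : ↥(Q : Subgroup G) // s ≠ 1} :=
    { toFun := fun t => ⟨⟨t.1, t.2.1⟩, fun h => by
        have h1 : t.1 = 1 := congrArg Subtype.val h
        have := t.2.2
        rw [h1, orderOf_one] at this
        omega⟩
      invFun := fun s => ⟨s.1.1, s.1.2, by
        apply orderOf_eq_prime
        · rw [pow_two]; exact hexp _ s.1.2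
        · intro h
          exact s.2 (Subtype.ext h)⟩
      left_inv := fun t => rfl
      right_inv := fun s => rfl }
  rw [Nat.card_congr e]
  haveI : Fintype ↥(Q : Subgroup G) := Fintype.ofFinite _
  rw [Nat.card_eq_fintype_card, Fintype.card_subtype_compl, Fintype.card_subtype_eq,
    ← Nat.card_eq_fintype_card, hcard]

/-- If all Sylow 2-subgroups are Klein four groups and every involution lies in exactly one of
them, the number of involutions is three times the number of Sylow 2-subgroups. -/
theorem card_involutions_eq_three_mul_card_sylow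
    (hcard : ∀ Q : Sylow 2 G, Nat.card Q = 4)
    (hexp : ∀ Q : Sylow 2 G, ∀ g ∈ (Q : Subgroup G), g * g = 1)
    (huniq : ∀ t : G, orderOf t = 2 → ∀ Q Q' : Sylow 2 G,
      t ∈ (Q : Subgroup G) → t ∈ (Q' : Subgroup G) → Q = Q') :
    Nat.card {t : G // orderOf t = 2} = 3 * Nat.card (Sylow 2 G) := by
  classical
  haveI : Fact (Nat.Prime 2) := ⟨Nat.prime_two⟩
  haveI : Fintype (Sylow 2 G) := Fintype.ofFinite _
  have hex : ∀ t : {t : G // orderOf t = 2}, ∃ Q : Sylow 2 G, (t : G) ∈ (Q : Subgroup G) := by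
    intro t
    have hp : IsPGroup 2 (Subgroup.zpowers (t : G)) := by
      apply IsPGroup.of_card (n := 1)
      rw [Nat.card_zpowers, t.2, pow_one]
    obtain ⟨Q, hQ⟩ := hp.exists_le_sylow
    exact ⟨Q, hQ (Subgroup.mem_zpowers _)⟩
  choose f hf using hex
  let e : {t : G // orderOf t = 2} ≃
      Σ Q : Sylow 2 G, {t : G // t ∈ (Q : Subgroup G) ∧ orderOf t = 2} :=
    { toFun := fun t => ⟨f t, ⟨t.1, hf t, t.2⟩⟩
      invFun := fun s => ⟨s.2.1, s.2.2.2⟩
      left_inv := fun t => rfl
      right_inv := by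
        rintro ⟨Q, t, htQ, ht⟩
        apply Sigma.subtype_ext
        · exact huniq t ht _ _ (hf ⟨t, ht⟩) htQ
        · rfl }
  rw [Nat.card_congr e, Nat.card_sigma]
  have h3 : ∀ Q : Sylow 2 G,
      Nat.card {t : G // t ∈ (Q : Subgroup G) ∧ orderOf t = 2} = 3 :=
    fun Q => card_involutions_sylow_four Q (hcard Q) (hexp Q)
  simp only [h3]
  rw [Finset.sum_const, Finset.card_univ, smul_eq_mul, Nat.card_eq_fintype_card, mul_comm]

/-- If all involutions are conjugate, their number is the index of the centralizer of one. -/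
theorem card_involutions_eq_index (x : G) (hx : orderOf x = 2)
    (hconj : ∀ u v : G, orderOf u = 2 → orderOf v = 2 → IsConj u v) :
    Nat.card {t : G // orderOf t = 2} = (Subgroup.centralizer ({x} : Set G)).index := by
  classical
  haveI : Fintype G := Fintype.ofFinite G
  have h1 : Nat.card {t : G // orderOf t = 2} = Nat.card {t : G // IsConj x t} := by
    apply Nat.card_congr
    apply Equiv.subtypeEquivRight
    intro t
    constructor
    · intro ht; exact hconj x t hx ht
    · intro ht
      obtain ⟨c, hc⟩ := isConj_iff.1 ht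
      rw [← hc]
      have := (MulAut.conj c).orderOf_eq x
      rw [MulAut.conj_apply] at this
      rw [this]
      exact hx
  rw [h1, Nat.card_eq_fintype_card, Fintype.card_subtype]
  have := Helper16.card_filter_isConj' x
  exact_mod_cast this

end SylowCount

end Cfsg.Agent.Helper76
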