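import Mathlib
import Cfsg.Prelude.Def_Blocks
import Cfsg.Agent.Helper25.GenChar
import Cfsg.Agent.Helper3.BrauerGlobal

/-!
# `p ^ a * χ` on `p`-regular elements is a generalized character (helper76)

Via Brauer's characterization of characters (`Cfsg.Agent.Helper3.brauer_characterization`): on an
elementary subgroup `E` the `p`-regular elements form a normal subgroup `K` of `p`-power index, and
the inner products of the cut-off function with `Irr(E)` are integer multiples of inner products
of restrictions to `K`.
-/

set_option autoImplicit false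

namespace Cfsg.Agent.Helper76

open Cfsg
open scoped ComplexConjugate

universe u

/-- Lemma A: a multiple of a character cut off to a normal subgroup `K`, with the multiple large
enough, is a generalized character. -/
theorem isGenChar_cutoff {E : Type u} [Group E] [Finite E] (K : Subgroup E) [K.Normal]
    [DecidablePred (· ∈ K)] {χ : E → ℂ} (hχ : IsCharacter E χ) (n t : ℕ) (h : n * Nat.card K = t * Nat.card E) :
    IsGeneralizedCharacter E (fun e => if e ∈ K then (n : ℂ) * χ e else 0) := by
  let _ : Fintype E := Fintype.ofFinite E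
  let _ : Fintype K := Fintype.ofFinite K
  let _ := Cfsg.Agent.Helper74.irrFintype E
  set θ : E → ℂ := fun e => if e ∈ K then (n : ℂ) * χ e else 0 with hθ
  have hcf : IsClassFunction E θ := by
    intro g x
    have hχc := Cfsg.Agent.Helper74.isClassFunction_of_isCharacter hχ
    simp only [hθ]
    have hiff : x * g * x⁻¹ ∈ K ↔ g ∈ K := by
      constructor
      · intro hm
        have := ‹K.Normal›.conj_mem _ hm x⁻¹
        simpa [mul_assoc] using this
      · intro hm
        exact ‹K.Normal›.conj_mem _ hm x
    rw [hχc g x]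
    by_cases hg : g ∈ K
    · rw [if_pos hg, if_pos (hiff.2 hg)]
    · rw [if_neg hg, if_neg (fun h' => hg (hiff.1 h'))]
  have hinner : ∀ ψ : IrrCharacter E, ∃ m : ℕ, classInner θ (ψ : E → ℂ) = ((t * m : ℕ) : ℂ) := by
    intro ψ
    obtain ⟨m, hm⟩ := Cfsg.Agent.Helper15.isCharacter_inner_nat
      (Cfsg.Agent.Helper74.isCharacter_restrict K hχ)
      (Cfsg.Agent.Helper74.isCharacter_restrict K (Cfsg.Agent.Helper74.irr_isCharacter ψ))
    refine ⟨m, ?_⟩
    unfold classInner at hm ⊢
    have hsum : ∑ g : E, θ g * conj ((ψ : E → ℂ) g)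
        = (n : ℂ) * ∑ k : K, χ k * conj ((ψ : E → ℂ) k) := by
      rw [Finset.mul_sum]
      have h1 : ∀ g : E, θ g * conj ((ψ : E → ℂ) g)
          = if g ∈ K then (n : ℂ) * (χ g * conj ((ψ : E → ℂ) g)) else 0 := by
        intro g
        simp only [hθ]
        split_ifs <;> ring
      simp_rw [h1]
      rw [← Finset.sum_filter]
      exact Finset.sum_subtype (Finset.univ.filter (· ∈ K)) (fun x => by simp)
        (fun g => (n : ℂ) * (χ g * conj ((ψ : E → ℂ) g)))
    rw [hsum]
    have hK0 : (Nat.card K : ℂ) ≠ 0 := by exact_mod_cast Nat.card_pos.ne'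
    have hE0 : (Nat.card E : ℂ) ≠ 0 := by exact_mod_cast Nat.card_pos.ne'
    have hS : ∑ k : K, χ k * conj ((ψ : E → ℂ) k) = (Nat.card K : ℂ) * (m : ℂ) := by
      rw [← hm]; field_simp
    rw [hS]
    have hc : ((n : ℂ) * (Nat.card K : ℂ)) = (t : ℂ) * (Nat.card E : ℂ) := by exact_mod_cast h
    push_cast
    field_simp
    linear_combination (m : ℂ) * hc
  choose m hm using hinner
  rw [Cfsg.Agent.Helper74.classFunction_eq_sum_irr hcf]
  apply Cfsg.Agent.Helper25.isGenChar_sum
  intro ψ _
  rw [hm ψ]
  have : (((t * m ψ : ℕ) : ℂ) • (ψ : E → ℂ)) = (t * m ψ) • (ψ : E → ℂ) := by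
    rw [Nat.cast_smul_eq_nsmul]
  rw [this]
  exact Cfsg.Agent.Helper25.isGenChar_nsmul _
    (Cfsg.Agent.Helper25.isGenChar_of_isCharacter (Cfsg.Agent.Helper74.irr_isCharacter ψ))

/-- In a quotient by a normal subgroup of prime power index `q ^ k`, an element whose order is
prime to `q` is trivial: such elements lie in the subgroup. -/
theorem mem_of_index_prime_pow_of_coprime {E : Type u} [Group E] [Finite E] (C : Subgroup E)
    [C.Normal] {q k : ℕ} (hq : q.Prime) (hidx : C.index = q ^ k) (e : E)
    (he : ¬ q ∣ orderOf e) : e ∈ C := by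
  rw [← QuotientGroup.eq_one_iff]
  have h1 : orderOf (QuotientGroup.mk e : E ⧸ C) ∣ orderOf e :=
    orderOf_map_dvd (QuotientGroup.mk' C) e
  have h2 : orderOf (QuotientGroup.mk e : E ⧸ C) ∣ q ^ k := by
    rw [← hidx, Subgroup.index_eq_card]
    exact orderOf_dvd_natCard _
  obtain ⟨j, -, hj⟩ := (Nat.dvd_prime_pow hq).1 h2
  have hj0 : j = 0 := by
    by_contra hne
    apply he
    refine dvd_trans ?_ h1
    rw [hj]
    exact dvd_pow_self q hne
  rw [hj0, pow_zero] at hj
  exact orderOf_eq_one_iff.1 hj

/-- In an elementary group the `p`-regular elements form a normal subgroup whose index is a power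
of `p`. -/
theorem exists_pRegular_subgroup {E : Type u} [Group E] [Finite E] (p q : ℕ) [hp : Fact p.Prime]
    (hq : q.Prime) (hE : IsElementary q E) :
    ∃ K : Subgroup E, K.Normal ∧ (∀ e : E, e ∈ K ↔ ¬ p ∣ orderOf e) ∧
      ∃ b : ℕ, Nat.card E = Nat.card K * p ^ b := by
  obtain ⟨x, hxc, hxq, k, hk⟩ := hE
  set C : Subgroup E := Subgroup.zpowers x with hC
  have hCle : C ≤ Subgroup.center E := by
    rw [hC, Subgroup.zpowers_le]; exact hxc
  have hCn : C.Normal := by
    constructor
    intro n hn g
    have := Subgroup.mem_center_iff.1 (hCle hn) g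
    have h2 : g * n * g⁻¹ = n := by rw [this]; group
    rw [h2]; exact hn
  by_cases hpq : q = p
  · subst hpq
    refine ⟨C, hCn, ?_, k, ?_⟩
    · intro e
      constructor
      · intro he hdvd
        have h1 : orderOf e ∣ orderOf x := orderOf_dvd_of_mem_zpowers he
        have h2 : q ∣ orderOf x := hdvd.trans h1
        have := Nat.Coprime.eq_one_of_dvd hxq.symm h2
        exact hq.one_lt.ne' this
      · intro he
        exact mem_of_index_prime_pow_of_coprime C hq hk e he
    · rw [← hk, Subgroup.card_mul_index]
  · -- `q ≠ p`: a Sylow `p`-subgroup is central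
    have P : Sylow p E := default
    have hPle : (P : Subgroup E) ≤ Subgroup.center E := by
      intro u hu
      apply hCle
      apply mem_of_index_prime_pow_of_coprime C hq hk u
      intro hdvd
      obtain ⟨j, hj⟩ := (IsPGroup.iff_orderOf.1 P.2) ⟨u, hu⟩
      have hj' : orderOf u = p ^ j := by
        rw [← hj, Subgroup.orderOf_mk]
      rw [hj'] at hdvd
      have := (Nat.prime_dvd_prime_iff_eq hq hp.out).1 (hq.dvd_of_dvd_pow hdvd)
      exact hpq this
    have hP : Subgroup.normalizer (P : Set E) ≤ Subgroup.centralizer (P : Set E) := by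
      intro g _
      rw [Subgroup.mem_centralizer_iff]
      intro u hu
      exact (Subgroup.mem_center_iff.1 (hPle hu) g).symm
    have hcompl := MonoidHom.ker_transferSylow_isComplement' P hP
    set K : Subgroup E := (MonoidHom.transferSylow P hP).ker with hK
    have hcard : Nat.card K * Nat.card (P : Subgroup E) = Nat.card E := hcompl.card_mul_card
    have hKidx : Nat.card K = (P : Subgroup E).index := by
      have h1 := (P : Subgroup E).card_mul_index
      have hPpos : 0 < Nat.card (P : Subgroup E) := Nat.card_pos
      have : Nat.card K * Nat.card (P : Subgroup E)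
          = (P : Subgroup E).index * Nat.card (P : Subgroup E) := by
        rw [hcard, ← h1, mul_comm]
      exact Nat.eq_of_mul_eq_mul_right hPpos this
    refine ⟨K, inferInstance, ?_, (Nat.card E).factorization p, ?_⟩
    · intro e
      constructor
      · intro he hdvd
        have h1 : orderOf (⟨e, he⟩ : K) ∣ Nat.card K := orderOf_dvd_natCard _
        rw [Subgroup.orderOf_mk, hKidx] at h1
        exact P.not_dvd_index (hdvd.trans h1)
      · intro he
        rw [hK, MonoidHom.mem_ker]
        set y := MonoidHom.transferSylow P hP e with hy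
        have h1 : orderOf y ∣ orderOf e := orderOf_map_dvd _ e
        obtain ⟨j, hj⟩ := (IsPGroup.iff_orderOf.1 P.2) y
        have hj0 : j = 0 := by
          by_contra hne
          apply he
          refine dvd_trans ?_ h1
          rw [hj]
          exact dvd_pow_self p hne
        rw [hj0, pow_zero] at hj
        exact orderOf_eq_one_iff.1 hj
    · rw [← P.card_eq_multiplicity]; exact hcard.symm

/-- For an irreducible character `χ` and `p ^ a` the `p`-part of `|G|`, the class function equal to
`p ^ a * χ` on `p`-regular elements and `0` elsewhere is a generalized character. -/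
theorem isGenChar_pPart_mul_pRegular {G : Type u} [Group G] [Finite G] (p : ℕ) [hp : Fact p.Prime]
    {χ : G → ℂ} (hχ : IsCharacter G χ) :
    IsGeneralizedCharacter G (fun x : G => if p ∣ orderOf x then 0 else
      ((p ^ (Nat.card G).factorization p : ℕ) : ℂ) * χ x) := by
  classical
  let _ : Fintype G := Fintype.ofFinite G
  set a := (Nat.card G).factorization p with ha
  apply Cfsg.Agent.Helper3.brauer_characterization
  · intro g h
    have h1 : orderOf (h * g * h⁻¹) = orderOf g := by
      have : SemiconjBy h g (h * g * h⁻¹) := by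
        unfold SemiconjBy; group
      exact this.orderOf_eq.symm
    have h2 := Cfsg.Agent.Helper74.isClassFunction_of_isCharacter hχ g h
    simp only [h1, h2]
  · intro E q hq hE
    obtain ⟨K, hKn, hK, b, hb⟩ := exists_pRegular_subgroup p q hq hE
    have hba : b ≤ a := by
      have h1 : p ^ b ∣ Nat.card G := by
        have : p ^ b ∣ Nat.card E := ⟨Nat.card K, by rw [hb, mul_comm]⟩
        exact this.trans (Subgroup.card_subgroup_dvd_card E)
      exact (hp.out.pow_dvd_iff_le_factorization Nat.card_pos.ne').1 h1
    have hfun : (fun e : E => if p ∣ orderOf (e : G) then (0 : ℂ) else ((p ^ a : ℕ) : ℂ) * χ e)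
        = fun e : E => if e ∈ K then ((p ^ a : ℕ) : ℂ) * (fun e : E => χ e) e else 0 := by
      funext e
      rw [Subgroup.orderOf_coe]
      by_cases he : e ∈ K
      · rw [if_pos he, if_neg ((hK e).1 he)]
      · rw [if_neg he, if_pos (by
          by_contra hcon
          exact he ((hK e).2 hcon))]
    show IsGeneralizedCharacter E
      (fun e : E => if p ∣ orderOf (e : G) then (0 : ℂ) else ((p ^ a : ℕ) : ℂ) * χ e)
    rw [hfun]
    apply isGenChar_cutoff K (Cfsg.Agent.Helper74.isCharacter_restrict E hχ) (p ^ a) (p ^ (a - b))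
    rw [hb]
    have : p ^ a = p ^ (a - b) * p ^ b := by
      rw [← pow_add, Nat.sub_add_cancel hba]
    rw [this]; ring

end Cfsg.Agent.Helper76
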