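import Mathlib
import Cfsg.Prelude.Def_Blocks
import Cfsg.Agent.Helper76.PRegularGenChar
import Cfsg.Agent.Helper77.BlockOrth

/-!
# The `p`-regular cut-off of a character stays in its block (helper76)

From weak block orthogonality (`Cfsg.Agent.Helper77.weak_block_orthogonality'`): the `B`-projection
of `χ · 1_{p-regular}` (`χ ∈ B`) is itself; with `isGenChar_pPart_mul_pRegular` the coefficients of
`p ^ a · χ · 1_{p-regular}` are integers.
-/

set_option autoImplicit false

namespace Cfsg.Agent.Helper76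

open Cfsg
open scoped ComplexConjugate

universe u

/-- The `B`-projection of the `p`-regular cut-off of `χ ∈ B` is itself. -/
theorem blockPart_pRegular_cutoff {G : Type u} [Group G] [Fintype G] (p : ℕ) [Fact p.Prime]
    (M : Ideal AlgInt) (hM : IsPModular p M) (B : Set (IrrCharacter G)) (hB : IsPBlock M B)
    (χ : IrrCharacter G) (hχ : χ ∈ B) (c : ℂ) (x : G) :
    ∑ᶠ ψ ∈ B, classInner (fun y : G => if p ∣ orderOf y then (0 : ℂ) else c * (χ : G → ℂ) y)
        (ψ : G → ℂ) * (ψ : G → ℂ) x
      = if p ∣ orderOf x then (0 : ℂ) else c * (χ : G → ℂ) x := by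
  classical
  let _ := Cfsg.Agent.Helper74.irrFintype G
  set θ : G → ℂ := fun y : G => if p ∣ orderOf y then (0 : ℂ) else c * (χ : G → ℂ) y with hθ
  have hG0 : (Nat.card G : ℂ) ≠ 0 := by exact_mod_cast Nat.card_pos.ne'
  -- kernel
  set F : G → G → ℂ := fun x y => ∑ ψ ∈ (Set.toFinite B).toFinset,
    (ψ : G → ℂ) x * conj ((ψ : G → ℂ) y) with hF
  have hFrs : ∀ x y : G, ¬ p ∣ orderOf x → p ∣ orderOf y → F x y = 0 := by
    intro x y hx hy
    have := Cfsg.Agent.Helper77.weak_block_orthogonality' hM hB x y hx hy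
    rw [finsum_mem_eq_finite_toFinset_sum _ (Set.toFinite B)] at this
    exact this
  have hFsr : ∀ x y : G, p ∣ orderOf x → ¬ p ∣ orderOf y → F x y = 0 := by
    intro x y hx hy
    have h1 := hFrs y x hy hx
    have h2 := congrArg conj h1
    rw [map_zero] at h2
    rw [← h2, hF]
    simp only [map_sum, map_mul, Complex.conj_conj]
    refine Finset.sum_congr rfl fun ψ _ => ?_
    ring
  -- projection formula
  have hproj : ∀ f : G → ℂ, ∀ x : G, ∑ᶠ ψ ∈ B, classInner f (ψ : G → ℂ) * (ψ : G → ℂ) x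
      = (Nat.card G : ℂ)⁻¹ * ∑ y : G, f y * F x y := by
    intro f x
    rw [finsum_mem_eq_finite_toFinset_sum _ (Set.toFinite B)]
    simp only [hF, classInner, Finset.mul_sum, Finset.sum_mul]
    rw [Finset.sum_comm]
    refine Finset.sum_congr rfl fun y _ => ?_
    refine Finset.sum_congr rfl fun ψ _ => ?_
    ring
  -- projection of χ itself
  have hχproj : ∀ x : G, (Nat.card G : ℂ)⁻¹ * ∑ y : G, (χ : G → ℂ) y * F x y
      = (χ : G → ℂ) x := by
    intro x
    rw [← hproj]
    rw [finsum_mem_eq_finite_toFinset_sum _ (Set.toFinite B)]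
    rw [Finset.sum_eq_single χ]
    · rw [Cfsg.Agent.Helper74.irr_inner_self, one_mul]
    · intro ψ _ hne
      rw [Cfsg.Agent.Helper74.irr_inner_ne hne.symm, zero_mul]
    · intro h
      exfalso; apply h
      rw [Set.Finite.mem_toFinset]; exact hχ
  rw [hproj θ x]
  by_cases hx : p ∣ orderOf x
  · rw [if_pos hx]
    have : ∀ y : G, θ y * F x y = 0 := by
      intro y
      by_cases hy : p ∣ orderOf y
      · simp only [hθ, if_pos hy, zero_mul]
      · rw [hFsr x y hx hy, mul_zero]
    simp only [this, Finset.sum_const_zero, mul_zero]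
  · rw [if_neg hx]
    have : ∀ y : G, θ y * F x y = c * ((χ : G → ℂ) y * F x y) := by
      intro y
      by_cases hy : p ∣ orderOf y
      · simp only [hθ, if_pos hy, zero_mul]
        rw [hFrs x y hx hy]; ring
      · simp only [hθ, if_neg hy]; ring
    simp only [this]
    rw [← Finset.mul_sum, mul_left_comm, hχproj x]

/-- For `χ` in the `p`-block `B`, the function `p ^ a * χ` on `p`-regular elements (and `0`
elsewhere) is an integer combination of the irreducible characters in `B`. -/
theorem pRegular_cutoff_in_block_span {G : Type u} [Group G] [Finite G] (p : ℕ) [Fact p.Prime]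
    (M : Ideal AlgInt) (hM : IsPModular p M) (B : Set (IrrCharacter G)) (hB : IsPBlock M B)
    (χ : IrrCharacter G) (hχ : χ ∈ B) :
    ∃ a : IrrCharacter G → ℤ, (∀ ψ, ψ ∉ B → a ψ = 0) ∧
      (fun x : G => if p ∣ orderOf x then (0 : ℂ) else
        ((p ^ (Nat.card G).factorization p : ℕ) : ℂ) * (χ : G → ℂ) x)
        = fun x => ∑ᶠ ψ : IrrCharacter G, (a ψ : ℂ) * (ψ : G → ℂ) x := by
  classical
  let _ : Fintype G := Fintype.ofFinite G
  set θ : G → ℂ := fun x : G => if p ∣ orderOf x then (0 : ℂ) else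
        ((p ^ (Nat.card G).factorization p : ℕ) : ℂ) * (χ : G → ℂ) x with hθ
  have hgen : IsGeneralizedCharacter G θ :=
    isGenChar_pPart_mul_pRegular p (Cfsg.Agent.Helper74.irr_isCharacter χ)
  have hint : ∀ ψ : IrrCharacter G, ∃ n : ℤ, classInner θ (ψ : G → ℂ) = n := fun ψ =>
    Cfsg.Agent.Helper25.isGenChar_inner_int hgen
      (Cfsg.Agent.Helper25.isGenChar_of_isCharacter (Cfsg.Agent.Helper74.irr_isCharacter ψ))
  choose n hn using hint
  refine ⟨fun ψ => if ψ ∈ B then n ψ else 0, fun ψ hψ => if_neg hψ, ?_⟩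
  funext x
  have h := blockPart_pRegular_cutoff p M hM B hB χ hχ
    ((p ^ (Nat.card G).factorization p : ℕ) : ℂ) x
  show θ x = _
  rw [show θ x = (if p ∣ orderOf x then (0 : ℂ) else
    ((p ^ (Nat.card G).factorization p : ℕ) : ℂ) * (χ : G → ℂ) x) from rfl, ← h]
  rw [finsum_mem_def]
  refine finsum_congr fun ψ => ?_
  by_cases hψ : ψ ∈ B
  · rw [Set.indicator_of_mem hψ]
    dsimp only
    rw [if_pos hψ, ← hn ψ]
  · rw [Set.indicator_of_notMem hψ]
    dsimp only
    rw [if_neg hψ]; simp

end Cfsg.Agent.Helper76
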