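import Mathlib
import Cfsg.Prelude.Def_Blocks
import Cfsg.Agent.Helper76.PRegularGenChar
import Cfsg.Agent.Helper74.DefectZero
import Cfsg.Agent.Helper78.IrrBasic
import Cfsg.Agent.Helper80.Degree
import Cfsg.Agent.Helper79.Linear

/-!
# `p ^ (a - b) * χ` on `p`-regular elements is a generalized character, exactly (helper76)

`p ^ a`, `p ^ b` the `p`-parts of `|G|` and `χ 1`.  Brauer's characterization of characters plus the
integrality of central characters (in the local ring at a prime above `p`).
-/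

set_option autoImplicit false

namespace Cfsg.Agent.Helper76

open Cfsg
open scoped ComplexConjugate

universe u

/-- Integrality of central characters, in valuation form: if `p ^ m` divides `|C_G(g)|` then
`p ^ (a - b) * χ g / p ^ m` is a local integer, where `p ^ a`, `p ^ b` are the `p`-parts of `|G|`
and `χ 1`. -/
theorem memLocalRing_defect_mul_char_div {G : Type u} [Group G] [Finite G] {p : ℕ}
    {M : Ideal AlgInt} (hM : IsPModular p M) {χ : G → ℂ} (hχ : IsIrrCharacter G χ) (g : G) (m : ℕ)
    (hm : p ^ m ∣ Nat.card (Subgroup.centralizer ({g} : Set G))) :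
    MemLocalRing M (((p ^ ((Nat.card G).factorization p - (charDegree χ).factorization p) : ℕ) : ℂ)
      * χ g / ((p ^ m : ℕ) : ℂ)) := by
  have hp : p.Prime := hM.1
  have hM' := Cfsg.Agent.Helper78.isPrime_of_isPModular hM
  set a := (Nat.card G).factorization p with ha
  set deg := charDegree χ with hdeg
  set b := deg.factorization p with hb
  have hdegpos : 0 < deg := Cfsg.Agent.Helper78.charDegree_pos_of_isIrrCharacter hχ
  have hdegdvd : deg ∣ Nat.card G := Cfsg.Agent.Helper80.IsIrrCharacter.charDegree_dvd_card hχ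
  have hGpos : 0 < Nat.card G := Nat.card_pos
  have hba : b ≤ a := by
    have h1 : p ^ b ∣ deg := Nat.ordProj_dvd deg p
    exact (hp.pow_dvd_iff_le_factorization hGpos.ne').1 (h1.trans hdegdvd)
  set g' := Nat.card G / p ^ a with hg'
  have hG : p ^ a * g' = Nat.card G := Nat.ordProj_mul_ordCompl_eq_self (Nat.card G) p
  have hg'cop : Nat.Coprime g' p := (Nat.coprime_ordCompl hp hGpos.ne').symm
  set f' := deg / p ^ b with hf'
  have hdeg' : p ^ b * f' = deg := Nat.ordProj_mul_ordCompl_eq_self deg p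
  obtain ⟨c'', hc''⟩ := hm
  set idx := (Subgroup.centralizer ({g} : Set G)).index with hidx
  have hidxc : idx * Nat.card (Subgroup.centralizer ({g} : Set G)) = Nat.card G :=
    Subgroup.index_mul_card _
  set ω := centralChar χ g with hω
  have hωint : IsIntegral ℤ ω := Cfsg.Agent.Helper78.isIntegral_centralChar hχ g
  have hχ1 : χ 1 = (deg : ℂ) := Cfsg.Agent.Helper78.irrChar_one_eq_charDegree hχ
  have hdeg0 : (deg : ℂ) ≠ 0 := by exact_mod_cast hdegpos.ne'
  have hpm0 : ((p ^ m : ℕ) : ℂ) ≠ 0 := by exact_mod_cast (pow_pos hp.pos m).ne'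
  have hg'0 : (g' : ℂ) ≠ 0 := by
    have : g' ≠ 0 := by
      intro h0
      rw [h0, mul_zero] at hG
      exact hGpos.ne' hG.symm
    exact_mod_cast this
  -- the key identity
  have hkey : ((p ^ (a - b) : ℕ) : ℂ) * χ g / ((p ^ m : ℕ) : ℂ)
      = ((f' : ℂ) * (c'' : ℂ) * ω) * (g' : ℂ)⁻¹ := by
    have h1 : ((p ^ (a - b) : ℕ) : ℂ) * ((p ^ b : ℕ) : ℂ) = ((p ^ a : ℕ) : ℂ) := by
      rw [← Nat.cast_mul, ← pow_add, Nat.sub_add_cancel hba]
    have h2 : ((p ^ a : ℕ) : ℂ) * (g' : ℂ) = (Nat.card G : ℂ) := by exact_mod_cast hG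
    have h3 : ((p ^ b : ℕ) : ℂ) * (f' : ℂ) = (deg : ℂ) := by exact_mod_cast hdeg'
    have h4 : (idx : ℂ) * (((p ^ m : ℕ) : ℂ) * (c'' : ℂ)) = (Nat.card G : ℂ) := by
      rw [← hidxc, hc'']; push_cast; ring
    have hω' : ω = (idx : ℂ) * χ g / (deg : ℂ) := by
      rw [hω]; unfold centralChar; rw [hχ1]
    rw [hω']
    rw [eq_mul_inv_iff_mul_eq₀ hg'0]
    rw [div_mul_eq_mul_div, div_eq_iff hpm0]
    rw [← h3] at hdeg0 ⊢
    have hpb0 : ((p ^ b : ℕ) : ℂ) ≠ 0 := left_ne_zero_of_mul hdeg0
    have hf0 : (f' : ℂ) ≠ 0 := right_ne_zero_of_mul hdeg0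
    field_simp
    have e1 : ((p ^ (a - b) : ℕ) : ℂ) * (g' : ℂ) * ((p ^ b : ℕ) : ℂ) = (Nat.card G : ℂ) := by
      rw [← h2, ← h1]; ring
    have e2 : (c'' : ℂ) * (idx : ℂ) * ((p ^ m : ℕ) : ℂ) = (Nat.card G : ℂ) := by
      rw [← h4]; ring
    linear_combination (χ g) * e1 - (χ g) * e2
  rw [hkey]
  refine Cfsg.Agent.Helper78.memLocalRing_mul hM' ?_
    (Cfsg.Agent.Helper78.memLocalRing_inv_natCast hM hg'cop)
  refine Cfsg.Agent.Helper78.memLocalRing_mul hM' ?_
    (Cfsg.Agent.Helper78.memLocalRing_of_isIntegral hM' hωint)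
  exact Cfsg.Agent.Helper78.memLocalRing_mul hM' (Cfsg.Agent.Helper78.memLocalRing_natCast hM' _)
    (Cfsg.Agent.Helper78.memLocalRing_natCast hM' _)

/-- A character cut off to a normal `p'`-subgroup `K` of `p`-power index `p ^ m` and multiplied by
`p ^ d` is a character as soon as the values `p ^ d * φ k / p ^ m` (`k ∈ K`) are local integers. -/
theorem isCharacter_cutoff_of_local {E : Type u} [Group E] [Finite E] {p : ℕ} {M : Ideal AlgInt}
    (hM : IsPModular p M) (K : Subgroup E) [K.Normal] [DecidablePred (· ∈ K)] {φ : E → ℂ}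
    (hφ : IsCharacter E φ) (d m : ℕ) (hcard : Nat.card E = Nat.card K * p ^ m)
    (hK : Nat.Coprime (Nat.card K) p)
    (hloc : ∀ k ∈ K, MemLocalRing M (((p ^ d : ℕ) : ℂ) * φ k / ((p ^ m : ℕ) : ℂ))) :
    IsCharacter E (fun e => if e ∈ K then ((p ^ d : ℕ) : ℂ) * φ e else 0) := by
  let _ : Fintype E := Fintype.ofFinite E
  let _ : Fintype K := Fintype.ofFinite K
  have hp : p.Prime := hM.1
  have hM' := Cfsg.Agent.Helper78.isPrime_of_isPModular hM
  set θ : E → ℂ := fun e => if e ∈ K then ((p ^ d : ℕ) : ℂ) * φ e else 0 with hθ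
  have hcf : IsClassFunction E θ := by
    intro g x
    have hφc := Cfsg.Agent.Helper74.isClassFunction_of_isCharacter hφ
    simp only [hθ]
    have hiff : x * g * x⁻¹ ∈ K ↔ g ∈ K := by
      constructor
      · intro hm
        have := ‹K.Normal›.conj_mem _ hm x⁻¹
        simpa [mul_assoc] using this
      · intro hm
        exact ‹K.Normal›.conj_mem _ hm x
    rw [hφc g x]
    by_cases hg : g ∈ K
    · rw [if_pos hg, if_pos (hiff.2 hg)]
    · rw [if_neg hg, if_neg (fun h' => hg (hiff.1 h'))]
  apply Cfsg.Agent.Helper15.isCharacter_of_classFunction_of_inner_nat hcf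
  intro ψ
  obtain ⟨N, hN⟩ := Cfsg.Agent.Helper15.isCharacter_inner_nat
    (Cfsg.Agent.Helper74.isCharacter_restrict K hφ)
    (Cfsg.Agent.Helper74.isCharacter_restrict K (Cfsg.Agent.Helper74.irr_isCharacter ψ))
  have hK0 : (Nat.card K : ℂ) ≠ 0 := by exact_mod_cast Nat.card_pos.ne'
  have hE0 : (Nat.card E : ℂ) ≠ 0 := by exact_mod_cast Nat.card_pos.ne'
  have hpm0 : ((p ^ m : ℕ) : ℂ) ≠ 0 := by exact_mod_cast (pow_pos hp.pos m).ne'
  have hEK : (Nat.card E : ℂ) = (Nat.card K : ℂ) * ((p ^ m : ℕ) : ℂ) := by exact_mod_cast hcard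
  have hsum : ∑ g : E, θ g * conj ((ψ : E → ℂ) g)
      = ((p ^ d : ℕ) : ℂ) * ∑ k : K, φ k * conj ((ψ : E → ℂ) k) := by
    rw [Finset.mul_sum]
    have h1 : ∀ g : E, θ g * conj ((ψ : E → ℂ) g)
        = if g ∈ K then ((p ^ d : ℕ) : ℂ) * (φ g * conj ((ψ : E → ℂ) g)) else 0 := by
      intro g
      simp only [hθ]
      split_ifs <;> ring
    simp_rw [h1]
    rw [← Finset.sum_filter]
    exact Finset.sum_subtype (Finset.univ.filter (· ∈ K)) (fun x => by simp)
      (fun g => ((p ^ d : ℕ) : ℂ) * (φ g * conj ((ψ : E → ℂ) g)))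
  have hS : ∑ k : K, φ k * conj ((ψ : E → ℂ) k) = (Nat.card K : ℂ) * (N : ℂ) := by
    unfold classInner at hN
    rw [← hN]; field_simp
  -- value of the inner product as a rational number
  have hval : classInner θ (ψ : E → ℂ) = ((p ^ d * N : ℕ) : ℂ) / ((p ^ m : ℕ) : ℂ) := by
    unfold classInner
    rw [hsum, hS, hEK]
    push_cast
    field_simp
  -- and as a local integer
  have hlocal : MemLocalRing M (classInner θ (ψ : E → ℂ)) := by
    have h2 : classInner θ (ψ : E → ℂ) = (Nat.card K : ℂ)⁻¹ *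
        ∑ k : K, (((p ^ d : ℕ) : ℂ) * φ k / ((p ^ m : ℕ) : ℂ)) * conj ((ψ : E → ℂ) k) := by
      unfold classInner
      rw [hsum, hEK, Finset.mul_sum, Finset.mul_sum, Finset.mul_sum]
      refine Finset.sum_congr rfl fun k _ => ?_
      field_simp
    rw [h2]
    refine Cfsg.Agent.Helper78.memLocalRing_mul hM'
      (Cfsg.Agent.Helper78.memLocalRing_inv_natCast hM hK) ?_
    refine Cfsg.Agent.Helper78.memLocalRing_sum hM' _ _ fun k _ => ?_
    refine Cfsg.Agent.Helper78.memLocalRing_mul hM' (hloc k k.2) ?_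
    apply Cfsg.Agent.Helper78.memLocalRing_of_isIntegral hM'
    have h3 : IsIntegral ℤ ((ψ : E → ℂ) k) := Cfsg.Agent.Helper78.isIntegral_irrChar_apply ψ.2 _
    exact h3.map (starRingEnd ℂ : ℂ →+* ℂ).toIntAlgHom
  rw [hval] at hlocal
  have hdvd := Cfsg.Agent.Helper78.pow_dvd_of_memLocalRing_div hM (pow_pos hp.pos m).ne'
    (dvd_refl (p ^ m)) hlocal
  obtain ⟨t, ht⟩ := hdvd
  refine ⟨t, ?_⟩
  rw [hval, ht]
  have hp0 : (p : ℂ) ^ m ≠ 0 := pow_ne_zero m (by exact_mod_cast hp.ne_zero)
  push_cast
  rw [mul_div_assoc, mul_comm, div_mul_cancel₀ _ hp0]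

/-- Refinement of `exists_pRegular_subgroup`: the `p`-part of `|E|` divides the order of the
centralizer (in `E`) of every `p`-regular element of an elementary group `E`. -/
theorem exists_pRegular_subgroup_centralizer {E : Type u} [Group E] [Finite E] (p q : ℕ)
    [hp : Fact p.Prime] (hq : q.Prime) (hE : IsElementary q E) :
    ∃ K : Subgroup E, K.Normal ∧ (∀ e : E, e ∈ K ↔ ¬ p ∣ orderOf e) ∧
      ∃ b : ℕ, Nat.card E = Nat.card K * p ^ b ∧
        ∀ k ∈ K, p ^ b ∣ Nat.card (Subgroup.centralizer ({k} : Set E)) := by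
  obtain ⟨x, hxc, hxq, k, hk⟩ := hE
  set C : Subgroup E := Subgroup.zpowers x with hC
  have hCle : C ≤ Subgroup.center E := by
    rw [hC, Subgroup.zpowers_le]; exact hxc
  have hCn : C.Normal := by
    constructor
    intro n hn g
    have := Subgroup.mem_center_iff.1 (hCle hn) g
    have h2 : g * n * g⁻¹ = n := by rw [this]; group
    rw [h2]; exact hn
  by_cases hpq : q = p
  · subst hpq
    have hcard : Nat.card E = Nat.card C * q ^ k := by
      rw [← hk, Subgroup.card_mul_index]
    refine ⟨C, hCn, ?_, k, hcard, ?_⟩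
    · intro e
      constructor
      · intro he hdvd
        have h1 : orderOf e ∣ orderOf x := orderOf_dvd_of_mem_zpowers he
        have h2 : q ∣ orderOf x := hdvd.trans h1
        have := Nat.Coprime.eq_one_of_dvd hxq.symm h2
        exact hq.one_lt.ne' this
      · intro he
        exact mem_of_index_prime_pow_of_coprime C hq hk e he
    · intro c hc
      have htop : Subgroup.centralizer ({c} : Set E) = ⊤ := by
        rw [eq_top_iff]
        intro g _
        rw [Subgroup.mem_centralizer_iff]
        intro w hw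
        rw [Set.mem_singleton_iff] at hw
        subst hw
        exact (Subgroup.mem_center_iff.1 (hCle hc) g).symm
      rw [htop, Subgroup.card_top, hcard]
      exact dvd_mul_left _ _
  · have P : Sylow p E := default
    have hPle : (P : Subgroup E) ≤ Subgroup.center E := by
      intro u hu
      apply hCle
      apply mem_of_index_prime_pow_of_coprime C hq hk u
      intro hdvd
      obtain ⟨j, hj⟩ := (IsPGroup.iff_orderOf.1 P.2) ⟨u, hu⟩
      have hj' : orderOf u = p ^ j := by
        rw [← hj, Subgroup.orderOf_mk]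
      rw [hj'] at hdvd
      have := (Nat.prime_dvd_prime_iff_eq hq hp.out).1 (hq.dvd_of_dvd_pow hdvd)
      exact hpq this
    have hP : Subgroup.normalizer (P : Set E) ≤ Subgroup.centralizer (P : Set E) := by
      intro g _
      rw [Subgroup.mem_centralizer_iff]
      intro u hu
      exact (Subgroup.mem_center_iff.1 (hPle hu) g).symm
    have hcompl := MonoidHom.ker_transferSylow_isComplement' P hP
    set K : Subgroup E := (MonoidHom.transferSylow P hP).ker with hK
    have hcard : Nat.card K * Nat.card (P : Subgroup E) = Nat.card E := hcompl.card_mul_card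
    have hKidx : Nat.card K = (P : Subgroup E).index := by
      have h1 := (P : Subgroup E).card_mul_index
      have hPpos : 0 < Nat.card (P : Subgroup E) := Nat.card_pos
      have : Nat.card K * Nat.card (P : Subgroup E)
          = (P : Subgroup E).index * Nat.card (P : Subgroup E) := by
        rw [hcard, ← h1, mul_comm]
      exact Nat.eq_of_mul_eq_mul_right hPpos this
    refine ⟨K, inferInstance, ?_, (Nat.card E).factorization p, ?_, ?_⟩
    · intro e
      constructor
      · intro he hdvd
        have h1 : orderOf (⟨e, he⟩ : K) ∣ Nat.card K := orderOf_dvd_natCard _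
        rw [Subgroup.orderOf_mk, hKidx] at h1
        exact P.not_dvd_index (hdvd.trans h1)
      · intro he
        rw [hK, MonoidHom.mem_ker]
        set y := MonoidHom.transferSylow P hP e with hy
        have h1 : orderOf y ∣ orderOf e := orderOf_map_dvd _ e
        obtain ⟨j, hj⟩ := (IsPGroup.iff_orderOf.1 P.2) y
        have hj0 : j = 0 := by
          by_contra hne
          apply he
          refine dvd_trans ?_ h1
          rw [hj]
          exact dvd_pow_self p hne
        rw [hj0, pow_zero] at hj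
        exact orderOf_eq_one_iff.1 hj
    · rw [← P.card_eq_multiplicity]; exact hcard.symm
    · intro c _
      rw [← P.card_eq_multiplicity]
      apply Subgroup.card_dvd_of_le
      intro u hu
      rw [Subgroup.mem_centralizer_iff]
      intro w hw
      rw [Set.mem_singleton_iff] at hw
      subst hw
      exact Subgroup.mem_center_iff.1 (hPle hu) w

/-- `p ^ (a - b) * χ` on `p`-regular elements is a generalized character (`p ^ a`, `p ^ b` the
`p`-parts of `|G|` and `χ 1`). -/
theorem isGenChar_defect_mul_pRegular {G : Type u} [Group G] [Finite G] (p : ℕ)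
    [hp : Fact p.Prime] {χ : G → ℂ} (hχ : IsIrrCharacter G χ) :
    IsGeneralizedCharacter G (fun x : G => if p ∣ orderOf x then (0 : ℂ) else
      ((p ^ ((Nat.card G).factorization p - (charDegree χ).factorization p) : ℕ) : ℂ) * χ x) := by
  classical
  let _ : Fintype G := Fintype.ofFinite G
  obtain ⟨M, hM⟩ := Cfsg.Agent.Helper74.exists_isPModular p hp.out
  set d := (Nat.card G).factorization p - (charDegree χ).factorization p with hd
  have hχc : IsCharacter G χ := Cfsg.Agent.Helper74.isCharacter_of_isIrr hχ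
  apply Cfsg.Agent.Helper3.brauer_characterization
  · intro g h
    have h1 : orderOf (h * g * h⁻¹) = orderOf g := by
      have : SemiconjBy h g (h * g * h⁻¹) := by
        unfold SemiconjBy; group
      exact this.orderOf_eq.symm
    have h2 := Cfsg.Agent.Helper74.isClassFunction_of_isCharacter hχc g h
    simp only [h1, h2]
  · intro E q hq hE
    obtain ⟨K, hKn, hK, b, hb, hcent⟩ := exists_pRegular_subgroup_centralizer p q hq hE
    have hKcop : Nat.Coprime (Nat.card K) p := by
      rw [Nat.coprime_comm, Nat.Prime.coprime_iff_not_dvd hp.out]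
      intro hdvd
      obtain ⟨y, hy⟩ := exists_prime_orderOf_dvd_card' (G := K) p hdvd
      have h1 : ¬ p ∣ orderOf (y : E) := (hK y).1 y.2
      rw [Subgroup.orderOf_coe, hy] at h1
      exact h1 dvd_rfl
    have hfun : (fun e : E => if p ∣ orderOf (e : G) then (0 : ℂ) else ((p ^ d : ℕ) : ℂ) * χ e)
        = fun e : E => if e ∈ K then ((p ^ d : ℕ) : ℂ) * (fun e : E => χ e) e else 0 := by
      funext e
      rw [Subgroup.orderOf_coe]
      by_cases he : e ∈ K
      · rw [if_pos he, if_neg ((hK e).1 he)]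
      · rw [if_neg he, if_pos (by
          by_contra hcon
          exact he ((hK e).2 hcon))]
    show IsGeneralizedCharacter E
      (fun e : E => if p ∣ orderOf (e : G) then (0 : ℂ) else ((p ^ d : ℕ) : ℂ) * χ e)
    rw [hfun]
    apply Cfsg.Agent.Helper25.isGenChar_of_isCharacter
    apply isCharacter_cutoff_of_local hM K (Cfsg.Agent.Helper74.isCharacter_restrict E hχc) d b hb
      hKcop
    intro k hk
    apply memLocalRing_defect_mul_char_div hM hχ (k : G) b
    refine (hcent k hk).trans ?_
    -- the centralizer in `E` embeds in the centralizer in `G`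
    have hle : (Subgroup.centralizer ({k} : Set E)).map E.subtype
        ≤ Subgroup.centralizer ({(k : G)} : Set G) := by
      rintro _ ⟨u, hu, rfl⟩
      rw [Subgroup.mem_centralizer_iff]
      intro w hw
      rw [Set.mem_singleton_iff] at hw
      subst hw
      have := Subgroup.mem_centralizer_iff.1 hu k (Set.mem_singleton k)
      exact congrArg Subtype.val this
    have h1 := Subgroup.card_dvd_of_le hle
    rwa [Subgroup.card_map_of_injective E.subtype_injective] at h1

/-- Restriction of a generalized character to a subgroup. -/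
theorem isGenChar_restrict {G : Type u} [Group G] (H : Subgroup G) {θ : G → ℂ}
    (hθ : IsGeneralizedCharacter G θ) : IsGeneralizedCharacter H (fun h : H => θ h) := by
  obtain ⟨χ, ψ, hχ, hψ, rfl⟩ := hθ
  exact ⟨fun h : H => χ h, fun h : H => ψ h, Cfsg.Agent.Helper74.isCharacter_restrict H hχ,
    Cfsg.Agent.Helper74.isCharacter_restrict H hψ, rfl⟩

/-- A generalized character vanishing on the nontrivial `p`-elements has degree divisible by the
order of a Sylow `p`-subgroup: here in the form that `c * χ 1 / |P|` is an integer when the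
function `c * χ` on `p`-regular elements (zero elsewhere) is a generalized character. -/
theorem exists_int_of_isGenChar_pRegular_cutoff {G : Type u} [Group G] [Finite G] (p : ℕ)
    [hp : Fact p.Prime] (χ : G → ℂ) (c : ℂ)
    (h : IsGeneralizedCharacter G (fun x : G => if p ∣ orderOf x then (0 : ℂ) else c * χ x)) :
    ∃ n : ℤ, c * χ 1 = (n : ℂ) * ((p ^ (Nat.card G).factorization p : ℕ) : ℂ) := by
  classical
  have P : Sylow p G := default
  set Q : Subgroup G := (P : Subgroup G) with hQ
  let _ : Fintype Q := Fintype.ofFinite Q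
  have hres := isGenChar_restrict Q h
  obtain ⟨n, hn⟩ := Cfsg.Agent.Helper25.isGenChar_inner_int hres
    (Cfsg.Agent.Helper25.isGenChar_of_isCharacter
      (Cfsg.Agent.Helper74.irr_isCharacter (Cfsg.Agent.Helper79.principalIrr Q)))
  refine ⟨n, ?_⟩
  have hQcard : Nat.card Q = p ^ (Nat.card G).factorization p := P.card_eq_multiplicity
  unfold classInner at hn
  rw [Finset.sum_eq_single (1 : Q)] at hn
  · have h3 : (Cfsg.Agent.Helper79.principalIrr Q : Q → ℂ) 1 = 1 := rfl
    rw [h3, map_one, mul_one] at hn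
    have h4 : ¬ p ∣ orderOf (((1 : Q) : G)) := by
      rw [Subgroup.coe_one, orderOf_one]
      exact hp.out.one_lt.ne' ∘ Nat.dvd_one.1
    dsimp only at hn
    rw [if_neg h4, Subgroup.coe_one] at hn
    have hQ0 : (Nat.card Q : ℂ) ≠ 0 := by exact_mod_cast Nat.card_pos.ne'
    rw [← hQcard, ← hn]
    field_simp
  · intro x _ hx
    have hdvd : p ∣ orderOf (x : G) := by
      rw [Subgroup.orderOf_coe]
      obtain ⟨j, hj⟩ := (IsPGroup.iff_orderOf.1 P.2) x
      rw [hj]
      have hj0 : j ≠ 0 := by
        intro h0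
        rw [h0, pow_zero] at hj
        exact hx (orderOf_eq_one_iff.1 hj)
      exact dvd_pow_self p hj0
    dsimp only
    rw [if_pos hdvd, zero_mul]
  · intro h'; exact absurd (Finset.mem_univ _) h'

/-- Exactness: `p ^ a / p ^ (b + 1) * χ` on `p`-regular elements is not a generalized character. -/
theorem not_isGenChar_defect_pred_mul_pRegular {G : Type u} [Group G] [Finite G] (p : ℕ)
    [hp : Fact p.Prime] {χ : G → ℂ} (hχ : IsIrrCharacter G χ) :
    ¬ IsGeneralizedCharacter G (fun x : G => if p ∣ orderOf x then (0 : ℂ) else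
      ((p ^ (Nat.card G).factorization p : ℕ) : ℂ) /
        ((p ^ ((charDegree χ).factorization p + 1) : ℕ) : ℂ) * χ x) := by
  intro h
  obtain ⟨n, hn⟩ := exists_int_of_isGenChar_pRegular_cutoff p χ _ h
  set a := (Nat.card G).factorization p with ha
  set deg := charDegree χ with hdeg
  set b := deg.factorization p with hb
  have hχ1 : χ 1 = (deg : ℂ) := Cfsg.Agent.Helper78.irrChar_one_eq_charDegree hχ
  have hdegpos : 0 < deg := Cfsg.Agent.Helper78.charDegree_pos_of_isIrrCharacter hχ
  rw [hχ1] at hn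
  have hpa0 : ((p ^ a : ℕ) : ℂ) ≠ 0 := by exact_mod_cast (pow_pos hp.out.pos a).ne'
  have hpb0 : ((p ^ (b + 1) : ℕ) : ℂ) ≠ 0 := by exact_mod_cast (pow_pos hp.out.pos (b + 1)).ne'
  have h1 : (deg : ℂ) = (n : ℂ) * ((p ^ (b + 1) : ℕ) : ℂ) := by
    field_simp at hn
    rw [hn]; ring
  have h2 : (deg : ℤ) = n * ((p ^ (b + 1) : ℕ) : ℤ) := by exact_mod_cast h1
  have h3 : ((p ^ (b + 1) : ℕ) : ℤ) ∣ (deg : ℤ) := ⟨n, by rw [h2, mul_comm]⟩
  have h4 : p ^ (b + 1) ∣ deg := by exact_mod_cast h3
  have h5 := (hp.out.pow_dvd_iff_le_factorization hdegpos.ne').1 h4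
  omega

end Cfsg.Agent.Helper76
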