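import Cfsg.Agent.Helper76.KleinFourPrincipal
import Cfsg.Agent.Helper76.KleinFourLocal
import Cfsg.Agent.Helper16.Omega
import Cfsg.Agent.Helper16.Integrality

/-!
# The class-sum identity behind Brauer's order formula for Klein four Sylow 2-subgroups
-/

set_option autoImplicit false

namespace Cfsg.Agent.Helper76

open Cfsg

section ClassSum

variable {G V : Type*} [Group G] [Fintype G] [AddCommGroup V] [Module ℂ V]
  [FiniteDimensional ℂ V]

/-- For an irreducible representation, summing the character over a translate of a class gives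
the central character times the character. -/
theorem sum_classInd_mul_character (ρ : Representation ℂ G V) [ρ.IsIrreducible] (g J : G) :
    ∑ y : G, Helper16.classInd J y * ρ.character (g * y) =
      centralChar ρ.character J * ρ.character g := by
  have h1 := Helper16.repSum_eq_omega ρ (Helper16.isClassFunction_classInd J)
  rw [Helper16.omega_classInd _ (Helper16.isClassFunction_character ρ)] at h1
  have h2 : LinearMap.trace ℂ V (ρ g * Helper16.repSum ρ (Helper16.classInd J)) =
      ∑ y : G, Helper16.classInd J y * ρ.character (g * y) := by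
    unfold Helper16.repSum
    rw [Finset.mul_sum, map_sum]
    refine Finset.sum_congr rfl (fun y _ => ?_)
    rw [mul_smul_comm, map_smul, smul_eq_mul, ← map_mul]
    rfl
  rw [← h2, h1, mul_smul_comm, mul_one, map_smul, smul_eq_mul]
  rfl

/-- The same identity for an irreducible character. -/
theorem sum_classInd_mul_irr (ζ : IrrCharacter G) (g J : G) :
    ∑ y : G, Helper16.classInd J y * (ζ : G → ℂ) (g * y) =
      centralChar (ζ : G → ℂ) J * (ζ : G → ℂ) g := by
  obtain ⟨n, ρ, hirr, hρ⟩ := ζ.2
  haveI := hirr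
  have := sum_classInd_mul_character ρ g J
  rw [hρ] at this
  exact this

end ClassSum

section Identity

variable {G : Type*} [Group G] [Fintype G] {M : Ideal AlgInt}

open Classical in
/-- The character-theoretic half of Brauer's order formula: the weighted sum of `ζ(J)/ζ(1)` over
the principal 2-block counts the involutions `y` with `J * y` of even order. -/
theorem kleinFour_class_sum_identity (hM : IsPModular 2 M) (P : Sylow 2 G)
    (hP : Nat.card P = 4) (hexp : ∀ x : P, x * x = 1)
    (hone : ∀ s t : G, orderOf s = 2 → orderOf t = 2 → IsConj s t)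
    (J : G) (hJ : orderOf J = 2) :
    ((Subgroup.centralizer ({J} : Set G)).index : ℂ) *
        ∑ᶠ ζ ∈ principalBlock M G, ((ζ : G → ℂ) J / (ζ : G → ℂ) 1) =
      4 * ((Finset.univ.filter
        (fun y : G => orderOf y = 2 ∧ 2 ∣ orderOf (J * y))).card : ℂ) := by
  haveI : Fintype (IrrCharacter G) := Helper74.irrFintype G
  set Bf := (Set.toFinite (principalBlock M G)).toFinset with hBf
  have hmem : ∀ ζ, ζ ∈ Bf ↔ ζ ∈ principalBlock M G := fun ζ => Set.Finite.mem_toFinset _
  obtain ⟨hval, hcard⟩ := kleinFour_principal_structure hM P hP hexp J hJ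
  have hsq : ∀ ζ ∈ Bf, (ζ : G → ℂ) J * (ζ : G → ℂ) J = 1 := by
    intro ζ hζ
    rcases hval ζ ((hmem ζ).1 hζ) with h | h <;> rw [h] <;> norm_num
  have hBcard : Bf.card = 4 := by
    rw [← hcard, Nat.card_coe_set_eq, Set.ncard_eq_toFinset_card _ (Set.toFinite _)]
  rw [finsum_mem_eq_finite_toFinset_sum _ (Set.toFinite (principalBlock M G))]
  have hind : ∀ y : G, Helper16.classInd J y = if orderOf y = 2 then (1 : ℂ) else 0 := by
    intro y
    unfold Helper16.classInd
    by_cases h : orderOf y = 2
    · rw [if_pos h, if_pos (hone J y hJ h)]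
    · rw [if_neg h, if_neg]
      intro hc
      apply h
      obtain ⟨c, rfl⟩ := isConj_iff.mp hc
      rw [← hJ]
      exact (MulAut.conj c).orderOf_eq J
  have hL : ∑ ζ ∈ Bf, (ζ : G → ℂ) J *
        (∑ y : G, Helper16.classInd J y * (ζ : G → ℂ) (J * y)) =
      ((Subgroup.centralizer ({J} : Set G)).index : ℂ) *
        ∑ ζ ∈ Bf, ((ζ : G → ℂ) J / (ζ : G → ℂ) 1) := by
    rw [Finset.mul_sum]
    refine Finset.sum_congr rfl (fun ζ hζ => ?_)
    rw [sum_classInd_mul_irr]
    unfold centralChar
    have h1 := hsq ζ hζ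
    calc (ζ : G → ℂ) J * (((Subgroup.centralizer ({J} : Set G)).index : ℂ) * (ζ : G → ℂ) J /
          (ζ : G → ℂ) 1 * (ζ : G → ℂ) J)
        = ((Subgroup.centralizer ({J} : Set G)).index : ℂ) *
          (((ζ : G → ℂ) J * (ζ : G → ℂ) J) * (ζ : G → ℂ) J / (ζ : G → ℂ) 1) := by ring
      _ = ((Subgroup.centralizer ({J} : Set G)).index : ℂ) *
          ((ζ : G → ℂ) J / (ζ : G → ℂ) 1) := by rw [h1, one_mul]
  have hinner : ∀ y : G, ∑ ζ ∈ Bf, (ζ : G → ℂ) J *
        (Helper16.classInd J y * (ζ : G → ℂ) (J * y)) =
      if (orderOf y = 2 ∧ 2 ∣ orderOf (J * y)) then (4 : ℂ) else 0 := by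
    intro y
    rw [hind y]
    by_cases h2 : orderOf y = 2
    · rw [if_pos h2]
      by_cases hev : 2 ∣ orderOf (J * y)
      · rw [if_pos ⟨h2, hev⟩]
        have : ∀ ζ ∈ Bf, (ζ : G → ℂ) J * (1 * (ζ : G → ℂ) (J * y)) = 1 := by
          intro ζ hζ
          rw [one_mul, principal_apply_even hM P hP hexp hone J hJ (J * y) hev ζ ((hmem ζ).1 hζ)]
          exact hsq ζ hζ
        rw [Finset.sum_congr rfl this, Finset.sum_const, hBcard]
        norm_num
      · rw [if_neg (fun h => hev h.2)]
        have h := principal_orthogonality_involution_odd_finset hM J hJ (J * y) hev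
        rw [← h]
        refine Finset.sum_congr rfl (fun ζ _ => ?_)
        ring
    · rw [if_neg h2, if_neg (fun h => h2 h.1)]
      simp
  have hR : ∑ ζ ∈ Bf, (ζ : G → ℂ) J *
        (∑ y : G, Helper16.classInd J y * (ζ : G → ℂ) (J * y)) =
      4 * ((Finset.univ.filter
        (fun y : G => orderOf y = 2 ∧ 2 ∣ orderOf (J * y))).card : ℂ) := by
    simp_rw [Finset.mul_sum]
    rw [Finset.sum_comm, Finset.sum_congr rfl (fun y _ => hinner y), Finset.sum_ite,
      Finset.sum_const, Finset.sum_const_zero, add_zero, nsmul_eq_mul, mul_comm]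
  rw [← hL, hR]

end Identity

end Cfsg.Agent.Helper76
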