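import Mathlib
import Cfsg.Agent.Helper76.KleinFourSimple
import Cfsg.Agent.Helper74.DefectZero
import Cfsg.Agent.Helper17.SylowKit
import Cfsg.Agent.S3279
import Cfsg.Agent.S0948
import Cfsg.Agent.S4479

/-!
# A simple group in which the centralizer of an involution has a normal Klein four Sylow
2-subgroup has order 60
-/

set_option autoImplicit false

namespace Cfsg.Agent.Helper76

section Main

variable {G : Type*} [Group G] [Finite G]

/-- Every involution lies in a unique Sylow 2-subgroup. -/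
theorem sylow_unique_of_involution (S₀ : Subgroup G) (x : G)
    (hodd : ¬ 2 ∣ S₀.relIndex (Subgroup.centralizer ({x} : Set G)))
    (hn : (S₀.subgroupOf (Subgroup.centralizer ({x} : Set G))).Normal)
    (S : Sylow 2 G) (hS : (S : Subgroup G) = S₀)
    (hexp : ∀ Q : Sylow 2 G, ∀ g ∈ (Q : Subgroup G), g * g = 1)
    (t : G) (ht : IsConj x t) (Q Q' : Sylow 2 G) (hQ : t ∈ (Q : Subgroup G))
    (hQ' : t ∈ (Q' : Subgroup G)) : Q = Q' := by
  obtain ⟨c, hc⟩ := isConj_iff.1 ht
  have key : ∀ R : Sylow 2 G, t ∈ (R : Subgroup G) → c⁻¹ • R = S := by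
    intro R hR
    apply sylow_eq_of_involution_mem S₀ x hodd hn S hS (c⁻¹ • R) (hexp _)
    rw [Sylow.coe_subgroup_smul, Subgroup.mem_pointwise_smul_iff_inv_smul_mem]
    rw [← hc] at hR
    simpa [MulAut.smul_def] using hR
  have h1 := key Q hQ
  have h2 := key Q' hQ'
  exact smul_left_cancel c⁻¹ (h1.trans h2.symm)

/-- The arithmetic behind the bound on the number of Sylow 2-subgroups. -/
theorem kleinFour_simple_arith (m a b d : ℕ) (e : ℤ) (he : e = 1 ∨ e = -1)
    (ha : 0 < a) (hb : 0 < b) (hd : 0 < d)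
    (hb4 : (4 : ℤ) ∣ (b : ℤ) - e) (hd4 : (4 : ℤ) ∣ (d : ℤ) + 1)
    (hform : 3 * (m : ℤ) * (((a : ℤ) + 1) * ((b : ℤ) + e) * ((d : ℤ) - 1)) =
      8 * ((a : ℤ) * b * d)) :
    m ≤ 5 := by
  by_contra hcon
  have hm : (6 : ℤ) ≤ m := by
    have : 6 ≤ m := by omega
    exact_mod_cast this
  have ha' : (0 : ℤ) < a := by exact_mod_cast ha
  have hb' : (0 : ℤ) < b := by exact_mod_cast hb
  have hd' : (0 : ℤ) < d := by exact_mod_cast hd
  have hB1 : 2 * (b : ℤ) ≤ 3 * ((b : ℤ) + e) := by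
    rcases he with h | h <;> rw [h] at hb4 ⊢ <;> omega
  have hD1 : 2 * (d : ℤ) ≤ 3 * ((d : ℤ) - 1) := by omega
  have hBpos : (0 : ℤ) < (b : ℤ) + e := by
    rcases he with h | h <;> rw [h] at hb4 ⊢ <;> omega
  have hDpos : (0 : ℤ) < (d : ℤ) - 1 := by omega
  have h4 : (2 * (b : ℤ)) * (2 * (d : ℤ)) ≤ (3 * ((b : ℤ) + e)) * (3 * ((d : ℤ) - 1)) :=
    mul_le_mul hB1 hD1 (by positivity) (by positivity)
  have h5 : ((a : ℤ) + 1) * ((2 * (b : ℤ)) * (2 * (d : ℤ))) ≤
      ((a : ℤ) + 1) * ((3 * ((b : ℤ) + e)) * (3 * ((d : ℤ) - 1))) :=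
    mul_le_mul_of_nonneg_left h4 (by positivity)
  have hP : (0 : ℤ) < ((a : ℤ) + 1) * ((b : ℤ) + e) * ((d : ℤ) - 1) := by positivity
  have h6 : 6 * (((a : ℤ) + 1) * ((b : ℤ) + e) * ((d : ℤ) - 1)) ≤
      (m : ℤ) * (((a : ℤ) + 1) * ((b : ℤ) + e) * ((d : ℤ) - 1)) :=
    mul_le_mul_of_nonneg_right hm hP.le
  have hbd : (0 : ℤ) < (b : ℤ) * d := mul_pos hb' hd'
  nlinarith [h5, h6, hbd, hform]

/-- The final divisibility analysis: `m ≤ 5`, `4 ∣ c` and `2 · (3 m c) ∣ m!` force
`3 m c = 60`. -/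
theorem kleinFour_simple_order (m c : ℕ) (hm : m ≤ 5) (hc : 0 < c) (h4 : 4 ∣ c)
    (hdvd : 2 * (3 * m * c) ∣ m.factorial) : 3 * m * c = 60 := by
  obtain ⟨c', rfl⟩ := h4
  have hc' : 0 < c' := by omega
  interval_cases m
  · simp at hdvd
  · have := Nat.le_of_dvd (by decide) hdvd
    simp [Nat.factorial] at this
    omega
  · have := Nat.le_of_dvd (by decide) hdvd
    simp [Nat.factorial] at this
    omega
  · have := Nat.le_of_dvd (by decide) hdvd
    simp [Nat.factorial] at this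
    omega
  · have := Nat.le_of_dvd (by decide) hdvd
    simp [Nat.factorial] at this
    omega
  · have := Nat.le_of_dvd (by decide) hdvd
    simp [Nat.factorial] at this
    omega

variable [IsSimpleGroup G]

/-- A finite simple group in which the centralizer of an involution `x` has a normal Klein four
Sylow 2-subgroup has order 60. -/
theorem card_eq_sixty_of_normal_kleinFour (x : G) (hx : orderOf x = 2)
    (S₀ : Subgroup G) (hle : S₀ ≤ Subgroup.centralizer ({x} : Set G)) (hK : IsKleinFour ↥S₀)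
    (hodd : ¬ 2 ∣ S₀.relIndex (Subgroup.centralizer ({x} : Set G)))
    (hn : (S₀.subgroupOf (Subgroup.centralizer ({x} : Set G))).Normal) :
    Nat.card G = 60 := by
  classical
  haveI : Fact (Nat.Prime 2) := ⟨Nat.prime_two⟩
  have hK4 : Nat.card S₀ = 4 := IsKleinFour.card_four
  -- `S₀` is a Sylow 2-subgroup of `G` and all involutions are conjugate
  have h3 := card_involutions_le_three S₀ _ hK4 hn hodd
  obtain ⟨⟨S, hSC⟩, hconj⟩ := Cfsg.Agent.S3279.result x hx h3
  have hSle : (S : Subgroup G) ≤ S₀ :=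
    le_of_isPGroup_two_of_odd_relIndex S₀ _ hn hodd S S.isPGroup' hSC
  have hS₀p : IsPGroup 2 S₀ := IsPGroup.of_card (n := 2) (by rw [hK4]; norm_num)
  have hS : (S : Subgroup G) = S₀ := (S.is_maximal' hS₀p hSle).symm
  have hxS₀ : x ∈ S₀ := involution_mem_of_kleinFour S₀ x hx hodd hn
  have hxS : x ∈ (S : Subgroup G) := hS ▸ hxS₀
  -- the order of `G`
  set g₀ := (S : Subgroup G).index with hg₀def
  have hScard : Nat.card (S : Subgroup G) = 4 := by rw [hS]; exact hK4
  have hG : Nat.card G = 4 * g₀ := by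
    rw [← hScard]; exact ((S : Subgroup G).card_mul_index).symm
  have hg₀ : Odd g₀ := by
    have := S.not_dvd_index
    exact Nat.odd_iff.2 (by omega)
  have hGpos : 0 < Nat.card G := Nat.card_pos
  have hnc : ¬ ∃ N : Subgroup G, N.Normal ∧ Nat.card N = g₀ := by
    rintro ⟨N, hN, hNc⟩
    rcases hN.eq_bot_or_eq_top with h | h
    · rw [h, Subgroup.card_bot] at hNc
      have hz : Nat.card (Subgroup.zpowers x) = 2 := by rw [Nat.card_zpowers, hx]
      have hidx : (Subgroup.zpowers x).index = 2 := by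
        have := (Subgroup.zpowers x).card_mul_index
        rw [hz, hG, ← hNc] at this
        omega
      have hnorm : (Subgroup.zpowers x).Normal := Subgroup.normal_of_index_eq_two hidx
      rcases hnorm.eq_bot_or_eq_top with h' | h'
      · rw [h', Subgroup.card_bot] at hz; omega
      · rw [h', Subgroup.index_top] at hidx; omega
    · rw [h, Subgroup.card_top] at hNc
      omega
  -- the principal 2-block
  obtain ⟨M, hM⟩ := Cfsg.Agent.Helper74.exists_isPModular 2 Nat.prime_two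
  have hKS : IsKleinFour ↥(S : Subgroup G) := by rw [hS]; exact hK
  obtain ⟨ζ₂, ζ₃, ζ₄, ε, hε, hζ₂, hζ₃, h23, h24, h34, hB, hval, hd2, hd3, hd4, hrel⟩ :=
    Cfsg.Agent.S0948.result M hM S hKS hconj
  obtain ⟨hv2, hv3, hv4⟩ := hval x hx
  have hζ₄ : (ζ₄ : G → ℂ) ≠ (fun _ => 1) := by
    intro h
    rw [h] at hv4
    norm_num at hv4
  have hform := Cfsg.Agent.S4479.result M hM g₀ hg₀ hG hnc S x hxS hx ζ₂ ζ₃ ζ₄ 1 ε (-1) hB
    ⟨hζ₂, hζ₃, hζ₄, h23, h24, h34⟩ ⟨Or.inl rfl, hε, Or.inr rfl⟩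
    ⟨by rw [hv2]; norm_num, hv3, by rw [hv4]; norm_num⟩
  -- `C_G(S) = C_G(x)`
  have hcent : Subgroup.centralizer ((S : Subgroup G) : Set G) =
      Subgroup.centralizer ({x} : Set G) := by
    rw [hS]; exact centralizer_eq_of_kleinFour S₀ x hx hle hK hodd hn
  rw [hcent] at hform
  -- counting involutions
  have hcardQ : ∀ Q : Sylow 2 G, Nat.card Q = 4 := fun Q => orderFour_sylow_card g₀ hg₀ hG Q
  have hexpQ : ∀ Q : Sylow 2 G, ∀ g ∈ (Q : Subgroup G), g * g = 1 := by
    intro Q g hg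
    exact congrArg Subtype.val (orderFour_sylow_mul_self g₀ hg₀ hG hnc Q ⟨g, hg⟩)
  have huniq : ∀ t : G, orderOf t = 2 → ∀ Q Q' : Sylow 2 G,
      t ∈ (Q : Subgroup G) → t ∈ (Q' : Subgroup G) → Q = Q' :=
    fun t ht Q Q' hQ hQ' =>
      sylow_unique_of_involution S₀ x hodd hn S hS hexpQ t (hconj x t hx ht) Q Q' hQ hQ'
  have hcount := card_involutions_eq_three_mul_card_sylow hcardQ hexpQ huniq
  have hidx := card_involutions_eq_index x hx hconj
  rw [hidx] at hcount
  -- the permutation action on the Sylow 2-subgroups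
  have hmN : Nat.card (Sylow 2 G) = (Subgroup.normalizer ((S : Subgroup G) : Set G)).index :=
    Sylow.card_eq_index_normalizer S
  have hg₀1 : g₀ ≠ 1 := by
    intro h
    exact hnc ⟨⊥, inferInstance, by rw [Subgroup.card_bot]; exact h.symm⟩
  have hnonab : ¬ IsMulCommutative G := by
    apply Helper17.not_comm_of_simple_of_not_prime
    rw [hG]
    intro hp
    have h4 : (4 : ℕ) ∣ 4 * g₀ := Dvd.intro _ rfl
    rcases (Nat.dvd_prime hp).1 h4 with h | h <;> omega
  have hNtop : Subgroup.normalizer ((S : Subgroup G) : Set G) ≠ ⊤ :=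
    Helper17.normalizer_ne_top_of_simple (S : Subgroup G) (by rw [hScard]; norm_num)
      (by rw [hScard, hG]; omega)
  have hdvd := Helper17.two_mul_card_dvd_factorial_index hnonab _ hNtop
  rw [← hmN] at hdvd
  -- arithmetic
  set m := Nat.card (Sylow 2 G) with hmdef
  set c := Nat.card (Subgroup.centralizer ({x} : Set G)) with hcdef
  set a := Cfsg.charDegree (ζ₂ : G → ℂ) with hadef
  set b := Cfsg.charDegree (ζ₃ : G → ℂ) with hbdef
  set d := Cfsg.charDegree (ζ₄ : G → ℂ) with hddef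
  have hapos : 0 < a := Helper79.irr_charDegree_pos ζ₂
  have hbpos : 0 < b := Helper79.irr_charDegree_pos ζ₃
  have hdpos : 0 < d := Helper79.irr_charDegree_pos ζ₄
  have hcpos : 0 < c := Nat.card_pos
  have hGc : Nat.card G = 3 * m * c := by
    rw [← hcount]
    exact ((Subgroup.centralizer ({x} : Set G)).index_mul_card).symm
  have h4c : 4 ∣ c := by
    rw [← hK4]
    exact Subgroup.card_dvd_of_le hle
  have hBne : (b : ℤ) + ε ≠ 0 := by
    have : (0 : ℤ) < b := by exact_mod_cast hbpos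
    rcases hε with h | h <;> rw [h] at hd3 ⊢ <;> omega
  have hDne : (d : ℤ) - 1 ≠ 0 := by
    have : (0 : ℤ) < d := by exact_mod_cast hdpos
    omega
  have hformZ : 3 * (m : ℤ) * (((a : ℤ) + 1) * ((b : ℤ) + ε) * ((d : ℤ) - 1)) =
      8 * ((a : ℤ) * b * d) := by
    have hcQ : (c : ℚ) ≠ 0 := by exact_mod_cast hcpos.ne'
    have hA : ((a : ℚ) + 1) ≠ 0 := by positivity
    have hB' : ((b : ℚ) + ε) ≠ 0 := by exact_mod_cast hBne
    have hD' : ((d : ℚ) - 1) ≠ 0 := by exact_mod_cast hDne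
    rw [hGc] at hform
    push_cast at hform
    have hQ : 3 * (m : ℚ) * (((a : ℚ) + 1) * ((b : ℚ) + ε) * ((d : ℚ) - 1)) =
        8 * ((a : ℚ) * b * d) := by
      have hform' : 3 * (m : ℚ) * c = 8 * ((a : ℚ) * b * d /
          (((a : ℚ) + 1) * ((b : ℚ) + ε) * ((d : ℚ) + -1))) * (c : ℚ) ^ 3 / (c : ℚ) ^ 2 := hform
      have hD'' : ((d : ℚ) + -1) ≠ 0 := by
        rw [← sub_eq_add_neg]; exact hD'
      field_simp at hform'
      linear_combination hform'
    exact_mod_cast hQ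
  have hm5 : m ≤ 5 := kleinFour_simple_arith m a b d ε hε hapos hbpos hdpos hd3 hd4 hformZ
  rw [hGc] at hdvd ⊢
  exact kleinFour_simple_order m c hm5 hcpos h4c hdvd

end Main

end Cfsg.Agent.Helper76
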