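import Mathlib

/-!
# Ward's theorem, piece (W1): Frobenius generation (abstract `MulAut` form)

Requested by helper21 (board #3951).  Self-contained, Mathlib only.
-/

set_option autoImplicit false

namespace Cfsg.Agent.Helper76.WardW1

open Finset

variable {W : Type*} [CommGroup W]

/-- `ξ^i τ^m = τ^(m k^i) ξ^i` from `ξ τ ξ⁻¹ = τ^k`. -/
theorem xi_pow_mul_tau_pow (τ ξ : MulAut W) {k : ℕ} (hrel : ξ * τ * ξ⁻¹ = τ ^ k) (i m : ℕ) :
    ξ ^ i * τ ^ m = τ ^ (m * k ^ i) * ξ ^ i := by
  have h1 : ξ * τ = τ ^ k * ξ := by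
    rw [← hrel]; group
  have h2 : ∀ m : ℕ, ξ * τ ^ m = τ ^ (m * k) * ξ := by
    intro m
    induction m with
    | zero => simp
    | succ m ih =>
      rw [pow_succ, ← mul_assoc, ih, mul_assoc, h1, ← mul_assoc, ← pow_add]
      congr 2; ring
  induction i generalizing m with
  | zero => simp
  | succ i ih =>
    rw [pow_succ', mul_assoc, ih, ← mul_assoc, h2, mul_assoc, ← pow_succ']
    congr 2; ring

/-- Reindexing a product over `range s` by multiplication with a unit mod `s`. -/
theorem prod_range_mul_mod {M : Type*} [CommMonoid M] {s c : ℕ} (hs : 0 < s) (hc : c.Coprime s)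
    (g : ℕ → M) : ∏ j ∈ range s, g ((j * c) % s) = ∏ j ∈ range s, g j := by
  have hinj : Set.InjOn (fun j => (j * c) % s) (range s : Finset ℕ) := by
    intro a ha b hb hab
    simp only [coe_range, Set.mem_Iio] at ha hb
    have h1 : a * c ≡ b * c [MOD s] := hab
    have h2 : a ≡ b [MOD s] := Nat.ModEq.cancel_right_of_coprime (Nat.Coprime.symm hc) h1
    exact Nat.ModEq.eq_of_lt_of_lt h2 ha hb
  have himg : (range s).image (fun j => (j * c) % s) = range s := by
    apply Finset.eq_of_subset_of_card_le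
    · intro x hx
      rw [mem_image] at hx
      obtain ⟨j, -, rfl⟩ := hx
      exact mem_range.mpr (Nat.mod_lt _ hs)
    · rw [Finset.card_image_of_injOn hinj]
  calc ∏ j ∈ range s, g ((j * c) % s) = ∏ x ∈ (range s).image (fun j => (j * c) % s), g x := by
        rw [Finset.prod_image hinj]
    _ = ∏ j ∈ range s, g j := by rw [himg]

variable [Finite W]

/-- (W1) Frobenius generation. -/
theorem frob_gen {s p k : ℕ} (hs : s.Prime) (hp : p.Prime)
    (τ ξ : MulAut W) (hτ : τ ^ s = 1) (hξ : ξ ^ p = 1) (hrel : ξ * τ * ξ⁻¹ = τ ^ k)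
    (hk : ¬ k ≡ 1 [MOD s]) (hfix : ∀ w : W, τ w = w → w = 1)
    (hcop : (Nat.card W).Coprime s) (Y : Subgroup W)
    (hY1 : ∀ w : W, (∏ i ∈ Finset.range p, (ξ ^ i) w) ∈ Y) (hY2 : ∀ y ∈ Y, τ y ∈ Y) :
    Y = ⊤ := by
  classical
  rcases subsingleton_or_nontrivial W with hW | hW
  · exact Subsingleton.elim _ _
  -- τ has order exactly s
  have hτne : τ ≠ 1 := by
    intro h
    obtain ⟨w, hw⟩ := exists_ne (1 : W)
    exact hw (hfix w (by rw [h]; rfl))
  have hord : orderOf τ = s := by
    have hdvd : orderOf τ ∣ s := orderOf_dvd_of_pow_eq_one hτ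
    rcases (Nat.dvd_prime hs).mp hdvd with h | h
    · exact absurd (orderOf_eq_one_iff.mp h) hτne
    · exact h
  -- k^p ≡ 1 mod s
  have hkp : k ^ p ≡ 1 [MOD s] := by
    have h := xi_pow_mul_tau_pow τ ξ hrel p 1
    rw [hξ, one_mul, mul_one, one_mul, pow_one] at h
    have h' : τ ^ (k ^ p) = τ ^ 1 := by rw [pow_one]; exact h.symm
    have := pow_eq_pow_iff_modEq.mp h'
    rwa [hord] at this
  -- k^i ≢ 1 for 0 < i < p
  have hki : ∀ i : ℕ, 0 < i → i < p → ¬ k ^ i ≡ 1 [MOD s] := by
    intro i hi0 hip hcon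
    have hcop' : i.Coprime p := by
      rw [Nat.coprime_comm]
      exact (Nat.Prime.coprime_iff_not_dvd hp).mpr (Nat.not_dvd_of_pos_of_lt hi0 hip)
    obtain ⟨a, -, ha⟩ := Nat.exists_mul_mod_eq_one_of_coprime hcop' hp.one_lt
    have hdecomp : i * a = p * (i * a / p) + 1 := by
      have := Nat.div_add_mod (i * a) p
      rw [ha] at this
      exact this.symm
    have h1 : k ^ (i * a) ≡ 1 [MOD s] := by
      rw [pow_mul]
      have := Nat.ModEq.pow a hcon
      rwa [one_pow] at this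
    have h2 : k ^ (i * a) ≡ k [MOD s] := by
      rw [hdecomp, pow_succ, pow_mul]
      have := (Nat.ModEq.pow (i * a / p) hkp).mul_right k
      rwa [one_pow, one_mul] at this
    exact hk (h2.symm.trans h1)
  -- the norm T(v) is trivial
  have hT : ∀ v : W, ∏ j ∈ range s, (τ ^ j) v = 1 := by
    intro v
    apply hfix
    rw [map_prod]
    have hshift : ∀ j, τ ((τ ^ j) v) = (τ ^ (j + 1)) v := by
      intro j; rw [pow_succ']; rfl
    simp_rw [hshift]
    have e1 := Finset.prod_range_succ' (fun j => (τ ^ j) v) s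
    have e2 := Finset.prod_range_succ (fun j => (τ ^ j) v) s
    rw [e1] at e2
    simp only [pow_zero, hτ, MulAut.one_apply] at e2
    exact mul_right_cancel e2
  -- key: w^s ∈ Y for all w
  have hpow : ∀ w : W, w ^ s ∈ Y := by
    intro w
    have hYpow : ∀ (j : ℕ) (y : W), y ∈ Y → (τ ^ j) y ∈ Y := by
      intro j
      induction j with
      | zero => intro y hy; simpa using hy
      | succ j ih => intro y hy; rw [pow_succ']; exact hY2 _ (ih y hy)
    have hZ : (∏ j ∈ range s, (τ ^ j) (∏ i ∈ range p, (ξ ^ i) ((τ ^ ((s - 1) * j)) w))) ∈ Y :=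
      Subgroup.prod_mem _ (fun j _ => hYpow j _ (hY1 _))
    have hcomp : ∀ j i : ℕ, (τ ^ j) ((ξ ^ i) ((τ ^ ((s - 1) * j)) w)) =
        (τ ^ (j * (1 + (s - 1) * k ^ i))) ((ξ ^ i) w) := by
      intro j i
      have h := xi_pow_mul_tau_pow τ ξ hrel i ((s - 1) * j)
      have h3 : (τ ^ j) ((ξ ^ i) ((τ ^ ((s - 1) * j)) w)) = (τ ^ j * (ξ ^ i * τ ^ ((s - 1) * j))) w := rfl
      rw [h3, h, ← mul_assoc, ← pow_add]
      have : j + (s - 1) * j * k ^ i = j * (1 + (s - 1) * k ^ i) := by ring
      rw [this]; rfl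
    have hZeq : (∏ j ∈ range s, (τ ^ j) (∏ i ∈ range p, (ξ ^ i) ((τ ^ ((s - 1) * j)) w))) = w ^ s := by
      simp_rw [map_prod, hcomp]
      rw [Finset.prod_comm]
      obtain ⟨p', rfl⟩ : ∃ p', p = p' + 1 := ⟨p - 1, (Nat.succ_pred_eq_of_pos hp.pos).symm⟩
      rw [Finset.prod_range_succ']
      have hrest : ∏ i ∈ range p', ∏ j ∈ range s, (τ ^ (j * (1 + (s - 1) * k ^ (i + 1)))) ((ξ ^ (i + 1)) w) = 1 := by
        apply Finset.prod_eq_one
        intro i hi
        have hi' : i + 1 < p' + 1 := Nat.succ_lt_succ (mem_range.mp hi)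
        set c := 1 + (s - 1) * k ^ (i + 1) with hc
        have hccop : c.Coprime s := by
          rw [Nat.coprime_comm]
          apply (Nat.Prime.coprime_iff_not_dvd hs).mpr
          intro hdvd
          apply hki (i + 1) (Nat.succ_pos i) hi'
          -- c + k^(i+1) = 1 + s * k^(i+1)
          have hsum : c + k ^ (i + 1) = 1 + s * k ^ (i + 1) := by
            rw [hc]
            have hs1 : s - 1 + 1 = s := Nat.succ_pred_eq_of_pos hs.pos
            calc 1 + (s - 1) * k ^ (i + 1) + k ^ (i + 1) = 1 + (s - 1 + 1) * k ^ (i + 1) := by ring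
              _ = 1 + s * k ^ (i + 1) := by rw [hs1]
          have h0 : c ≡ 0 [MOD s] := (Nat.modEq_zero_iff_dvd).mpr hdvd
          have h1 : c + k ^ (i + 1) ≡ 0 + k ^ (i + 1) [MOD s] := h0.add_right _
          have h2 : 1 + s * k ^ (i + 1) ≡ 1 [MOD s] := by
            have : s * k ^ (i + 1) ≡ 0 [MOD s] := (Nat.modEq_zero_iff_dvd).mpr (dvd_mul_right _ _)
            simpa using this.add_left 1
          rw [hsum, zero_add] at h1
          exact h1.symm.trans h2
        have hmod : ∀ j : ℕ, (τ ^ (j * c)) ((ξ ^ (i + 1)) w) = (τ ^ ((j * c) % s)) ((ξ ^ (i + 1)) w) := by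
          intro j
          have : τ ^ (j * c) = τ ^ ((j * c) % s) := by
            rw [← hord]; exact (pow_mod_orderOf τ (j * c)).symm
          rw [this]
        simp_rw [hmod]
        rw [prod_range_mul_mod hs.pos hccop (fun j => (τ ^ j) ((ξ ^ (i + 1)) w))]
        exact hT _
      rw [hrest, one_mul]
      have h0 : ∀ j : ℕ, (τ ^ (j * (1 + (s - 1) * k ^ 0))) ((ξ ^ 0) w) = w := by
        intro j
        have hs1 : 1 + (s - 1) = s := by have := Nat.succ_pred_eq_of_pos hs.pos; omega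
        rw [pow_zero, mul_one, hs1, mul_comm, pow_mul, hτ, one_pow]; rfl
      simp_rw [h0]
      rw [Finset.prod_const, card_range]
    rw [← hZeq]; exact hZ
  -- coprimality
  rw [eq_top_iff]
  intro w _
  obtain ⟨w', hw'⟩ := (powCoprime hcop).surjective w
  have : w' ^ s = w := hw'
  rw [← this]
  exact hpow w'

end Cfsg.Agent.Helper76.WardW1
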