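import Mathlib
import Cfsg.Agent.Helper99.USpA

/-!
# The Cayley-type correspondence between `Y ^ p = 0` and `u ^ p = 1` in odd characteristic `p`
(piece (N3) for helper99, board #4578)

`cay p Y = Y/2 + (1 + Y²/4)^((p+1)/2)` and `yOf p u = u - u^(p-1)` are mutually inverse bijections
between nilpotent `Y` (`Y ^ p = 0`) and unipotent `u` (`u ^ p = 1`), compatible with a bilinear
form (skew `Y` ↔ isometry `u`) and with intertwining maps.
-/

set_option autoImplicit false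

namespace Cfsg.Agent.Helper76.USpCay

open Module Cfsg.Agent.Helper99.SpStruct Cfsg.Agent.Helper99.USp

universe u v w

variable {F : Type u} [Field F] {V : Type v} [AddCommGroup V] [Module F V]

noncomputable def cay (p : ℕ) (Y : Module.End F V) : Module.End F V :=
  (2⁻¹ : F) • Y + (1 + (4⁻¹ : F) • Y ^ 2) ^ ((p + 1) / 2)

def yOf (p : ℕ) (u : Module.End F V) : Module.End F V := u - u ^ (p - 1)

/-! ### generalities in an `F`-algebra of characteristic `p` -/

section Alg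

theorem natCast_eq_zero_alg (F : Type u) [Field F] {A : Type*} [Ring A] [Algebra F A] (p : ℕ)
    [CharP F p] : ((p : ℕ) : A) = 0 := by
  rw [← map_natCast (algebraMap F A), CharP.cast_eq_zero, map_zero]

theorem add_pow_alg (F : Type u) [Field F] {A : Type*} [Ring A] [Algebra F A] (p : ℕ)
    [Fact p.Prime] [CharP F p] {x y : A} (h : Commute x y) : (x + y) ^ p = x ^ p + y ^ p := by
  obtain ⟨r, hr⟩ := h.exists_add_pow_prime_eq (Fact.out : p.Prime)
  rw [hr, natCast_eq_zero_alg F p]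
  simp

theorem sub_pow_alg (F : Type u) [Field F] {A : Type*} [Ring A] [Algebra F A] (p : ℕ)
    [Fact p.Prime] [CharP F p] (hp : p ≠ 2) {x y : A} (h : Commute x y) :
    (x - y) ^ p = x ^ p - y ^ p := by
  have hodd : Odd p := (Fact.out : p.Prime).odd_of_ne_two hp
  rw [sub_eq_add_neg, add_pow_alg F p h.neg_right, hodd.neg_pow, ← sub_eq_add_neg]

theorem two_ne_zero_of_char (F : Type u) [Field F] (p : ℕ) [Fact p.Prime] [CharP F p]
    (hp : p ≠ 2) : (2 : F) ≠ 0 := by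
  intro h
  have h2 : ((2 : ℕ) : F) = 0 := by exact_mod_cast h
  rw [CharP.cast_eq_zero_iff F p 2] at h2
  have := Nat.le_of_dvd (by norm_num) h2
  have hge := (Fact.out : p.Prime).two_le
  omega

theorem two_pow_char (F : Type u) [Field F] (p : ℕ) [Fact p.Prime] [CharP F p] :
    (2 : F) ^ p = 2 := by
  have h : (2 : F) = 1 + 1 := by norm_num
  rw [h, add_pow_char (1 : F) 1 p, one_pow]

theorem half_step (p : ℕ) [Fact p.Prime] (hp : p ≠ 2) :
    ∃ k : ℕ, (p + 1) / 2 = k ∧ 2 * k = p + 1 := by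
  obtain ⟨m, hm⟩ := (Fact.out : p.Prime).odd_of_ne_two hp
  refine ⟨m + 1, ?_, ?_⟩ <;> omega

variable (F) {A : Type*} [Ring A] [Algebra F A] (p : ℕ) [Fact p.Prime] [CharP F p]

/-- `(1 + Y²/4)^p = 1` when `Y^p = 0` -/
theorem Z_pow {Y : A} (hY : Y ^ p = 0) : (1 + (4⁻¹ : F) • Y ^ 2) ^ p = 1 := by
  rw [add_pow_alg F p (Commute.one_left _), one_pow, smul_pow, ← pow_mul, mul_comm 2 p, pow_mul, hY]
  simp [(Fact.out : p.Prime).ne_zero]

theorem comm_Y_s (Y : A) (k : ℕ) : Commute ((2⁻¹ : F) • Y) ((1 + (4⁻¹ : F) • Y ^ 2) ^ k) := by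
  have h1 : Commute Y (1 + (4⁻¹ : F) • Y ^ 2) :=
    (Commute.one_right Y).add_right (((Commute.refl Y).pow_right 2).smul_right _)
  exact (h1.pow_right k).smul_left _

/-- the key identity `(Y/2 + s)(s - Y/2) = 1` -/
theorem cay_mul_inv (hp : p ≠ 2) {Y : A} (hY : Y ^ p = 0) :
    ((2⁻¹ : F) • Y + (1 + (4⁻¹ : F) • Y ^ 2) ^ ((p + 1) / 2)) *
      ((1 + (4⁻¹ : F) • Y ^ 2) ^ ((p + 1) / 2) - (2⁻¹ : F) • Y) = 1 := by
  obtain ⟨k, hk1, hk2⟩ := half_step p hp
  rw [hk1]
  set Z : A := 1 + (4⁻¹ : F) • Y ^ 2 with hZ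
  set s : A := Z ^ k with hs
  set h : A := (2⁻¹ : F) • Y with hh
  have hc : h * s = s * h := (comm_Y_s F Y k).eq
  have hss : s * s = Z := by
    rw [hs, ← pow_add, ← two_mul, hk2, pow_succ, Z_pow F p hY, one_mul]
  have hhh : h * h = (4⁻¹ : F) • Y ^ 2 := by
    rw [hh, smul_mul_smul_comm, ← mul_inv, pow_two]
    norm_num
  calc (h + s) * (s - h) = s * s - h * h + (h * s - s * h) := by noncomm_ring
    _ = 1 := by rw [hss, hhh, hc, sub_self, add_zero, hZ, add_sub_cancel_right]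

theorem inv_mul_cay (hp : p ≠ 2) {Y : A} (hY : Y ^ p = 0) :
    ((1 + (4⁻¹ : F) • Y ^ 2) ^ ((p + 1) / 2) - (2⁻¹ : F) • Y) *
      ((2⁻¹ : F) • Y + (1 + (4⁻¹ : F) • Y ^ 2) ^ ((p + 1) / 2)) = 1 := by
  have hc := (comm_Y_s F Y ((p + 1) / 2)).eq
  have h0 := cay_mul_inv F p hp hY
  generalize (1 + (4⁻¹ : F) • Y ^ 2) ^ ((p + 1) / 2) = s at hc h0 ⊢
  generalize (2⁻¹ : F) • Y = h at hc h0 ⊢
  calc (s - h) * (h + s) = (h + s) * (s - h) + 2 • (s * h - h * s) := by noncomm_ring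
    _ = 1 := by rw [hc, sub_self, smul_zero, add_zero, h0]

theorem cay_pow_alg (hp : p ≠ 2) {Y : A} (hY : Y ^ p = 0) :
    ((2⁻¹ : F) • Y + (1 + (4⁻¹ : F) • Y ^ 2) ^ ((p + 1) / 2)) ^ p = 1 := by
  rw [add_pow_alg F p (comm_Y_s F Y _), smul_pow, hY, smul_zero, zero_add, ← pow_mul, mul_comm,
    pow_mul, Z_pow F p hY, one_pow]

theorem yOf_cay_alg (hp : p ≠ 2) {Y : A} (hY : Y ^ p = 0) :
    ((2⁻¹ : F) • Y + (1 + (4⁻¹ : F) • Y ^ 2) ^ ((p + 1) / 2)) -
      ((2⁻¹ : F) • Y + (1 + (4⁻¹ : F) • Y ^ 2) ^ ((p + 1) / 2)) ^ (p - 1) = Y := by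
  set U : A := (2⁻¹ : F) • Y + (1 + (4⁻¹ : F) • Y ^ 2) ^ ((p + 1) / 2) with hU
  set W : A := (1 + (4⁻¹ : F) • Y ^ 2) ^ ((p + 1) / 2) - (2⁻¹ : F) • Y with hW
  have h1 : U * W = 1 := cay_mul_inv F p hp hY
  have h2 : U ^ p = 1 := cay_pow_alg F p hp hY
  have hp1 : p - 1 + 1 = p := Nat.sub_add_cancel (Fact.out : p.Prime).one_le
  have h3 : U ^ (p - 1) = W := by
    calc U ^ (p - 1) = U ^ (p - 1) * (U * W) := by rw [h1, mul_one]
      _ = U ^ (p - 1 + 1) * W := by rw [pow_succ, mul_assoc]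
      _ = W := by rw [hp1, h2, one_mul]
  rw [h3, hU, hW]
  have h2ne := two_ne_zero_of_char F p hp
  have : (2⁻¹ : F) • Y + (2⁻¹ : F) • Y = Y := by
    rw [← add_smul]
    have : (2⁻¹ : F) + 2⁻¹ = 1 := by field_simp; norm_num
    rw [this, one_smul]
  calc (2⁻¹ : F) • Y + (1 + (4⁻¹ : F) • Y ^ 2) ^ ((p + 1) / 2) -
        ((1 + (4⁻¹ : F) • Y ^ 2) ^ ((p + 1) / 2) - (2⁻¹ : F) • Y)
      = (2⁻¹ : F) • Y + (2⁻¹ : F) • Y := by abel
    _ = Y := this

omit [Fact p.Prime] in
theorem pow_pred_pow {x : A} (hx : x ^ p = 1) : (x ^ (p - 1)) ^ p = 1 := by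
  rw [← pow_mul, mul_comm, pow_mul, hx, one_pow]

theorem yOf_pow_alg (hp : p ≠ 2) {x : A} (hx : x ^ p = 1) :
    (x - x ^ (p - 1)) ^ p = 0 ∧ (2 : F) ≠ 0 := by
  refine ⟨?_, two_ne_zero_of_char F p hp⟩
  rw [sub_pow_alg F p hp ((Commute.refl x).pow_right _), hx, pow_pred_pow p hx, sub_self]

theorem cay_yOf_alg (hp : p ≠ 2) {x : A} (hx : x ^ p = 1) :
    (2⁻¹ : F) • (x - x ^ (p - 1)) +
      (1 + (4⁻¹ : F) • (x - x ^ (p - 1)) ^ 2) ^ ((p + 1) / 2) = x := by
  obtain ⟨k, hk1, hk2⟩ := half_step p hp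
  rw [hk1]
  have h2ne := two_ne_zero_of_char F p hp
  have hp1 : p - 1 + 1 = p := Nat.sub_add_cancel (Fact.out : p.Prime).one_le
  set y : A := x ^ (p - 1) with hy
  have hxy : x * y = 1 := by rw [hy, ← pow_succ', hp1, hx]
  have hyx : y * x = 1 := by rw [hy, ← pow_succ, hp1, hx]
  have hyp : y ^ p = 1 := pow_pred_pow p hx
  have hcomm : Commute x y := (Commute.refl x).pow_right _
  set t : A := (2⁻¹ : F) • (x + y) with ht
  have h4 : (1 : A) + 1 + 1 + 1 = (4 : F) • (1 : A) := by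
    have : (4 : F) = 1 + 1 + 1 + 1 := by norm_num
    rw [this, add_smul, add_smul, add_smul, one_smul]
  have hsq1 : (x - y) ^ 2 = x * x + y * y - (1 + 1) := by
    rw [pow_two]
    calc (x - y) * (x - y) = x * x + y * y - (x * y + y * x) := by noncomm_ring
      _ = x * x + y * y - (1 + 1) := by rw [hxy, hyx]
  have hsq2 : (x + y) * (x + y) = x * x + y * y + (1 + 1) := by
    calc (x + y) * (x + y) = x * x + y * y + (x * y + y * x) := by noncomm_ring
      _ = x * x + y * y + (1 + 1) := by rw [hxy, hyx]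
  have h4ne : (4 : F) ≠ 0 := by
    have : (4 : F) = 2 * 2 := by norm_num
    rw [this]
    exact mul_ne_zero h2ne h2ne
  have key : (4⁻¹ : F) • ((1 : A) + 1 + 1 + 1) = 1 := by
    rw [h4, smul_smul, inv_mul_cancel₀ h4ne, one_smul]
  have hZ : 1 + (4⁻¹ : F) • (x - y) ^ 2 = t * t := by
    have hc : (2⁻¹ : F) * 2⁻¹ = 4⁻¹ := by rw [← mul_inv]; norm_num
    rw [ht, smul_mul_smul_comm, hc, hsq1, hsq2]
    calc 1 + (4⁻¹ : F) • (x * x + y * y - (1 + 1))
        = (4⁻¹ : F) • ((1 : A) + 1 + 1 + 1) + (4⁻¹ : F) • (x * x + y * y - (1 + 1)) := by rw [key]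
      _ = (4⁻¹ : F) • (((1 : A) + 1 + 1 + 1) + (x * x + y * y - (1 + 1))) :=
          (smul_add (4⁻¹ : F) ((1 : A) + 1 + 1 + 1) (x * x + y * y - (1 + 1))).symm
      _ = (4⁻¹ : F) • (x * x + y * y + (1 + 1)) := by
          congr 1
          abel
  have htp : t ^ p = 1 := by
    rw [ht, smul_pow, add_pow_alg F p hcomm, hx, hyp, inv_pow, two_pow_char F p]
    have : (1 : A) + 1 = (2 : F) • (1 : A) := by
      have : (2 : F) = 1 + 1 := by norm_num
      rw [this, add_smul, one_smul]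
    rw [this, smul_smul, inv_mul_cancel₀ h2ne, one_smul]
  have hs : (1 + (4⁻¹ : F) • (x - y) ^ 2) ^ k = t := by
    rw [hZ, ← pow_two, ← pow_mul, hk2, pow_succ, htp, one_mul]
  rw [hs, ht, ← smul_add]
  have : x - y + (x + y) = (2 : F) • x := by
    have h2 : (2 : F) = 1 + 1 := by norm_num
    rw [h2, add_smul, one_smul]
    abel
  rw [this, smul_smul, inv_mul_cancel₀ h2ne, one_smul]

end Alg

/-! ### the statements for endomorphisms -/

section Main

variable (p : ℕ) [Fact p.Prime] [CharP F p] (hp : p ≠ 2)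
include hp

theorem cay_pow (Y : Module.End F V) (hY : Y ^ p = 0) : (cay p Y) ^ p = 1 :=
  cay_pow_alg F p hp hY

theorem yOf_cay (Y : Module.End F V) (hY : Y ^ p = 0) : yOf p (cay p Y) = Y :=
  yOf_cay_alg F p hp hY

theorem yOf_pow (u : Module.End F V) (hu : u ^ p = 1) : (yOf p u) ^ p = 0 :=
  (yOf_pow_alg F p hp hu).1

theorem cay_yOf (u : Module.End F V) (hu : u ^ p = 1) : cay p (yOf p u) = u :=
  cay_yOf_alg F p hp hu

theorem skew_yOf (B : LinearMap.BilinForm F V) (u : Module.End F V) (hu : u ^ p = 1)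
    (hiso : ∀ x y, B (u x) (u y) = B x y) : Skew B (yOf p u) := by
  have hp1 : p - 1 + 1 = p := Nat.sub_add_cancel (Fact.out : p.Prime).one_le
  set w : Module.End F V := u ^ (p - 1) with hw
  have huw : ∀ x, u (w x) = x := by
    intro x
    have : u * w = 1 := by rw [hw, ← pow_succ', hp1, hu]
    rw [← Module.End.mul_apply, this, Module.End.one_apply]
  have h1 : ∀ x y, B (u x) y = B x (w y) := by
    intro x y
    rw [← hiso x (w y), huw]
  have h2 : ∀ x y, B (w x) y = B x (u y) := by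
    intro x y
    rw [← hiso (w x) y, huw]
  intro x y
  show B ((u - w) x) y = - B x ((u - w) y)
  rw [LinearMap.sub_apply, LinearMap.sub_apply, map_sub, LinearMap.sub_apply, map_sub, h1, h2]
  ring

theorem iso_cay (B : LinearMap.BilinForm F V) (Y : Module.End F V) (hY : Y ^ p = 0)
    (hs : Skew B Y) : ∀ x y, B (cay p Y x) (cay p Y y) = B x y := by
  -- self-adjointness of `Z = 1 + Y²/4` and its powers
  set Z : Module.End F V := 1 + (4⁻¹ : F) • Y ^ 2 with hZ
  have hZsa : ∀ x y, B (Z x) y = B x (Z y) := by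
    intro x y
    have hY2 : ∀ x y, B ((Y ^ 2) x) y = B x ((Y ^ 2) y) := by
      intro x y
      rw [hs.pow_left 2]
      norm_num
    rw [hZ, LinearMap.add_apply, LinearMap.add_apply, Module.End.one_apply, Module.End.one_apply,
      LinearMap.smul_apply, LinearMap.smul_apply, map_add, LinearMap.add_apply, map_add, map_smul,
      LinearMap.smul_apply, map_smul, hY2]
  have hpow : ∀ k : ℕ, ∀ x y, B ((Z ^ k) x) y = B x ((Z ^ k) y) := by
    intro k
    induction k with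
    | zero => intro x y; simp
    | succ k ih =>
      intro x y
      rw [pow_succ, Module.End.mul_apply, ih, hZsa, ← Module.End.mul_apply, ← pow_succ',
        ← pow_succ]
  set s : Module.End F V := Z ^ ((p + 1) / 2) with hs'
  set h : Module.End F V := (2⁻¹ : F) • Y with hh
  have hsk : ∀ x y, B (h x) y = - B x (h y) := by
    intro x y
    rw [hh, LinearMap.smul_apply, LinearMap.smul_apply, map_smul, LinearMap.smul_apply, map_smul,
      hs x y, smul_neg]
  have hcay : cay p Y = h + s := rfl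
  have hinv : (s - h) * (h + s) = 1 := inv_mul_cay F p hp hY
  intro x y
  have h1 : B ((h + s) x) ((h + s) y) = B x ((s - h) ((h + s) y)) := by
    rw [LinearMap.add_apply, map_add, LinearMap.add_apply, hsk, hpow, LinearMap.sub_apply, map_sub]
    ring
  rw [hcay, h1, ← Module.End.mul_apply, hinv, Module.End.one_apply]

end Main

/-! ### intertwining maps -/

section Conj

variable {V' : Type w} [AddCommGroup V'] [Module F V']

theorem pow_conj (T : V →ₗ[F] V') (A : Module.End F V) (A' : Module.End F V')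
    (h : ∀ x, T (A x) = A' (T x)) (k : ℕ) : ∀ x, T ((A ^ k) x) = (A' ^ k) (T x) := by
  induction k with
  | zero => intro x; simp
  | succ k ih =>
    intro x
    rw [pow_succ, pow_succ, Module.End.mul_apply, Module.End.mul_apply, ih, h]

theorem cay_conj (p : ℕ) (T : V →ₗ[F] V') (Y : Module.End F V) (Y' : Module.End F V')
    (h : ∀ x, T (Y x) = Y' (T x)) : ∀ x, T (cay p Y x) = cay p Y' (T x) := by
  intro x
  have hZ : ∀ x, T ((1 + (4⁻¹ : F) • Y ^ 2 : Module.End F V) x) =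
      (1 + (4⁻¹ : F) • Y' ^ 2 : Module.End F V') (T x) := by
    intro x
    rw [LinearMap.add_apply, LinearMap.add_apply, Module.End.one_apply, Module.End.one_apply,
      LinearMap.smul_apply, LinearMap.smul_apply, map_add, map_smul, pow_conj T Y Y' h 2]
  unfold cay
  rw [LinearMap.add_apply, LinearMap.add_apply, LinearMap.smul_apply, LinearMap.smul_apply, map_add,
    map_smul, h, pow_conj T _ _ hZ]

theorem yOf_conj (p : ℕ) (T : V →ₗ[F] V') (u : Module.End F V) (u' : Module.End F V')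
    (h : ∀ x, T (u x) = u' (T x)) : ∀ x, T (yOf p u x) = yOf p u' (T x) := by
  intro x
  unfold yOf
  rw [LinearMap.sub_apply, LinearMap.sub_apply, map_sub, h, pow_conj T u u' h]

end Conj

end Cfsg.Agent.Helper76.USpCay
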