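import Mathlib

/-!
# (AR2) for S2362 (helper99): parity of the number of regular orbits
-/

set_option autoImplicit false

namespace Cfsg.Agent.Helper76.BC

/-- (AR2) parity of the number of regular orbits -/
theorem odd_orbit_count (q k N3 K : ℕ) (hq : 3 ≤ q) (hodd : Odd q) (hk : 2 ≤ k)
    (hN3 : N3 = q ^ 2 + q ∨ N3 = q ^ 2 - q)
    (hK : K * (q ^ k + 1) + N3 = q ^ (2 * (k + 1)) + q ^ (k + 1)) : Odd K := by
  obtain ⟨m, hm⟩ := hodd
  obtain ⟨b, hb⟩ : Odd (q ^ k) := Odd.pow ⟨m, hm⟩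
  have ha2 : q ^ 2 ≤ q ^ k := Nat.pow_le_pow_right (by omega) hk
  have hqq : q ≤ q ^ 2 := by nlinarith
  set a := q ^ k with ha
  have hpow1 : q ^ (2 * (k + 1)) = a ^ 2 * q ^ 2 := by rw [ha]; ring
  have hpow2 : q ^ (k + 1) = a * q := by rw [ha]; ring
  rw [hpow1, hpow2] at hK
  have hKz : (K : ℤ) * ((a : ℤ) + 1) + (N3 : ℤ) = (a : ℤ) ^ 2 * (q : ℤ) ^ 2 + (a : ℤ) * q := by
    exact_mod_cast hK
  have hq3 : (3 : ℤ) ≤ q := by exact_mod_cast hq
  have ha2z : (q : ℤ) ^ 2 ≤ a := by exact_mod_cast ha2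
  rcases hN3 with h | h
  · -- impossible case
    exfalso
    have hNz : (N3 : ℤ) = (q : ℤ) ^ 2 + q := by rw [h]; push_cast; ring
    have hdvd : ((a : ℤ) + 1) ∣ 2 * (q : ℤ) := by
      refine ⟨((q : ℤ) ^ 2 * ((a : ℤ) - 1) + q) - K, ?_⟩
      rw [hNz] at hKz
      linear_combination hKz
    have hle := Int.le_of_dvd (by linarith) hdvd
    nlinarith
  · have hNz : (N3 : ℤ) = (q : ℤ) ^ 2 - q := by
      rw [h, Nat.cast_sub hqq]; push_cast; ring
    have hKeq : ((K : ℤ) - ((q : ℤ) ^ 2 * ((a : ℤ) - 1) + q)) * ((a : ℤ) + 1) = 0 := by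
      rw [hNz] at hKz
      linear_combination hKz
    have hne : (a : ℤ) + 1 ≠ 0 := by positivity
    have hK0 : (K : ℤ) = (q : ℤ) ^ 2 * ((a : ℤ) - 1) + q := by
      have := (mul_eq_zero.mp hKeq).resolve_right hne
      linarith
    have haz : (a : ℤ) = 2 * b + 1 := by exact_mod_cast hb
    have hqz : (q : ℤ) = 2 * m + 1 := by exact_mod_cast hm
    have hKodd : Odd (K : ℤ) := by
      refine ⟨(q : ℤ) ^ 2 * b + m, ?_⟩
      rw [hK0, haz]
      nth_rewrite 2 [hqz]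
      ring
    exact_mod_cast hKodd

end Cfsg.Agent.Helper76.BC
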