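import Mathlib
import Cfsg.Prelude.Def_Blocks

/-! Basic facts on characters (helper76): character values as sums of roots of unity. -/

set_option autoImplicit false

namespace Cfsg.Agent.Helper76

open Polynomial

/-- If a multiset of complex `p^j`-th roots of unity sums to zero then `p` divides its size. -/
theorem dvd_card_of_sum_rootsOfUnity_eq_zero (p : ℕ) [hp : Fact p.Prime] (j : ℕ) (s : Multiset ℂ)
    (hs : ∀ μ ∈ s, μ ^ (p ^ j) = 1) (h0 : s.sum = 0) : p ∣ Multiset.card s := by
  rcases Nat.eq_zero_or_pos j with rfl | hj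
  · -- all elements are 1
    have h1 : ∀ μ ∈ s, μ = 1 := by
      intro μ hμ
      simpa using hs μ hμ
    have : s.sum = (Multiset.card s : ℂ) := by
      rw [Multiset.eq_replicate_card.mpr h1]
      simp
    rw [this] at h0
    have : Multiset.card s = 0 := by exact_mod_cast h0
    rw [this]
    exact dvd_zero p
  · obtain ⟨k, rfl⟩ : ∃ k, j = k + 1 := ⟨j - 1, by omega⟩
    have hpos : 0 < p ^ (k + 1) := pow_pos hp.out.pos _
    set ζ : ℂ := Complex.exp (2 * Real.pi * Complex.I / ((p ^ (k + 1) : ℕ) : ℂ)) with hζ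
    have hprim : IsPrimitiveRoot ζ (p ^ (k + 1)) := Complex.isPrimitiveRoot_exp _ hpos.ne'
    -- each μ is a power of ζ
    have hex : ∀ μ : ℂ, ∃ i : ℕ, μ ^ (p ^ (k + 1)) = 1 → ζ ^ i = μ := by
      intro μ
      by_cases hμ : μ ^ (p ^ (k + 1)) = 1
      · have : NeZero (p ^ (k + 1)) := ⟨hpos.ne'⟩
        obtain ⟨i, _, hi⟩ := hprim.eq_pow_of_pow_eq_one hμ
        exact ⟨i, fun _ => hi⟩
      · exact ⟨0, fun h => absurd h hμ⟩
    choose e he using hex
    let A : ℤ[X] := (s.map (fun μ => (X : ℤ[X]) ^ e μ)).sum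
    have hA0 : aeval ζ A = 0 := by
      simp only [A, map_multiset_sum, Multiset.map_map, Function.comp, map_pow, aeval_X]
      rw [← h0]
      congr 1
      conv_rhs => rw [← Multiset.map_id s]
      exact Multiset.map_congr rfl (fun μ hμ => he μ (hs μ hμ))
    have hA1 : A.eval 1 = (Multiset.card s : ℤ) := by
      simp only [A]
      rw [← coe_evalRingHom, map_multiset_sum, Multiset.map_map]
      simp
    have hdvd : cyclotomic (p ^ (k + 1)) ℤ ∣ A := by
      rw [cyclotomic_eq_minpoly hprim hpos]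
      exact minpoly.isIntegrallyClosed_dvd (hprim.isIntegral hpos) hA0
    have := eval_dvd (x := (1 : ℤ)) hdvd
    rw [eval_one_cyclotomic_prime_pow, hA1] at this
    exact_mod_cast this

end Cfsg.Agent.Helper76

namespace Cfsg.Agent.Helper76

open Polynomial

/-- The character value at `g` is the sum of the roots of the characteristic polynomial of `ρ g`. -/
theorem character_eq_sum_roots {G V : Type*} [Group G] [AddCommGroup V] [Module ℂ V]
    [FiniteDimensional ℂ V] (ρ : Representation ℂ G V) (g : G) :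
    ρ.character g = (LinearMap.charpoly (ρ g)).roots.sum :=
  Module.End.trace_eq_sum_roots_charpoly_of_splits (IsAlgClosed.splits _)

theorem card_roots_charpoly {G V : Type*} [Group G] [AddCommGroup V] [Module ℂ V]
    [FiniteDimensional ℂ V] (ρ : Representation ℂ G V) (g : G) :
    Multiset.card (LinearMap.charpoly (ρ g)).roots = Module.finrank ℂ V := by
  rw [← LinearMap.charpoly_natDegree (ρ g)]
  exact (IsAlgClosed.splits _).natDegree_eq_card_roots.symm

theorem root_charpoly_pow_eq_one {G V : Type*} [Group G] [AddCommGroup V] [Module ℂ V]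
    [FiniteDimensional ℂ V] (ρ : Representation ℂ G V) (g : G) (m : ℕ) (hm : g ^ m = 1)
    (μ : ℂ) (hμ : μ ∈ (LinearMap.charpoly (ρ g)).roots) : μ ^ m = 1 := by
  have hroot : (LinearMap.charpoly (ρ g)).IsRoot μ := (mem_roots'.mp hμ).2
  have hev : Module.End.HasEigenvalue (ρ g) μ :=
    (Module.End.hasEigenvalue_iff_isRoot_charpoly (ρ g) μ).mpr hroot
  obtain ⟨v, hv⟩ := hev.exists_hasEigenvector
  have h1 : ((ρ g) ^ m) v = μ ^ m • v := by
    exact hv.pow_apply m
  have h2 : (ρ g) ^ m = 1 := by
    rw [← map_pow, hm, map_one]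
  rw [h2] at h1
  have : (μ ^ m - 1) • v = 0 := by
    rw [sub_smul, one_smul, ← h1]; simp
  rcases smul_eq_zero.mp this with h | h
  · exact sub_eq_zero.mp h
  · exact absurd h hv.2

end Cfsg.Agent.Helper76

namespace Cfsg.Agent.Helper76

theorem charDegree_character {G : Type*} [Group G] (n : ℕ) (ρ : Representation ℂ G (Fin n → ℂ)) :
    Cfsg.charDegree ρ.character = n := by
  unfold Cfsg.charDegree
  rw [Representation.char_one]
  simp

theorem vanishing_pElement_dvd_degree {G : Type*} [Group G] (p : ℕ) [Fact p.Prime] (χ : G → ℂ)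
    (hχ : Cfsg.IsCharacter G χ) (g : G) (hg : ∃ j : ℕ, orderOf g = p ^ j) (h0 : χ g = 0) :
    p ∣ Cfsg.charDegree χ := by
  obtain ⟨n, ρ, rfl⟩ := hχ
  obtain ⟨j, hj⟩ := hg
  rw [charDegree_character]
  have hgm : g ^ (p ^ j) = 1 := by rw [← hj]; exact pow_orderOf_eq_one g
  have := dvd_card_of_sum_rootsOfUnity_eq_zero p j (LinearMap.charpoly (ρ g)).roots
    (fun μ hμ => root_charpoly_pow_eq_one ρ g _ hgm μ hμ)
    (by rw [← character_eq_sum_roots]; exact h0)
  rw [card_roots_charpoly] at this
  simpa using this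

end Cfsg.Agent.Helper76
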