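import Mathlib
import Cfsg.Prelude.Def_Blocks
import Cfsg.Agent.Helper76.CharBasic

/-! Schur's lemma for characters: central elements, commutative groups (helper76). -/

set_option autoImplicit false

namespace Cfsg.Agent.Helper76

open Representation

/-- Schur: a central element acts as a scalar in an irreducible complex representation. -/
theorem exists_scalar_of_mem_center {G V : Type*} [Group G] [AddCommGroup V] [Module ℂ V]
    [FiniteDimensional ℂ V] (ρ : Representation ℂ G V) [ρ.IsIrreducible] (z : G)
    (hz : z ∈ Subgroup.center G) : ∃ c : ℂ, ρ z = c • (1 : Module.End ℂ V) := by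
  have hz' : z ∈ Submonoid.center G := hz
  obtain ⟨c, hc⟩ := (IsIrreducible.algebraMap_intertwiningMap_bijective_of_isAlgClosed
    (ρ := ρ)).2 (IntertwiningMap.centralMul ρ z hz')
  refine ⟨c, ?_⟩
  have := congrArg IntertwiningMap.toLinearMap hc
  rw [IntertwiningMap.algebraMap_apply, IntertwiningMap.toLinearMap_smul] at this
  exact this.symm

/-- The character of a representation at `z * g` when `z` acts as the scalar `c`. -/
theorem character_central_mul {G V : Type*} [Group G] [AddCommGroup V] [Module ℂ V]
    [FiniteDimensional ℂ V] (ρ : Representation ℂ G V) (z : G) (c : ℂ)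
    (hc : ρ z = c • (1 : Module.End ℂ V)) (g : G) :
    ρ.character (z * g) = c * ρ.character g := by
  unfold Representation.character
  rw [map_mul, hc]
  simp

/-- For an irreducible character `χ` and a central element `z` there is a scalar `c` with
`χ (z * g) = c * χ g` for all `g`. -/
theorem irr_exists_central_scalar {G : Type*} [Group G] {χ : G → ℂ}
    (hχ : Cfsg.IsIrrCharacter G χ) (z : G) (hz : z ∈ Subgroup.center G) :
    ∃ c : ℂ, ∀ g : G, χ (z * g) = c * χ g := by
  obtain ⟨n, ρ, hρ, rfl⟩ := hχ
  obtain ⟨c, hc⟩ := exists_scalar_of_mem_center ρ z hz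
  exact ⟨c, character_central_mul ρ z c hc⟩

/-- The degree of an irreducible character is positive: `χ 1` is a positive natural number. -/
theorem irr_exists_degree {G : Type*} [Group G] {χ : G → ℂ}
    (hχ : Cfsg.IsIrrCharacter G χ) : ∃ n : ℕ, 0 < n ∧ χ 1 = (n : ℂ) := by
  obtain ⟨n, ρ, hρ, rfl⟩ := hχ
  refine ⟨n, ?_, by simp⟩
  by_contra h
  have hn : n = 0 := by omega
  subst hn
  have : Nontrivial (Subrepresentation ρ) := hρ.toNontrivial
  obtain ⟨a, b, hab⟩ := this
  apply hab
  ext v
  have hv : v = 0 := Subsingleton.elim _ _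
  subst hv
  exact ⟨fun _ => b.toSubmodule.zero_mem, fun _ => a.toSubmodule.zero_mem⟩

/-- An irreducible character of a commutative group has degree one. -/
theorem irr_one_of_comm {G : Type*} [Group G] (hcomm : ∀ a b : G, a * b = b * a)
    {χ : G → ℂ} (hχ : Cfsg.IsIrrCharacter G χ) : χ 1 = 1 := by
  obtain ⟨n, ρ, hρ, rfl⟩ := hχ
  have : IsMulCommutative G := ⟨⟨hcomm⟩⟩
  have := IsIrreducible.finrank_eq_one_of_isMulCommutative ρ
  rw [Representation.char_one, this]
  simp

/-- An irreducible character of a commutative group is multiplicative. -/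
theorem irr_mul_of_comm {G : Type*} [Group G] (hcomm : ∀ a b : G, a * b = b * a)
    {χ : G → ℂ} (hχ : Cfsg.IsIrrCharacter G χ) (a b : G) : χ (a * b) = χ a * χ b := by
  have ha : a ∈ Subgroup.center G := by
    rw [Subgroup.mem_center_iff]; intro g; exact hcomm g a
  obtain ⟨c, hc⟩ := irr_exists_central_scalar hχ a ha
  have h1 := hc 1
  rw [mul_one, irr_one_of_comm hcomm hχ, mul_one] at h1
  rw [hc b, h1]

end Cfsg.Agent.Helper76
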