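import Mathlib
import Cfsg.Prelude.Def_Blocks
import Cfsg.Agent.Helper76.CharCentral
import Cfsg.Agent.Helper3.ColumnOrth

/-!
# Irreducible characters over a faithful character of a central subgroup

Counting `Irr(G | ψ)` for a faithful linear character `ψ` of a central subgroup `N`: it equals the
number of conjugacy classes of `G ⧸ N` consisting of "special" cosets.
-/

set_option autoImplicit false

namespace Cfsg.Agent.Helper76

open scoped ComplexConjugate

/-- The central character attached to `χ`: `z ↦ χ(z)/χ(1)`. -/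
noncomputable def centralLam {G : Type*} [Group G] (χ : G → ℂ) (z : G) : ℂ := χ z / χ 1

theorem irr_one_ne_zero {G : Type*} [Group G] {χ : G → ℂ} (hχ : Cfsg.IsIrrCharacter G χ) :
    χ 1 ≠ 0 := by
  obtain ⟨n, hn, h1⟩ := irr_exists_degree hχ
  rw [h1]
  exact_mod_cast hn.ne'

theorem centralLam_spec {G : Type*} [Group G] {χ : G → ℂ} (hχ : Cfsg.IsIrrCharacter G χ)
    {z : G} (hz : z ∈ Subgroup.center G) (g : G) : χ (z * g) = centralLam χ z * χ g := by
  obtain ⟨c, hc⟩ := irr_exists_central_scalar hχ z hz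
  have h1 := hc 1
  rw [mul_one] at h1
  have : centralLam χ z = c := by
    unfold centralLam
    rw [h1, mul_div_assoc, div_self (irr_one_ne_zero hχ), mul_one]
  rw [this, hc]

theorem centralLam_one {G : Type*} [Group G] {χ : G → ℂ} (hχ : Cfsg.IsIrrCharacter G χ) :
    centralLam χ 1 = 1 := by
  unfold centralLam
  exact div_self (irr_one_ne_zero hχ)

theorem centralLam_mul {G : Type*} [Group G] {χ : G → ℂ} (hχ : Cfsg.IsIrrCharacter G χ)
    {z w : G} (hz : z ∈ Subgroup.center G) :
    centralLam χ (z * w) = centralLam χ z * centralLam χ w := by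
  unfold centralLam
  rw [centralLam_spec hχ hz w]
  unfold centralLam
  ring

/-- The central character of `χ` restricted to a central subgroup `N`, as a monoid hom. -/
noncomputable def centralLamHom {G : Type*} [Group G] {χ : G → ℂ} (hχ : Cfsg.IsIrrCharacter G χ)
    (N : Subgroup G) (hN : N ≤ Subgroup.center G) : N →* ℂ where
  toFun n := centralLam χ (n : G)
  map_one' := centralLam_one hχ
  map_mul' a b := by
    rw [Subgroup.coe_mul]; exact centralLam_mul hχ (hN a.2)

/-- An irreducible character of a commutative group, as a monoid hom. -/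
noncomputable def irrHomOfComm {A : Type*} [Group A] (hcomm : ∀ a b : A, a * b = b * a)
    {ψ : A → ℂ} (hψ : Cfsg.IsIrrCharacter A ψ) : A →* ℂ where
  toFun := ψ
  map_one' := irr_one_of_comm hcomm hψ
  map_mul' := irr_mul_of_comm hcomm hψ

/-- Values of a monoid hom from a finite group to `ℂ` have norm one. -/
theorem norm_monoidHom_eq_one {A : Type*} [Group A] [Finite A] (f : A →* ℂ) (a : A) :
    ‖f a‖ = 1 := by
  have h1 : f a ^ (Nat.card A) = 1 := by
    rw [← map_pow, pow_card_eq_one', map_one]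
  have h2 : ‖f a‖ ^ (Nat.card A) = 1 := by
    rw [← norm_pow, h1, norm_one]
  exact (pow_eq_one_iff_of_nonneg (norm_nonneg _) Nat.card_pos.ne').mp h2

theorem conj_monoidHom_eq_inv {A : Type*} [Group A] [Finite A] (f : A →* ℂ) (a : A) :
    conj (f a) = (f a)⁻¹ := by
  rw [Complex.inv_def, Complex.normSq_eq_norm_sq, norm_monoidHom_eq_one f a]
  simp

/-- Orthogonality of monoid homs from a finite group to `ℂ`. -/
theorem sum_monoidHom_mul_conj {A : Type*} [Group A] [Fintype A] (f h : A →* ℂ) :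
    ∑ a : A, f a * conj (h a) = if f = h then (Fintype.card A : ℂ) else 0 := by
  classical
  let μ : A →* ℂ :=
    { toFun := fun a => f a * conj (h a)
      map_one' := by simp
      map_mul' := fun a b => by simp only [map_mul]; ring }
  have hμ : ∑ a : A, f a * conj (h a) = ∑ a : A, μ a := rfl
  rw [hμ, sum_hom_units μ]
  have hiff : μ = 1 ↔ f = h := by
    constructor
    · intro hμ1
      ext a
      have h1 : f a * conj (h a) = 1 := by
        have := DFunLike.congr_fun hμ1 a
        exact this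
      rw [conj_monoidHom_eq_inv h a] at h1
      have hne : h a ≠ 0 := by
        intro h0
        have := norm_monoidHom_eq_one h a
        rw [h0, norm_zero] at this
        exact zero_ne_one this
      field_simp at h1
      exact h1
    · intro hfh
      ext a
      show f a * conj (h a) = 1
      rw [hfh, conj_monoidHom_eq_inv h a]
      have hne : h a ≠ 0 := by
        intro h0
        have := norm_monoidHom_eq_one h a
        rw [h0, norm_zero] at this
        exact zero_ne_one this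
      field_simp
  simp only [hiff]
  split_ifs <;> simp

theorem comm_of_le_center {G : Type*} [Group G] (N : Subgroup G) (hN : N ≤ Subgroup.center G) :
    ∀ a b : N, a * b = b * a := by
  intro a b
  apply Subtype.ext
  have := (Subgroup.mem_center_iff.mp (hN a.2)) b
  simpa using this.symm

section
variable {G : Type*} [Group G] [Fintype G] (N : Subgroup G) [Fintype N]
  (hN : N ≤ Subgroup.center G)

/-- The multiplicity of `ψ` in the restriction of `χ` to the central subgroup `N`. -/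
theorem classInner_restrict_central {χ : G → ℂ} (hχ : Cfsg.IsIrrCharacter G χ)
    {ψ : N → ℂ} (hψ : Cfsg.IsIrrCharacter N ψ) [Decidable (centralLamHom hχ N hN =
      irrHomOfComm (comm_of_le_center N hN) hψ)] :
    Cfsg.classInner (fun n : N => χ n) ψ =
      χ 1 * (if centralLamHom hχ N hN = irrHomOfComm (comm_of_le_center N hN) hψ
        then 1 else 0) := by
  unfold Cfsg.classInner
  have h1 : ∑ n : N, χ (n : G) * conj (ψ n) =
      χ 1 * ∑ n : N, centralLamHom hχ N hN n * conj (irrHomOfComm (comm_of_le_center N hN) hψ n) := by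
    rw [Finset.mul_sum]
    refine Finset.sum_congr rfl fun n _ => ?_
    have := centralLam_spec hχ (hN n.2) 1
    rw [mul_one] at this
    rw [this]
    show _ = χ 1 * (centralLam χ (n : G) * conj (ψ n))
    ring
  rw [h1, sum_monoidHom_mul_conj]
  have hc : (Nat.card N : ℂ) ≠ 0 := by exact_mod_cast Nat.card_pos.ne'
  split_ifs
  · rw [← Nat.card_eq_fintype_card]; field_simp
  · simp

/-- Indicator of "`χ` lies over `ψ`" as a double sum. -/
theorem indicator_over_eq_sum {χ : G → ℂ} (hχ : Cfsg.IsIrrCharacter G χ)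
    {ψ : N → ℂ} (hψ : Cfsg.IsIrrCharacter N ψ) [Decidable (centralLamHom hχ N hN =
      irrHomOfComm (comm_of_le_center N hN) hψ)] :
    (if centralLamHom hχ N hN = irrHomOfComm (comm_of_le_center N hN) hψ then (1 : ℂ) else 0) =
      ((Nat.card N : ℂ) * (Nat.card G : ℂ))⁻¹ *
        ∑ n : N, ∑ g : G, χ ((n : G) * g) * conj (χ g) * conj (ψ n) := by
  have hcN : (Nat.card N : ℂ) ≠ 0 := by exact_mod_cast Nat.card_pos.ne'
  have hcG : (Nat.card G : ℂ) ≠ 0 := by exact_mod_cast Nat.card_pos.ne'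
  have hself : ∑ g : G, χ g * conj (χ g) = (Nat.card G : ℂ) := by
    have := Cfsg.Agent.Helper3.classInner_irr_self (⟨χ, hχ⟩ : Cfsg.IrrCharacter G)
    unfold Cfsg.classInner at this
    simp only at this
    field_simp at this
    exact this
  have h1 : ∑ n : N, ∑ g : G, χ ((n : G) * g) * conj (χ g) * conj (ψ n) =
      (∑ n : N, centralLamHom hχ N hN n * conj (irrHomOfComm (comm_of_le_center N hN) hψ n)) *
        (Nat.card G : ℂ) := by
    rw [Finset.sum_mul]
    refine Finset.sum_congr rfl fun n _ => ?_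
    rw [← hself, Finset.mul_sum]
    refine Finset.sum_congr rfl fun g _ => ?_
    rw [centralLam_spec hχ (hN n.2) g]
    show _ = centralLam χ (n : G) * conj (ψ n) * _
    ring
  rw [h1, sum_monoidHom_mul_conj]
  split_ifs
  · rw [← Nat.card_eq_fintype_card]; field_simp
  · simp

end

/-- The number of elements conjugating `b` to `a`. -/
theorem card_conjugators {G : Type*} [Group G] [Finite G] (a b : G) [Decidable (IsConj a b)] :
    Nat.card {x : G // x * b * x⁻¹ = a} =
      if IsConj a b then Nat.card (Subgroup.centralizer ({a} : Set G)) else 0 := by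
  split_ifs with h
  · obtain ⟨t, ht⟩ := isConj_iff.mp h.symm
    -- t * b * t⁻¹ = a
    apply Nat.card_congr
    refine ⟨fun x => ⟨x.1 * t⁻¹, ?_⟩, fun y => ⟨y.1 * t, ?_⟩, ?_, ?_⟩
    · obtain ⟨x, hx⟩ := x
      rw [Subgroup.mem_centralizer_iff]
      intro z hz
      rw [Set.mem_singleton_iff] at hz
      rw [hz]
      show a * (x * t⁻¹) = x * t⁻¹ * a
      calc a * (x * t⁻¹) = (x * b * x⁻¹) * (x * t⁻¹) := by rw [hx]
        _ = x * t⁻¹ * (t * b * t⁻¹) := by group
        _ = x * t⁻¹ * a := by rw [ht]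
    · have hy := Subgroup.mem_centralizer_iff.mp y.2 a rfl
      -- a * y = y * a
      show y.1 * t * b * (y.1 * t)⁻¹ = a
      have : y.1 * t * b * (y.1 * t)⁻¹ = y.1 * (t * b * t⁻¹) * y.1⁻¹ := by group
      rw [this, ht, ← hy]; group
    · intro x; apply Subtype.ext; show x.1 * t⁻¹ * t = x.1; group
    · intro y; apply Subtype.ext; show y.1 * t * t⁻¹ = y.1; group
  · rw [Nat.card_eq_zero]
    left
    constructor
    rintro ⟨x, hx⟩
    exact h (isConj_iff.mpr ⟨x, hx⟩).symm

/-- Second orthogonality, counting form. -/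
theorem sum_irr_mul_conj_eq_card_conjugators {G : Type*} [Group G] [Fintype G]
    [Fintype (Cfsg.IrrCharacter G)] (a b : G) :
    ∑ χ : Cfsg.IrrCharacter G, (χ : G → ℂ) a * conj ((χ : G → ℂ) b) =
      (Nat.card {x : G // x * b * x⁻¹ = a} : ℂ) := by
  classical
  rw [Cfsg.Agent.Helper3.column_orthogonality a b, card_conjugators a b]
  split_ifs <;> simp

section
variable {G : Type*} [Group G] (N : Subgroup G) [N.Normal]

/-- Preimage in `G` of the centralizer of `g N` in `G ⧸ N`. -/
def centralizerMod (g : G) : Subgroup G :=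
  (Subgroup.centralizer ({(g : G ⧸ N)} : Set (G ⧸ N))).comap (QuotientGroup.mk' N)

theorem mem_centralizerMod {g x : G} : x ∈ centralizerMod N g ↔ x⁻¹ * g⁻¹ * x * g ∈ N := by
  unfold centralizerMod
  rw [Subgroup.mem_comap, Subgroup.mem_centralizer_iff]
  constructor
  · intro h
    have h1 := h _ rfl
    have h2 : ((g * x : G) : G ⧸ N) = ((x * g : G) : G ⧸ N) := h1
    rw [QuotientGroup.eq] at h2
    have : (g * x)⁻¹ * (x * g) = x⁻¹ * g⁻¹ * x * g := by group
    rwa [this] at h2
  · intro h y hy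
    rw [Set.mem_singleton_iff] at hy
    rw [hy]
    show ((g * x : G) : G ⧸ N) = ((x * g : G) : G ⧸ N)
    rw [QuotientGroup.eq]
    have : (g * x)⁻¹ * (x * g) = x⁻¹ * g⁻¹ * x * g := by group
    rwa [this]

variable (hN : N ≤ Subgroup.center G)

/-- The commutator map `x ↦ x⁻¹ g⁻¹ x g` from `centralizerMod N g` to the central subgroup `N`. -/
def commHomMod (g : G) : centralizerMod N g →* N where
  toFun x := ⟨(x : G)⁻¹ * g⁻¹ * x * g, (mem_centralizerMod N).mp x.2⟩
  map_one' := Subtype.ext (by simp)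
  map_mul' x y := Subtype.ext (by
    have hx : (x : G)⁻¹ * g⁻¹ * x * g ∈ Subgroup.center G := hN ((mem_centralizerMod N).mp x.2)
    have hc := Subgroup.mem_center_iff.mp hx
    show ((x * y : centralizerMod N g) : G)⁻¹ * g⁻¹ * ((x * y : centralizerMod N g) : G) * g =
      ((x : G)⁻¹ * g⁻¹ * x * g) * ((y : G)⁻¹ * g⁻¹ * y * g)
    rw [Subgroup.coe_mul]
    calc ((x : G) * y)⁻¹ * g⁻¹ * (x * y) * g
        = (y : G)⁻¹ * ((x : G)⁻¹ * g⁻¹ * x * g) * (g⁻¹ * y * g) := by group
      _ = ((x : G)⁻¹ * g⁻¹ * x * g) * (y : G)⁻¹ * (g⁻¹ * y * g) := by rw [hc (y : G)⁻¹]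
      _ = _ := by group)

theorem commHomMod_coe (g : G) (x : centralizerMod N g) :
    ((commHomMod N hN g x : N) : G) = (x : G)⁻¹ * g⁻¹ * x * g := rfl

theorem commHomMod_eq_iff (g : G) (x : centralizerMod N g) (n : N) :
    commHomMod N hN g x = n ↔ (x : G) * g * (x : G)⁻¹ = (n : G) * g := by
  have hc := Subgroup.mem_center_iff.mp (hN n.2)
  constructor
  · intro h
    have h1 : (x : G)⁻¹ * g⁻¹ * x * g = (n : G) := by rw [← commHomMod_coe N hN, h]
    have h2 : (x : G) * g = (n : G) * g * x := by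
      calc (x : G) * g = g * x * ((x : G)⁻¹ * g⁻¹ * x * g) := by group
        _ = g * x * n := by rw [h1]
        _ = n * (g * x) := hc (g * x)
        _ = n * g * x := by group
    calc (x : G) * g * (x : G)⁻¹ = ((n : G) * g * x) * (x : G)⁻¹ := by rw [h2]
      _ = n * g := by group
  · intro h
    apply Subtype.ext
    rw [commHomMod_coe]
    have h2 : (x : G) * g = (n : G) * g * x := by
      calc (x : G) * g = ((x : G) * g * (x : G)⁻¹) * x := by group
        _ = (n : G) * g * x := by rw [h]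
    calc (x : G)⁻¹ * g⁻¹ * x * g = (x : G)⁻¹ * g⁻¹ * (x * g) := by group
      _ = (x : G)⁻¹ * g⁻¹ * ((n : G) * g * x) := by rw [h2]
      _ = (x : G)⁻¹ * g⁻¹ * ((n : G) * (g * x)) := by group
      _ = (x : G)⁻¹ * g⁻¹ * ((g * x) * (n : G)) := by rw [hc (g * x)]
      _ = n := by group

/-- Summing over the fibres of the commutator map. -/
theorem sum_commHomMod_eq [Fintype G] [Fintype N] (g : G) [Fintype (centralizerMod N g)]
    (F : N → ℂ) :
    ∑ x : centralizerMod N g, F (commHomMod N hN g x) =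
      ∑ n : N, F n * (Nat.card {x : G // x * g * x⁻¹ = (n : G) * g} : ℂ) := by
  classical
  rw [← Fintype.sum_fiberwise (commHomMod N hN g) (fun x => F (commHomMod N hN g x))]
  refine Finset.sum_congr rfl fun n _ => ?_
  have h1 : ∀ i : {x : centralizerMod N g // commHomMod N hN g x = n},
      F (commHomMod N hN g i.1) = F n := fun i => by rw [i.2]
  rw [Finset.sum_congr rfl (fun i _ => h1 i), Finset.sum_const, Finset.card_univ,
    nsmul_eq_mul, mul_comm, ← Nat.card_eq_fintype_card]
  congr 2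
  apply Nat.card_congr
  refine ⟨fun i => ⟨(i.1 : G), (commHomMod_eq_iff N hN g i.1 n).mp i.2⟩,
    fun y => ⟨⟨y.1, ?_⟩, ?_⟩, ?_, ?_⟩
  · rw [mem_centralizerMod]
    have hy := y.2
    have hc := Subgroup.mem_center_iff.mp (hN n.2)
    have : y.1⁻¹ * g⁻¹ * y.1 * g = (n : G) := by
      have h2 : y.1 * g = (n : G) * g * y.1 := by
        calc y.1 * g = (y.1 * g * y.1⁻¹) * y.1 := by group
          _ = (n : G) * g * y.1 := by rw [hy]
      calc y.1⁻¹ * g⁻¹ * y.1 * g = y.1⁻¹ * g⁻¹ * (y.1 * g) := by group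
        _ = y.1⁻¹ * g⁻¹ * ((n : G) * g * y.1) := by rw [h2]
        _ = y.1⁻¹ * g⁻¹ * ((n : G) * (g * y.1)) := by group
        _ = y.1⁻¹ * g⁻¹ * ((g * y.1) * (n : G)) := by rw [hc (g * y.1)]
        _ = n := by group
    rw [this]; exact n.2
  · exact (commHomMod_eq_iff N hN g _ n).mpr y.2
  · intro i; rfl
  · intro y; rfl

/-- The sum of `conj ψ` over the commutators `[x, g]`, `x` in the centralizer of `g` modulo `N`. -/
theorem sum_conj_commHomMod [Fintype G] (g : G) [Fintype (centralizerMod N g)]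
    (ψ : N →* ℂ) (hfaith : ∀ n : N, ψ n = 1 → n = 1)
    [Decidable (∀ x : G, x⁻¹ * g⁻¹ * x * g ∈ N → x * g = g * x)] :
    ∑ x : centralizerMod N g, conj (ψ (commHomMod N hN g x)) =
      if (∀ x : G, x⁻¹ * g⁻¹ * x * g ∈ N → x * g = g * x) then
        (Nat.card (centralizerMod N g) : ℂ) else 0 := by
  classical
  let κ : centralizerMod N g →* ℂ :=
    ((starRingEnd ℂ : ℂ →+* ℂ) : ℂ →* ℂ).comp (ψ.comp (commHomMod N hN g))
  have hκ : ∑ x : centralizerMod N g, conj (ψ (commHomMod N hN g x)) =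
      ∑ x : centralizerMod N g, κ x := rfl
  rw [hκ, sum_hom_units κ]
  have hiff : κ = 1 ↔ (∀ x : G, x⁻¹ * g⁻¹ * x * g ∈ N → x * g = g * x) := by
    constructor
    · intro h x hx
      have h1 : κ ⟨x, (mem_centralizerMod N).mpr hx⟩ = 1 := by rw [h]; rfl
      have h2 : conj (ψ (commHomMod N hN g ⟨x, (mem_centralizerMod N).mpr hx⟩)) = 1 := h1
      have h3 : ψ (commHomMod N hN g ⟨x, (mem_centralizerMod N).mpr hx⟩) = 1 := by
        have := congrArg conj h2
        simpa using this
      have h4 := hfaith _ h3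
      have h5 : x⁻¹ * g⁻¹ * x * g = 1 := by
        have := congrArg Subtype.val h4
        exact this
      calc x * g = g * x * (x⁻¹ * g⁻¹ * x * g) := by group
        _ = g * x := by rw [h5, mul_one]
    · intro h
      ext x
      show conj (ψ (commHomMod N hN g x)) = 1
      have h1 : commHomMod N hN g x = 1 := by
        apply Subtype.ext
        rw [commHomMod_coe]
        have := h x ((mem_centralizerMod N).mp x.2)
        show (x : G)⁻¹ * g⁻¹ * x * g = 1
        calc (x : G)⁻¹ * g⁻¹ * x * g = (x : G)⁻¹ * g⁻¹ * (x * g) := by group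
          _ = (x : G)⁻¹ * g⁻¹ * (g * x) := by rw [this]
          _ = 1 := by group
      rw [h1, map_one, map_one]
  simp only [hiff, ← Nat.card_eq_fintype_card]
  split_ifs <;> simp


/-- The "special" condition on `g`. -/
def IsSpecialMod (g : G) : Prop := ∀ x : G, x⁻¹ * g⁻¹ * x * g ∈ N → x * g = g * x

include hN in
/-- Speciality only depends on the conjugacy class of the coset. -/
theorem isSpecialMod_of_mk_eq {g₀ g : G} (h₀ : IsSpecialMod N g₀)
    (h : ConjClasses.mk (g : G ⧸ N) = ConjClasses.mk (g₀ : G ⧸ N)) : IsSpecialMod N g := by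
  rw [ConjClasses.mk_eq_mk_iff_isConj] at h
  obtain ⟨tq, htq⟩ := isConj_iff.mp h.symm
  obtain ⟨t, rfl⟩ := QuotientGroup.mk_surjective tq
  -- (t g₀ t⁻¹ : G/N) = g
  have h1 : ((t * g₀ * t⁻¹ : G) : G ⧸ N) = (g : G ⧸ N) := htq
  rw [QuotientGroup.eq] at h1
  set n := (t * g₀ * t⁻¹)⁻¹ * g with hn
  have hnc := Subgroup.mem_center_iff.mp (hN h1)
  have hg : g = (t * g₀ * t⁻¹) * n := by rw [hn]; group
  intro x hx
  -- y = t⁻¹ x t
  have hkey : x⁻¹ * g⁻¹ * x * g = x⁻¹ * (t * g₀ * t⁻¹)⁻¹ * x * (t * g₀ * t⁻¹) := by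
    rw [hg]
    calc x⁻¹ * (t * g₀ * t⁻¹ * n)⁻¹ * x * (t * g₀ * t⁻¹ * n)
        = x⁻¹ * n⁻¹ * ((t * g₀ * t⁻¹)⁻¹ * x * (t * g₀ * t⁻¹)) * n := by group
      _ = x⁻¹ * n⁻¹ * (((t * g₀ * t⁻¹)⁻¹ * x * (t * g₀ * t⁻¹)) * n) := by group
      _ = x⁻¹ * n⁻¹ * (n * ((t * g₀ * t⁻¹)⁻¹ * x * (t * g₀ * t⁻¹))) := by rw [hnc]
      _ = _ := by group
  rw [hkey] at hx
  have hy : (t⁻¹ * x * t)⁻¹ * g₀⁻¹ * (t⁻¹ * x * t) * g₀ ∈ N := by
    have := (inferInstance : N.Normal).conj_mem _ hx t⁻¹
    have e : t⁻¹ * (x⁻¹ * (t * g₀ * t⁻¹)⁻¹ * x * (t * g₀ * t⁻¹)) * t⁻¹⁻¹ =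
        (t⁻¹ * x * t)⁻¹ * g₀⁻¹ * (t⁻¹ * x * t) * g₀ := by group
    rwa [e] at this
  have h2 := h₀ _ hy
  -- (t⁻¹ x t) g₀ = g₀ (t⁻¹ x t)
  have h3 : x * (t * g₀ * t⁻¹) = (t * g₀ * t⁻¹) * x := by
    calc x * (t * g₀ * t⁻¹) = t * ((t⁻¹ * x * t) * g₀) * t⁻¹ := by group
      _ = t * (g₀ * (t⁻¹ * x * t)) * t⁻¹ := by rw [h2]
      _ = _ := by group
  rw [hg]
  calc x * (t * g₀ * t⁻¹ * n) = (x * (t * g₀ * t⁻¹)) * n := by group
    _ = (t * g₀ * t⁻¹) * x * n := by rw [h3]
    _ = (t * g₀ * t⁻¹) * (x * n) := by group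
    _ = (t * g₀ * t⁻¹) * (n * x) := by rw [hnc]
    _ = _ := by group

/-- Order of the centralizer modulo `N`. -/
theorem card_centralizerMod [Finite G] (g : G) :
    Nat.card (centralizerMod N g) =
      Nat.card N * Nat.card (Subgroup.centralizer ({(g : G ⧸ N)} : Set (G ⧸ N))) := by
  set H := Subgroup.centralizer ({(g : G ⧸ N)} : Set (G ⧸ N)) with hH
  have h1 : (H.comap (QuotientGroup.mk' N)).index = H.index :=
    Subgroup.index_comap_of_surjective H (QuotientGroup.mk'_surjective N)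
  have h2 := (H.comap (QuotientGroup.mk' N)).card_mul_index
  have h3 := H.card_mul_index
  have h4 : Nat.card G = Nat.card (G ⧸ N) * Nat.card N :=
    Subgroup.card_eq_card_quotient_mul_card_subgroup N
  have hpos : 0 < H.index := Nat.pos_of_ne_zero Subgroup.index_ne_zero_of_finite
  rw [h1] at h2
  apply Nat.eq_of_mul_eq_mul_right hpos
  show Nat.card (H.comap (QuotientGroup.mk' N)) * H.index = _
  rw [h2, h4, ← h3]
  ring

/-- The sum of `|D g|` over the full preimage of a conjugacy class of `G ⧸ N` is `|N| |G|`. -/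
theorem sum_card_centralizerMod_fiber [Fintype G] (g₀ : G)
    [Fintype {g : G // ConjClasses.mk (g : G ⧸ N) = ConjClasses.mk (g₀ : G ⧸ N)}] :
    ∑ g : {g : G // ConjClasses.mk (g : G ⧸ N) = ConjClasses.mk (g₀ : G ⧸ N)},
      Nat.card (centralizerMod N g.1) = Nat.card N * Nat.card G := by
  classical
  set K := Nat.card {q : G ⧸ N // IsConj q (g₀ : G ⧸ N)} with hK
  have hKpos : 0 < K := by
    rw [hK]
    have : Nonempty {q : G ⧸ N // IsConj q (g₀ : G ⧸ N)} := ⟨⟨_, IsConj.refl _⟩⟩
    exact Nat.card_pos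
  -- each term
  have hterm : ∀ g : {g : G // ConjClasses.mk (g : G ⧸ N) = ConjClasses.mk (g₀ : G ⧸ N)},
      K * Nat.card (centralizerMod N g.1) = Nat.card N * Nat.card (G ⧸ N) := by
    intro g
    have hconj : IsConj (g.1 : G ⧸ N) (g₀ : G ⧸ N) := ConjClasses.mk_eq_mk_iff_isConj.mp g.2
    have hKg : K = Nat.card {q : G ⧸ N // IsConj q (g.1 : G ⧸ N)} := by
      rw [hK]
      apply Nat.card_congr
      exact Equiv.subtypeEquivRight fun q =>
        ⟨fun h => h.trans hconj.symm, fun h => h.trans hconj⟩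
    rw [card_centralizerMod, hKg,
      ← Cfsg.Agent.Helper3.card_conj_mul_card_centralizer (g.1 : G ⧸ N)]
    ring
  -- number of terms
  have hcount : Nat.card {g : G // ConjClasses.mk (g : G ⧸ N) = ConjClasses.mk (g₀ : G ⧸ N)} =
      Nat.card N * K := by
    have e := QuotientGroup.preimageMkEquivSubgroupProdSet N
      {q : G ⧸ N | IsConj q (g₀ : G ⧸ N)}
    have h1 : Nat.card {g : G // ConjClasses.mk (g : G ⧸ N) = ConjClasses.mk (g₀ : G ⧸ N)} =
        Nat.card (QuotientGroup.mk ⁻¹' {q : G ⧸ N | IsConj q (g₀ : G ⧸ N)} : Set G) := by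
      apply Nat.card_congr
      exact Equiv.subtypeEquivRight fun g => by
        rw [ConjClasses.mk_eq_mk_iff_isConj]; rfl
    rw [h1, Nat.card_congr e, Nat.card_prod]
    rfl
  have hsum : K * ∑ g : {g : G // ConjClasses.mk (g : G ⧸ N) = ConjClasses.mk (g₀ : G ⧸ N)},
      Nat.card (centralizerMod N g.1) = K * (Nat.card N * Nat.card G) := by
    rw [Finset.mul_sum, Finset.sum_congr rfl (fun g _ => hterm g), Finset.sum_const,
      Finset.card_univ, ← Nat.card_eq_fintype_card, hcount, smul_eq_mul,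
      Subgroup.card_eq_card_quotient_mul_card_subgroup N]
    ring
  exact Nat.eq_of_mul_eq_mul_left hKpos hsum


include hN in
/-- Counting the special classes of `G ⧸ N` by a sum over `G`. -/
theorem card_special_classes_mul [Fintype G] [DecidablePred (IsSpecialMod N)] :
    Nat.card {C : ConjClasses (G ⧸ N) //
        ∃ g : G, ConjClasses.mk (g : G ⧸ N) = C ∧ IsSpecialMod N g} * (Nat.card N * Nat.card G) =
      ∑ g : G, if IsSpecialMod N g then Nat.card (centralizerMod N g) else 0 := by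
  classical
  have : Fintype {C : ConjClasses (G ⧸ N) //
      ∃ g : G, ConjClasses.mk (g : G ⧸ N) = C ∧ IsSpecialMod N g} := Fintype.ofFinite _
  let Θ : {g : G // IsSpecialMod N g} → {C : ConjClasses (G ⧸ N) //
      ∃ g : G, ConjClasses.mk (g : G ⧸ N) = C ∧ IsSpecialMod N g} :=
    fun g => ⟨ConjClasses.mk (g.1 : G ⧸ N), g.1, rfl, g.2⟩
  have h1 : ∑ g : G, (if IsSpecialMod N g then Nat.card (centralizerMod N g) else 0) =
      ∑ g : {g : G // IsSpecialMod N g}, Nat.card (centralizerMod N g.1) := by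
    rw [← Finset.sum_filter, Finset.sum_subtype (p := IsSpecialMod N)
      (Finset.univ.filter (IsSpecialMod N)) (fun g => by simp)
      (fun g => Nat.card (centralizerMod N g))]
  rw [h1, ← Fintype.sum_fiberwise Θ (fun g => Nat.card (centralizerMod N g.1))]
  have h2 : ∀ C : {C : ConjClasses (G ⧸ N) //
      ∃ g : G, ConjClasses.mk (g : G ⧸ N) = C ∧ IsSpecialMod N g},
      ∑ g : {g : {g : G // IsSpecialMod N g} // Θ g = C}, Nat.card (centralizerMod N g.1.1) =
        Nat.card N * Nat.card G := by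
    rintro ⟨C, g₀, hg₀, hs⟩
    rw [← sum_card_centralizerMod_fiber N g₀]
    let e : {g : {g : G // IsSpecialMod N g} // Θ g = ⟨C, g₀, hg₀, hs⟩} ≃
        {g : G // ConjClasses.mk (g : G ⧸ N) = ConjClasses.mk (g₀ : G ⧸ N)} :=
      { toFun := fun g => ⟨g.1.1, (congrArg Subtype.val g.2).trans hg₀.symm⟩
        invFun := fun g => ⟨⟨g.1, isSpecialMod_of_mk_eq N hN hs g.2⟩,
          Subtype.ext (g.2.trans hg₀)⟩
        left_inv := fun g => rfl
        right_inv := fun g => rfl }
    exact Fintype.sum_equiv e _ _ (fun g => rfl)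
  rw [Finset.sum_congr rfl (fun C _ => h2 C), Finset.sum_const, Finset.card_univ,
    ← Nat.card_eq_fintype_card, smul_eq_mul]

end

/-- The number of irreducible characters over the faithful central character `ψ`, as a sum
over `G`. -/
theorem card_irr_over_mul {G : Type*} [Group G] [Fintype G] (N : Subgroup G) [N.Normal]
    [Fintype N] (hN : N ≤ Subgroup.center G) (ψ : Cfsg.IrrCharacter N)
    (hfaith : ∀ n : N, (ψ : N → ℂ) n = (ψ : N → ℂ) 1 → n = 1)
    [DecidablePred (IsSpecialMod N)] :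
    (Nat.card {χ : Cfsg.IrrCharacter G //
        Cfsg.classInner (fun n : N => (χ : G → ℂ) n) (ψ : N → ℂ) ≠ 0} : ℂ) *
        ((Nat.card N : ℂ) * (Nat.card G : ℂ)) =
      ∑ g : G, if IsSpecialMod N g then (Nat.card (centralizerMod N g) : ℂ) else 0 := by
  classical
  have : Fintype (Cfsg.IrrCharacter G) := Fintype.ofFinite _
  have hfin : ∀ g, Fintype (centralizerMod N g) := fun g => Fintype.ofFinite _
  set ψh : N →* ℂ := irrHomOfComm (comm_of_le_center N hN) ψ.2 with hψh
  have hψval : ∀ n : N, ψh n = (ψ : N → ℂ) n := fun n => rfl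
  have hψ1 : (ψ : N → ℂ) 1 = 1 := irr_one_of_comm (comm_of_le_center N hN) ψ.2
  have hfaith' : ∀ n : N, ψh n = 1 → n = 1 := fun n h => hfaith n (by rw [← hψval, h, hψ1])
  have hcN : (Nat.card N : ℂ) ≠ 0 := by exact_mod_cast Nat.card_pos.ne'
  have hcG : (Nat.card G : ℂ) ≠ 0 := by exact_mod_cast Nat.card_pos.ne'
  -- step 1
  have h1 : (Nat.card {χ : Cfsg.IrrCharacter G //
        Cfsg.classInner (fun n : N => (χ : G → ℂ) n) (ψ : N → ℂ) ≠ 0} : ℂ) =
      ∑ χ : Cfsg.IrrCharacter G, (if centralLamHom χ.2 N hN = ψh then (1 : ℂ) else 0) := by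
    rw [Nat.card_eq_fintype_card, Fintype.card_subtype, Finset.card_filter]
    push_cast
    refine Finset.sum_congr rfl fun χ _ => ?_
    rw [classInner_restrict_central N hN χ.2 ψ.2]
    by_cases h : centralLamHom χ.2 N hN = ψh
    · have hne : (χ : G → ℂ) 1 * (if centralLamHom χ.2 N hN = ψh then (1 : ℂ) else 0) ≠ 0 := by
        rw [if_pos h, mul_one]; exact irr_one_ne_zero χ.2
      rw [if_pos hne, if_pos h]
    · have he : (χ : G → ℂ) 1 * (if centralLamHom χ.2 N hN = ψh then (1 : ℂ) else 0) = 0 := by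
        rw [if_neg h, mul_zero]
      rw [if_neg (not_not.mpr he), if_neg h]
  -- step 2
  have h2 : ∀ χ : Cfsg.IrrCharacter G,
      (if centralLamHom χ.2 N hN = ψh then (1 : ℂ) else 0) =
      ((Nat.card N : ℂ) * (Nat.card G : ℂ))⁻¹ *
        ∑ n : N, ∑ g : G, (χ : G → ℂ) ((n : G) * g) * conj ((χ : G → ℂ) g) *
          conj ((ψ : N → ℂ) n) := fun χ => indicator_over_eq_sum N hN χ.2 ψ.2
  rw [h1, Finset.sum_congr rfl (fun χ _ => h2 χ), ← Finset.mul_sum, mul_comm, ← mul_assoc,
    mul_inv_cancel₀ (mul_ne_zero hcN hcG), one_mul]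
  -- swap sums
  rw [Finset.sum_comm]
  have h3 : ∀ n : N, ∑ χ : Cfsg.IrrCharacter G, ∑ g : G,
      (χ : G → ℂ) ((n : G) * g) * conj ((χ : G → ℂ) g) * conj ((ψ : N → ℂ) n) =
      ∑ g : G, conj ((ψ : N → ℂ) n) *
        (Nat.card {x : G // x * g * x⁻¹ = (n : G) * g} : ℂ) := by
    intro n
    rw [Finset.sum_comm]
    refine Finset.sum_congr rfl fun g _ => ?_
    rw [← sum_irr_mul_conj_eq_card_conjugators ((n : G) * g) g, Finset.mul_sum]
    refine Finset.sum_congr rfl fun χ _ => ?_
    ring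
  rw [Finset.sum_congr rfl (fun n _ => h3 n), Finset.sum_comm]
  refine Finset.sum_congr rfl fun g _ => ?_
  rw [← sum_commHomMod_eq N hN g (fun n => conj ((ψ : N → ℂ) n))]
  have := sum_conj_commHomMod N hN g ψh hfaith'
  simp only [hψval] at this
  rw [this]
  by_cases hs : IsSpecialMod N g
  · rw [if_pos hs]; exact if_pos hs
  · rw [if_neg hs]; exact if_neg hs

/-- The number of irreducible characters of `G` over the faithful character `ψ` of the central
subgroup `N` equals the number of special conjugacy classes of `G ⧸ N`. -/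
theorem card_irr_over_eq_card_special_classes {G : Type*} [Group G] [Fintype G] (N : Subgroup G)
    [N.Normal] [Fintype N] (hN : N ≤ Subgroup.center G) (ψ : Cfsg.IrrCharacter N)
    (hfaith : ∀ n : N, (ψ : N → ℂ) n = (ψ : N → ℂ) 1 → n = 1) :
    Nat.card {χ : Cfsg.IrrCharacter G //
        Cfsg.classInner (fun n : N => (χ : G → ℂ) n) (ψ : N → ℂ) ≠ 0} =
      Nat.card {C : ConjClasses (G ⧸ N) //
        ∃ g : G, ConjClasses.mk (g : G ⧸ N) = C ∧ IsSpecialMod N g} := by
  classical
  have h1 := card_irr_over_mul N hN ψ hfaith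
  have h2 := card_special_classes_mul N hN
  have h2' : (Nat.card {C : ConjClasses (G ⧸ N) //
        ∃ g : G, ConjClasses.mk (g : G ⧸ N) = C ∧ IsSpecialMod N g} : ℂ) *
        ((Nat.card N : ℂ) * (Nat.card G : ℂ)) =
      ∑ g : G, if IsSpecialMod N g then (Nat.card (centralizerMod N g) : ℂ) else 0 := by
    have := congrArg (fun k : ℕ => (k : ℂ)) h2
    simp only [Nat.cast_mul, Nat.cast_sum, Nat.cast_ite, Nat.cast_zero] at this
    exact this
  have hcN : (Nat.card N : ℂ) ≠ 0 := by exact_mod_cast Nat.card_pos.ne'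
  have hcG : (Nat.card G : ℂ) ≠ 0 := by exact_mod_cast Nat.card_pos.ne'
  have h3 := h1.trans h2'.symm
  have h4 := mul_right_cancel₀ (mul_ne_zero hcN hcG) h3
  exact_mod_cast h4

end Cfsg.Agent.Helper76
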