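import Mathlib

/-!
# Sylow 2-subgroups of type `ℤ/2^m × ℤ/2^m`: the automizer has order 1 or 3
-/

set_option autoImplicit false

namespace Cfsg.Agent.Helper76

open Subgroup

/-- An element of odd order normalizing an abelian `2`-subgroup and centralizing its elements of
order at most two centralizes it. -/
theorem conj_eq_of_odd_of_centralizes_involutions {G : Type*} [Group G] (Q : Subgroup G)
    (hQc : ∀ a ∈ Q, ∀ b ∈ Q, a * b = b * a) (hQ2 : IsPGroup 2 Q) (y : G)
    (hyN : ∀ u ∈ Q, y * u * y⁻¹ ∈ Q) (hodd : Odd (orderOf y))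
    (hinv : ∀ u ∈ Q, u ^ 2 = 1 → y * u * y⁻¹ = u) :
    ∀ u ∈ Q, y * u * y⁻¹ = u := by
  have key : ∀ k : ℕ, ∀ u ∈ Q, u ^ (2 ^ k) = 1 → y * u * y⁻¹ = u := by
    intro k
    induction k with
    | zero => intro u _ hu; rw [pow_zero, pow_one] at hu; rw [hu]; group
    | succ k ih =>
      intro u hu hpow
      have hv : y * (u ^ 2) * y⁻¹ = u ^ 2 := by
        apply ih _ (Q.pow_mem hu 2)
        rw [← pow_mul, ← pow_succ']; exact hpow
      set u' := y * u * y⁻¹ with hu'
      have hu'Q : u' ∈ Q := hyN u hu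
      set t := u⁻¹ * u' with ht
      have htQ : t ∈ Q := Q.mul_mem (Q.inv_mem hu) hu'Q
      have hcomm : u⁻¹ * u' = u' * u⁻¹ := hQc _ (Q.inv_mem hu) _ hu'Q
      have hu'2 : u' ^ 2 = u ^ 2 := by
        rw [hu', conj_pow]; exact hv
      have ht2 : t ^ 2 = 1 := by
        rw [ht, (show Commute u⁻¹ u' from hcomm).mul_pow, hu'2, inv_pow, inv_mul_cancel]
      have hty : y * t * y⁻¹ = t := hinv t htQ ht2
      have hu't : u' = u * t := by rw [ht]; group
      have hpowy : ∀ n : ℕ, y ^ n * u * (y ^ n)⁻¹ = u * t ^ n := by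
        intro n
        induction n with
        | zero => simp
        | succ n ihn =>
          have : y ^ (n + 1) * u * (y ^ (n + 1))⁻¹ = y * (y ^ n * u * (y ^ n)⁻¹) * y⁻¹ := by
            rw [pow_succ']; group
          rw [this, ihn]
          have : y * (u * t ^ n) * y⁻¹ = (y * u * y⁻¹) * (y * t * y⁻¹) ^ n := by
            rw [conj_pow]; group
          rw [this, hty, ← hu', hu't, pow_succ']
          group
      have h1 := hpowy (orderOf y)
      rw [pow_orderOf_eq_one, one_mul, inv_one, mul_one] at h1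
      have htn : t ^ orderOf y = 1 := by
        have : u * t ^ orderOf y = u * 1 := by rw [mul_one]; exact h1.symm
        exact mul_left_cancel this
      have ht1 : t = 1 := by
        obtain ⟨j, hj⟩ := hodd
        have : t ^ (2 * j + 1) = 1 := hj ▸ htn
        rw [pow_succ, pow_mul, ht2, one_pow, one_mul] at this
        exact this
      rw [hu't, ht1, mul_one]
  intro u hu
  obtain ⟨k, hk⟩ := (IsPGroup.iff_orderOf.mp hQ2) ⟨u, hu⟩
  apply key k u hu
  have : orderOf u = 2 ^ k := by
    rw [← hk]; exact (Subgroup.orderOf_coe (⟨u, hu⟩ : Q))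
  rw [← this]; exact pow_orderOf_eq_one u

/-- An element normalizing an abelian Sylow `2`-subgroup and centralizing its elements of order
at most two centralizes it. -/
theorem mem_centralizer_of_centralizes_involutions {G : Type*} [Group G] [Finite G]
    (P : Sylow 2 G) (hPc : ∀ a ∈ (P : Subgroup G), ∀ b ∈ (P : Subgroup G), a * b = b * a)
    (x : G) (hx : x ∈ normalizer ((P : Subgroup G) : Set G))
    (hinv : ∀ u ∈ (P : Subgroup G), u ^ 2 = 1 → x * u * x⁻¹ = u) :
    x ∈ centralizer ((P : Subgroup G) : Set G) := by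
  classical
  have hn0 : orderOf x ≠ 0 := (orderOf_pos x).ne'
  obtain ⟨a, b, hb, hab⟩ := Nat.exists_eq_two_pow_mul_odd hn0
  -- y = x^(2^a) has odd order b; w = x^b has order 2^a
  set y := x ^ (2 ^ a) with hy
  set w := x ^ b with hw
  have hb0 : b ≠ 0 := by rintro rfl; simp at hb
  have hyord : orderOf y = b := by
    rw [hy, orderOf_pow' x (pow_ne_zero a two_ne_zero), hab, Nat.gcd_eq_right (Dvd.intro _ rfl)]
    exact Nat.mul_div_cancel_left b (pow_pos two_pos a)
  have hword : orderOf w = 2 ^ a := by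
    rw [hw, orderOf_pow' x hb0, hab, Nat.gcd_eq_right (Dvd.intro_left _ rfl)]
    exact Nat.mul_div_cancel (2 ^ a) (Nat.pos_of_ne_zero hb0)
  have hNpow : ∀ k : ℕ, x ^ k ∈ normalizer ((P : Subgroup G) : Set G) := fun k =>
    Subgroup.pow_mem _ hx k
  have hconj_pow : ∀ (k : ℕ) (u : G), x * u * x⁻¹ = u → x ^ k * u * (x ^ k)⁻¹ = u := by
    intro k u hu
    induction k with
    | zero => simp
    | succ k ih =>
      have : x ^ (k + 1) * u * (x ^ (k + 1))⁻¹ = x * (x ^ k * u * (x ^ k)⁻¹) * x⁻¹ := by
        rw [pow_succ']; group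
      rw [this, ih, hu]
  -- w ∈ P
  have hwP : w ∈ (P : Subgroup G) := by
    have h2 : IsPGroup 2 (zpowers w) := by
      apply IsPGroup.of_card (n := a)
      rw [Nat.card_zpowers, hword]
    have : zpowers w ⊓ normalizer ((P : Subgroup G) : Set G) = zpowers w ⊓ (P : Subgroup G) :=
      h2.inf_normalizer_sylow P
    have hmem : w ∈ zpowers w ⊓ normalizer ((P : Subgroup G) : Set G) :=
      ⟨mem_zpowers w, hNpow b⟩
    rw [this] at hmem
    exact hmem.2
  have hwC : w ∈ centralizer ((P : Subgroup G) : Set G) := by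
    rw [mem_centralizer_iff]
    intro u hu
    exact hPc u hu w hwP
  -- y ∈ C
  have hyC : y ∈ centralizer ((P : Subgroup G) : Set G) := by
    have hyN : ∀ u ∈ (P : Subgroup G), y * u * y⁻¹ ∈ (P : Subgroup G) := by
      intro u hu
      exact (mem_normalizer_iff.mp (hNpow (2 ^ a)) u).mp hu
    have := conj_eq_of_odd_of_centralizes_involutions (P : Subgroup G) hPc P.2 y hyN
      (hyord ▸ hb) (fun u hu hu2 => hconj_pow _ u (hinv u hu hu2))
    rw [mem_centralizer_iff]
    intro u hu
    have h1 := this u hu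
    calc u * y = (y * u * y⁻¹) * y := by rw [h1]
      _ = y * u := by group
  -- x is a product of powers of y and w
  have hcop : IsCoprime ((2 ^ a : ℕ) : ℤ) (b : ℤ) := by
    rw [Nat.isCoprime_iff_coprime]
    exact Nat.Coprime.pow_left a (Nat.coprime_two_left.mpr hb)
  obtain ⟨s, t, hst⟩ := hcop
  have hx1 : x = y ^ s * w ^ t := by
    rw [hy, hw, ← zpow_natCast, ← zpow_natCast, ← zpow_mul, ← zpow_mul, ← zpow_add]
    have : ((2 ^ a : ℕ) : ℤ) * s + (b : ℤ) * t = 1 := by rw [← hst]; ring
    rw [this, zpow_one]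
  rw [hx1]
  exact Subgroup.mul_mem _ (Subgroup.zpow_mem _ hyC s) (Subgroup.zpow_mem _ hwC t)

/-- Conjugation action of a subgroup `A` on a subset `S` stable under `A`-conjugation. -/
@[reducible] def conjMulAction {G : Type*} [Group G] (A : Subgroup G) (S : Set G)
    (hS : ∀ a ∈ A, ∀ s ∈ S, a * s * a⁻¹ ∈ S) : MulAction A S where
  smul a s := ⟨a * s * a⁻¹, hS a a.2 s s.2⟩
  one_smul s := Subtype.ext (by show ((1 : A) : G) * s * ((1 : A) : G)⁻¹ = s; simp)
  mul_smul a b s := Subtype.ext (by
    show ((a * b : A) : G) * s * ((a * b : A) : G)⁻¹ = (a : G) * ((b : G) * s * (b : G)⁻¹) * (a : G)⁻¹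
    simp [mul_assoc])

/-- The `2`-torsion of `ℤ/n × ℤ/n` has at most four elements. -/
theorem card_sq_eq_one_le_four (n : ℕ) [NeZero n] :
    Nat.card {v : Multiplicative (ZMod n × ZMod n) // v ^ 2 = 1} ≤ 4 := by
  classical
  let T := {a : Multiplicative (ZMod n) // a ^ 2 = 1}
  have hT : Nat.card T ≤ 2 := by
    have := IsCyclic.card_pow_eq_one_le (α := Multiplicative (ZMod n)) (n := 2) two_pos
    rw [Nat.card_eq_fintype_card, Fintype.card_subtype]
    exact this
  let f : {v : Multiplicative (ZMod n × ZMod n) // v ^ 2 = 1} → T × T := fun v =>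
    (⟨Multiplicative.ofAdd (Multiplicative.toAdd v.1).1, by
        have h := congrArg (fun w => (Multiplicative.toAdd w).1) v.2
        simp only [toAdd_pow, Prod.smul_fst, toAdd_one, Prod.fst_zero] at h
        rw [← ofAdd_nsmul, h]; rfl⟩,
     ⟨Multiplicative.ofAdd (Multiplicative.toAdd v.1).2, by
        have h := congrArg (fun w => (Multiplicative.toAdd w).2) v.2
        simp only [toAdd_pow, Prod.smul_snd, toAdd_one, Prod.snd_zero] at h
        rw [← ofAdd_nsmul, h]; rfl⟩)
  have hf : Function.Injective f := by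
    intro v w h
    apply Subtype.ext
    have h1 := congrArg (fun p : T × T => (p.1 : Multiplicative (ZMod n))) h
    have h2 := congrArg (fun p : T × T => (p.2 : Multiplicative (ZMod n))) h
    simp only [f] at h1 h2
    have e1 : (Multiplicative.toAdd v.1).1 = (Multiplicative.toAdd w.1).1 :=
      Multiplicative.ofAdd.injective h1
    have e2 : (Multiplicative.toAdd v.1).2 = (Multiplicative.toAdd w.1).2 :=
      Multiplicative.ofAdd.injective h2
    apply Multiplicative.toAdd.injective
    exact Prod.ext e1 e2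
  calc Nat.card {v : Multiplicative (ZMod n × ZMod n) // v ^ 2 = 1}
      ≤ Nat.card (T × T) := Nat.card_le_card_of_injective f hf
    _ = Nat.card T * Nat.card T := Nat.card_prod _ _
    _ ≤ 2 * 2 := Nat.mul_le_mul hT hT
    _ = 4 := rfl

/-- A permutation of a set with at most four elements fixing two distinct points is an
involution. -/
theorem perm_sq_eq_one_of_fixes_two {α : Type*} [Finite α] (hα : Nat.card α ≤ 4)
    (σ : Equiv.Perm α) (a b : α) (hab : a ≠ b) (ha : σ a = a) (hb : σ b = b) : σ ^ 2 = 1 := by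
  classical
  have : Fintype α := Fintype.ofFinite α
  have hsub : σ.support ⊆ Finset.univ \ {a, b} := by
    intro s hs
    rw [Equiv.Perm.mem_support] at hs
    simp only [Finset.mem_sdiff, Finset.mem_univ, Finset.mem_insert, Finset.mem_singleton,
      true_and, not_or]
    exact ⟨fun h => hs (h ▸ ha), fun h => hs (h ▸ hb)⟩
  have hcard : σ.support.card ≤ 2 := by
    have h1 := Finset.card_le_card hsub
    have h2 : (Finset.univ \ ({a, b} : Finset α)).card = Fintype.card α - 2 := by
      rw [Finset.card_sdiff_of_subset (Finset.subset_univ _), Finset.card_univ, Finset.card_pair hab]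
    rw [h2] at h1
    rw [Nat.card_eq_fintype_card] at hα
    omega
  rcases Nat.lt_or_ge σ.support.card 2 with h | h
  · have : σ = 1 := Equiv.Perm.card_support_le_one.mp (by omega)
    rw [this, one_pow]
  · have h2 : σ.support.card = 2 := le_antisymm hcard h
    obtain ⟨x, y, hxy, hσ⟩ := Equiv.Perm.card_support_eq_two.mp h2
    rw [hσ, sq, Equiv.swap_mul_self]

/-- A Sylow `2`-subgroup `P ≅ ℤ/2^m × ℤ/2^m`: `|N_G(P) : C_G(P)|` is `1` or `3`, and in the latter
case `C_G(z) ∩ N_G(P) = C_G(P)` for all `1 ≠ z ∈ P`. -/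
theorem homocyclic_sylow_two_normalizer {G : Type*} [Group G] [Finite G] (P : Sylow 2 G) (m : ℕ)
    (e : (P : Subgroup G) ≃* Multiplicative (ZMod (2 ^ m) × ZMod (2 ^ m))) :
    ((centralizer ((P : Subgroup G) : Set G)).relIndex (normalizer ((P : Subgroup G) : Set G)) = 1 ∨
      (centralizer ((P : Subgroup G) : Set G)).relIndex
        (normalizer ((P : Subgroup G) : Set G)) = 3) ∧
    ((centralizer ((P : Subgroup G) : Set G)).relIndex
        (normalizer ((P : Subgroup G) : Set G)) ≠ 1 →
      ∀ z ∈ (P : Subgroup G), z ≠ 1 →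
        centralizer ({z} : Set G) ⊓ normalizer ((P : Subgroup G) : Set G) =
          centralizer ((P : Subgroup G) : Set G)) := by
  classical
  have hne : NeZero (2 ^ m) := ⟨pow_ne_zero m two_ne_zero⟩
  set N := normalizer ((P : Subgroup G) : Set G) with hN
  set C := centralizer ((P : Subgroup G) : Set G) with hC
  have hCN : C ≤ N := Subgroup.centralizer_le_normalizer _
  -- P is commutative
  have hPc : ∀ a ∈ (P : Subgroup G), ∀ b ∈ (P : Subgroup G), a * b = b * a := by
    intro a ha b hb
    have h1 : (⟨a, ha⟩ : (P : Subgroup G)) * ⟨b, hb⟩ = ⟨b, hb⟩ * ⟨a, ha⟩ := by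
      apply e.injective
      rw [map_mul, map_mul, mul_comm]
    exact congrArg Subtype.val h1
  have hPC : (P : Subgroup G) ≤ C := by
    intro a ha
    rw [hC, mem_centralizer_iff]
    intro b hb
    exact hPc b hb a ha
  -- the set of elements of order at most two
  set S : Set G := {u | u ∈ (P : Subgroup G) ∧ u ^ 2 = 1} with hS
  have hSstab : ∀ a ∈ N, ∀ s ∈ S, a * s * a⁻¹ ∈ S := by
    intro a ha s hs
    refine ⟨(mem_normalizer_iff.mp ha s).mp hs.1, ?_⟩
    rw [conj_pow, hs.2]; group
  have hScard : Nat.card S ≤ 4 := by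
    refine le_trans ?_ (card_sq_eq_one_le_four (2 ^ m))
    apply Nat.card_le_card_of_injective
      (fun s : S => (⟨e ⟨s.1, s.2.1⟩, by
        rw [← map_pow]
        have : (⟨s.1, s.2.1⟩ : (P : Subgroup G)) ^ 2 = 1 := Subtype.ext (by simpa using s.2.2)
        rw [this, map_one]⟩ : {v : Multiplicative (ZMod (2 ^ m) × ZMod (2 ^ m)) // v ^ 2 = 1}))
    intro s t h
    have h1 := congrArg Subtype.val h
    have h2 := e.injective h1
    have h3 : (s : G) = t := congrArg (fun q : (P : Subgroup G) => (q : G)) h2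
    exact Subtype.ext h3
  have hSfin : Finite S := Set.toFinite S |>.to_subtype
  let _ : MulAction N S := conjMulAction N S hSstab
  set φ : N →* Equiv.Perm S := MulAction.toPermHom N S with hφ
  have hφapp : ∀ (x : N) (s : S), ((φ x) s : G) = (x : G) * s * (x : G)⁻¹ := fun x s => rfl
  have hker : φ.ker = C.subgroupOf N := by
    ext x
    rw [MonoidHom.mem_ker, mem_subgroupOf]
    constructor
    · intro h
      apply mem_centralizer_of_centralizes_involutions P hPc x x.2
      intro u hu hu2
      have := congrArg (fun σ : Equiv.Perm S => ((σ ⟨u, hu, hu2⟩ : S) : G)) h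
      simpa [hφapp] using this
    · intro h
      ext s
      rw [hφapp]
      have := mem_centralizer_iff.mp h s.1 s.2.1
      simp only [Equiv.Perm.coe_one, id_eq]
      rw [← this]; group
  have hrel : C.relIndex N = φ.ker.index := by rw [hker]; rfl
  have hdvd : C.relIndex N ∣ 24 := by
    rw [hrel, Subgroup.index_ker]
    have h1 : Nat.card φ.range ∣ Nat.card (Equiv.Perm S) := Subgroup.card_subgroup_dvd_card _
    rw [Nat.card_perm] at h1
    have h2 : (Nat.card S).factorial ∣ Nat.factorial 4 := Nat.factorial_dvd_factorial hScard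
    exact h1.trans h2
  have hodd : ¬ 2 ∣ C.relIndex N := by
    intro h
    have h1 : (P : Subgroup G).relIndex C * C.relIndex N = (P : Subgroup G).relIndex N :=
      Subgroup.relIndex_mul_relIndex _ _ _ hPC hCN
    have h2 : (P : Subgroup G).relIndex N ∣ (P : Subgroup G).index :=
      Subgroup.relIndex_dvd_index_of_le (hPC.trans hCN)
    exact P.not_dvd_index ((h.trans (Dvd.intro_left _ h1)).trans h2)
  have h13 : C.relIndex N = 1 ∨ C.relIndex N = 3 := by
    have hcop : Nat.Coprime (C.relIndex N) 8 := by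
      have : Nat.Coprime (C.relIndex N) 2 :=
        (Nat.coprime_comm.mp ((Nat.Prime.coprime_iff_not_dvd Nat.prime_two).mpr hodd))
      exact Nat.Coprime.pow_right 3 this
    have h3 : C.relIndex N ∣ 3 := by
      have : C.relIndex N ∣ 8 * 3 := hdvd
      exact hcop.dvd_of_dvd_mul_left this
    exact (Nat.dvd_prime Nat.prime_three).mp h3
  refine ⟨h13, ?_⟩
  intro hne1 z hz hz1
  have h3 : C.relIndex N = 3 := h13.resolve_left hne1
  apply le_antisymm
  · rintro x ⟨hxz, hxN⟩
    -- the involution w in ⟨z⟩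
    obtain ⟨k, hk⟩ := (IsPGroup.iff_orderOf.mp P.2) ⟨z, hz⟩
    have hzord : orderOf z = 2 ^ k := by
      rw [← hk]; exact (Subgroup.orderOf_coe (⟨z, hz⟩ : (P : Subgroup G)))
    have hk0 : k ≠ 0 := by
      rintro rfl
      rw [pow_zero, orderOf_eq_one_iff] at hzord
      exact hz1 hzord
    obtain ⟨j, rfl⟩ : ∃ j, k = j + 1 := ⟨k - 1, by omega⟩
    set w := z ^ (2 ^ j) with hw
    have hw2 : w ^ 2 = 1 := by
      rw [hw, ← pow_mul, ← pow_succ, ← hzord, pow_orderOf_eq_one]
    have hw1 : w ≠ 1 := by
      intro h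
      have := orderOf_dvd_of_pow_eq_one h
      rw [hzord] at this
      have := Nat.le_of_dvd (pow_pos two_pos j) this
      have : 2 ^ j < 2 ^ (j + 1) := Nat.pow_lt_pow_right (by norm_num) (by omega)
      omega
    have hwP : w ∈ (P : Subgroup G) := Subgroup.pow_mem _ hz _
    have hxw : x * w * x⁻¹ = w := by
      have hxz' : z * x = x * z := mem_centralizer_iff.mp hxz z rfl
      have : x * z * x⁻¹ = z := by rw [← hxz']; group
      rw [hw, ← conj_pow, this]
    -- the permutation induced by x
    set xN : N := ⟨x, hxN⟩ with hxN'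
    have hσ : (φ xN) ^ 2 = 1 := by
      apply perm_sq_eq_one_of_fixes_two hScard (φ xN) ⟨1, (P : Subgroup G).one_mem, one_pow 2⟩
        ⟨w, hwP, hw2⟩
      · intro h
        exact hw1 (congrArg Subtype.val h).symm
      · apply Subtype.ext
        rw [hφapp]
        simp
      · apply Subtype.ext
        rw [hφapp]
        exact hxw
    have hx2 : xN ^ 2 ∈ φ.ker := by
      rw [MonoidHom.mem_ker, map_pow]; exact hσ
    have hx3 : xN ^ 3 ∈ φ.ker := by
      have hnorm : φ.ker.Normal := inferInstance
      have := Subgroup.pow_index_mem φ.ker xN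
      rwa [← hrel, h3] at this
    have hx1 : xN ∈ φ.ker := by
      have : xN = xN ^ 3 * (xN ^ 2)⁻¹ := by group
      rw [this]
      exact Subgroup.mul_mem _ hx3 (Subgroup.inv_mem _ hx2)
    rw [hker, mem_subgroupOf] at hx1
    exact hx1
  · intro x hx
    refine ⟨?_, hCN hx⟩
    show x ∈ centralizer ({z} : Set G)
    rw [mem_centralizer_iff]
    intro y hy
    rw [Set.mem_singleton_iff] at hy
    rw [hy]
    exact mem_centralizer_iff.mp hx z hz

end Cfsg.Agent.Helper76
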