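import Cfsg.Agent.Helper77.LocalRing
import Mathlib.LinearAlgebra.Matrix.Trace
import Mathlib.LinearAlgebra.Matrix.NonsingularInverse
import Mathlib.LinearAlgebra.Matrix.Determinant.Basic

/-!
# Rigidity of idempotent matrices over the local ring (piece (AD-R) for helper16, board #4100)

Two idempotent complex matrices, one with entries in the local ring at `M`, congruent
entrywise modulo the local ideal, are conjugate; in particular they have the same trace.
-/

set_option autoImplicit false

namespace Cfsg.Agent.Helper76.ADRigid

open Cfsg Cfsg.Agent.Helper77 Matrix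

variable {ι : Type*} [Fintype ι] [DecidableEq ι]

/-- A complex matrix congruent to `1` entrywise modulo the local ideal has nonzero determinant. -/
theorem det_ne_zero_of_congr_one (M : Ideal AlgInt) [M.IsPrime] (U : Matrix ι ι ℂ)
    (hU : ∀ i j, MemLocalIdeal M (U i j - (1 : Matrix ι ι ℂ) i j)) : U.det ≠ 0 := by
  classical
  -- entries of U are in the local ring
  have hone : ∀ i j, MemLocalRing M ((1 : Matrix ι ι ℂ) i j) := by
    intro i j
    by_cases h : i = j
    · subst h; simpa using memLocalRing_natCast M 1
    · simpa [Matrix.one_apply_ne h] using memLocalRing_natCast M 0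
  have hUR : ∀ i j, MemLocalRing M (U i j) := by
    intro i j
    have h1 := memLocalRing_add M (MemLocalIdeal.memLocalRing (hU i j)) (hone i j)
    simpa using h1
  let U' : Matrix ι ι (localRing M) := fun i j => ⟨U i j, hUR i j⟩
  have hmapU : (localRing M).subtype.mapMatrix U' = U := by
    ext i j; rfl
  have hdetU : ((U'.det : localRing M) : ℂ) = U.det := by
    have := RingHom.map_det (localRing M).subtype U'
    rw [hmapU] at this
    exact this
  -- modulo the local ideal U' is the identity
  have hq : (Ideal.Quotient.mk (localIdeal M)).mapMatrix U' = 1 := by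
    ext i j
    simp only [RingHom.mapMatrix_apply, Matrix.map_apply]
    by_cases h : i = j
    · subst h
      rw [Matrix.one_apply_eq]
      rw [← map_one (Ideal.Quotient.mk (localIdeal M)), Ideal.Quotient.eq]
      rw [mem_localIdeal]
      have := hU i i
      rw [Matrix.one_apply_eq] at this
      simpa [U'] using this
    · rw [Matrix.one_apply_ne h, Ideal.Quotient.eq_zero_iff_mem, mem_localIdeal]
      have := hU i j
      rw [Matrix.one_apply_ne h, sub_zero] at this
      simpa [U'] using this
  have hdetq : Ideal.Quotient.mk (localIdeal M) U'.det = 1 := by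
    rw [RingHom.map_det, hq, Matrix.det_one]
  have hmem : MemLocalIdeal M (((U'.det : localRing M) : ℂ) - 1) := by
    have h1 : U'.det - 1 ∈ localIdeal M := by
      rw [← Ideal.Quotient.eq, hdetq, map_one]
    have := (mem_localIdeal M).mp h1
    simpa using this
  intro h0
  rw [hdetU, h0, zero_sub] at hmem
  have := memLocalIdeal_neg hmem
  rw [neg_neg] at this
  exact not_memLocalIdeal_one M this

/-- (AD-R) Rigidity of idempotents: equal traces. -/
theorem trace_eq_of_idem_congr (M : Ideal AlgInt) [M.IsPrime]
    (E E' : Matrix ι ι ℂ) (hE : E * E = E) (hE' : E' * E' = E')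
    (hR : ∀ i j, MemLocalRing M (E i j)) (hJ : ∀ i j, MemLocalIdeal M (E' i j - E i j)) :
    E'.trace = E.trace := by
  classical
  set U : Matrix ι ι ℂ := E' * E + (1 - E') * (1 - E) with hUdef
  have hz : E' * (1 - E') = 0 := by rw [mul_sub, mul_one, hE', sub_self]
  have hz2 : (1 - E) * E = 0 := by rw [sub_mul, one_mul, hE, sub_self]
  have h1 : E' * U = E' * E := by
    rw [hUdef, mul_add, ← mul_assoc, hE', ← mul_assoc, hz, zero_mul, add_zero]
  have h2 : U * E = E' * E := by
    rw [hUdef, add_mul, mul_assoc, hE, mul_assoc, hz2, mul_zero, add_zero]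
  have hUE : E' * U = U * E := h1.trans h2.symm
  -- U = 1 + D * (2 E - 1)
  have hUform : U = 1 + (E' - E) * (E + E - 1) := by
    have e1 : (E' - E) * (E + E - 1) = E' * E + E' * E - E' - (E * E + E * E - E) := by
      rw [sub_mul, mul_sub, mul_sub, mul_add, mul_add, mul_one, mul_one]
    have e2 : (1 - E') * (1 - E) = 1 - E - (E' - E' * E) := by
      rw [sub_mul, one_mul, mul_sub, mul_one]
    rw [hUdef, e1, e2, hE]
    abel
  have hUcong : ∀ i j, MemLocalIdeal M (U i j - (1 : Matrix ι ι ℂ) i j) := by
    intro i j
    rw [hUform]
    have : (1 + (E' - E) * (E + E - 1)) i j - (1 : Matrix ι ι ℂ) i j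
        = ∑ k, (E' - E) i k * (E + E - 1) k j := by
      rw [Matrix.add_apply, add_sub_cancel_left, Matrix.mul_apply]
    rw [this]
    apply memLocalIdeal_sum
    intro k _
    rw [mul_comm]
    apply memLocalIdeal_mul_left M
    · -- (2E - 1) k j in the local ring
      rw [Matrix.sub_apply, Matrix.add_apply]
      apply memLocalRing_sub M
      · exact memLocalRing_add M (hR k j) (hR k j)
      · by_cases h : k = j
        · subst h; simpa using memLocalRing_natCast M 1
        · simpa [Matrix.one_apply_ne h] using memLocalRing_natCast M 0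
    · rw [Matrix.sub_apply]; exact hJ i k
  have hdet : U.det ≠ 0 := det_ne_zero_of_congr_one M U hUcong
  have hunit : IsUnit U.det := isUnit_iff_ne_zero.mpr hdet
  have hconj : E' = U * E * U⁻¹ := by
    rw [← hUE, mul_assoc, Matrix.mul_nonsing_inv U hunit, mul_one]
  rw [hconj, Matrix.trace_mul_comm, ← mul_assoc, Matrix.nonsing_inv_mul U hunit, one_mul]

end Cfsg.Agent.Helper76.ADRigid
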