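import Cfsg.Agent.Helper19.Stein.Defs

/-!
# Sign cancellation over subsets of generators (piece (X1c) for helper19, board #4146)

`∑_J (-1)^|J| [w is J-minimal on the right] = [every generator is a right descent of w]`,
and the two-sided version.
-/

set_option autoImplicit false

namespace Cfsg.Agent.Helper76.SteinX1c

open Cfsg.Agent.Helper6 Cfsg.Agent.Helper19.Stein

variable {W ι : Type*} [Group W] {f : ι → W}

private theorem inv_gen (h : ExchData f) (i : ι) : (f i)⁻¹ = f i :=
  inv_eq_of_mul_eq_one_right (h.inv i)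

private theorem wp_reverse (h : ExchData f) (l : List ι) : wp f l.reverse = (wp f l)⁻¹ := by
  induction l with
  | nil => simp
  | cons i l ih =>
    rw [List.reverse_cons, wp_append, wp_singleton, ih, wp_cons, mul_inv_rev, inv_gen h]

private theorem wl_inv_le (h : ExchData f) (w : W) : wl f w⁻¹ ≤ wl f w := by
  obtain ⟨l, hl, hlen⟩ := exists_red h.gen w
  have := wl_le (f := f) (l := l.reverse) (w := w⁻¹) (by rw [wp_reverse h, hl])
  simpa [hlen] using this

private theorem wl_inv' (h : ExchData f) (w : W) : wl f w⁻¹ = wl f w := by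
  apply le_antisymm (wl_inv_le h w)
  have := wl_inv_le h w⁻¹
  rwa [inv_inv] at this

private theorem wl_mul_ne' (h : ExchData f) (i : ι) (w : W) : wl f (w * f i) ≠ wl f w := by
  have h1 : wl f (w * f i) = wl f (f i * w⁻¹) := by
    rw [← wl_inv' h (w * f i), mul_inv_rev, inv_gen h]
  rw [h1, ← wl_inv' h w]
  exact h.ne i w⁻¹

open Classical in
/-- the abstract cancellation: an indicator of `J ⊆ A` summed with signs -/
private theorem sum_powerset_sign [Fintype ι] (A : Finset ι) :
    ∑ J ∈ (Finset.univ : Finset ι).powerset, (-1 : ℂ) ^ J.card * (if J ⊆ A then 1 else 0)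
      = if A = ∅ then 1 else 0 := by
  have h1 : ∑ J ∈ (Finset.univ : Finset ι).powerset, (-1 : ℂ) ^ J.card * (if J ⊆ A then 1 else 0)
      = ∑ J ∈ (Finset.univ : Finset ι).powerset.filter (fun J => J ⊆ A), (-1 : ℂ) ^ J.card := by
    rw [Finset.sum_filter]
    apply Finset.sum_congr rfl
    intro J _
    by_cases hJ : J ⊆ A <;> simp [hJ]
  have h2 : (Finset.univ : Finset ι).powerset.filter (fun J => J ⊆ A) = A.powerset := by
    ext J
    simp [Finset.mem_powerset]
  rw [h1, h2]
  have h3 := Finset.sum_powerset_neg_one_pow_card (x := A)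
  have h4 := congrArg (Int.cast : ℤ → ℂ) h3
  push_cast at h4
  rw [h4]

open Classical in
theorem sum_powerset_minR (h : ExchData f) [Fintype ι] (w : W) :
    ∑ J ∈ (Finset.univ : Finset ι).powerset,
      (-1 : ℂ) ^ J.card * (if MinR f (↑J : Set ι) w then 1 else 0) = if MaxR f w then 1 else 0 := by
  set A : Finset ι := Finset.univ.filter (fun i => wl f w < wl f (w * f i)) with hA
  have hmin : ∀ J : Finset ι, MinR f (↑J : Set ι) w ↔ J ⊆ A := by
    intro J
    constructor
    · intro hJ i hi
      rw [hA, Finset.mem_filter]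
      exact ⟨Finset.mem_univ i, hJ i (Finset.mem_coe.mpr hi)⟩
    · intro hJ j hj
      have := hJ (Finset.mem_coe.mp hj)
      rw [hA, Finset.mem_filter] at this
      exact this.2
  have hmax : MaxR f w ↔ A = ∅ := by
    constructor
    · intro hm
      rw [hA, Finset.filter_eq_empty_iff]
      intro i _
      exact not_lt.mpr (le_of_lt (hm i))
    · intro hE i
      rw [hA, Finset.filter_eq_empty_iff] at hE
      have := hE (Finset.mem_univ i)
      exact lt_of_le_of_ne (not_lt.mp this) (wl_mul_ne' h i w)
  have := sum_powerset_sign A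
  simp only [hmin, hmax]
  convert this using 2

open Classical in
private theorem sum_powerset_minL (h : ExchData f) [Fintype ι] (w : W) :
    ∑ J ∈ (Finset.univ : Finset ι).powerset,
      (-1 : ℂ) ^ J.card * (if MinL f (↑J : Set ι) w then 1 else 0) = if MaxL f w then 1 else 0 := by
  set A : Finset ι := Finset.univ.filter (fun i => wl f w < wl f (f i * w)) with hA
  have hmin : ∀ J : Finset ι, MinL f (↑J : Set ι) w ↔ J ⊆ A := by
    intro J
    constructor
    · intro hJ i hi
      rw [hA, Finset.mem_filter]
      exact ⟨Finset.mem_univ i, hJ i (Finset.mem_coe.mpr hi)⟩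
    · intro hJ j hj
      have := hJ (Finset.mem_coe.mp hj)
      rw [hA, Finset.mem_filter] at this
      exact this.2
  have hmax : MaxL f w ↔ A = ∅ := by
    constructor
    · intro hm
      rw [hA, Finset.filter_eq_empty_iff]
      intro i _
      exact not_lt.mpr (le_of_lt (hm i))
    · intro hE i
      rw [hA, Finset.filter_eq_empty_iff] at hE
      have := hE (Finset.mem_univ i)
      exact lt_of_le_of_ne (not_lt.mp this) (h.ne i w)
  have := sum_powerset_sign A
  simp only [hmin, hmax]
  convert this using 2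

open Classical in
theorem sum_powerset_minLR (h : ExchData f) [Fintype ι] (w : W) :
    ∑ J ∈ (Finset.univ : Finset ι).powerset, ∑ K ∈ (Finset.univ : Finset ι).powerset,
      (-1 : ℂ) ^ J.card * (-1 : ℂ) ^ K.card *
        (if MinL f (↑J : Set ι) w ∧ MinR f (↑K : Set ι) w then 1 else 0)
      = if MaxL f w ∧ MaxR f w then 1 else 0 := by
  have hsplit : ∀ J K : Finset ι,
      (-1 : ℂ) ^ J.card * (-1 : ℂ) ^ K.card *
        (if MinL f (↑J : Set ι) w ∧ MinR f (↑K : Set ι) w then 1 else 0)
      = ((-1 : ℂ) ^ J.card * (if MinL f (↑J : Set ι) w then 1 else 0)) *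
        ((-1 : ℂ) ^ K.card * (if MinR f (↑K : Set ι) w then 1 else 0)) := by
    intro J K
    by_cases h1 : MinL f (↑J : Set ι) w <;> by_cases h2 : MinR f (↑K : Set ι) w <;> simp [h1, h2]
  simp_rw [hsplit]
  rw [← Finset.sum_mul_sum, sum_powerset_minL h w, sum_powerset_minR h w]
  by_cases h1 : MaxL f w <;> by_cases h2 : MaxR f w <;> simp [h1, h2]

end Cfsg.Agent.Helper76.SteinX1c
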