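import Mathlib
import Cfsg.Agent.Helper5.SuBN.Defs

/-!
Piece (R2) for helper5's S2546 (WANTED #9131): a monomial matrix `m` or `s * m` conjugates the root
group `X_k` into `B`.
-/

set_option autoImplicit false

namespace Cfsg.Agent.Helper76.SuBNR2

open Matrix Cfsg.Agent.Helper5.SuBN

variable {F : Type*} [Field F] {n : ℕ} {σ : F →+* F}

theorem perm_apply_inv (π : Equiv.Perm (Fin n)) (x : Fin n) : π (π⁻¹ x) = x :=
  π.apply_symm_apply x

theorem perm_inv_apply (π : Equiv.Perm (Fin n)) (x : Fin n) : π⁻¹ (π x) = x :=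
  π.symm_apply_apply x

/-- the inverse of the permutation of a unitary monomial matrix commutes with `Fin.rev` -/
theorem inv_perm_rev (m : UG n σ) (π : Equiv.Perm (Fin n))
    (hπ : ∀ a b : Fin n, a ≠ π b → mat m a b = 0) (y : Fin n) :
    π⁻¹ (Fin.rev y) = Fin.rev (π⁻¹ y) := by
  apply π.injective
  rw [mono_perm_rev m π hπ, perm_apply_inv, perm_apply_inv]

/-- sufficient condition on the permutation for `m⁻¹ X_k m ⊆ B` -/
theorem conj_Xset_mem_Bsub (k : Fin (n / 2)) (m : UG n σ) (π : Equiv.Perm (Fin n))
    (hπ : ∀ a b : Fin n, a ≠ π b → mat m a b = 0)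
    (hC1 : 2 * k.val + 2 ≠ n → π⁻¹ (ia k) < π⁻¹ (ib k))
    (hC2 : ¬ (2 * k.val + 3 < n) → π⁻¹ (ia k) < Fin.rev (π⁻¹ (ia k))) :
    ∀ x ∈ Xset σ k, m⁻¹ * x * m ∈ Bsub n σ := by
  rintro x ⟨t, u, hP, hx⟩
  have hu : 2 * k.val + 3 < n → u = 0 := by
    intro h
    unfold Param at hP
    rw [if_pos h] at hP
    exact hP
  have ht : 2 * k.val + 2 = n → t = 0 := by
    intro h
    unfold Param at hP
    rw [if_neg (by omega), if_pos h] at hP
    exact hP.1
  rw [mem_Bsub_iff]
  intro i j hji
  rw [mono_conj_apply m π hπ x i j]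
  have hne : π i ≠ π j := fun h => (ne_of_gt hji) (π.injective h)
  have hzero : mat x (π i) (π j) = 0 := by
    rw [hx, xMat_apply, if_neg hne]
    have h1 : (if ia k = π i ∧ ib k = π j then t else 0) = 0 := by
      split_ifs with h
      · by_cases h2 : 2 * k.val + 2 = n
        · exact ht h2
        · exfalso
          have h3 := hC1 h2
          rw [h.1, h.2, perm_inv_apply, perm_inv_apply] at h3
          exact lt_asymm h3 hji
      · rfl
    have h2 : (if Fin.rev (ib k) = π i ∧ Fin.rev (ia k) = π j then σ t else 0) = 0 := by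
      split_ifs with h
      · by_cases h2 : 2 * k.val + 2 = n
        · rw [ht h2, map_zero]
        · exfalso
          have h3 := hC1 h2
          have e1 : i = Fin.rev (π⁻¹ (ib k)) := by
            rw [← inv_perm_rev m π hπ, h.1, perm_inv_apply]
          have e2 : j = Fin.rev (π⁻¹ (ia k)) := by
            rw [← inv_perm_rev m π hπ, h.2, perm_inv_apply]
          rw [e1, e2, Fin.rev_lt_rev] at hji
          exact lt_asymm h3 hji
      · rfl
    have h3 : (if ia k = π i ∧ Fin.rev (ia k) = π j then u else 0) = 0 := by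
      split_ifs with h
      · by_cases h2 : 2 * k.val + 3 < n
        · exact hu h2
        · exfalso
          have h3 := hC2 h2
          have e1 : π⁻¹ (ia k) = i := by rw [h.1, perm_inv_apply]
          have e2 : Fin.rev (π⁻¹ (ia k)) = j := by
            rw [← inv_perm_rev m π hπ, h.2, perm_inv_apply]
          rw [e2, e1] at h3
          exact lt_asymm h3 hji
      · rfl
    rw [h1, h2, h3]
    ring
  rw [hzero, mul_zero, zero_mul]

theorem sPerm_inv (k : Fin (n / 2)) : (sPerm k)⁻¹ = sPerm k := by
  ext j
  rw [Equiv.Perm.inv_def]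
  have : (sPerm k).symm j = sPerm k j := by
    rw [Equiv.symm_apply_eq, sPerm_sPerm]
  rw [this]

/-- (R2) -/
theorem conj_Xset_dichotomy (c : F) (k : Fin (n / 2)) (s : UG n σ) (hs : mat s = sMat c k)
    (m : UG n σ) (hm : m ∈ Mono n σ) :
    (∀ x ∈ Xset σ k, m⁻¹ * x * m ∈ Bsub n σ) ∨
      (∀ x ∈ Xset σ k, (s * m)⁻¹ * x * (s * m) ∈ Bsub n σ) := by
  obtain ⟨π, hπ⟩ := (mem_Mono_iff m).1 hm
  have hk := k.2
  -- `s * m` is monomial for `sPerm k * π`
  have hρ : ∀ a b : Fin n, a ≠ (sPerm k * π) b → mat (s * m) a b = 0 := by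
    intro a b hab
    rw [mat_mul, mul_mono_apply m π hπ, hs, sMat_apply]
    have hab' : a ≠ sPerm k (π b) := hab
    rw [if_neg hab', zero_mul]
  have hρinv : ∀ y : Fin n, (sPerm k * π)⁻¹ y = π⁻¹ (sPerm k y) := by
    intro y
    rw [_root_.mul_inv_rev, Equiv.Perm.mul_apply, sPerm_inv]
  set a₀ := π⁻¹ (ia k) with ha₀
  set b₀ := π⁻¹ (ib k) with hb₀
  have hab : ia k ≠ ib k := by
    intro h
    have := congrArg Fin.val h
    rw [val_ia, val_ib] at this
    omega
  have hab₀ : a₀ ≠ b₀ := fun h => hab (π⁻¹.injective h)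
  by_cases h1 : 2 * k.val + 3 < n
  · -- kind I
    have e1 : sPerm k (ia k) = ib k := by
      apply Fin.ext
      rw [val_sPerm, val_ia, val_ib, if_pos h1, if_pos rfl]
    have e2 : sPerm k (ib k) = ia k := by
      apply Fin.ext
      rw [val_sPerm, val_ia, val_ib, if_pos h1, if_neg (by omega), if_pos rfl]
    rcases lt_or_gt_of_ne hab₀ with h | h
    · left
      exact conj_Xset_mem_Bsub k m π hπ (fun _ => h) (fun h' => absurd h1 h')
    · right
      apply conj_Xset_mem_Bsub k (s * m) (sPerm k * π) hρ
      · intro _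
        rw [hρinv, hρinv, e1, e2]
        exact h
      · intro h'
        exact absurd h1 h'
  · by_cases h2 : 2 * k.val + 2 = n
    · -- kind II
      have e1 : sPerm k (ia k) = Fin.rev (ia k) := by
        apply Fin.ext
        rw [val_sPerm, val_rev, val_ia, if_neg h1, if_pos rfl]
      have hne : a₀ ≠ Fin.rev a₀ := by
        intro h
        have h3 : ia k = Fin.rev (ia k) := by
          have := congrArg π h
          rw [ha₀, mono_perm_rev m π hπ, perm_apply_inv] at this
          exact this
        have := congrArg Fin.val h3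
        rw [val_rev, val_ia] at this
        omega
      rcases lt_or_gt_of_ne hne with h | h
      · left
        exact conj_Xset_mem_Bsub k m π hπ (fun h' => absurd h2 h') (fun _ => h)
      · right
        apply conj_Xset_mem_Bsub k (s * m) (sPerm k * π) hρ
        · intro h'
          exact absurd h2 h'
        · intro _
          rw [hρinv, e1, inv_perm_rev m π hπ, Fin.rev_rev]
          exact h
    · -- kind III
      have h3 : 2 * k.val + 3 = n := by omega
      have e1 : sPerm k (ia k) = Fin.rev (ia k) := by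
        apply Fin.ext
        rw [val_sPerm, val_rev, val_ia, if_neg h1, if_pos rfl]
      have e2 : sPerm k (ib k) = ib k := by
        apply Fin.ext
        rw [val_sPerm, val_ib, if_neg h1, if_neg (by omega), if_neg (by omega)]
      have hbrev : Fin.rev (ib k) = ib k := by
        apply Fin.ext
        rw [val_rev, val_ib]
        omega
      have hb₀rev : Fin.rev b₀ = b₀ := by
        rw [hb₀, ← inv_perm_rev m π hπ, hbrev]
      have hb₀val : 2 * b₀.val + 1 = n := by
        have := congrArg Fin.val hb₀rev
        rw [val_rev] at this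
        have := b₀.2
        omega
      have hab₀' : a₀.val ≠ b₀.val := fun h => hab₀ (Fin.ext h)
      have ha₀lt := a₀.2
      rcases lt_or_gt_of_ne hab₀' with h | h
      · left
        apply conj_Xset_mem_Bsub k m π hπ
        · intro _
          rw [Fin.lt_def]
          exact h
        · intro _
          rw [Fin.lt_def, val_rev]
          omega
      · right
        apply conj_Xset_mem_Bsub k (s * m) (sPerm k * π) hρ
        · intro _
          rw [hρinv, hρinv, e1, e2, inv_perm_rev m π hπ, Fin.lt_def, val_rev]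
          show n - 1 - a₀.val < b₀.val
          omega
        · intro _
          rw [hρinv, e1, inv_perm_rev m π hπ, Fin.rev_rev, Fin.lt_def, val_rev]
          show n - 1 - a₀.val < a₀.val
          omega

end Cfsg.Agent.Helper76.SuBNR2
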