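import Mathlib
import Cfsg.Agent.Helper5.SuBN.Defs

/-!
Piece (STEP1) for helper5's S2546 (WANTED #9139): reduction step, last nonzero coordinate `A` in the
first half.
-/

set_option autoImplicit false

namespace Cfsg.Agent.Helper76.SuBNSTEP1

open Matrix Cfsg.Agent.Helper5.SuBN

variable {F : Type*} [Field F] {n : ℕ} {σ : F →+* F}

/-- the action of a root element of kind (I) on a vector -/
theorem xMat_mulVec (k : Fin (n / 2)) (t : F) (v : Fin n → F) (l : Fin n) :
    (xMat σ k t 0 *ᵥ v) l = v l + (if l = ia k then t * v (ib k) else 0)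
      - (if l = Fin.rev (ib k) then σ t * v (Fin.rev (ia k)) else 0) := by
  unfold xMat
  rw [Matrix.add_mulVec, Matrix.sub_mulVec, Matrix.add_mulVec, Matrix.one_mulVec,
    Matrix.smul_mulVec, Matrix.smul_mulVec, Matrix.smul_mulVec, Matrix.single_mulVec,
    Matrix.single_mulVec, Matrix.single_mulVec]
  simp only [Pi.add_apply, Pi.sub_apply, Pi.smul_apply, Function.update_apply, Pi.zero_apply,
    smul_eq_mul, one_mul, zero_mul, mul_ite, mul_zero, ite_self, add_zero]

/-- a reflection of kind (I) is a permutation matrix -/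
theorem sMat_mulVec (c : F) (k : Fin (n / 2)) (hI : 2 * k.val + 3 < n) (w : Fin n → F) (i : Fin n) :
    (sMat c k *ᵥ w) i = w (sPerm k i) := by
  rw [Matrix.mulVec, dotProduct]
  rw [Finset.sum_eq_single (sPerm k i)]
  · rw [sMat_apply, sPerm_sPerm, if_pos rfl]
    unfold sSign
    rw [if_pos hI, one_mul]
  · intro l _ hl
    rw [sMat_apply, if_neg, zero_mul]
    intro h
    apply hl
    rw [h, sPerm_sPerm]
  · intro h
    exact absurd (Finset.mem_univ _) h

/-- (STEP1) -/
theorem step_first (hσ : ∀ x, σ (σ x) = x)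
    (hX : ∀ (k : Fin (n / 2)) (t u : F), Param σ k t u → IsUJ σ (xMat σ k t u))
    (c : F) (hS : ∀ k : Fin (n / 2), IsUJ σ (sMat c k))
    (j A : ℕ) (hjA : j < A) (hA : 2 * A + 1 < n) (v : Fin n → F)
    (hvA : ∀ a : Fin n, A < a.val → v a = 0) (a : Fin n) (ha : a.val = A) (hva : v a ≠ 0) :
    ∃ h ∈ Bsub n σ ⊔ Nsub n σ c, Fixj j h ∧ ∀ a : Fin n, A ≤ a.val → (mat h *ᵥ v) a = 0 := by
  have hk : A - 1 < n / 2 := by omega
  set k : Fin (n / 2) := ⟨A - 1, hk⟩ with hkdef
  have hkval : k.val = A - 1 := rfl
  have hI : 2 * k.val + 3 < n := by rw [hkval]; omega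
  have hib : ib k = a := by
    apply Fin.ext
    rw [val_ib, hkval, ha]
    omega
  set t : F := -(v (ia k)) / v a with ht
  have hP : Param σ k t 0 := by
    unfold Param
    rw [if_pos hI]
  obtain ⟨x, hx⟩ := exists_of_isUJ (hX k t 0 hP)
  obtain ⟨s, hs⟩ := exists_of_isUJ (hS k)
  -- `x ∈ B`
  have hxB : x ∈ Bsub n σ := by
    rw [mem_Bsub_iff]
    intro p q hqp
    rw [hx, xMat_apply, if_neg (ne_of_gt hqp)]
    have hpq : q.val < p.val := hqp
    have hp := p.2
    have hq := q.2
    have h1 : ¬ (ia k = p ∧ ib k = q) := by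
      rintro ⟨e1, e2⟩
      have e1' := congrArg Fin.val e1
      have e2' := congrArg Fin.val e2
      rw [val_ia] at e1'
      rw [val_ib] at e2'
      omega
    have h2 : ¬ (Fin.rev (ib k) = p ∧ Fin.rev (ia k) = q) := by
      rintro ⟨e1, e2⟩
      have e1' := congrArg Fin.val e1
      have e2' := congrArg Fin.val e2
      rw [val_rev, val_ib] at e1'
      rw [val_rev, val_ia] at e2'
      omega
    rw [if_neg h1, if_neg h2]
    simp
  have hsN : s ∈ Nsub n σ c :=
    Subgroup.mem_sup_left (Subgroup.subset_closure ⟨k, hs⟩)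
  refine ⟨s * x, Subgroup.mul_mem _ (Subgroup.mem_sup_right hsN) (Subgroup.mem_sup_left hxB),
    ?_, ?_⟩
  · -- the first `j` columns
    intro p q hq
    rw [mat_mul, Matrix.mul_apply]
    have hqA : q.val + 1 < A := by omega
    have hcol : ∀ l : Fin n, mat x l q = if l = q then 1 else 0 := by
      intro l
      rw [hx, xMat_apply]
      have h1 : ¬ (ia k = l ∧ ib k = q) := by
        rintro ⟨_, e2⟩
        have e2' := congrArg Fin.val e2
        rw [val_ib, hkval] at e2'
        omega
      have h2 : ¬ (Fin.rev (ib k) = l ∧ Fin.rev (ia k) = q) := by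
        rintro ⟨_, e2⟩
        have e2' := congrArg Fin.val e2
        rw [val_rev, val_ia, hkval] at e2'
        have := q.2
        omega
      rw [if_neg h1, if_neg h2]
      simp
    rw [Finset.sum_eq_single q]
    · rw [hcol q, if_pos rfl, mul_one, hs, sMat_apply]
      have hfix : sPerm k q = q := by
        apply Fin.ext
        rw [val_sPerm, if_pos hI, hkval]
        have := q.2
        rw [if_neg (by omega), if_neg (by omega), if_neg (by omega), if_neg (by omega)]
      rw [hfix]
      unfold sSign
      rw [if_pos hI]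
    · intro l _ hl
      rw [hcol l, if_neg hl, mul_zero]
    · intro h
      exact absurd (Finset.mem_univ _) h
  · -- the coordinates `≥ A` vanish
    intro p hp
    rw [mat_mul, ← Matrix.mulVec_mulVec, hs, sMat_mulVec c k hI, hx, xMat_mulVec]
    have hrev : v (Fin.rev (ia k)) = 0 := by
      apply hvA
      rw [val_rev, val_ia, hkval]
      omega
    rw [hrev, mul_zero, ite_self, sub_zero]
    have hpn := p.2
    by_cases hpA : p.val = A
    · -- `sPerm k p = ia k`
      have e : sPerm k p = ia k := by
        apply Fin.ext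
        rw [val_sPerm, if_pos hI, val_ia, hkval]
        rw [if_neg (by omega), if_pos (by omega)]
      rw [e, if_pos rfl, hib, ht]
      field_simp
      ring
    · have hgt : A < (sPerm k p).val := by
        rw [val_sPerm, if_pos hI, hkval]
        split_ifs <;> omega
      have hne : sPerm k p ≠ ia k := by
        intro h
        have := congrArg Fin.val h
        rw [val_ia, hkval] at this
        omega
      rw [if_neg hne, add_zero]
      exact hvA _ hgt

end Cfsg.Agent.Helper76.SuBNSTEP1
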