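import Mathlib
import Cfsg.Prelude.Def_Characters
import Cfsg.Agent.Helper12.PermCharBasics

/-!
# Inner products of permutation characters by orbit counting (helper76)

* `classInner_permChar_permChar`: `⟨π_V, π_W⟩ = #orbits (V × W)`.
* `card_orbits_eq_of_invariant`: orbit counting through a complete invariant.
* `card_fixedBy_embedding`: fixed embeddings `Fin k ↪ Ω` are embeddings into the fixed points.
* `sum_descFactorial_fixedBy`: for a `k`-transitive group the `k`-th factorial moment of the
  number of fixed points is `1`.
-/

set_option autoImplicit false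

namespace Cfsg.Agent.Helper76

open Cfsg
open scoped ComplexConjugate
open Cfsg.Agent.Helper12.PermCharBasics

section general

variable {G : Type*} [Group G] [Fintype G]

/-- fixed points of a product action -/
theorem card_fixedBy_prod' {V W : Type*} [MulAction G V] [MulAction G W] (g : G) :
    Nat.card (MulAction.fixedBy (V × W) g) =
      Nat.card (MulAction.fixedBy V g) * Nat.card (MulAction.fixedBy W g) := by
  rw [← Nat.card_prod]
  refine Nat.card_congr ⟨fun p => (⟨p.1.1, ?_⟩, ⟨p.1.2, ?_⟩), fun q => ⟨(q.1.1, q.2.1), ?_⟩, ?_, ?_⟩
  · have := p.2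
    rw [MulAction.mem_fixedBy] at this ⊢
    exact congrArg Prod.fst this
  · have := p.2
    rw [MulAction.mem_fixedBy] at this ⊢
    exact congrArg Prod.snd this
  · rw [MulAction.mem_fixedBy]
    exact Prod.ext q.1.2 q.2.2
  · intro p; rfl
  · intro q; rfl

/-- `⟨π_V, π_W⟩` is the number of orbits on `V × W`. -/
theorem classInner_permChar_permChar (V W : Type*) [Fintype V] [Fintype W]
    [MulAction G V] [MulAction G W] :
    classInner (permChar G V) (permChar G W) =
      (Nat.card (MulAction.orbitRel.Quotient G (V × W)) : ℂ) := by
  have hne : (Nat.card G : ℂ) ≠ 0 := by exact_mod_cast Nat.card_pos.ne'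
  unfold classInner
  have : ∀ g : G, permChar G V g * conj (permChar G W g) =
      ((Nat.card (MulAction.fixedBy (V × W) g) : ℕ) : ℂ) := by
    intro g
    rw [card_fixedBy_prod']
    simp [permChar]
  simp only [this]
  rw [← Nat.cast_sum, burnside, Nat.cast_mul, mul_comm, mul_assoc, mul_inv_cancel₀ hne, mul_one]

/-- `⟨π_V, 1⟩ = 1` for a transitive nonempty `G`-set. -/
theorem classInner_permChar_triv (V : Type*) [Fintype V] [MulAction G V]
    [MulAction.IsPretransitive G V] [Nonempty V] :
    classInner (permChar G V) (fun _ => 1) = 1 :=
  classInner_permChar_one (Classical.arbitrary V)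

/-- `⟨1, π_V⟩ = 1` for a transitive nonempty `G`-set. -/
theorem classInner_triv_permChar (V : Type*) [Fintype V] [MulAction G V]
    [MulAction.IsPretransitive G V] [Nonempty V] :
    classInner (fun _ => (1 : ℂ)) (permChar G V) = 1 := by
  have h := classInner_permChar_triv (G := G) V
  have h2 : classInner (fun _ => (1 : ℂ)) (permChar G V) =
      classInner (permChar G V) (fun _ => 1) := by
    unfold classInner
    congr 1
    refine Finset.sum_congr rfl fun g _ => ?_
    simp [permChar]
  rw [h2, h]

theorem classInner_triv_triv : classInner (fun _ : G => (1 : ℂ)) (fun _ => 1) = 1 := by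
  have hne : (Nat.card G : ℂ) ≠ 0 := by exact_mod_cast Nat.card_pos.ne'
  unfold classInner
  simp only [map_one, mul_one, Finset.sum_const, Finset.card_univ, nsmul_eq_mul]
  rw [Nat.card_eq_fintype_card] at hne ⊢
  exact inv_mul_cancel₀ hne

/-- symmetry of the inner product of permutation characters -/
theorem classInner_permChar_comm (V W : Type*) [Fintype V] [Fintype W]
    [MulAction G V] [MulAction G W] :
    classInner (permChar G V) (permChar G W) = classInner (permChar G W) (permChar G V) := by
  unfold classInner
  congr 1
  refine Finset.sum_congr rfl fun g _ => ?_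
  simp [permChar, mul_comm]

end general

section orbits

variable {G : Type*} [Group G]

/-- Orbit counting through a complete invariant. -/
theorem card_orbits_eq_of_invariant {Z ι : Type*} [MulAction G Z] [Fintype ι]
    (J : Z → ι) (hinv : ∀ (g : G) (z : Z), J (g • z) = J z) (hsurj : Function.Surjective J)
    (hsep : ∀ z z' : Z, J z = J z' → ∃ g : G, g • z = z') :
    Nat.card (MulAction.orbitRel.Quotient G Z) = Fintype.card ι := by
  rw [← Nat.card_eq_fintype_card]
  refine Nat.card_congr (Equiv.ofBijective
    (Quotient.lift J (fun a b hab => ?_)) ⟨?_, ?_⟩)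
  · obtain ⟨g, rfl⟩ := hab
    exact hinv g b
  · intro q q' h
    induction q using Quotient.inductionOn with | _ z => ?_
    induction q' using Quotient.inductionOn with | _ z' => ?_
    obtain ⟨g, hg⟩ := hsep z z' h
    apply Quotient.sound
    exact ⟨g⁻¹, by rw [← hg]; exact inv_smul_smul g z⟩
  · intro i
    obtain ⟨z, rfl⟩ := hsurj i
    exact ⟨Quotient.mk'' z, rfl⟩

end orbits

section embeddings

variable {G : Type*} [Group G] {Ω : Type*} [MulAction G Ω]

/-- fixed embeddings are embeddings into the fixed points -/
theorem card_fixedBy_embedding [Finite Ω] (k : ℕ) (g : G) :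
    Nat.card (MulAction.fixedBy (Fin k ↪ Ω) g) =
      (Nat.card (MulAction.fixedBy Ω g)).descFactorial k := by
  classical
  have := Fintype.ofFinite Ω
  have e : MulAction.fixedBy (Fin k ↪ Ω) g ≃ (Fin k ↪ MulAction.fixedBy Ω g) :=
    { toFun := fun e => ⟨fun i => ⟨e.1 i, by
          have h := e.2
          rw [MulAction.mem_fixedBy] at h ⊢
          have := congrArg (fun f : Fin k ↪ Ω => f i) h
          simpa using this⟩, fun i j hij => e.1.injective (by simpa using congrArg Subtype.val hij)⟩
      invFun := fun e => ⟨⟨fun i => (e i : Ω), fun i j hij => e.injective (Subtype.ext hij)⟩, by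
          rw [MulAction.mem_fixedBy]
          ext i
          have := (e i).2
          rw [MulAction.mem_fixedBy] at this
          exact this⟩
      left_inv := fun e => by ext i; rfl
      right_inv := fun e => by ext i; rfl }
  rw [Nat.card_congr e, Nat.card_eq_fintype_card, Fintype.card_embedding_eq, Fintype.card_fin,
    Nat.card_eq_fintype_card]

/-- For a `k`-transitive action (with at least `k` points) the `k`-th factorial moment of the
number of fixed points is `1`. -/
theorem sum_descFactorial_fixedBy [Fintype G] [Fintype Ω] (k : ℕ)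
    [MulAction.IsMultiplyPretransitive G Ω k] (hk : k ≤ Fintype.card Ω) :
    ∑ g : G, (Nat.card (MulAction.fixedBy Ω g)).descFactorial k = Nat.card G := by
  classical
  have hne : Nonempty (Fin k ↪ Ω) := by
    rw [Function.Embedding.nonempty_iff_card_le]
    simpa using hk
  have h := burnside (G := G) (Fin k ↪ Ω)
  simp only [card_fixedBy_embedding] at h
  rw [h]
  have h1 : Nat.card (MulAction.orbitRel.Quotient G (Fin k ↪ Ω)) = 1 := by
    have : MulAction.IsPretransitive G (Fin k ↪ Ω) := inferInstance
    have : Subsingleton (MulAction.orbitRel.Quotient G (Fin k ↪ Ω)) :=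
      (MulAction.pretransitive_iff_subsingleton_quotient G (Fin k ↪ Ω)).mp inferInstance
    have : Nonempty (MulAction.orbitRel.Quotient G (Fin k ↪ Ω)) :=
      ⟨Quotient.mk'' (Classical.arbitrary _)⟩
    exact Nat.card_unique
  rw [h1, one_mul]

end embeddings

end Cfsg.Agent.Helper76
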