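import Cfsg.Agent.Helper19.Stein.BNMin
import Cfsg.Agent.Helper19.Stein.TauB
import Cfsg.Agent.Helper76.SteinX1c

/-!
# Fixed points of `b ∈ B` on `G ⧸ P_J` (piece (X2b) for helper19, board #4226)

The fixed points of `b ∈ B` on `G ⧸ P_J` correspond to the fixed cosets of `B` whose type is
`J`-minimal on the right; the alternating sum over `J` counts the fixed cosets of maximal type.
-/

set_option autoImplicit false

namespace Cfsg.Agent.Helper76.SteinX2b

open Cfsg.Agent.Helper6 Cfsg.Agent.Helper19.Stein

variable {G : Type*} [Group G] (P : Cfsg.BNPair G)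

/-- the natural map `G ⧸ B → G ⧸ P_J` -/
private noncomputable def projJ (J : Set P.S) :
    G ⧸ P.B → G ⧸ P.parabolic (Subtype.val '' J) :=
  Subgroup.quotientMapOfLE (B_le_parabolic P (Subtype.val '' J))

private theorem projJ_mk (J : Set P.S) (g : G) :
    projJ P J (QuotientGroup.mk g) = QuotientGroup.mk g := rfl

private theorem projJ_smul (J : Set P.S) (b : G) (x : G ⧸ P.B) :
    projJ P J (b • x) = b • projJ P J x := by
  induction x using QuotientGroup.induction_on with
  | _ g => rfl

theorem card_fixedBy_parabolic [Finite G] (J : Set P.S) {b : G} (hb : b ∈ P.B) :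
    Nat.card (MulAction.fixedBy (G ⧸ P.parabolic (Subtype.val '' J)) b) =
      Nat.card {x : G ⧸ P.B // b • x = x ∧ MinR (wf P) J (tauB P x)} := by
  symm
  let φ : {x : G ⧸ P.B // b • x = x ∧ MinR (wf P) J (tauB P x)} →
      MulAction.fixedBy (G ⧸ P.parabolic (Subtype.val '' J)) b :=
    fun x => ⟨projJ P J x.1, by
      rw [MulAction.mem_fixedBy, ← projJ_smul, x.2.1]⟩
  have hinj : Function.Injective φ := by
    rintro ⟨x, hx1, hx2⟩ ⟨y, hy1, hy2⟩ hxy
    have hxy' : projJ P J x = projJ P J y := congrArg Subtype.val hxy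
    apply Subtype.ext
    show x = y
    induction x using QuotientGroup.induction_on with
    | _ g₁ =>
      induction y using QuotientGroup.induction_on with
      | _ g₂ =>
        rw [projJ_mk, projJ_mk, QuotientGroup.eq] at hxy'
        rw [tauB_mk] at hx2 hy2
        rw [QuotientGroup.eq]
        exact minR_coset_unique P J hx2 hy2 hxy'
  have hsurj : Function.Surjective φ := by
    rintro ⟨y, hy⟩
    rw [MulAction.mem_fixedBy] at hy
    induction y using QuotientGroup.induction_on with
    | _ g =>
      obtain ⟨g', hg', hmin⟩ := exists_minR_in_coset P J g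
      have hgg' : (QuotientGroup.mk g : G ⧸ P.parabolic (Subtype.val '' J)) =
          QuotientGroup.mk g' := QuotientGroup.eq.2 hg'
      have hfix : (QuotientGroup.mk (b * g') : G ⧸ P.parabolic (Subtype.val '' J)) =
          QuotientGroup.mk g' := by
        have : (QuotientGroup.mk (b * g') : G ⧸ P.parabolic (Subtype.val '' J)) =
            b • (QuotientGroup.mk g' : G ⧸ P.parabolic (Subtype.val '' J)) := rfl
        rw [this, ← hgg', hy]
      have hB : (b * g')⁻¹ * g' ∈ P.B := by
        refine minR_coset_unique P J ?_ hmin (QuotientGroup.eq.1 hfix)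
        rw [tau_B_mul P hb]
        exact hmin
      refine ⟨⟨QuotientGroup.mk g', ?_, ?_⟩, ?_⟩
      · show (QuotientGroup.mk (b * g') : G ⧸ P.B) = QuotientGroup.mk g'
        exact QuotientGroup.eq.2 hB
      · rw [tauB_mk]; exact hmin
      · apply Subtype.ext
        show projJ P J (QuotientGroup.mk g') = QuotientGroup.mk g
        rw [projJ_mk, hgg']
  exact Nat.card_congr (Equiv.ofBijective φ ⟨hinj, hsurj⟩)

open Classical in
theorem alternating_sum_fixedBy [Finite G] [Fintype P.S] {b : G} (hb : b ∈ P.B) :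
    ∑ J ∈ (Finset.univ : Finset P.S).powerset, (-1 : ℂ) ^ J.card *
        (Nat.card (MulAction.fixedBy (G ⧸ P.parabolic (Subtype.val '' (↑J : Set P.S))) b) : ℂ) =
      (Nat.card {x : G ⧸ P.B // b • x = x ∧ MaxR (wf P) (tauB P x)} : ℂ) := by
  haveI : Fintype (G ⧸ P.B) := Fintype.ofFinite _
  have hcount : ∀ q : G ⧸ P.B → Prop, (Nat.card {x : G ⧸ P.B // q x} : ℂ) =
      ∑ x : G ⧸ P.B, if q x then (1 : ℂ) else 0 := by
    intro q
    rw [Nat.card_eq_fintype_card, Fintype.card_subtype, Finset.sum_boole]
  have h1 : ∀ J : Finset P.S,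
      (Nat.card (MulAction.fixedBy (G ⧸ P.parabolic (Subtype.val '' (↑J : Set P.S))) b) : ℂ) =
        ∑ x : G ⧸ P.B, if b • x = x ∧ MinR (wf P) (↑J : Set P.S) (tauB P x) then (1 : ℂ) else 0 := by
    intro J
    rw [card_fixedBy_parabolic P (↑J : Set P.S) hb, hcount]
    exact Finset.sum_congr rfl (fun x _ => by split_ifs <;> rfl)
  simp_rw [h1, Finset.mul_sum]
  rw [Finset.sum_comm, hcount]
  refine Finset.sum_congr rfl (fun x _ => ?_)
  have h2 := SteinX1c.sum_powerset_minR (exchData_wf P) (tauB P x)
  by_cases hx : b • x = x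
  · simp only [hx, true_and]
    exact h2
  · simp only [hx, false_and, if_false, mul_zero, Finset.sum_const_zero]

end Cfsg.Agent.Helper76.SteinX2b
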