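import Mathlib
import Cfsg.Agent.Helper78.Frobenius

/-!
# (TP) of #6088 for helper2 (S4284): the two-prime lemma (helper76)

If no element of prime order `s` normalizes a nontrivial `s'`-subgroup (`s' ≠ s`), the finite group
has prime power order.  Proof: Frobenius' normal `p`-complement theorem gives a normal
`p`-complement `N`; if `N ≠ 1` a Frattini argument on a Sylow subgroup of `N` gives an element of
order `p` normalizing it.
-/

set_option autoImplicit false

namespace Cfsg.Agent.Helper76.CS2

open Subgroup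

/-- (TP) two-prime lemma -/
theorem two_prime {X : Type*} [Group X] [Finite X]
    (hX : ∀ (s s' : ℕ) (g : X) (U : Subgroup X), s.Prime → s'.Prime → s ≠ s' → orderOf g = s →
      IsPGroup s' U → U ≠ ⊥ → (∀ u ∈ U, g * u * g⁻¹ ∈ U) → False) :
    ∃ (p k : ℕ), p.Prime ∧ Nat.card X = p ^ k := by
  classical
  by_cases h1 : Nat.card X = 1
  · exact ⟨2, 0, Nat.prime_two, by simpa using h1⟩
  -- a prime divisor of the order
  obtain ⟨p, hp, hpX⟩ := Nat.exists_prime_and_dvd h1
  haveI : Fact p.Prime := ⟨hp⟩
  obtain P : Sylow p X := default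
  -- the Frobenius condition
  have hF : ∀ Q : Subgroup X, Q ≤ (P : Subgroup X) → ∀ g ∈ normalizer (Q : Set X),
      (orderOf g).Coprime p → g ∈ centralizer (Q : Set X) := by
    intro Q hQ g hg hcop
    by_cases hQ1 : Q = ⊥
    · subst hQ1
      rw [mem_centralizer_iff]
      intro h hh
      have h1' : h = 1 := by simpa using hh
      subst h1'
      simp
    by_cases hg1 : g = 1
    · subst hg1
      exact one_mem _
    exfalso
    have ho1 : orderOf g ≠ 1 := by
      rwa [Ne, orderOf_eq_one_iff]
    obtain ⟨s, hs, hsg⟩ := Nat.exists_prime_and_dvd ho1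
    have hsp : s ≠ p := by
      rintro rfl
      have := Nat.Coprime.eq_one_of_dvd hcop.symm hsg
      exact hs.ne_one this
    obtain ⟨c, hc⟩ := hsg
    have hopos : 0 < orderOf g := orderOf_pos g
    have hcpos : 0 < c := by
      rcases Nat.eq_zero_or_pos c with h0 | h0
      · subst h0; rw [mul_zero] at hc; omega
      · exact h0
    have hord : orderOf (g ^ c) = s := by
      rw [orderOf_pow' g hcpos.ne', hc, Nat.gcd_eq_right (Dvd.intro_left s rfl),
        Nat.mul_div_cancel _ hcpos]
    have hgc : g ^ c ∈ normalizer (Q : Set X) := pow_mem hg c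
    refine hX s p (g ^ c) Q hs hp hsp hord (P.2.to_le hQ) hQ1 ?_
    intro u hu
    exact (mem_normalizer_iff.mp hgc u).mp hu
  obtain ⟨N, hNn, hNc⟩ := (Cfsg.Agent.Helper78.frobenius_normal_pComplement_iff P).mpr hF
  have := hNn
  have hcard : Nat.card N * Nat.card (P : Subgroup X) = Nat.card X := hNc.card_mul_card
  have hidx : N.index = Nat.card (P : Subgroup X) := hNc.symm.index_eq_card
  obtain ⟨k, hk⟩ := P.2.exists_card_eq
  by_cases hN1 : Nat.card N = 1
  · exact ⟨p, k, hp, by rw [← hcard, hN1, one_mul, hk]⟩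
  exfalso
  -- `p ∤ |N|`
  have hpN : ¬ p ∣ Nat.card N := by
    intro hd
    have h2 : Nat.card N = (P : Subgroup X).index := hNc.index_eq_card.symm
    rw [h2] at hd
    exact P.not_dvd_index hd
  obtain ⟨s', hs', hs'N⟩ := Nat.exists_prime_and_dvd hN1
  have : Fact s'.Prime := ⟨hs'⟩
  have hs'p : p ≠ s' := by
    rintro rfl
    exact hpN hs'N
  obtain S : Sylow s' N := default
  have hS1 : (S : Subgroup N) ≠ ⊥ := S.ne_bot_of_dvd_card hs'N
  set U : Subgroup X := (S : Subgroup N).map N.subtype with hU
  have hU1 : U ≠ ⊥ := by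
    intro h
    apply hS1
    rw [hU, (Subgroup.map_eq_bot_iff_of_injective _ N.subtype_injective)] at h
    exact h
  have hUp : IsPGroup s' U := S.2.map N.subtype
  have hfr : normalizer (U : Set X) ⊔ N = ⊤ := Sylow.normalizer_sup_eq_top S
  -- `p` divides the order of the normalizer
  have hpH : p ∣ Nat.card (normalizer (U : Set X)) := by
    have h3 : N.relIndex (normalizer (U : Set X) ⊔ N) = N.relIndex (normalizer (U : Set X)) :=
      relIndex_sup_right _ _
    rw [hfr, relIndex_top_right, hidx, hk] at h3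
    have h4 : N.relIndex (normalizer (U : Set X)) ∣ Nat.card (normalizer (U : Set X)) :=
      relIndex_dvd_card _ _
    rw [← h3] at h4
    have hk0 : k ≠ 0 := by
      rintro rfl
      rw [pow_zero] at hk
      rw [hk, mul_one] at hcard
      rw [← hcard] at hpX
      exact hpN hpX
    exact (dvd_pow_self p hk0).trans h4
  obtain ⟨g, hg⟩ := exists_prime_orderOf_dvd_card' p hpH
  have hg' : orderOf (g : X) = p := by rw [Subgroup.orderOf_coe, hg]
  refine hX p s' (g : X) U hp hs' hs'p hg' hUp hU1 ?_
  intro u hu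
  exact (mem_normalizer_iff.mp g.2 u).mp hu

end Cfsg.Agent.Helper76.CS2
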