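import Mathlib
import Cfsg.Agent.Helper76.CS2TP

/-!
# (SR) of #6088 for helper2 (S4284): semiregular automorphism groups have prime power order
(helper76)

`X ≤ Aut D`, `D` finite abelian, `X` fixes `D₀` pointwise and acts semiregularly outside `D₀`, and
for every prime `s` of `|X|` some `s`-element of `D` is outside `D₀`.  Then `|X|` is a prime power.
Proof: two-prime lemma (TP); for `g` of order `s` normalizing an `s'`-group `U ≠ 1`, the norm map
`τ d = ∏_{u ∈ U} u d` has image in `D₀`; its kernel in the `s`-part of `D` is a nontrivial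
`g`-invariant `s`-group meeting `D₀` trivially, and `g` fixes a nontrivial point of it.
-/

set_option autoImplicit false

namespace Cfsg.Agent.Helper76.CS2

open Subgroup

/-- (SR) a group of automorphisms of an abelian group acting semiregularly outside `D₀`, such that
for each of its primes `s` the Sylow `s`-subgroup of `D` is not inside `D₀`, has prime power order -/
theorem semiregular_prime_power {D : Type*} [CommGroup D] [Finite D] (D₀ : Subgroup D)
    (X : Subgroup (MulAut D)) (hfix : ∀ φ ∈ X, ∀ d ∈ D₀, φ d = d)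
    (hsr : ∀ φ ∈ X, φ ≠ 1 → ∀ d : D, φ d = d → d ∈ D₀)
    (hs : ∀ s : ℕ, s.Prime → s ∣ Nat.card X → ∃ d : D, (∃ k : ℕ, orderOf d = s ^ k) ∧ d ∉ D₀) :
    ∃ (p k : ℕ), p.Prime ∧ Nat.card X = p ^ k := by
  classical
  apply two_prime
  intro s s' g U hsP hs'P hne hg hU hU1 hnorm
  have : Fact s.Prime := ⟨hsP⟩
  have : Fact s'.Prime := ⟨hs'P⟩
  -- pass to `MulAut D`
  set g₀ : MulAut D := (g : MulAut D) with hg₀
  have hg₀X : g₀ ∈ X := g.2
  have hg₀o : orderOf g₀ = s := by rw [hg₀, Subgroup.orderOf_coe, hg]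
  have hg₀1 : g₀ ≠ 1 := by
    intro h
    rw [h, orderOf_one] at hg₀o
    exact hsP.ne_one hg₀o.symm
  have hg₀s : g₀ ^ s = 1 := by rw [← hg₀o]; exact pow_orderOf_eq_one g₀
  set U₀ : Subgroup (MulAut D) := U.map X.subtype with hU₀
  have hU₀X : U₀ ≤ X := map_subtype_le U
  letI : Fintype U₀ := Fintype.ofFinite _
  have hU₀p : IsPGroup s' U₀ := hU.map _
  have hU₀1 : U₀ ≠ ⊥ := by
    intro h
    apply hU1
    rwa [hU₀, Subgroup.map_eq_bot_iff_of_injective _ X.subtype_injective] at h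
  have hnorm₀ : ∀ φ ∈ U₀, g₀ * φ * g₀⁻¹ ∈ U₀ := by
    rintro φ ⟨u, hu, rfl⟩
    exact ⟨g * u * g⁻¹, hnorm u hu, rfl⟩
  obtain ⟨j, hj⟩ := hU₀p.exists_card_eq
  have hsX : s ∣ Nat.card X := by rw [← hg]; exact orderOf_dvd_natCard g
  -- the norm map
  let τ : D →* D := ∏ u : U₀, ((u : MulAut D) : D ≃* D).toMonoidHom
  have hτ_apply : ∀ d, τ d = ∏ u : U₀, (u : MulAut D) d := by
    intro d
    simp only [τ, MonoidHom.finsetProd_apply]
    rfl
  have hτfix : ∀ v (_ : v ∈ U₀) (d : D), v (τ d) = τ d := by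
    intro v hv d
    rw [hτ_apply, map_prod]
    exact Fintype.prod_equiv (Equiv.mulLeft (⟨v, hv⟩ : U₀)) _ _ (fun u => rfl)
  have hτg : ∀ d, τ (g₀ d) = g₀ (τ d) := by
    intro d
    rw [hτ_apply, hτ_apply, map_prod]
    let e : U₀ → U₀ := fun u => ⟨g₀ * u * g₀⁻¹, hnorm₀ u u.2⟩
    have he : Function.Bijective e := by
      rw [← Finite.injective_iff_bijective]
      intro a b hab
      have h1 := congrArg Subtype.val hab
      simp only [e] at h1
      apply Subtype.ext
      simpa using h1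
    rw [← he.prod_comp (fun u => (u : MulAut D) (g₀ d))]
    apply Finset.prod_congr rfl
    intro u _
    simp [e]
  have hτD₀ : ∀ d, τ d ∈ D₀ := by
    intro d
    obtain ⟨v, hv⟩ := Subgroup.ne_bot_iff_exists_ne_one.mp hU₀1
    have hv1 : (v : MulAut D) ≠ 1 := by
      intro h
      apply hv
      exact Subtype.ext h
    exact hsr v (hU₀X v.2) hv1 (τ d) (hτfix v v.2 d)
  have hτ_of_fix : ∀ d, (∀ v ∈ U₀, v d = d) → τ d = d ^ (s' ^ j) := by
    intro d hd
    rw [hτ_apply, Finset.prod_congr rfl (fun (u : U₀) _ => hd u u.2), Finset.prod_const, Finset.card_univ,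
      ← Nat.card_eq_fintype_card, hj]
  have hcop : Nat.Coprime s s' := (Nat.coprime_primes hsP hs'P).2 hne
  -- the subgroup `K0`
  set a : ℕ := Nat.card D with ha
  let K0 : Subgroup D := τ.ker ⊓ (powMonoidHom (s ^ a) : D →* D).ker
  have hK0mem : ∀ d, d ∈ K0 ↔ τ d = 1 ∧ d ^ (s ^ a) = 1 := by
    intro d
    simp [K0, Subgroup.mem_inf, MonoidHom.mem_ker]
  have hK0p : IsPGroup s K0 := by
    intro x
    refine ⟨a, ?_⟩
    apply Subtype.ext
    have := ((hK0mem x).1 x.2).2
    simpa using this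
  -- `K0 ∩ D₀ = 1`
  have hK0D₀ : ∀ d ∈ K0, d ∈ D₀ → d = 1 := by
    intro d hd hd0
    obtain ⟨h1, h2⟩ := (hK0mem d).1 hd
    rw [hτ_of_fix d (fun v hv => hfix v (hU₀X hv) d hd0)] at h1
    have ho1 : orderOf d ∣ s' ^ j := orderOf_dvd_of_pow_eq_one h1
    have ho2 : orderOf d ∣ s ^ a := orderOf_dvd_of_pow_eq_one h2
    have : orderOf d = 1 := Nat.eq_one_of_dvd_coprimes (Nat.Coprime.pow a j hcop) ho2 ho1
    exact orderOf_eq_one_iff.mp this
  -- `K0` is nontrivial
  have hK0ne : ∃ e ∈ K0, e ≠ 1 := by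
    obtain ⟨d, ⟨k, hk⟩, hd0⟩ := hs s hsP hsX
    have hka : k ≤ a := by
      have h1 : k < s ^ k := Nat.lt_pow_self hsP.one_lt
      have h2 : orderOf d ≤ Nat.card D := _root_.orderOf_le_card
      omega
    have hda : d ^ (s ^ a) = 1 := by
      apply orderOf_dvd_iff_pow_eq_one.mp
      rw [hk]
      exact pow_dvd_pow s hka
    refine ⟨d ^ (s' ^ j) * (τ d)⁻¹, ?_, ?_⟩
    · rw [hK0mem]
      constructor
      · rw [map_mul, map_inv, map_pow, hτ_of_fix (τ d) (fun v hv => hτfix v hv d)]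
        exact mul_inv_cancel _
      · have e1 : (d ^ (s' ^ j)) ^ (s ^ a) = 1 := by
          rw [← pow_mul, mul_comm, pow_mul, hda, one_pow]
        have e2 : (τ d) ^ (s ^ a) = 1 := by rw [← map_pow, hda, map_one]
        rw [mul_pow, inv_pow, e1, e2, inv_one, mul_one]
    · intro h
      apply hd0
      have h1 : d ^ (s' ^ j) = τ d := by
        rw [mul_inv_eq_one] at h
        exact h
      have h2 : d ^ (s' ^ j) ∈ D₀ := h1 ▸ hτD₀ d
      have h3 : Nat.Coprime (s' ^ j) (orderOf d) := by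
        rw [hk]
        exact Nat.Coprime.pow j k hcop.symm
      obtain ⟨m, hm⟩ := exists_pow_eq_self_of_coprime h3
      rw [← hm]
      exact pow_mem h2 m
  -- `g₀` preserves `K0`
  have hK0g : ∀ d ∈ K0, g₀ d ∈ K0 := by
    intro d hd
    obtain ⟨h1, h2⟩ := (hK0mem d).1 hd
    rw [hK0mem]
    constructor
    · rw [hτg, h1, map_one]
    · rw [← map_pow, h2, map_one]
  -- the induced self-map of `K0`
  letI : Fintype K0 := Fintype.ofFinite _
  let f : Function.End K0 := fun x => ⟨g₀ x, hK0g x x.2⟩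
  have hfpow : ∀ (n : ℕ) (x : K0), ((f ^ n) x : D) = (g₀ ^ n) x := by
    intro n
    induction n with
    | zero => intro x; rfl
    | succ n ih =>
      intro x
      rw [pow_succ', pow_succ']
      change ((f ((f ^ n) x) : K0) : D) = g₀ ((g₀ ^ n) x)
      rw [← ih x]
  have hfs : f ^ s ^ 1 = 1 := by
    funext x
    apply Subtype.ext
    rw [pow_one, hfpow, hg₀s]
    rfl
  have hmod := Equiv.Perm.card_fixedPoints_modEq (p := s) (n := 1) hfs
  -- `s ∣ |K0|`
  obtain ⟨i, hi⟩ := hK0p.exists_card_eq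
  have hi0 : i ≠ 0 := by
    rintro rfl
    rw [pow_zero] at hi
    obtain ⟨e, he, he1⟩ := hK0ne
    have : Subsingleton K0 := (Nat.card_eq_one_iff_unique.mp hi).1
    have := Subsingleton.elim (⟨e, he⟩ : K0) 1
    exact he1 (congrArg Subtype.val this)
  have hsK : s ∣ Fintype.card K0 := by
    rw [← Nat.card_eq_fintype_card, hi]
    exact dvd_pow_self s hi0
  have hsF : s ∣ Fintype.card (Function.fixedPoints f) :=
    (Nat.modEq_zero_iff_dvd.mp ((hmod.symm.trans (Nat.modEq_zero_iff_dvd.mpr hsK))))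
  have h1F : (1 : K0) ∈ Function.fixedPoints f := by
    rw [Function.mem_fixedPoints]
    apply Subtype.ext
    change g₀ ((1 : K0) : D) = 1
    simp
  have hFpos : 0 < Fintype.card (Function.fixedPoints f) := Fintype.card_pos_iff.mpr ⟨⟨1, h1F⟩⟩
  have hF2 : 1 < Fintype.card (Function.fixedPoints f) := by
    have := Nat.le_of_dvd hFpos hsF
    have := hsP.two_le
    omega
  obtain ⟨b, hb⟩ := Fintype.exists_ne_of_one_lt_card hF2 ⟨1, h1F⟩
  have hbfix : g₀ ((b : K0) : D) = ((b : K0) : D) := by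
    have := b.2
    rw [Function.mem_fixedPoints] at this
    exact congrArg Subtype.val this
  have hbD₀ : ((b : K0) : D) ∈ D₀ := hsr g₀ hg₀X hg₀1 _ hbfix
  have hb1 : ((b : K0) : D) = 1 := hK0D₀ _ (b : K0).2 hbD₀
  apply hb
  apply Subtype.ext
  apply Subtype.ext
  exact hb1

end Cfsg.Agent.Helper76.CS2
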