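import Cfsg.Agent.S4426
import Cfsg.Agent.Helper80.Eigen
import Cfsg.Agent.Helper74.DefectZero
import Cfsg.Agent.Helper15.IndChar

set_option autoImplicit false
open Cfsg
open scoped ComplexConjugate

/-!
# The number of `p`-conjugates of an irreducible character (Brauer)

`pConjugate_count`: with `|G| = p^a g'` and `r` the number of irreducible characters obtained from
`χ` by field automorphisms fixing the `g'`-th roots of unity, `ν_p(r χ(1)) ≤ a`, and
`p^a ∣ r χ(1)` implies `p^a ∣ χ(1)`.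

Proof: `χ̃ = p^a χ⁰` is a generalized character whose coefficient `c = [χ̃, ψ]` is the same for all
`p`-conjugates `ψ`, is positive and divisible by `χ(1)_p`; Parseval gives `r c² ≤ [χ̃, χ̃] = p^a c`.
In the case of equality `χ̃ = c Σ ψ`, so `Σ ψ` vanishes on `p`-singular elements, and summing over
a Sylow `p`-subgroup gives `p^a ∣ χ(1)`.
-/

namespace Cfsg.Agent.Helper76

universe u

/-- A field automorphism fixing a primitive `N`-th root of unity fixes the character values at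
elements of order dividing `N`. -/
theorem ringEquiv_character_eq_of_pow_eq_one {G : Type*} [Group G] (σ : ℂ ≃+* ℂ) (N : ℕ)
    (hN : 0 < N) (ζ : ℂ) (hζ : IsPrimitiveRoot ζ N) (hσ : σ ζ = ζ) (χ : G → ℂ)
    (hχ : IsCharacter G χ) (x : G) (hx : x ^ N = 1) : σ (χ x) = χ x := by
  classical
  obtain ⟨d, ρ, rfl⟩ := hχ
  have hf : (ρ x) ^ N = 1 := by
    rw [← map_pow, hx, map_one]
  obtain ⟨b, μ, -, hμ, htr⟩ := Cfsg.Agent.Helper80.exists_eigen_data (ρ x) N hN hf
  have h1 : ρ.character x = ∑ i, μ i := by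
    have := htr 1
    simp only [pow_one] at this
    exact this
  rw [h1, map_sum]
  refine Finset.sum_congr rfl fun i _ => ?_
  have : NeZero N := ⟨hN.ne'⟩
  obtain ⟨k, -, hk⟩ := hζ.eq_pow_of_pow_eq_one (hμ i)
  rw [← hk, map_pow, hσ]

/-- `p`-regular elements have order dividing the `p'`-part of the group order. -/
theorem pow_ordCompl_eq_one_of_pRegular {G : Type*} [Group G] [Finite G] (p : ℕ) (hp : p.Prime)
    (x : G) (hx : ¬ p ∣ orderOf x) :
    x ^ (Nat.card G / p ^ (Nat.card G).factorization p) = 1 := by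
  apply orderOf_dvd_iff_pow_eq_one.1
  have h1 : orderOf x ∣ p ^ (Nat.card G).factorization p
      * (Nat.card G / p ^ (Nat.card G).factorization p) := by
    rw [Nat.ordProj_mul_ordCompl_eq_self]
    exact orderOf_dvd_natCard x
  have hcop : Nat.Coprime (orderOf x) (p ^ (Nat.card G).factorization p) :=
    Nat.Coprime.pow_right _ ((Nat.Prime.coprime_iff_not_dvd hp).2 hx).symm
  exact hcop.dvd_of_dvd_mul_left h1

section main
variable {G : Type u} [Group G] [Fintype G]

/-- `p`-conjugate characters agree on `p`-regular elements. -/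
theorem pConjugate_apply_pRegular (p : ℕ) (hp : p.Prime) (ζ : ℂ)
    (hζ : IsPrimitiveRoot ζ (Nat.card G / p ^ (Nat.card G).factorization p))
    (χ : G → ℂ) (hχ : IsCharacter G χ) (σ : ℂ ≃+* ℂ) (hσ : σ ζ = ζ) (x : G)
    (hx : ¬ p ∣ orderOf x) : σ (χ x) = χ x := by
  have hN : 0 < Nat.card G / p ^ (Nat.card G).factorization p :=
    Nat.ordCompl_pos p Nat.card_pos.ne'
  exact ringEquiv_character_eq_of_pow_eq_one σ _ hN ζ hζ hσ χ hχ x
    (pow_ordCompl_eq_one_of_pRegular p hp x hx)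

theorem classInner_cut_pConjugate (p : ℕ) (hp : p.Prime) (ζ : ℂ)
    (hζ : IsPrimitiveRoot ζ (Nat.card G / p ^ (Nat.card G).factorization p))
    (χ ψ : G → ℂ) (hχ : IsCharacter G χ) (σ : ℂ ≃+* ℂ) (hσ : σ ζ = ζ)
    (hψ : ψ = fun g => σ (χ g)) (c : ℂ) (φ : G → ℂ) :
    classInner (S4426.cut p c φ) ψ = classInner (S4426.cut p c φ) χ := by
  unfold classInner S4426.cut
  congr 1
  refine Finset.sum_congr rfl fun x _ => ?_
  by_cases hx : p ∣ orderOf x
  · simp [hx]
  · rw [hψ]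
    dsimp only
    rw [pConjugate_apply_pRegular p hp ζ hζ χ hχ σ hσ x hx]

/-- positivity of `[χ̃, χ]`. -/
theorem classInner_cut_self_pos (p : ℕ) (hp : p.Prime) (m : ℕ) (hm : 0 < m) (χ : G → ℂ)
    (h1 : χ 1 ≠ 0) (n : ℤ) (hn : classInner (S4426.cut p (m : ℂ) χ) χ = (n : ℂ)) : 0 < n := by
  classical
  have key : classInner (S4426.cut p (m : ℂ) χ) χ =
      (((Nat.card G : ℝ)⁻¹ * ∑ x : G, (if p ∣ orderOf x then (0 : ℝ)
        else (m : ℝ) * Complex.normSq (χ x)) : ℝ) : ℂ) := by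
    unfold classInner S4426.cut
    push_cast
    congr 1
    refine Finset.sum_congr rfl fun x _ => ?_
    by_cases hx : p ∣ orderOf x
    · simp [hx]
    · simp only [hx, if_false]
      rw [mul_assoc, Complex.mul_conj]
      push_cast
      rfl
  rw [key] at hn
  have hn' : (n : ℝ) = (Nat.card G : ℝ)⁻¹ * ∑ x : G, (if p ∣ orderOf x then (0 : ℝ)
        else (m : ℝ) * Complex.normSq (χ x)) := by
    have : ((n : ℝ) : ℂ) = (n : ℂ) := by push_cast; rfl
    rw [← this] at hn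
    exact (Complex.ofReal_injective hn).symm
  have hpos : (0 : ℝ) < (n : ℝ) := by
    rw [hn']
    apply mul_pos
    · have : (0 : ℝ) < (Nat.card G : ℝ) := by exact_mod_cast Nat.card_pos
      positivity
    · apply Finset.sum_pos'
      · intro x _
        split_ifs
        · exact le_refl _
        · have := Complex.normSq_nonneg (χ x)
          positivity
      · refine ⟨1, Finset.mem_univ _, ?_⟩
        have h : ¬ p ∣ orderOf (1 : G) := by
          rw [orderOf_one]
          exact hp.one_lt.ne' ∘ Nat.dvd_one.1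
        rw [if_neg h]
        have := Complex.normSq_pos.2 h1
        have hm' : (0 : ℝ) < (m : ℝ) := by exact_mod_cast hm
        positivity
  exact_mod_cast hpos

theorem classInner_cut_cut (p : ℕ) (m : ℕ) (χ : G → ℂ) :
    classInner (S4426.cut p (m : ℂ) χ) (S4426.cut p (m : ℂ) χ)
      = (m : ℂ) * classInner (S4426.cut p (m : ℂ) χ) χ := by
  unfold classInner S4426.cut
  rw [mul_left_comm (m : ℂ) (Nat.card G : ℂ)⁻¹, Finset.mul_sum Finset.univ _ (m : ℂ)]
  congr 1
  refine Finset.sum_congr rfl fun x _ => ?_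
  by_cases hx : p ∣ orderOf x
  · simp [hx]
  · simp only [hx, if_false, map_mul, Complex.conj_natCast]
    ring

/-- Parseval for a class function with integer coefficients. -/
theorem classInner_self_eq_sum_sq_of_int [Fintype (IrrCharacter G)] {f : G → ℂ}
    (hf : IsClassFunction G f) (N : IrrCharacter G → ℤ)
    (hN : ∀ ψ : IrrCharacter G, classInner f (ψ : G → ℂ) = (N ψ : ℂ)) :
    classInner f f = ((∑ ψ : IrrCharacter G, (N ψ) ^ 2 : ℤ) : ℂ) := by
  have h := Helper74.classFunction_eq_sum_irr hf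
  calc classInner f f
      = classInner f (∑ ψ : IrrCharacter G, classInner f (ψ : G → ℂ) • (ψ : G → ℂ)) := by
        rw [← h]
    _ = ∑ ψ : IrrCharacter G, classInner f (classInner f (ψ : G → ℂ) • (ψ : G → ℂ)) :=
        Helper74.classInner_sum_right _ _ _
    _ = _ := by
        push_cast
        refine Finset.sum_congr rfl fun ψ _ => ?_
        rw [Helper74.classInner_smul_right, hN ψ, map_intCast]
        ring

omit [Fintype G] in
/-- Non-identity elements of a Sylow `p`-subgroup are `p`-singular. -/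
theorem dvd_orderOf_of_mem_sylow (p : ℕ) [hp : Fact p.Prime] (P : Sylow p G) (x : G)
    (hx : x ∈ P) (hx1 : x ≠ 1) : p ∣ orderOf x := by
  obtain ⟨k, hk⟩ := (IsPGroup.iff_orderOf.1 P.2) ⟨x, hx⟩
  rw [Subgroup.orderOf_mk] at hk
  rw [hk]
  cases k with
  | zero =>
    exfalso
    rw [pow_zero, orderOf_eq_one_iff] at hk
    exact hx1 hk
  | succ k => exact dvd_pow_self p (Nat.succ_ne_zero k)

/-- The sum of the values of a character over a subgroup is a multiple of the subgroup order. -/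
theorem exists_sum_subgroup_eq (H : Subgroup G) [Fintype H] (χ : G → ℂ) (hχ : IsCharacter G χ) :
    ∃ k : ℕ, ∑ x : H, χ (x : G) = (Nat.card H : ℂ) * (k : ℂ) := by
  obtain ⟨k, hk⟩ := Helper15.isCharacter_inner_nat (Helper74.isCharacter_restrict H hχ)
    (Helper74.isCharacter_one (G := H))
  refine ⟨k, ?_⟩
  rw [Helper74.classInner_def] at hk
  simp only [map_one, mul_one] at hk
  rw [← hk]
  have : (Nat.card H : ℂ) ≠ 0 := by exact_mod_cast Nat.card_pos.ne'
  field_simp

theorem pConjugate_count_main (p : ℕ) [hp : Fact p.Prime] (χ : IrrCharacter G) (ζ : ℂ)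
    (hζ : IsPrimitiveRoot ζ (Nat.card G / p ^ (Nat.card G).factorization p))
    (Ω : Finset (IrrCharacter G)) (hχΩ : χ ∈ Ω)
    (hΩ : ∀ ψ ∈ Ω, ∃ σ : ℂ ≃+* ℂ, σ ζ = ζ ∧ (ψ : G → ℂ) = fun g => σ ((χ : G → ℂ) g)) :
    (Ω.card * charDegree (χ : G → ℂ)).factorization p ≤ (Nat.card G).factorization p ∧
    (p ^ (Nat.card G).factorization p ∣ Ω.card * charDegree (χ : G → ℂ) →
      p ^ (Nat.card G).factorization p ∣ charDegree (χ : G → ℂ)) := by
  classical
  let _ := Helper74.irrFintype G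
  obtain ⟨M, hM⟩ := Helper74.exists_isPModular p hp.out
  have hχc : IsCharacter G (χ : G → ℂ) := Helper74.irr_isCharacter χ
  set a := (Nat.card G).factorization p with ha
  set d := charDegree (χ : G → ℂ) with hd
  set b := d.factorization p with hb
  set r := Ω.card with hr
  have hd0 : d ≠ 0 := (Helper78.charDegree_pos_of_isIrrCharacter χ.2).ne'
  have hr0 : r ≠ 0 := Finset.card_ne_zero.2 ⟨χ, hχΩ⟩
  have hχ1 : (χ : G → ℂ) 1 = (d : ℂ) := Helper78.irrChar_one_eq_charDegree χ.2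
  have hχ1' : (χ : G → ℂ) 1 ≠ 0 := by rw [hχ1]; exact_mod_cast hd0
  have hppos : 0 < p := hp.out.pos
  -- the integer coefficients of `χ̃`
  choose N hN using fun ξ : IrrCharacter G => S4426.exists_int_inner p χ ξ
  have hNΩ : ∀ ψ ∈ Ω, N ψ = N χ := by
    intro ψ hψ
    obtain ⟨σ, hσ, hψσ⟩ := hΩ ψ hψ
    have h1 := classInner_cut_pConjugate p hp.out ζ hζ (χ : G → ℂ) (ψ : G → ℂ) hχc σ hσ hψσ
      ((p ^ a : ℕ) : ℂ) (χ : G → ℂ)
    have h2 : ((N ψ : ℤ) : ℂ) = ((N χ : ℤ) : ℂ) := (hN ψ).symm.trans (h1.trans (hN χ))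
    exact_mod_cast h2
  set n := N χ with hn
  have hnpos : 0 < n := classInner_cut_self_pos p hp.out (p ^ a) (pow_pos hppos a) (χ : G → ℂ)
    hχ1' n (hN χ)
  -- `p^b ∣ n`
  have hdiv : (p : ℤ) ^ b ∣ n := by
    have h1 := S4426.memLocalRing_U hM χ.2 χ.2
    rw [hN χ, hχ1] at h1
    exact S4426.pow_dvd_int_of_memLocalRing_div hM hd0 h1
  -- Parseval
  have hcf : IsClassFunction G (S4426.cut p ((p ^ a : ℕ) : ℂ) (χ : G → ℂ)) :=
    Helper25.isGenChar_isClassFunction (Helper76.isGenChar_pPart_mul_pRegular p hχc)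
  have hPars : ((p : ℤ) ^ a) * n = ∑ ψ : IrrCharacter G, (N ψ) ^ 2 := by
    have h1 := classInner_self_eq_sum_sq_of_int hcf N hN
    rw [classInner_cut_cut, hN χ] at h1
    have h2 : (((p ^ a : ℕ) : ℤ) * n : ℤ) = ∑ ψ : IrrCharacter G, (N ψ) ^ 2 := by
      exact_mod_cast h1
    rw [← h2]; push_cast; ring
  set T := ∑ ψ ∈ Ωᶜ, (N ψ) ^ 2 with hT
  have hT0 : 0 ≤ T := Finset.sum_nonneg fun ψ _ => sq_nonneg _
  have hsplit : ((p : ℤ) ^ a) * n = (r : ℤ) * n ^ 2 + T := by
    rw [hPars, ← Finset.sum_add_sum_compl Ω]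
    congr 1
    rw [Finset.sum_congr rfl (fun ψ hψ => by rw [hNΩ ψ hψ]), Finset.sum_const, nsmul_eq_mul]
  obtain ⟨m, hm⟩ := hdiv
  have hpb : (0 : ℤ) < (p : ℤ) ^ b := pow_pos (by exact_mod_cast hppos) b
  have hmpos : 0 < m := by
    rw [hm] at hnpos
    exact (mul_pos_iff_of_pos_left hpb).1 hnpos
  -- `r * p^b * m ≤ p^a`
  have hle1 : (r : ℤ) * n ≤ (p : ℤ) ^ a := by
    have h1 : (r : ℤ) * n * n ≤ (p : ℤ) ^ a * n := by nlinarith
    exact le_of_mul_le_mul_right h1 hnpos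
  have hrpos : (0 : ℤ) < (r : ℤ) := by exact_mod_cast Nat.pos_of_ne_zero hr0
  have hle2 : (r : ℤ) * (p : ℤ) ^ b ≤ (p : ℤ) ^ a := by
    have h1 : (r : ℤ) * (p : ℤ) ^ b ≤ (r : ℤ) * n := by
      rw [hm]
      have : (p : ℤ) ^ b * 1 ≤ (p : ℤ) ^ b * m := by
        apply mul_le_mul_of_nonneg_left _ hpb.le
        omega
      nlinarith
    exact h1.trans hle1
  have hle3 : r * p ^ b ≤ p ^ a := by exact_mod_cast hle2
  refine ⟨?_, ?_⟩
  · rw [Nat.factorization_mul hr0 hd0, Finsupp.add_apply]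
    have h1 : p ^ (r.factorization p) ≤ r := Nat.ordProj_le p hr0
    have h2 : p ^ (r.factorization p + b) ≤ p ^ a := by
      rw [pow_add]
      exact (Nat.mul_le_mul_right _ h1).trans hle3
    exact (Nat.pow_le_pow_iff_right hp.out.one_lt).1 h2
  · intro hdvd
    have hdd : p ^ b * (d / p ^ b) = d := Nat.ordProj_mul_ordCompl_eq_self d p
    have hcop : Nat.Coprime (p ^ a) (d / p ^ b) :=
      Nat.Coprime.pow_left _ (Nat.coprime_ordCompl hp.out hd0)
    have h1 : p ^ a ∣ r * p ^ b := by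
      rw [← hdd, ← mul_assoc] at hdvd
      exact hcop.dvd_of_dvd_mul_right hdvd
    have h2 : p ^ a ≤ r * p ^ b := Nat.le_of_dvd (by positivity) h1
    have heq : r * p ^ b = p ^ a := le_antisymm hle3 h2
    have heqZ : (r : ℤ) * (p : ℤ) ^ b = (p : ℤ) ^ a := by exact_mod_cast heq
    have hm1 : m = 1 := by
      have h3 : (r : ℤ) * (p : ℤ) ^ b * m ≤ (r : ℤ) * (p : ℤ) ^ b * 1 := by
        have h5 : (r : ℤ) * (p : ℤ) ^ b * m = (r : ℤ) * n := by rw [hm]; ring
        rw [h5, mul_one, heqZ]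
        exact hle1
      have h4 : m ≤ 1 := le_of_mul_le_mul_left h3 (mul_pos hrpos hpb)
      omega
    have hn_eq : n = (p : ℤ) ^ b := by rw [hm, hm1, mul_one]
    have hrn : (r : ℤ) * n = (p : ℤ) ^ a := by rw [hn_eq, heqZ]
    have hT0' : T = 0 := by
      have h3 : (p : ℤ) ^ a * n = (r : ℤ) * n ^ 2 := by rw [← hrn]; ring
      linarith
    have hNzero : ∀ ψ : IrrCharacter G, ψ ∉ Ω → N ψ = 0 := by
      intro ψ hψ
      have h3 := (Finset.sum_eq_zero_iff_of_nonneg (fun ψ _ => sq_nonneg (N ψ))).1 hT0' ψ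
        (Finset.mem_compl.2 hψ)
      exact (pow_eq_zero_iff two_ne_zero).1 h3
    -- the sum of the conjugates vanishes on `p`-singular elements
    have hvanish : ∀ x : G, p ∣ orderOf x → ∑ ψ ∈ Ω, (ψ : G → ℂ) x = 0 := by
      intro x hx
      have h := Helper74.classFunction_eq_sum_irr hcf
      have hx' := congrFun h x
      rw [Finset.sum_apply] at hx'
      have hcut : S4426.cut p ((p ^ a : ℕ) : ℂ) (χ : G → ℂ) x = 0 := by
        unfold S4426.cut; rw [if_pos hx]
      rw [hcut] at hx'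
      have e1 : ∑ ψ : IrrCharacter G, (classInner (S4426.cut p ((p ^ a : ℕ) : ℂ) (χ : G → ℂ))
          (ψ : G → ℂ) • (ψ : G → ℂ)) x = ∑ ψ : IrrCharacter G, (N ψ : ℂ) * (ψ : G → ℂ) x :=
        Finset.sum_congr rfl (fun ψ _ => by rw [Pi.smul_apply, smul_eq_mul, hN ψ])
      have e2 : ∑ ψ : IrrCharacter G, (N ψ : ℂ) * (ψ : G → ℂ) x
          = ∑ ψ ∈ Ω, (N ψ : ℂ) * (ψ : G → ℂ) x :=
        (Finset.sum_subset (Finset.subset_univ Ω)
          (fun ψ _ hψ => by rw [hNzero ψ hψ]; simp)).symm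
      have e3 : ∑ ψ ∈ Ω, (N ψ : ℂ) * (ψ : G → ℂ) x = (n : ℂ) * ∑ ψ ∈ Ω, (ψ : G → ℂ) x := by
        rw [Finset.mul_sum]
        exact Finset.sum_congr rfl (fun ψ hψ => by rw [hNΩ ψ hψ])
      rw [e1, e2, e3] at hx'
      have hn0 : (n : ℂ) ≠ 0 := by exact_mod_cast hnpos.ne'
      exact (mul_eq_zero.1 hx'.symm).resolve_left hn0
    -- restrict to a Sylow subgroup
    obtain ⟨P⟩ : Nonempty (Sylow p G) := inferInstance
    set Q : Subgroup G := (P : Subgroup G) with hQ
    let _ : Fintype Q := Fintype.ofFinite Q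
    have hPcard : Nat.card Q = p ^ a := P.card_eq_multiplicity
    obtain ⟨k, hk⟩ := exists_sum_subgroup_eq Q (χ : G → ℂ) hχc
    have hψsum : ∀ ψ ∈ Ω, ∑ x : Q, (ψ : G → ℂ) (x : G) = ((p ^ a : ℕ) : ℂ) * (k : ℂ) := by
      intro ψ hψ
      obtain ⟨σ, hσ, hψσ⟩ := hΩ ψ hψ
      rw [hψσ]
      dsimp only
      rw [← map_sum, hk, hPcard, map_mul, map_natCast, map_natCast]
    have hψ1 : ∀ ψ ∈ Ω, (ψ : G → ℂ) 1 = (d : ℂ) := by
      intro ψ hψ
      obtain ⟨σ, hσ, hψσ⟩ := hΩ ψ hψ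
      rw [hψσ]
      dsimp only
      rw [hχ1, map_natCast]
    have hdouble : ∑ x : Q, ∑ ψ ∈ Ω, (ψ : G → ℂ) (x : G) = (r : ℂ) * (d : ℂ) := by
      rw [Finset.sum_eq_single (1 : Q)]
      · rw [OneMemClass.coe_one, Finset.sum_congr rfl hψ1, Finset.sum_const, nsmul_eq_mul]
      · intro x _ hx1
        apply hvanish
        exact dvd_orderOf_of_mem_sylow p P x x.2 (fun h => hx1 (Subtype.ext h))
      · intro h; exact absurd (Finset.mem_univ _) h
    rw [Finset.sum_comm, Finset.sum_congr rfl hψsum, Finset.sum_const, nsmul_eq_mul] at hdouble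
    have hfin : d = p ^ a * k := by
      have hr0' : (r : ℂ) ≠ 0 := by exact_mod_cast hr0
      have h3 := mul_left_cancel₀ hr0' hdouble
      exact_mod_cast h3.symm
    exact ⟨k, hfin⟩

end main

/-- Brauer: if `r` is the number of `p`-conjugates of the irreducible character `χ`, then
`ν_p(r χ(1)) ≤ a`, and `p^a ∣ r χ(1)` forces `p^a ∣ χ(1)`. -/
theorem pConjugate_count {G : Type u} [Group G] [Finite G] (p : ℕ) (hp : p.Prime)
    (χ : IrrCharacter G) (r : ℕ)
    (hr : Nat.card {ψ : IrrCharacter G // ∃ σ : ℂ ≃+* ℂ,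
      σ (Complex.exp (2 * Real.pi * Complex.I /
        ((Nat.card G / p ^ (Nat.card G).factorization p : ℕ) : ℂ)))
        = Complex.exp (2 * Real.pi * Complex.I /
          ((Nat.card G / p ^ (Nat.card G).factorization p : ℕ) : ℂ)) ∧
      (ψ : G → ℂ) = fun g => σ ((χ : G → ℂ) g)} = r) :
    (r * charDegree (χ : G → ℂ)).factorization p ≤ (Nat.card G).factorization p ∧
    (p ^ (Nat.card G).factorization p ∣ r * charDegree (χ : G → ℂ) →
      p ^ (Nat.card G).factorization p ∣ charDegree (χ : G → ℂ)) := by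
  classical
  let _ : Fintype G := Fintype.ofFinite G
  let _ := Helper74.irrFintype G
  have : Fact p.Prime := ⟨hp⟩
  have hN : Nat.card G / p ^ (Nat.card G).factorization p ≠ 0 :=
    (Nat.ordCompl_pos p Nat.card_pos.ne').ne'
  have hζ := Complex.isPrimitiveRoot_exp _ hN
  set ζ := Complex.exp (2 * Real.pi * Complex.I /
        ((Nat.card G / p ^ (Nat.card G).factorization p : ℕ) : ℂ)) with hζdef
  set Ω : Finset (IrrCharacter G) := Finset.univ.filter (fun ψ => ∃ σ : ℂ ≃+* ℂ,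
      σ ζ = ζ ∧ (ψ : G → ℂ) = fun g => σ ((χ : G → ℂ) g)) with hΩdef
  have hcard : Nat.card {ψ : IrrCharacter G // ∃ σ : ℂ ≃+* ℂ,
      σ ζ = ζ ∧ (ψ : G → ℂ) = fun g => σ ((χ : G → ℂ) g)} = Ω.card :=
    Nat.subtype_card Ω (fun ψ => by rw [hΩdef, Finset.mem_filter]; simp)
  rw [hcard] at hr
  subst hr
  refine pConjugate_count_main p χ ζ hζ Ω ?_ ?_
  · rw [hΩdef, Finset.mem_filter]
    exact ⟨Finset.mem_univ _, RingEquiv.refl ℂ, rfl, rfl⟩
  · intro ψ hψ
    rw [hΩdef, Finset.mem_filter] at hψ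
    exact hψ.2

end Cfsg.Agent.Helper76
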