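import Cfsg.Agent.S4426
import Cfsg.Agent.Helper76.PConjugate
import Cfsg.Agent.Helper79.BlockRankLemmas
import Cfsg.Agent.Helper79.DefectZeroBlock
import Cfsg.Agent.Helper79.Linear
import Cfsg.Agent.Helper77.BlockOrth
import Cfsg.Agent.Helper80.Degree
import Cfsg.Agent.Lib.BurnsidePQ

set_option autoImplicit false
open Cfsg
open scoped ComplexConjugate

/-!
# Groups of order `p^a q^b r^c` with `a ≤ 2` (helper76)

* `blockHeight_eq_zero_of_factorization_succ_eq`: a character with `ν_p(χ(1)) = a - 1` has height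
  zero in its block (Brauer–Feit: heights `≤ d - 2` for `d ≥ 2`), from helper79's
  `S4426.height_zero_iff` / `memLocalIdeal_div_iff`.
* `not_dvd_charDegree_of_mem_principalBlock`: if `|G|_p ≤ p²`, the principal `p`-block consists of
  characters of `p'`-degree.
* `exists_nonprincipal_linear`: a non-perfect finite group has a nonprincipal linear character.
* `exists_nonprincipal_pow_degree`: `|G| = p^a q^b r^c`, `a ≤ 2` gives a nonprincipal irreducible
  character of `r`-power degree (weak block orthogonality `∑_{χ ∈ B₀} χ(x) χ(1) = 0` read mod `q`).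
-/

namespace Cfsg.Agent.Helper76

universe u

section heights
variable {G : Type u} [Group G] [Fintype G] {M : Ideal AlgInt}

/-- `p - [p χ⁰, χ]` is `p` times the average of `|χ|²` over the `p`-singular elements. -/
theorem natCast_sub_classInner_cut (p : ℕ) (χ : IrrCharacter G) :
    (p : ℂ) - classInner (S4426.cut p (p : ℂ) (χ : G → ℂ)) (χ : G → ℂ)
      = (((p : ℝ) * ((Nat.card G : ℝ)⁻¹ * ∑ x : G, (if p ∣ orderOf x
          then Complex.normSq ((χ : G → ℂ) x) else (0 : ℝ))) : ℝ) : ℂ) := by
  classical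
  have h1 : classInner (χ : G → ℂ) (χ : G → ℂ) = 1 := Helper74.irr_inner_self χ
  have h2 : (p : ℂ) = (p : ℂ) * classInner (χ : G → ℂ) (χ : G → ℂ) := by rw [h1, mul_one]
  have e : ∀ x : G, (p : ℂ) * ((χ : G → ℂ) x * conj ((χ : G → ℂ) x))
      - S4426.cut p (p : ℂ) (χ : G → ℂ) x * conj ((χ : G → ℂ) x)
      = (p : ℂ) * (((if p ∣ orderOf x then Complex.normSq ((χ : G → ℂ) x) else (0 : ℝ)) : ℝ) : ℂ) := by
    intro x
    unfold S4426.cut
    by_cases hx : p ∣ orderOf x
    · simp only [hx, if_true, zero_mul, sub_zero]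
      rw [Complex.mul_conj]
    · simp only [hx, if_false]
      push_cast
      ring
  calc (p : ℂ) - classInner (S4426.cut p (p : ℂ) (χ : G → ℂ)) (χ : G → ℂ)
      = (p : ℂ) * classInner (χ : G → ℂ) (χ : G → ℂ)
          - classInner (S4426.cut p (p : ℂ) (χ : G → ℂ)) (χ : G → ℂ) := by rw [h1, mul_one]
    _ = (Nat.card G : ℂ)⁻¹ * ∑ x : G, ((p : ℂ) * ((χ : G → ℂ) x * conj ((χ : G → ℂ) x))
          - S4426.cut p (p : ℂ) (χ : G → ℂ) x * conj ((χ : G → ℂ) x)) := by
        rw [Helper74.classInner_def, Helper74.classInner_def, Finset.sum_sub_distrib,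
          ← Finset.mul_sum]
        ring
    _ = (Nat.card G : ℂ)⁻¹ * ∑ x : G, (p : ℂ) *
          (((if p ∣ orderOf x then Complex.normSq ((χ : G → ℂ) x) else (0 : ℝ)) : ℝ) : ℂ) := by
        congr 1
        exact Finset.sum_congr rfl fun x _ => e x
    _ = _ := by
        rw [← Finset.mul_sum]
        push_cast
        ring

/-- An irreducible character whose degree has `p`-part `p ^ (a - 1)` has height zero in its
block (Brauer–Feit: heights are at most `d - 2` in blocks of defect `d ≥ 2`). -/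
theorem blockHeight_eq_zero_of_factorization_succ_eq (p : ℕ) [hp : Fact p.Prime]
    (hM : IsPModular p M) (B : Set (IrrCharacter G)) (hB : IsPBlock M B) (χ : IrrCharacter G)
    (hχ : χ ∈ B)
    (hb : (charDegree (χ : G → ℂ)).factorization p + 1 = (Nat.card G).factorization p) :
    blockHeight p B (χ : G → ℂ) = 0 := by
  classical
  by_contra hne
  have hMp : M.IsPrime := Helper78.isPrime_of_isPModular hM
  set a := (Nat.card G).factorization p with ha
  set deg := charDegree (χ : G → ℂ) with hdeg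
  have hdeg0 : deg ≠ 0 := (Helper78.charDegree_pos_of_isIrrCharacter χ.2).ne'
  have hχ1 : (χ : G → ℂ) 1 = (deg : ℂ) := Helper78.irrChar_one_eq_charDegree χ.2
  have hχ1' : (χ : G → ℂ) 1 ≠ 0 := by rw [hχ1]; exact_mod_cast hdeg0
  have hJ : MemLocalIdeal M (classInner (S4426.cut p ((p ^ a : ℕ) : ℂ) (χ : G → ℂ))
      (χ : G → ℂ) / (χ : G → ℂ) 1) := by
    by_contra h
    exact hne ((S4426.height_zero_iff p hM B hB χ hχ).2 h)
  have hR := S4426.memLocalRing_U hM χ.2 χ.2
  obtain ⟨n, hn⟩ := S4426.exists_int_inner p χ χ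
  rw [hn, hχ1] at hJ hR
  have hdvd := (S4426.memLocalIdeal_div_iff hM hdeg0 hR).1 hJ
  rw [hb] at hdvd
  -- `n = p^(a-1) m` with `m = [p χ⁰, χ]`
  have hcut : S4426.cut p ((p ^ a : ℕ) : ℂ) (χ : G → ℂ)
      = ((p ^ (a - 1) : ℕ) : ℂ) • S4426.cut p (p : ℂ) (χ : G → ℂ) := by
    funext x
    unfold S4426.cut
    rw [Pi.smul_apply, smul_eq_mul]
    by_cases hx : p ∣ orderOf x
    · simp [hx]
    · simp only [hx, if_false]
      have : a = (a - 1) + 1 := by omega
      conv_lhs => rw [this]
      push_cast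
      ring
  set m : ℂ := classInner (S4426.cut p (p : ℂ) (χ : G → ℂ)) (χ : G → ℂ) with hm
  have hnm : (n : ℂ) = ((p ^ (a - 1) : ℕ) : ℂ) * m := by
    rw [← hn, hcut, Helper74.classInner_smul_left]
  -- `m` is a positive integer
  have hgen : IsGeneralizedCharacter G (S4426.cut p (p : ℂ) (χ : G → ℂ)) := by
    have h := isGenChar_defect_mul_pRegular p χ.2
    have e : a - deg.factorization p = 1 := by omega
    rw [e] at h
    unfold S4426.cut
    simpa using h
  obtain ⟨mz, hmz⟩ := Helper25.isGenChar_inner_int hgen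
    (Helper25.isGenChar_of_isCharacter (Helper74.irr_isCharacter χ))
  have hmpos : 0 < mz := by
    have := classInner_cut_self_pos p hp.out p hp.out.pos (χ : G → ℂ) hχ1' mz hmz
    exact this
  have hnz : n = (p : ℤ) ^ (a - 1) * mz := by
    have : (n : ℂ) = (((p : ℤ) ^ (a - 1) * mz : ℤ) : ℂ) := by
      rw [hnm, hm, hmz]; push_cast; ring
    exact_mod_cast this
  have hpm : (p : ℤ) ∣ mz := by
    rw [hnz] at hdvd
    have e : (p : ℤ) ^ a = (p : ℤ) ^ (a - 1) * (p : ℤ) := by
      rw [← pow_succ]; congr 1; omega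
    rw [e] at hdvd
    exact (mul_dvd_mul_iff_left (pow_ne_zero _ (by exact_mod_cast hp.out.ne_zero))).1 hdvd
  -- `m ≤ p`, with equality iff `χ` vanishes on the `p`-singular elements
  have hkey := natCast_sub_classInner_cut p χ
  rw [hmz] at hkey
  set w : ℝ := (Nat.card G : ℝ)⁻¹ * ∑ x : G, (if p ∣ orderOf x
          then Complex.normSq ((χ : G → ℂ) x) else (0 : ℝ)) with hw
  have hkey' : (p : ℝ) - (mz : ℝ) = (p : ℝ) * w := by
    have : (((p : ℝ) - (mz : ℝ) : ℝ) : ℂ) = (((p : ℝ) * w : ℝ) : ℂ) := by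
      rw [← hkey]; push_cast; rfl
    exact Complex.ofReal_injective this
  have hcardpos : (0 : ℝ) < (Nat.card G : ℝ) := by exact_mod_cast Nat.card_pos
  have hsum0 : 0 ≤ ∑ x : G, (if p ∣ orderOf x
          then Complex.normSq ((χ : G → ℂ) x) else (0 : ℝ)) :=
    Finset.sum_nonneg fun x _ => by
      split_ifs
      · exact Complex.normSq_nonneg _
      · exact le_refl _
  have hw0 : 0 ≤ w := mul_nonneg (inv_nonneg.2 hcardpos.le) hsum0
  have hppos : (0 : ℝ) < (p : ℝ) := by exact_mod_cast hp.out.pos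
  have hmle : mz ≤ p := by
    have : (mz : ℝ) ≤ (p : ℝ) := by nlinarith
    exact_mod_cast this
  have hmeq : mz = p := by
    obtain ⟨c, hc⟩ := hpm
    have hc1 : 0 < c := by
      rw [hc] at hmpos
      exact (mul_pos_iff_of_pos_left (by exact_mod_cast hp.out.pos)).1 hmpos
    have hc2 : c ≤ 1 := by
      by_contra h
      push Not at h
      have : (p : ℤ) * 2 ≤ (p : ℤ) * c := mul_le_mul_of_nonneg_left (by omega) (by positivity)
      have hp' : (0 : ℤ) < (p : ℤ) := by exact_mod_cast hp.out.pos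
      omega
    have : c = 1 := by omega
    rw [hc, this, mul_one]
  have hw_eq : w = 0 := by
    have : (p : ℝ) * w = 0 := by rw [← hkey', hmeq]; push_cast; ring
    exact (mul_eq_zero.1 this).resolve_left hppos.ne'
  have hsum_eq : ∑ x : G, (if p ∣ orderOf x
          then Complex.normSq ((χ : G → ℂ) x) else (0 : ℝ)) = 0 := by
    rw [hw] at hw_eq
    exact (mul_eq_zero.1 hw_eq).resolve_left (inv_ne_zero hcardpos.ne')
  have hvan : ∀ y : G, p ∣ orderOf y → (χ : G → ℂ) y = 0 := by
    intro y hy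
    have h0 := (Finset.sum_eq_zero_iff_of_nonneg (fun x _ => by
      split_ifs
      · exact Complex.normSq_nonneg _
      · exact le_refl _)).1 hsum_eq y (Finset.mem_univ _)
    rw [if_pos hy] at h0
    exact Complex.normSq_eq_zero.1 h0
  have h3 : a ≤ deg.factorization p :=
    Helper79.factorization_le_of_vanishes p (Helper74.irr_isCharacter χ) hdeg0 hvan
  omega

end heights

/-- A finite group which is not perfect has a nonprincipal linear character. -/
theorem exists_nonprincipal_linear {G : Type u} [Group G] [Finite G]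
    (h : commutator G ≠ ⊤) :
    ∃ χ : IrrCharacter G, (χ : G → ℂ) ≠ (fun _ => 1) ∧ charDegree (χ : G → ℂ) = 1 := by
  classical
  obtain ⟨g, hg⟩ : ∃ g : G, g ∉ commutator G := by
    by_contra hcon
    push Not at hcon
    exact h (eq_top_iff.2 fun x _ => hcon x)
  have hne : (Abelianization.of g : Abelianization G) ≠ 1 := by
    intro h1
    apply hg
    have : (QuotientGroup.mk g : G ⧸ commutator G) = 1 := h1
    exact (QuotientGroup.eq_one_iff g).1 this
  obtain ⟨φ, hφ⟩ := CommGroup.exists_apply_ne_one_of_hasEnoughRootsOfUnity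
    (Abelianization G) ℂ hne
  set l : G →* ℂ := (Units.coeHom ℂ).comp (φ.comp Abelianization.of) with hl
  refine ⟨⟨l, Helper79.isIrrCharacter_of_monoidHom l⟩, ?_, ?_⟩
  · intro hcon
    have := congrFun hcon g
    apply hφ
    apply Units.ext
    simpa [hl] using this
  · show charDegree (l : G → ℂ) = 1
    unfold charDegree
    rw [map_one]
    simp


/-- In the principal `p`-block of a group whose Sylow `p`-subgroups have order at most `p²`, all
irreducible characters have degree prime to `p`. -/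
theorem not_dvd_charDegree_of_mem_principalBlock {G : Type u} [Group G] [Fintype G] (p : ℕ)
    [hp : Fact p.Prime] {M : Ideal AlgInt} (hM : IsPModular p M)
    (ha : (Nat.card G).factorization p ≤ 2) (χ : IrrCharacter G)
    (hχ : χ ∈ principalBlock M G) : ¬ p ∣ charDegree (χ : G → ℂ) := by
  classical
  intro hdvd
  have hMp : M.IsPrime := Helper78.isPrime_of_isPModular hM
  set a := (Nat.card G).factorization p with ha'
  set deg := charDegree (χ : G → ℂ) with hdeg
  have hdeg0 : deg ≠ 0 := (Helper78.charDegree_pos_of_isIrrCharacter χ.2).ne'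
  have hν1 : 1 ≤ deg.factorization p :=
    (hp.out.dvd_iff_one_le_factorization hdeg0).1 hdvd
  have hνa : deg.factorization p ≤ a := by
    have hd : deg ∣ Nat.card G := Helper80.IsIrrCharacter.charDegree_dvd_card χ.2
    exact (hp.out.pow_dvd_iff_le_factorization Nat.card_pos.ne').1
      ((Nat.ordProj_dvd _ _).trans hd)
  have hB : IsPBlock M (principalBlock M G) := ⟨Helper79.principalIrr G, rfl⟩
  have h1mem : Helper79.principalIrr G ∈ principalBlock M G :=
    Helper78.sameBlock_refl hMp _
  have hdeg1 : charDegree ((Helper79.principalIrr G : IrrCharacter G) : G → ℂ) = 1 := by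
    show charDegree (fun _ : G => (1 : ℂ)) = 1
    unfold charDegree
    simp
  rcases Nat.lt_or_ge (deg.factorization p) a with hlt | hge
  · -- `ν = a - 1`
    have hsucc : deg.factorization p + 1 = a := by omega
    have h0 := blockHeight_eq_zero_of_factorization_succ_eq p hM _ hB χ hχ hsucc
    unfold blockHeight at h0
    have hinf : sInf ((fun ψ : IrrCharacter G => (charDegree (ψ : G → ℂ)).factorization p) ''
        principalBlock M G) = 0 := by
      apply Nat.eq_zero_of_le_zero
      apply Nat.sInf_le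
      exact ⟨Helper79.principalIrr G, h1mem, by simp [hdeg1]⟩
    rw [hinf] at h0
    have h0' : deg.factorization p - 0 = 0 := h0
    omega
  · -- defect zero
    have hdef : deg.factorization p = a := le_antisymm hνa hge
    have hsame : SameBlock M (χ : G → ℂ) ((Helper79.principalIrr G : IrrCharacter G) : G → ℂ) :=
      Helper78.sameBlock_symm hχ
    have heq := Helper79.eq_of_sameBlock_of_defect_zero hM χ (Helper79.principalIrr G) hdef hsame
    rw [hdeg, ← heq, hdeg1] at hdvd
    exact hp.out.one_lt.ne' (Nat.dvd_one.1 hdvd)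

/-- A group of order `p^a q^b r^c` with `a ≤ 2` has a nonprincipal irreducible character of
`r`-power degree. -/
theorem exists_nonprincipal_pow_degree {G : Type u} [Group G] [Finite G] [Nontrivial G]
    (p q r a b c : ℕ) (hp : p.Prime) (hq : q.Prime) (hr : r.Prime) (hpq : p ≠ q) (hpr : p ≠ r)
    (ha : a ≤ 2) (hG : Nat.card G = p ^ a * q ^ b * r ^ c) :
    ∃ χ : IrrCharacter G, (χ : G → ℂ) ≠ (fun _ => 1) ∧
      ∃ k : ℕ, charDegree (χ : G → ℂ) = r ^ k := by
  classical
  by_cases hperf : commutator G = ⊤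
  swap
  · obtain ⟨χ, h1, h2⟩ := exists_nonprincipal_linear hperf
    exact ⟨χ, h1, 0, by rw [h2, pow_zero]⟩
  have ha0 : a ≠ 0 := by
    rintro rfl
    rw [pow_zero, one_mul] at hG
    have hsol : Group.IsSolvable G := Lib.burnside_pq q r b c hq hr hG
    exact (Group.IsSolvable.commutator_lt_top_of_nontrivial G).ne hperf
  let _ : Fintype G := Fintype.ofFinite G
  let _ := Helper74.irrFintype G
  have hpF : Fact p.Prime := ⟨hp⟩
  obtain ⟨M, hM⟩ := Helper74.exists_isPModular p hp
  have hMp : M.IsPrime := Helper78.isPrime_of_isPModular hM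
  have hfac : (Nat.card G).factorization p = a := by
    rw [hG]
    have h1 : p ^ a ≠ 0 := pow_ne_zero _ hp.ne_zero
    have h2 : q ^ b ≠ 0 := pow_ne_zero _ hq.ne_zero
    have h3 : r ^ c ≠ 0 := pow_ne_zero _ hr.ne_zero
    rw [Nat.factorization_mul (mul_ne_zero h1 h2) h3, Nat.factorization_mul h1 h2]
    simp [hp.factorization_pow, hq.factorization_pow, hr.factorization_pow, hpq.symm, hpr.symm]
  have hpdvd : p ∣ Nat.card G := by
    rw [hG, mul_assoc]
    exact Dvd.dvd.mul_right (dvd_pow_self p ha0) _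
  obtain ⟨x, hx⟩ := exists_prime_orderOf_dvd_card' p hpdvd
  set B := principalBlock M G with hBdef
  have hB : IsPBlock M B := ⟨Helper79.principalIrr G, rfl⟩
  have h1mem : Helper79.principalIrr G ∈ B := Helper78.sameBlock_refl hMp _
  by_contra hcon
  push Not at hcon
  -- every nonprincipal member of `B` has degree divisible by `q`
  have hq_dvd : ∀ χ ∈ B, χ ≠ Helper79.principalIrr G → q ∣ charDegree (χ : G → ℂ) := by
    intro χ hχ hne
    by_contra hqn
    have hpn : ¬ p ∣ charDegree (χ : G → ℂ) :=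
      not_dvd_charDegree_of_mem_principalBlock p hM (by rw [hfac]; exact ha) χ hχ
    have hd : charDegree (χ : G → ℂ) ∣ p ^ a * q ^ b * r ^ c := by
      rw [← hG]; exact Helper80.IsIrrCharacter.charDegree_dvd_card χ.2
    have hc1 : Nat.Coprime (charDegree (χ : G → ℂ)) (p ^ a) :=
      Nat.Coprime.pow_right _ ((Nat.Prime.coprime_iff_not_dvd hp).2 hpn).symm
    have hc2 : Nat.Coprime (charDegree (χ : G → ℂ)) (q ^ b) :=
      Nat.Coprime.pow_right _ ((Nat.Prime.coprime_iff_not_dvd hq).2 hqn).symm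
    have hd2 : charDegree (χ : G → ℂ) ∣ r ^ c := by
      rw [mul_assoc] at hd
      exact hc2.dvd_of_dvd_mul_left (hc1.dvd_of_dvd_mul_left hd)
    obtain ⟨k, _, hk⟩ := (Nat.dvd_prime_pow hr).1 hd2
    refine hcon χ ?_ k hk
    intro h
    apply hne
    exact Subtype.ext h
  -- block orthogonality at `1` and `x`
  have h1reg : ¬ p ∣ orderOf (1 : G) := by
    rw [orderOf_one]; exact fun h => hp.one_lt.ne' (Nat.dvd_one.1 h)
  have hxsing : p ∣ orderOf x := by rw [hx]
  have horth := Helper77.weak_block_orthogonality hM hB 1 x h1reg hxsing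
  rw [finsum_mem_eq_finite_toFinset_sum _ (Set.toFinite B)] at horth
  set Bf := (Set.toFinite B).toFinset with hBf
  have hmemBf : ∀ ψ, ψ ∈ Bf ↔ ψ ∈ B := fun ψ => Set.Finite.mem_toFinset _
  rw [← Finset.add_sum_erase Bf _ ((hmemBf _).2 h1mem)] at horth
  have hone : ((Helper79.principalIrr G : IrrCharacter G) : G → ℂ) x *
      ((Helper79.principalIrr G : IrrCharacter G) : G → ℂ) 1 = 1 := by
    show (1 : ℂ) * 1 = 1
    rw [mul_one]
  rw [hone] at horth
  -- the rest is `q` times an algebraic integer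
  have hrest : ∃ α : ℂ, IsIntegral ℤ α ∧
      ∑ ψ ∈ Bf.erase (Helper79.principalIrr G), (ψ : G → ℂ) x * (ψ : G → ℂ) 1 = (q : ℂ) * α := by
    have hex : ∀ ψ ∈ Bf.erase (Helper79.principalIrr G), ∃ β : ℂ, IsIntegral ℤ β ∧
        (ψ : G → ℂ) x * (ψ : G → ℂ) 1 = (q : ℂ) * β := by
      intro ψ hψ
      rw [Finset.mem_erase] at hψ
      obtain ⟨t, ht⟩ := hq_dvd ψ ((hmemBf ψ).1 hψ.2) hψ.1
      refine ⟨(ψ : G → ℂ) x * (t : ℂ), ?_, ?_⟩
      · exact (Helper78.isIntegral_irrChar_apply ψ.2 x).mul (isIntegral_natCast t)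
      · rw [Helper78.irrChar_one_eq_charDegree ψ.2, ht]
        push_cast
        ring
    choose! β hβ using hex
    refine ⟨∑ ψ ∈ Bf.erase (Helper79.principalIrr G), β ψ, ?_, ?_⟩
    · exact IsIntegral.sum _ fun ψ hψ => (hβ ψ hψ).1
    · rw [Finset.mul_sum]
      exact Finset.sum_congr rfl fun ψ hψ => (hβ ψ hψ).2
  obtain ⟨α, hα, hsum⟩ := hrest
  rw [hsum] at horth
  have hqC : (q : ℂ) ≠ 0 := by exact_mod_cast hq.ne_zero
  have hinv : (q : ℂ)⁻¹ = -α := by
    field_simp
    linear_combination horth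
  apply Lib.not_isIntegral_inv_prime hq
  rw [hinv]
  exact hα.neg

end Cfsg.Agent.Helper76
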