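import Mathlib
import Cfsg.Agent.Helper76.Homocyclic
import Cfsg.Agent.S0071

/-!
# Quaternion Sylow 2-subgroups of order eight
-/

set_option autoImplicit false

namespace Cfsg.Agent.Helper76

open Subgroup QuaternionGroup

theorem quat_pow_four (q : QuaternionGroup 2) : q ^ 4 = 1 := by
  revert q; decide

theorem quat_sq_eq_one (q : QuaternionGroup 2) (h : q ^ 2 = 1) : q = 1 ∨ q = a 2 := by
  revert q; decide

theorem quat_card_sq_ne_one : Fintype.card {q : QuaternionGroup 2 // q ^ 2 ≠ 1} = 6 := by
  decide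

theorem quat_card : Fintype.card (QuaternionGroup 2) = 8 := by
  decide

theorem quat_gen_of_not_comm (x y q : QuaternionGroup 2) (h : x * y ≠ y * x) :
    q = 1 ∨ q = x ∨ q = y ∨ q = x * y ∨ q = x ^ 2 ∨ q = x ^ 3 ∨ q = y ^ 3 ∨ q = y * x := by
  revert x y q; decide

/-- A nontrivial permutation of odd order of a set with at most three elements is transitive. -/
theorem perm_transitive_of_odd_of_card_le_three {α : Type*} [Finite α] (hα : Nat.card α ≤ 3)
    (σ : Equiv.Perm α) (hσ : σ ≠ 1) (n : ℕ) (hn : Odd n) (hσn : σ ^ n = 1) (a b : α) :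
    ∃ k : ℕ, (σ ^ k) a = b := by
  classical
  have : Fintype α := Fintype.ofFinite α
  rw [Nat.card_eq_fintype_card] at hα
  have h2 : 2 ≤ σ.support.card := by
    by_contra h
    exact hσ (Equiv.Perm.card_support_le_one.mp (by omega))
  have h3 : σ.support.card ≤ 3 := le_trans (Finset.card_le_univ _) hα
  have hne2 : σ.support.card ≠ 2 := by
    intro h
    obtain ⟨x, y, hxy, hsw⟩ := Equiv.Perm.card_support_eq_two.mp h
    have hsq : σ ^ 2 = 1 := by rw [hsw, sq, Equiv.swap_mul_self]
    obtain ⟨j, hj⟩ := hn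
    apply hσ
    have : σ ^ (2 * j + 1) = 1 := hj ▸ hσn
    rw [pow_succ, pow_mul, hsq, one_pow, one_mul] at this
    exact this
  have h33 : σ.support.card = 3 := by omega
  have hcyc : σ.IsCycle := (card_support_eq_three_iff.mp h33).isCycle
  have hsupp : σ.support = Finset.univ := by
    apply Finset.eq_univ_of_card
    have := Finset.card_le_univ σ.support
    omega
  have ha : σ a ≠ a := by
    rw [← Equiv.Perm.mem_support, hsupp]; exact Finset.mem_univ _
  have hb : σ b ≠ b := by
    rw [← Equiv.Perm.mem_support, hsupp]; exact Finset.mem_univ _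
  exact hcyc.exists_pow_eq ha hb

section
variable {G : Type*} [Group G] (S : Subgroup G) (e : S ≃* QuaternionGroup 2)

include e in
theorem quatSub_pow_four {x : G} (hx : x ∈ S) : x ^ 4 = 1 := by
  have h1 : (⟨x, hx⟩ : S) ^ 4 = 1 := by
    apply e.injective
    rw [map_pow, map_one]; exact quat_pow_four _
  exact congrArg Subtype.val h1

include e in
theorem quatSub_involution_unique {x y : G} (hx : x ∈ S) (hy : y ∈ S) (hx2 : x ^ 2 = 1)
    (hy2 : y ^ 2 = 1) (hx1 : x ≠ 1) (hy1 : y ≠ 1) : x = y := by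
  have h1 : e ⟨x, hx⟩ ^ 2 = 1 := by
    rw [← map_pow]
    have : (⟨x, hx⟩ : S) ^ 2 = 1 := Subtype.ext (by simpa using hx2)
    rw [this, map_one]
  have h2 : e ⟨y, hy⟩ ^ 2 = 1 := by
    rw [← map_pow]
    have : (⟨y, hy⟩ : S) ^ 2 = 1 := Subtype.ext (by simpa using hy2)
    rw [this, map_one]
  have hx' : e ⟨x, hx⟩ ≠ 1 := by
    intro h
    have : (⟨x, hx⟩ : S) = 1 := e.injective (by rw [h, map_one])
    exact hx1 (congrArg Subtype.val this)
  have hy' : e ⟨y, hy⟩ ≠ 1 := by
    intro h
    have : (⟨y, hy⟩ : S) = 1 := e.injective (by rw [h, map_one])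
    exact hy1 (congrArg Subtype.val this)
  have e1 := (quat_sq_eq_one _ h1).resolve_left hx'
  have e2 := (quat_sq_eq_one _ h2).resolve_left hy'
  have : (⟨x, hx⟩ : S) = ⟨y, hy⟩ := e.injective (e1.trans e2.symm)
  exact congrArg Subtype.val this

include e in
theorem quatSub_card : Nat.card S = 8 := by
  rw [Nat.card_congr e.toEquiv, Nat.card_eq_fintype_card, quat_card]

include e in
theorem quatSub_card_sq_ne_one : Nat.card {x : G // x ∈ S ∧ x ^ 2 ≠ 1} = 6 := by
  rw [← quat_card_sq_ne_one, ← Nat.card_eq_fintype_card]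
  apply Nat.card_congr
  refine ⟨fun x => ⟨e ⟨x.1, x.2.1⟩, ?_⟩, fun q => ⟨(e.symm q.1 : S), (e.symm q.1).2, ?_⟩, ?_, ?_⟩
  · intro h
    rw [← map_pow] at h
    have : (⟨x.1, x.2.1⟩ : S) ^ 2 = 1 := e.injective (by rw [h, map_one])
    exact x.2.2 (congrArg Subtype.val this)
  · intro h
    apply q.2
    have h1 : (e.symm q.1) ^ 2 = 1 := Subtype.ext (by simpa using h)
    rw [← map_pow] at h1
    have := congrArg e h1
    rw [MulEquiv.apply_symm_apply, map_one] at this
    exact this
  · intro x
    apply Subtype.ext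
    simp
  · intro q
    apply Subtype.ext
    simp

include e in
/-- A subgroup of order four of a quaternion group of order eight is cyclic, generated by any of
its elements of order four. -/
theorem quatSub_order_four_cyclic [Finite G] (A : Subgroup G) (hA : A ≤ S) (hA4 : Nat.card A = 4) :
    ∃ x ∈ A, x ^ 2 ≠ 1 ∧ A = zpowers x := by
  classical
  have : Fintype A := Fintype.ofFinite A
  have h3 : 2 < Fintype.card A := by rw [← Nat.card_eq_fintype_card, hA4]; norm_num
  obtain ⟨u, v, w, huv, huw, hvw⟩ := Fintype.two_lt_card_iff.mp h3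
  have hex : ∃ x ∈ A, x ^ 2 ≠ 1 := by
    by_contra hcon
    push Not at hcon
    have hsq : ∀ t : A, (t : G) ^ 2 = 1 := fun t => hcon t t.2
    -- among u, v, w at least two are non-identity, hence equal
    have key : ∀ s t : A, s ≠ t → (s : G) = 1 ∨ (t : G) = 1 := by
      intro s t hst
      by_contra hh
      push Not at hh
      apply hst
      exact Subtype.ext (quatSub_involution_unique S e (hA s.2) (hA t.2) (hsq s) (hsq t) hh.1 hh.2)
    rcases key u v huv with h | h
    · rcases key u w huw with h' | h'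
      · -- u = 1 and u = 1: look at v, w
        rcases key v w hvw with h'' | h''
        · exact huv (Subtype.ext (h.trans h''.symm))
        · exact huw (Subtype.ext (h.trans h''.symm))
      · rcases key v w hvw with h'' | h''
        · exact huv (Subtype.ext (h.trans h''.symm))
        · exact huw (Subtype.ext (h.trans h''.symm))
    · rcases key u w huw with h' | h'
      · exact huv (Subtype.ext (h'.trans h.symm))
      · exact hvw (Subtype.ext (h.trans h'.symm))
  obtain ⟨x, hxA, hx2⟩ := hex
  refine ⟨x, hxA, hx2, ?_⟩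
  have hord : orderOf x = 2 ^ (1 + 1) := by
    apply orderOf_eq_prime_pow
    · simpa using hx2
    · have := quatSub_pow_four S e (hA hxA)
      simpa using this
  have hle : zpowers x ≤ A := (zpowers_le).mpr hxA
  symm
  apply Subgroup.eq_of_le_of_card_ge hle
  rw [Nat.card_zpowers, hord, hA4]
  norm_num

include e in
/-- An element of odd order normalizing a commutative subgroup of a quaternion group centralizes
it. -/
theorem quatSub_odd_centralizes (A : Subgroup G) (hA : A ≤ S)
    (hAc : ∀ a ∈ A, ∀ b ∈ A, a * b = b * a) (g : G) (hodd : Odd (orderOf g))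
    (hgN : ∀ u ∈ A, g * u * g⁻¹ ∈ A) : ∀ u ∈ A, g * u * g⁻¹ = u := by
  have hA2 : IsPGroup 2 A := by
    rw [IsPGroup.iff_orderOf]
    intro u
    have h4 : (u : G) ^ 2 ^ 2 = 1 := by
      have := quatSub_pow_four S e (hA u.2)
      simpa using this
    have h4' : u ^ 2 ^ 2 = 1 := Subtype.ext (by simpa using h4)
    obtain ⟨k, _, hk⟩ := (Nat.dvd_prime_pow Nat.prime_two).mp (orderOf_dvd_of_pow_eq_one h4')
    exact ⟨k, hk⟩
  apply conj_eq_of_odd_of_centralizes_involutions A hAc hA2 g hgN hodd
  intro u hu hu2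
  by_cases hu1 : u = 1
  · rw [hu1]; group
  · have h1 : g * u * g⁻¹ ∈ S := hA (hgN u hu)
    have h2 : (g * u * g⁻¹) ^ 2 = 1 := by rw [conj_pow, hu2]; group
    have h3 : g * u * g⁻¹ ≠ 1 := by
      intro h
      apply hu1
      have : u = g⁻¹ * (g * u * g⁻¹) * g := by group
      rw [this, h]; group
    exact quatSub_involution_unique S e h1 (hA hu) h2 hu2 h3 hu1

include e in
/-- A quaternion group of order eight has at most three subgroups of order four. -/
theorem quatSub_card_order_four_le [Finite G] :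
    Nat.card {A : Subgroup G // A ≤ S ∧ Nat.card A = 4} ≤ 3 := by
  classical
  have hgen : ∀ A : {A : Subgroup G // A ≤ S ∧ Nat.card A = 4},
      ∃ x ∈ A.1, x ^ 2 ≠ 1 ∧ A.1 = zpowers x :=
    fun A => quatSub_order_four_cyclic S e A.1 A.2.1 A.2.2
  choose gen hgenA hgen2 hgenZ using hgen
  have hfinX : Finite {x : G // x ∈ S ∧ x ^ 2 ≠ 1} := inferInstance
  let f : {A : Subgroup G // A ≤ S ∧ Nat.card A = 4} × Fin 2 → {x : G // x ∈ S ∧ x ^ 2 ≠ 1} :=
    fun p => if p.2 = 0 then ⟨gen p.1, p.1.2.1 (hgenA p.1), hgen2 p.1⟩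
      else ⟨(gen p.1)⁻¹, S.inv_mem (p.1.2.1 (hgenA p.1)), by
        rw [inv_pow]; intro h; exact hgen2 p.1 (inv_eq_one.mp h)⟩
  have hfz : ∀ p, zpowers ((f p : G)) = p.1.1 := by
    intro p
    simp only [f]
    split_ifs
    · exact (hgenZ p.1).symm
    · rw [zpowers_inv]; exact (hgenZ p.1).symm
  have hf : Function.Injective f := by
    intro p q hpq
    have h1 : p.1 = q.1 := by
      apply Subtype.ext
      rw [← hfz p, ← hfz q, hpq]
    obtain ⟨A, i⟩ := p
    obtain ⟨B, j⟩ := q
    simp only at h1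
    subst h1
    congr 1
    by_contra hij
    have hval := congrArg (fun x : {x : G // x ∈ S ∧ x ^ 2 ≠ 1} => (x : G)) hpq
    simp only [f] at hval
    have hcase : gen A = (gen A)⁻¹ := by
      fin_cases i <;> fin_cases j
      · exact absurd rfl hij
      · simpa using hval
      · simpa using hval.symm
      · exact absurd rfl hij
    apply hgen2 A
    have : gen A * gen A = 1 := by
      nth_rewrite 2 [hcase]; exact mul_inv_cancel _
    rw [sq]; exact this
  have h1 := Nat.card_le_card_of_injective f hf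
  rw [Nat.card_prod, Nat.card_eq_fintype_card (α := Fin 2), Fintype.card_fin,
    quatSub_card_sq_ne_one S e] at h1
  omega

include e in
/-- A proper subgroup of a quaternion group of order eight is commutative. -/
theorem quatSub_comm_of_ne (Q : Subgroup G) (hQ : Q ≤ S) (hne : Q ≠ S) :
    ∀ a ∈ Q, ∀ b ∈ Q, a * b = b * a := by
  intro a ha b hb
  by_contra hab
  apply hne
  apply le_antisymm hQ
  intro s hs
  have hne' : e ⟨a, hQ ha⟩ * e ⟨b, hQ hb⟩ ≠ e ⟨b, hQ hb⟩ * e ⟨a, hQ ha⟩ := by
    intro h
    rw [← map_mul, ← map_mul] at h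
    have := e.injective h
    exact hab (congrArg Subtype.val this)
  have hcases := quat_gen_of_not_comm (e ⟨a, hQ ha⟩) (e ⟨b, hQ hb⟩) (e ⟨s, hs⟩) hne'
  have hconv : ∀ t : S, e ⟨s, hs⟩ = e t → s = (t : G) := fun t h =>
    congrArg Subtype.val (e.injective h)
  rcases hcases with h | h | h | h | h | h | h | h
  · rw [hconv 1 (by rw [h, map_one])]; exact Q.one_mem
  · rw [hconv _ h]; exact ha
  · rw [hconv _ h]; exact hb
  · rw [hconv (⟨a, hQ ha⟩ * ⟨b, hQ hb⟩) (by rw [h, map_mul])]; exact Q.mul_mem ha hb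
  · rw [hconv (⟨a, hQ ha⟩ ^ 2) (by rw [h, map_pow])]; exact Q.pow_mem ha 2
  · rw [hconv (⟨a, hQ ha⟩ ^ 3) (by rw [h, map_pow])]; exact Q.pow_mem ha 3
  · rw [hconv (⟨b, hQ hb⟩ ^ 3) (by rw [h, map_pow])]; exact Q.pow_mem hb 3
  · rw [hconv (⟨b, hQ hb⟩ * ⟨a, hQ ha⟩) (by rw [h, map_mul])]; exact Q.mul_mem hb ha

end

/-- Conjugation action of the normalizer of `S` on the subgroups of order four of `S`. -/
@[reducible] def conjActOrderFour {G : Type*} [Group G] [Finite G] (S : Subgroup G) :
    MulAction (normalizer (S : Set G)) {A : Subgroup G // A ≤ S ∧ Nat.card A = 4} where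
  smul n A := ⟨A.1.map (MulAut.conj (n : G)).toMonoidHom, by
      rintro _ ⟨x, hx, rfl⟩
      exact (mem_normalizer_iff.mp n.2 x).mp (A.2.1 hx), by
      rw [Subgroup.card_map_of_injective (MulAut.conj (n : G)).injective]; exact A.2.2⟩
  one_smul A := Subtype.ext (by
    show A.1.map (MulAut.conj ((1 : normalizer (S : Set G)) : G)).toMonoidHom = A.1
    rw [Subgroup.coe_one, map_one]
    exact Subgroup.map_id _)
  mul_smul a b A := Subtype.ext (by
    show A.1.map (MulAut.conj ((a * b : normalizer (S : Set G)) : G)).toMonoidHom =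
      (A.1.map (MulAut.conj (b : G)).toMonoidHom).map (MulAut.conj (a : G)).toMonoidHom
    rw [Subgroup.map_map, Subgroup.coe_mul, map_mul]
    rfl)

/-- A quaternion Sylow `2`-subgroup of order eight without normal complement: its subgroups of
order four are conjugate under its normalizer. -/
theorem quaternion_sylow_order_four_conj {G : Type*} [Group G] [Finite G] (S : Sylow 2 G)
    (e : (S : Subgroup G) ≃* QuaternionGroup 2)
    (hnc : ∀ N : Subgroup G, N.Normal → ¬ Subgroup.IsComplement' N (S : Subgroup G))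
    (A B : Subgroup G) (hA : A ≤ S) (hB : B ≤ S) (hA4 : Nat.card A = 4) (hB4 : Nat.card B = 4) :
    ∃ n ∈ normalizer ((S : Subgroup G) : Set G), B = A.map (MulAut.conj n).toMonoidHom := by
  classical
  -- Frobenius: an odd-order element normalizing but not centralizing some `Q ≤ S`
  have hfrob := Cfsg.Agent.S0071.result S
  have hnot : ¬ ∃ N : Subgroup G, N.Normal ∧ N.IsComplement' (S : Subgroup G) := by
    rintro ⟨N, hN, hc⟩
    exact hnc N hN hc
  rw [hfrob] at hnot
  push Not at hnot
  obtain ⟨Q, hQS, g, hgN, hgcop, hgC⟩ := hnot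
  have hodd : Odd (orderOf g) := Nat.Coprime.odd_of_right hgcop
  have hgNQ : ∀ u ∈ Q, g * u * g⁻¹ ∈ Q := fun u hu => (mem_normalizer_iff.mp hgN u).mp hu
  -- Q = S
  have hQeq : Q = (S : Subgroup G) := by
    by_contra hne
    apply hgC
    have hc := quatSub_odd_centralizes (S : Subgroup G) e Q hQS
      (quatSub_comm_of_ne (S : Subgroup G) e Q hQS hne) g hodd hgNQ
    rw [mem_centralizer_iff]
    intro u hu
    have h1 := hc u hu
    calc u * g = (g * u * g⁻¹) * g := by rw [h1]
      _ = g * u := by group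
  subst hQeq
  set N := normalizer ((S : Subgroup G) : Set G) with hN
  let _ := conjActOrderFour (S : Subgroup G)
  set gN : N := ⟨g, hgN⟩ with hgN'
  set σ : Equiv.Perm {A : Subgroup G // A ≤ (S : Subgroup G) ∧ Nat.card A = 4} :=
    MulAction.toPermHom N _ gN with hσ
  have hσpow : ∀ k : ℕ, ∀ A : {A : Subgroup G // A ≤ (S : Subgroup G) ∧ Nat.card A = 4},
      ((σ ^ k) A).1 = A.1.map (MulAut.conj (g ^ k)).toMonoidHom := by
    intro k A
    rw [hσ, ← map_pow]
    rfl
  have hσn : σ ^ orderOf g = 1 := by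
    rw [hσ, ← map_pow]
    have : gN ^ orderOf g = 1 := Subtype.ext (by simp [hgN'])
    rw [this, map_one]
  have hσne : σ ≠ 1 := by
    intro h1
    apply hgC
    -- g normalizes every subgroup of order four, hence centralizes S
    have hfix : ∀ A : Subgroup G, A ≤ (S : Subgroup G) → Nat.card A = 4 →
        ∀ u ∈ A, g * u * g⁻¹ ∈ A := by
      intro A hA' hA4' u hu
      have := hσpow 1 ⟨A, hA', hA4'⟩
      rw [pow_one, h1, pow_one] at this
      have h2 : g * u * g⁻¹ ∈ A.map (MulAut.conj g).toMonoidHom := ⟨u, hu, rfl⟩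
      rw [← this] at h2
      exact h2
    rw [mem_centralizer_iff]
    intro u hu
    have hu' : u ∈ (S : Subgroup G) := hu
    suffices h : g * u * g⁻¹ = u by
      calc u * g = (g * u * g⁻¹) * g := by rw [h]
        _ = g * u := by group
    by_cases hu2 : u ^ 2 = 1
    · by_cases hu1 : u = 1
      · rw [hu1]; group
      · have h1' : g * u * g⁻¹ ∈ (S : Subgroup G) := (mem_normalizer_iff.mp hgN u).mp hu'
        have h2 : (g * u * g⁻¹) ^ 2 = 1 := by rw [conj_pow, hu2]; group
        have h3 : g * u * g⁻¹ ≠ 1 := by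
          intro h
          apply hu1
          have : u = g⁻¹ * (g * u * g⁻¹) * g := by group
          rw [this, h]; group
        exact quatSub_involution_unique (S : Subgroup G) e h1' hu' h2 hu2 h3 hu1
    · -- u has order four
      have hord : orderOf u = 2 ^ (1 + 1) := by
        apply orderOf_eq_prime_pow
        · simpa using hu2
        · have := quatSub_pow_four (S : Subgroup G) e hu'
          simpa using this
      have hZ4 : Nat.card (zpowers u) = 4 := by rw [Nat.card_zpowers, hord]; norm_num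
      have hZS : zpowers u ≤ (S : Subgroup G) := zpowers_le.mpr hu'
      have hcomm : ∀ a ∈ zpowers u, ∀ b ∈ zpowers u, a * b = b * a := by
        intro a ha b hb
        obtain ⟨i, rfl⟩ := mem_zpowers_iff.mp ha
        obtain ⟨j, rfl⟩ := mem_zpowers_iff.mp hb
        rw [← zpow_add, ← zpow_add, add_comm]
      exact quatSub_odd_centralizes (S : Subgroup G) e (zpowers u) hZS hcomm g hodd
        (hfix (zpowers u) hZS hZ4) u (mem_zpowers u)
  have hcard := quatSub_card_order_four_le (S : Subgroup G) e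
  obtain ⟨k, hk⟩ := perm_transitive_of_odd_of_card_le_three hcard σ hσne (orderOf g) hodd hσn
    ⟨A, hA, hA4⟩ ⟨B, hB, hB4⟩
  refine ⟨g ^ k, Subgroup.pow_mem _ hgN k, ?_⟩
  have := hσpow k ⟨A, hA, hA4⟩
  rw [hk] at this
  exact this

end Cfsg.Agent.Helper76
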