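import Cfsg.Agent.Helper25.FSwan.Defs2

/-!
# (S2d) of helper25's Fong–Swan farm (#15059, S4440): induction commutes with the restriction to the
`p`-regular elements
-/

set_option autoImplicit false
set_option linter.unusedSectionVars false
set_option linter.unusedVariables false

namespace Cfsg.Agent.Helper76.FS

open Cfsg Cfsg.Agent.Helper16 Cfsg.Agent.Helper16.DT Cfsg.Agent.Helper25.FS

universe u

variable {p : ℕ} [Fact p.Prime] {M : Ideal AlgInt} [M.IsMaximal] {G : Type u} [Group G]

omit [Fact p.Prime] [M.IsMaximal] in
/-- extension by zero commutes with the restriction to the `p`-regular elements -/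
theorem S2d_extendByZero_pRegularPart (T : Subgroup G) (f : T → ℂ) (y : G) :
    extendByZero T (pRegularPart p f) y = pRegularPart p (extendByZero T f) y := by
  classical
  unfold extendByZero
  by_cases hy : y ∈ T
  · have h1 : Function.extend (Subtype.val : T → G) (pRegularPart p f) 0 y
        = pRegularPart p f ⟨y, hy⟩ :=
      Subtype.val_injective.extend_apply (pRegularPart p f) 0 (⟨y, hy⟩ : T)
    have h2 : Function.extend (Subtype.val : T → G) f 0 y = f ⟨y, hy⟩ :=
      Subtype.val_injective.extend_apply f 0 (⟨y, hy⟩ : T)
    have ho : orderOf (⟨y, hy⟩ : T) = orderOf y := by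
      have := Subgroup.orderOf_coe (⟨y, hy⟩ : T)
      simpa using this.symm
    have hiff : IsPRegular p (⟨y, hy⟩ : T) ↔ IsPRegular p y := by
      unfold IsPRegular
      rw [ho]
    rw [h1]
    simp only [pRegularPart]
    rw [h2]
    by_cases hr : IsPRegular p y
    · rw [if_pos hr, if_pos (hiff.mpr hr)]
    · rw [if_neg hr, if_neg (fun h => hr (hiff.mp h))]
  · have hne : ¬ ∃ a : T, (a : G) = y := by
      rintro ⟨a, rfl⟩
      exact hy a.2
    have h1 : Function.extend (Subtype.val : T → G) (pRegularPart p f) 0 y = 0 := by
      rw [Function.extend_apply' _ _ _ hne]; rfl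
    have h2 : Function.extend (Subtype.val : T → G) f 0 y = 0 := by
      rw [Function.extend_apply' _ _ _ hne]; rfl
    rw [h1]
    simp only [pRegularPart]
    rw [h2]
    simp

section ST2

variable [Fintype G] (N : Subgroup G) [hN : N.Normal] [Fintype N]

omit hN [M.IsMaximal] in
/-- (S2d) induction commutes with the restriction to the `p`-regular elements (conjugation preserves
`p`-regularity). -/
theorem indFun_pRegularPart (T : Subgroup G) (f : T → ℂ) :
    indFun T (pRegularPart p f) = pRegularPart p (indFun T f) := by
  classical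
  funext g
  have hconj : ∀ x : G, IsPRegular p (x⁻¹ * g * x) ↔ IsPRegular p g := by
    intro x
    unfold IsPRegular
    have : orderOf (x⁻¹ * g * x) = orderOf g := by
      have hsc : SemiconjBy x (x⁻¹ * g * x) g := by
        unfold SemiconjBy
        group
      exact SemiconjBy.orderOf_eq x hsc
    rw [this]
  have hsum : ∀ x : G, extendByZero T (pRegularPart p f) (x⁻¹ * g * x)
      = if IsPRegular p g then extendByZero T f (x⁻¹ * g * x) else 0 := by
    intro x
    rw [S2d_extendByZero_pRegularPart]
    simp only [pRegularPart]
    by_cases hg : IsPRegular p g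
    · rw [if_pos hg, if_pos ((hconj x).mpr hg)]
    · rw [if_neg hg, if_neg (fun h => hg ((hconj x).mp h))]
  show (Nat.card T : ℂ)⁻¹ * ∑ x : G, extendByZero T (pRegularPart p f) (x⁻¹ * g * x)
    = pRegularPart p (indFun T f) g
  simp only [pRegularPart]
  rw [Finset.sum_congr rfl (fun x _ => hsum x)]
  by_cases hg : IsPRegular p g
  · rw [if_pos hg]
    simp only [if_pos hg]
    rfl
  · rw [if_neg hg]
    simp only [if_neg hg]
    simp

end ST2

end Cfsg.Agent.Helper76.FS
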