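import Cfsg.Agent.Helper25.FSwan.Defs2
import Cfsg.Agent.Helper24.DT_ECP

/-!
# (EXTB) of helper25's Fong–Swan farm (#15059, S4440): the Brauer character of an extension
-/

set_option autoImplicit false
set_option linter.unusedSectionVars false
set_option linter.unusedVariables false

namespace Cfsg.Agent.Helper76.FS

open Cfsg Cfsg.Agent.Helper16 Cfsg.Agent.Helper16.DT Cfsg.Agent.Helper25.FS

universe u

variable {p : ℕ} [Fact p.Prime] {M : Ideal AlgInt} [M.IsMaximal] {G : Type u} [Group G]

/-- (EXTB) the Brauer character of an extension is the sum of the Brauer characters of the factors. -/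
theorem brauerChar_of_isExtMat {n a b : ℕ} {ρ : G →* Matrix (Fin n) (Fin n) (AlgInt ⧸ M)}
    {σ : G →* Matrix (Fin a) (Fin a) (AlgInt ⧸ M)} {τ : G →* Matrix (Fin b) (Fin b) (AlgInt ⧸ M)}
    (h : IsExtMat ρ σ τ) : brauerChar p M ρ = brauerChar p M σ + brauerChar p M τ := by
  funext g
  have hcp := Cfsg.Agent.Helper24.DT.charpoly_of_isExtMat h g
  have hb : bfull p M (ρ g) = bfull p M (σ g) + bfull p M (τ g) := by
    unfold bfull
    rw [hcp, Polynomial.roots_mul, Multiset.map_add, Multiset.sum_add]
    exact mul_ne_zero (Matrix.charpoly_monic _).ne_zero (Matrix.charpoly_monic _).ne_zero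
  simp only [brauerChar, pRegularPart, brauerFull, Pi.add_apply]
  split_ifs
  · exact hb
  · simp

end Cfsg.Agent.Helper76.FS
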