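import Cfsg.Agent.Helper25.FSwan.Defs2

/-!
# (PREG) of helper25's Fong–Swan farm (#15059, S4440): homomorphisms with `p'`-kernel and `p`-regularity
-/

set_option autoImplicit false
set_option linter.unusedSectionVars false
set_option linter.unusedVariables false

namespace Cfsg.Agent.Helper76.FS

open Cfsg Cfsg.Agent.Helper16 Cfsg.Agent.Helper16.DT Cfsg.Agent.Helper25.FS

universe u

variable {p : ℕ} [Fact p.Prime] {M : Ideal AlgInt} [M.IsMaximal] {G : Type u} [Group G]

omit [M.IsMaximal] in
/-- `orderOf x ∣ orderOf (f x) * |ker f|` -/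
theorem PREG_orderOf_dvd {A B : Type*} [Group A] [Group B] (f : A →* B) [Finite f.ker] (x : A) :
    orderOf x ∣ orderOf (f x) * Nat.card f.ker := by
  apply orderOf_dvd_of_pow_eq_one
  have hmem : x ^ orderOf (f x) ∈ f.ker := by
    rw [MonoidHom.mem_ker, map_pow, pow_orderOf_eq_one]
  have h := pow_card_eq_one' (G := f.ker) (x := ⟨x ^ orderOf (f x), hmem⟩)
  have h2 := congrArg Subtype.val h
  rw [pow_mul]
  simpa using h2

omit [M.IsMaximal] in
/-- (PREG) a homomorphism with kernel of order prime to `p` preserves and reflects `p`-regularity. -/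
theorem isPRegular_map_iff {A B : Type*} [Group A] [Group B] (f : A →* B) [Finite f.ker]
    (h : ¬ p ∣ Nat.card f.ker) (x : A) : IsPRegular p (f x) ↔ IsPRegular p x := by
  have hp : p.Prime := Fact.out
  unfold IsPRegular
  constructor
  · intro h1 h2
    have h3 : p ∣ orderOf (f x) * Nat.card f.ker := h2.trans (PREG_orderOf_dvd f x)
    rcases (Nat.Prime.dvd_mul hp).mp h3 with h4 | h4
    · exact h1 h4
    · exact h h4
  · intro h1 h2
    exact h1 (h2.trans (orderOf_map_dvd f x))

omit [M.IsMaximal] in
/-- (PREG) consequence for the restriction to the `p`-regular elements. -/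
theorem pRegularPart_comp {A B : Type*} [Group A] [Group B] (f : A →* B) [Finite f.ker]
    (h : ¬ p ∣ Nat.card f.ker) (χ : B → ℂ) :
    pRegularPart p (χ ∘ f) = pRegularPart p χ ∘ f := by
  funext x
  have hiff := isPRegular_map_iff (p := p) f h x
  simp only [pRegularPart, Function.comp_apply]
  by_cases hx : IsPRegular p x
  · rw [if_pos hx, if_pos (hiff.mpr hx)]
  · rw [if_neg hx, if_neg (fun h' => hx (hiff.mp h'))]

end Cfsg.Agent.Helper76.FS
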