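import Cfsg.Agent.Helper76.FS_PPcore
import Cfsg.Agent.Helper41.FS_PPI

/-!
# (PP) of helper25's Fong–Swan farm (#15059, S4440): groups of order prime to `p`
-/

set_option autoImplicit false
set_option linter.unusedSectionVars false
set_option linter.unusedVariables false

namespace Cfsg.Agent.Helper76.FS

open Cfsg Cfsg.Agent.Helper16 Cfsg.Agent.Helper16.DT Cfsg.Agent.Helper25.FS

universe u

variable {p : ℕ} [Fact p.Prime] {M : Ideal AlgInt} [M.IsMaximal] {G : Type u} [Group G]

/-- (PP) groups of order prime to `p`.  PROOF: let `φ ∈ IBr`; (CON) gives `χ` and a list `l ⊆ IBr` with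
`φ ∈ l`, `pRegularPart p χ = l.sum`; all elements are `p`-regular, so `pRegularPart p χ = χ`, a member of
`IBr` (PPI); (PERM) `eq_singleton_of_sum_eq`: `l = [χ]`, so `φ = χ = pRegularPart p χ`. -/
theorem fswan_of_pPrime (hpM : (p : AlgInt) ∈ M) [Finite G] (hG : ¬ p ∣ Nat.card G) :
    FSwan p M G :=
  fswan_of_pPrime_of (fun χ => Cfsg.Agent.Helper41.FS.irr_mem_IBr_of_pPrime hpM hG χ) hpM hG

end Cfsg.Agent.Helper76.FS
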