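import Mathlib
import Cfsg.Agent.Helper1.SZ
import Cfsg.Agent.Helper25.PSolvLin.Defs

/-!
# (GT2) of helper25's S4472 farm (#13417): Schur–Zassenhaus complement with the Frattini argument

A normal `p`-subgroup `D` of `G` which is a Sylow `p`-subgroup of `K ⊴ G` has a complement `H` in `K`
with `G = D · N_G(H)`.
-/

set_option autoImplicit false

universe u

namespace Cfsg.Agent.Helper76.S4472GT2

open Subgroup Pointwise

/-- a conjugate of `H` inside `H` is `H` (finite group): membership in the normalizer -/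
theorem mem_normalizer_of_conj_le {G : Type u} [Group G] [Finite G] (H : Subgroup G) (n : G)
    (h : ∀ x ∈ H, n * x * n⁻¹ ∈ H) : n ∈ Subgroup.normalizer (H : Set G) := by
  rw [Subgroup.mem_normalizer_iff]
  intro x
  refine ⟨h x, fun hx => ?_⟩
  let c : H → H := fun y => ⟨n * y * n⁻¹, h y y.2⟩
  have hinj : Function.Injective c := by
    intro a b hab
    have : n * (a : G) * n⁻¹ = n * (b : G) * n⁻¹ := congrArg Subtype.val hab
    have h2 : (a : G) = b := by
      have := mul_right_cancel this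
      exact mul_left_cancel this
    exact Subtype.ext h2
  have hsurj : Function.Surjective c := Finite.injective_iff_surjective.mp hinj
  obtain ⟨y, hy⟩ := hsurj ⟨n * x * n⁻¹, hx⟩
  have : n * (y : G) * n⁻¹ = n * x * n⁻¹ := congrArg Subtype.val hy
  have h2 : (y : G) = x := by
    have := mul_right_cancel this
    exact mul_left_cancel this
  rw [← h2]
  exact y.2

/-- **(GT2)** Schur–Zassenhaus and the Frattini argument. -/
theorem exists_complement_frattini {G : Type u} [Group G] [Finite G] (p : ℕ) [Fact p.Prime]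
    (D K : Subgroup G) [D.Normal] [K.Normal] (hDK : D ≤ K) (hD : IsPGroup p D)
    (hcop : (D.relIndex K).Coprime p) :
    ∃ H : Subgroup G, H ≤ K ∧ D ⊓ H = ⊥ ∧ D ⊔ H = K ∧ (Nat.card H).Coprime p ∧
      D ⊔ Subgroup.normalizer (H : Set G) = ⊤ := by
  -- work inside `K`
  have hD'p : IsPGroup p (D.subgroupOf K) := hD.comap_subtype
  obtain ⟨a, ha⟩ := IsPGroup.iff_card.mp hD'p
  have hcopD' : (Nat.card (D.subgroupOf K)).Coprime (D.subgroupOf K).index := by
    rw [ha]
    exact Nat.Coprime.pow_left a hcop.symm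
  obtain ⟨H', hH'⟩ := Subgroup.exists_right_complement'_of_coprime hcopD'
  have hcardH' : Nat.card H' = D.relIndex K := by
    have h1 := hH'.card_mul_card
    have h2 := (D.subgroupOf K).card_mul_index
    have : Nat.card (D.subgroupOf K) * Nat.card H' =
        Nat.card (D.subgroupOf K) * (D.subgroupOf K).index := by rw [h1, h2]
    exact Nat.eq_of_mul_eq_mul_left Nat.card_pos this
  have hdisj' : D.subgroupOf K ⊓ H' = ⊥ := disjoint_iff.mp hH'.disjoint
  have hsolv : Group.IsSolvable (D.subgroupOf K) := by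
    haveI : Group.IsNilpotent (D.subgroupOf K) := hD'p.isNilpotent
    exact IsNilpotent.to_isSolvable
  -- the complement in `G`
  have hHK : H'.map K.subtype ≤ K := Subgroup.map_subtype_le H'
  have hmemH : ∀ x : G, x ∈ H'.map K.subtype ↔ ∃ hx : x ∈ K, (⟨x, hx⟩ : K) ∈ H' := by
    intro x
    constructor
    · rintro ⟨y, hy, rfl⟩
      exact ⟨y.2, hy⟩
    · rintro ⟨hx, hy⟩
      exact ⟨⟨x, hx⟩, hy, rfl⟩
  have hsup : D ⊔ H'.map K.subtype = K := by
    have h1 := hH'.sup_eq_top
    have h2 : (D.subgroupOf K ⊔ H').map K.subtype = (⊤ : Subgroup K).map K.subtype := by rw [h1]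
    rw [Subgroup.map_sup, Subgroup.map_subgroupOf_eq_of_le hDK, ← MonoidHom.range_eq_map,
      Subgroup.range_subtype] at h2
    exact h2
  refine ⟨H'.map K.subtype, hHK, ?_, hsup, ?_, ?_⟩
  · -- disjoint
    rw [eq_bot_iff]
    intro x hx
    obtain ⟨hxD, hxH⟩ := Subgroup.mem_inf.mp hx
    obtain ⟨hxK, hxH'⟩ := (hmemH x).mp hxH
    have : (⟨x, hxK⟩ : K) ∈ D.subgroupOf K ⊓ H' :=
      Subgroup.mem_inf.mpr ⟨Subgroup.mem_subgroupOf.mpr hxD, hxH'⟩
    rw [hdisj', Subgroup.mem_bot] at this
    rw [Subgroup.mem_bot]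
    exact congrArg Subtype.val this
  · rw [Subgroup.card_map_of_injective K.subtype_injective, hcardH']
    exact hcop
  · -- Frattini
    rw [eq_top_iff]
    intro g _
    -- the conjugate complement
    obtain ⟨φ, hφ⟩ : ∃ φ : MulAut K, φ = MulAut.conjNormal g := ⟨_, rfl⟩
    have hφval : ∀ y : K, ((φ y : K) : G) = g * y * g⁻¹ := by
      intro y
      rw [hφ]
      exact MulAut.conjNormal_apply g y
    have hcard2 : Nat.card (H'.map φ.toMonoidHom) = Nat.card H' :=
      Subgroup.card_map_of_injective φ.injective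
    have hdisj2 : Disjoint (D.subgroupOf K) (H'.map φ.toMonoidHom) := by
      rw [disjoint_iff, eq_bot_iff]
      intro x hx
      obtain ⟨hxD, y, hy, hyx⟩ := Subgroup.mem_inf.mp hx
      have hyx' : φ y = x := hyx
      have hyD : y ∈ D.subgroupOf K := by
        rw [Subgroup.mem_subgroupOf]
        have hxD' : (x : G) ∈ D := Subgroup.mem_subgroupOf.mp hxD
        rw [← hyx', hφval] at hxD'
        have := (inferInstance : D.Normal).conj_mem _ hxD' g⁻¹
        rw [inv_inv] at this
        have e : g⁻¹ * (g * (y : G) * g⁻¹) * g = y := by group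
        rw [e] at this
        exact this
      have : y ∈ D.subgroupOf K ⊓ H' := Subgroup.mem_inf.mpr ⟨hyD, hy⟩
      rw [hdisj', Subgroup.mem_bot] at this
      rw [Subgroup.mem_bot, ← hyx', this, map_one]
    have hcompl2 : IsComplement' (D.subgroupOf K) (H'.map φ.toMonoidHom) := by
      apply Subgroup.isComplement'_of_card_mul_and_disjoint _ hdisj2
      rw [hcard2]
      exact hH'.card_mul_card
    have hcopSZ : (Nat.card (D.subgroupOf K)).Coprime (Nat.card H') := by
      rw [hcardH', ha]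
      exact Nat.Coprime.pow_left a hcop.symm
    obtain ⟨k, hk⟩ := Cfsg.Agent.Helper1.sz_conj (D.subgroupOf K) H' (H'.map φ.toMonoidHom) hcopSZ
      hH' hcompl2 (Or.inl hsolv)
    -- `n = k⁻¹ g` normalizes `H`
    have hn : (k : G)⁻¹ * g ∈ Subgroup.normalizer ((H'.map K.subtype : Subgroup G) : Set G) := by
      apply mem_normalizer_of_conj_le
      intro x hx
      obtain ⟨hxK, hxH'⟩ := (hmemH x).mp hx
      have h1 : φ ⟨x, hxK⟩ ∈ H'.map φ.toMonoidHom := ⟨⟨x, hxK⟩, hxH', rfl⟩
      rw [← hk, Subgroup.mem_pointwise_smul_iff_inv_smul_mem] at h1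
      have h2 : (MulAut.conj k)⁻¹ • (φ ⟨x, hxK⟩) = k⁻¹ * φ ⟨x, hxK⟩ * k := by
        rw [← map_inv, MulAut.smul_def, MulAut.conj_apply, inv_inv]
      rw [h2] at h1
      rw [hmemH]
      have e : (k : G)⁻¹ * g * x * ((k : G)⁻¹ * g)⁻¹ = ((k⁻¹ * φ ⟨x, hxK⟩ * k : K) : G) := by
        rw [Subgroup.coe_mul, Subgroup.coe_mul, hφval, Subgroup.coe_inv]
        group
      refine ⟨?_, ?_⟩
      · rw [e]
        exact (k⁻¹ * φ ⟨x, hxK⟩ * k : K).2
      · have : (⟨(k : G)⁻¹ * g * x * ((k : G)⁻¹ * g)⁻¹, by rw [e]; exact (k⁻¹ * φ ⟨x, hxK⟩ * k : K).2⟩ : K)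
            = k⁻¹ * φ ⟨x, hxK⟩ * k := Subtype.ext e
        rw [this]
        exact h1
    have hkmem : (k : G) ∈ D ⊔ Subgroup.normalizer ((H'.map K.subtype : Subgroup G) : Set G) := by
      have : (k : G) ∈ D ⊔ H'.map K.subtype := by rw [hsup]; exact k.2
      exact (sup_le_sup_left Subgroup.le_normalizer D) this
    have hg : g = (k : G) * ((k : G)⁻¹ * g) := by group
    rw [hg]
    exact Subgroup.mul_mem _ hkmem ((le_sup_right : _ ≤ D ⊔ _) hn)

end Cfsg.Agent.Helper76.S4472GT2
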