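import Cfsg.Agent.Helper16.Quotient
import Cfsg.Agent.Helper16.MinMax
import Cfsg.Agent.Helper16.UnionBlocks
import Cfsg.Agent.Helper78.IrrTransport
import Cfsg.Agent.Helper79.CharBasic
import Cfsg.Agent.Helper4.AD1

/-!
# Piece (AD-2) of the Alperin–Dade theorem S4551 (helper76 for helper16)

The push-forward of the principal block idempotent of `G` to `G ⧸ N` is the constant function
`|G : N|⁻¹` when `p ∤ |G : N|` and `G = N C_G(P)`.
-/

set_option autoImplicit false

namespace Cfsg.Agent.Helper76.AD2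

open Cfsg Cfsg.Agent.Helper16
open scoped ComplexConjugate

variable {G : Type*} [Group G] [Fintype G] {M : Ideal AlgInt} {p : ℕ}

theorem pushQ_blockCoeff_principalBlock [Fact p.Prime] (hM : IsPModular p M)
    (N : Subgroup G) [N.Normal] [Fintype (G ⧸ N)] (hidx : ¬ p ∣ N.index) (P : Sylow p G)
    (hsup : N ⊔ Subgroup.centralizer ((P : Subgroup G) : Set G) = ⊤) (q : G ⧸ N) :
    pushQ N (blockCoeff (principalBlock M G)) q = ((N.index : ℂ))⁻¹ := by
  classical
  haveI hMp : M.IsPrime := Helper77.isPrime_of_isPModular hM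
  have hidx0 : (N.index : ℂ) ≠ 0 := by
    have : N.index ≠ 0 := fun h => hidx (h ▸ dvd_zero p)
    exact_mod_cast this
  have hcard : (Fintype.card (G ⧸ N) : ℂ) = (N.index : ℂ) := by
    rw [Subgroup.index_eq_card, Nat.card_eq_fintype_card]
  have hcf1 : IsClassFunction (G ⧸ N) (pushQ N (blockCoeff (principalBlock M G))) :=
    isClassFunction_pushQ N
      (Helper77.blockCoeff_isClassFunction (Helper78.isPBlock_principalBlock M G))
  have hcf2 : IsClassFunction (G ⧸ N) (fun _ : G ⧸ N => ((N.index : ℂ))⁻¹) := fun _ _ => rfl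
  have key : pushQ N (blockCoeff (principalBlock M G)) = fun _ : G ⧸ N => ((N.index : ℂ))⁻¹ := by
    refine classFunction_ext_omega hcf1 hcf2 (fun ψ => ?_)
    have h1 : omega (ψ : G ⧸ N → ℂ) (pushQ N (blockCoeff (principalBlock M G))) =
        omega ((inflate N ψ : IrrCharacter G) : G → ℂ) (blockCoeff (principalBlock M G)) :=
      (omega_comp_mk N (ψ : G ⧸ N → ℂ) (blockCoeff (principalBlock M G))).symm
    rw [h1, omega_blockCoeff]
    have hR : omega (ψ : G ⧸ N → ℂ) (fun _ : G ⧸ N => ((N.index : ℂ))⁻¹) =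
        ((N.index : ℂ))⁻¹ * (∑ x : G ⧸ N, (ψ : G ⧸ N → ℂ) x) / (ψ : G ⧸ N → ℂ) 1 := by
      unfold omega
      rw [Finset.mul_sum]
    rw [hR]
    by_cases hψ : inflate N ψ ∈ principalBlock M G
    · rw [if_pos hψ]
      have hone := Helper4.AD1.inflate_mem_principalBlock_imp hM N hidx P hsup ψ hψ
      rw [hone 1, div_one]
      have : ∑ x : G ⧸ N, (ψ : G ⧸ N → ℂ) x = (Fintype.card (G ⧸ N) : ℂ) := by
        rw [Finset.sum_congr rfl (fun x _ => hone x)]
        simp
      rw [this, hcard, inv_mul_cancel₀ hidx0]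
    · rw [if_neg hψ]
      have hne : ψ ≠ Helper79.principalIrr (G ⧸ N) := by
        intro h
        apply hψ
        rw [h]
        have : inflate N (Helper79.principalIrr (G ⧸ N)) = Helper79.principalIrr G :=
          Subtype.ext rfl
        rw [this]
        exact Helper78.principalIrr_mem_principalBlock M hMp G
      have hz := Helper79.classInner_irr_ne hne
      have hsum : ∑ x : G ⧸ N, (ψ : G ⧸ N → ℂ) x = 0 := by
        unfold classInner at hz
        have h2 : ∀ x : G ⧸ N, (ψ : G ⧸ N → ℂ) x *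
            conj (((Helper79.principalIrr (G ⧸ N) : IrrCharacter (G ⧸ N)) : G ⧸ N → ℂ) x) =
            (ψ : G ⧸ N → ℂ) x := by
          intro x
          show (ψ : G ⧸ N → ℂ) x * conj (1 : ℂ) = _
          rw [map_one, mul_one]
        rw [Finset.sum_congr rfl (fun x _ => h2 x)] at hz
        rcases mul_eq_zero.1 hz with h3 | h3
        · exfalso
          rw [inv_eq_zero] at h3
          have : (Nat.card (G ⧸ N) : ℂ) ≠ 0 := by
            rw [Nat.card_eq_fintype_card, hcard]; exact hidx0
          exact this h3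
        · exact h3
      rw [hsum, mul_zero, zero_div]
  rw [key]

end Cfsg.Agent.Helper76.AD2
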