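import Mathlib
import Cfsg.Agent.S3279
import Cfsg.Agent.Helper16.Omega
import Cfsg.Agent.Lib.Cores
import Cfsg.Prelude.Def_Transfer

/-!
# Involutions whose centralizer contains at most three involutions (no simplicity assumed)

The dichotomy behind helper48's proof of `S3279`, for an arbitrary finite group: if the involution
`x` commutes with a conjugate `y ≠ x` and `C(x)` contains at most three involutions, then either
`C(x)` contains a Sylow 2-subgroup and all involutions are conjugate, or the conjugates of `a = x y`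
commute pairwise.
-/

set_option autoImplicit false

namespace Cfsg.Agent.Helper76

open Cfsg Cfsg.Agent.S3279 Cfsg.Agent.Helper48.ZStar

section Dichotomy

variable {G : Type*} [Group G] [Finite G]

theorem three_involutions_dichotomy (x : G) (hx : orderOf x = 2)
    (h3 : Nat.card {u : ↥(Subgroup.centralizer ({x} : Set G)) // orderOf u = 2} ≤ 3)
    (g : G) (hc : Commute x (g * x * g⁻¹)) (hne : g * x * g⁻¹ ≠ x) :
    ((∃ S : Sylow 2 G, (S : Subgroup G) ≤ Subgroup.centralizer ({x} : Set G)) ∧
      ∀ u v : G, orderOf u = 2 → orderOf v = 2 → IsConj u v) ∨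
    ((∀ k : G, k * x * k⁻¹ ≠ x * (g * x * g⁻¹)) ∧
      ∀ h₁ h₂ : G, Commute (h₁ * (x * (g * x * g⁻¹)) * h₁⁻¹) (h₂ * (x * (g * x * g⁻¹)) * h₂⁻¹)) := by
  classical
  have : Fact (Nat.Prime 2) := ⟨Nat.prime_two⟩
  have hxI : IsInvo x := isInvo_iff.mp hx
  have h2G : 2 ∣ Nat.card G := hx ▸ orderOf_dvd_natCard x
  obtain ⟨y, hy⟩ : ∃ y : G, y = g * x * g⁻¹ := ⟨_, rfl⟩
  rw [← hy] at hc hne ⊢
  have hyI : IsInvo y := hy ▸ hxI.conj g
  obtain ⟨a, ha⟩ : ∃ a : G, a = x * y := ⟨_, rfl⟩
  rw [← ha]
  have hxinv : x⁻¹ = x := inv_eq_self_of_sq hxI.1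
  have haI : IsInvo a := by
    constructor
    · rw [ha]
      calc x * y * (x * y) = x * (y * x) * y := by group
        _ = x * (x * y) * y := by rw [hc.eq]
        _ = (x * x) * (y * y) := by group
        _ = 1 := by rw [hxI.1, hyI.1, one_mul]
    · rw [ha]
      intro h
      apply hne
      have : y = x⁻¹ := (inv_eq_of_mul_eq_one_right h).symm
      rw [this, hxinv]
  have hxy : x ≠ y := fun h => hne h.symm
  have hxa : x ≠ a := by
    rw [ha]; intro h
    exact hyI.2 (by simpa using h.symm)
  have hya : y ≠ a := by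
    rw [ha]; intro h
    exact hxI.2 (by simpa using h.symm)
  have hca : Commute x a := by
    rw [ha]; exact (Commute.refl x).mul_right hc
  have hcya : Commute y a := by
    rw [ha]; exact hc.symm.mul_right (Commute.refl y)
  by_cases hcase : ∃ k : G, k * x * k⁻¹ = a
  · left
    obtain ⟨k, hk⟩ := hcase
    have hconjx : ∀ (h w : G), IsInvo w → Commute (h * x * h⁻¹) w → ∃ d : G, d * x * d⁻¹ = w := by
      intro h w hw hcw
      rcases mem_three_conj h3 hxI hyI haI hxy hxa hya hc hca h hw hcw with e | e | e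
      · exact ⟨h, e.symm⟩
      · refine ⟨h * g, ?_⟩; rw [e, hy]; group
      · refine ⟨h * k, ?_⟩; rw [e, ← hk]; group
    obtain ⟨S⟩ : Nonempty (Sylow 2 G) := inferInstance
    obtain ⟨z, hzI, hzS, hzc⟩ := exists_central_invo_sylow S h2G
    obtain ⟨c, hcS⟩ := exists_conj_mem_sylow S hxI
    obtain ⟨d, hd⟩ := hconjx c z hzI ((hzc _ hcS).symm)
    constructor
    · refine ⟨d⁻¹ • S, ?_⟩
      intro s hs
      rw [Sylow.coe_subgroup_smul] at hs
      obtain ⟨s', hs', rfl⟩ := hs
      rw [Subgroup.mem_centralizer_singleton_iff]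
      have h1 := (hzc s' hs').eq
      rw [← hd] at h1
      simp only [MulDistribMulAction.toMonoidEnd_apply, MulDistribMulAction.toMonoidHom_apply,
        MulAut.smul_def, MulAut.conj_apply, inv_inv]
      calc d⁻¹ * s' * d * x = d⁻¹ * (s' * (d * x * d⁻¹)) * d := by group
        _ = d⁻¹ * ((d * x * d⁻¹) * s') * d := by rw [h1]
        _ = x * (d⁻¹ * s' * d) := by group
    · have key : ∀ w, orderOf w = 2 → ∃ e : G, e * x * e⁻¹ = w := by
        intro w hw
        have hwI := isInvo_iff.mp hw
        obtain ⟨cw, hcw⟩ := exists_conj_mem_sylow S hwI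
        have h1 : Commute z (cw * w * cw⁻¹) := hzc _ hcw
        rw [← hd] at h1
        obtain ⟨e, he⟩ := hconjx d _ (hwI.conj cw) h1
        refine ⟨cw⁻¹ * e, ?_⟩
        calc cw⁻¹ * e * x * (cw⁻¹ * e)⁻¹ = cw⁻¹ * (e * x * e⁻¹) * cw := by group
          _ = w := by rw [he]; group
      intro u v hu hv
      obtain ⟨e1, he1⟩ := key u hu
      obtain ⟨e2, he2⟩ := key v hv
      rw [isConj_iff]
      refine ⟨e2 * e1⁻¹, ?_⟩
      rw [← he1, ← he2]; group
  · right
    push Not at hcase
    refine ⟨hcase, ?_⟩
    have hnot : ∀ p q : G, p * x * p⁻¹ ≠ q * a * q⁻¹ := by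
      intro p q e
      apply hcase (q⁻¹ * p)
      calc q⁻¹ * p * x * (q⁻¹ * p)⁻¹ = q⁻¹ * (p * x * p⁻¹) * q := by group
        _ = a := by rw [e]; group
    intro h₁ h₂
    have hncj : ∀ k : G, k * (h₁ * x * h₁⁻¹) * k⁻¹ ≠ h₂ * a * h₂⁻¹ := by
      intro k e
      apply hnot (k * h₁) h₂
      rw [← e]; group
    obtain ⟨z, hzI, hzu, hcu, hcb⟩ := exists_central_invo (hxI.conj h₁) (haI.conj h₂) hncj
    rcases mem_three_conj h3 hxI hyI haI hxy hxa hya hc hca h₁ hzI hcu with e | e | e
    · exact absurd e hzu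
    · have hz' : z = (h₁ * g) * x * (h₁ * g)⁻¹ := by rw [e, hy]; group
      have third : ∀ q : G, Commute z (q * a * q⁻¹) →
          q * a * q⁻¹ = (h₁ * g) * a * (h₁ * g)⁻¹ := by
        intro q hq
        rw [hz'] at hq
        rcases mem_three_conj h3 hxI hyI haI hxy hxa hya hc hca (h₁ * g) (haI.conj q) hq
          with e1 | e1 | e1
        · exact absurd e1.symm (hnot _ _)
        · exfalso
          apply hnot (h₁ * g * g) q
          rw [e1, hy]; group
        · exact e1
      have hα : Commute z (h₁ * a * h₁⁻¹) := by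
        rw [e]
        have := hcya.eq
        unfold Commute SemiconjBy
        calc h₁ * y * h₁⁻¹ * (h₁ * a * h₁⁻¹) = h₁ * (y * a) * h₁⁻¹ := by group
          _ = h₁ * (a * y) * h₁⁻¹ := by rw [this]
          _ = h₁ * a * h₁⁻¹ * (h₁ * y * h₁⁻¹) := by group
      rw [third h₁ hα, third h₂ hcb.symm]
    · rw [← e]; exact hcb.symm

end Dichotomy

section Isolated

variable {G : Type*} [Group G] [Finite G]

/-- The number of conjugates of `x` is the index of its centralizer. -/
theorem card_isConj_eq_index (x : G) :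
    Nat.card {t : G // IsConj x t} = (Subgroup.centralizer ({x} : Set G)).index := by
  classical
  haveI : Fintype G := Fintype.ofFinite G
  rw [Nat.card_eq_fintype_card, Fintype.card_subtype]
  have := Helper16.card_filter_isConj' x
  exact_mod_cast this

/-- If the involution `x` is central modulo `O(G)` and its centralizer is a 2-group, then `G` has
a normal 2-complement. -/
theorem hasNormalPComplement_of_inZStar (x : G) (hZ : Cfsg.InZStar 2 x) (k : ℕ)
    (hC : Nat.card (Subgroup.centralizer ({x} : Set G)) = 2 ^ k) :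
    Cfsg.HasNormalPComplement 2 G := by
  classical
  haveI : Fact (Nat.Prime 2) := ⟨Nat.prime_two⟩
  set O := Cfsg.pPrimeCore 2 G with hO
  have hOn : O.Normal := Helper48.pPrimeCore_normal 2 G
  have hOodd : (Nat.card O).Coprime 2 := Cfsg.Agent.Lib.card_pPrimeCore_coprime 2
  set idx := (Subgroup.centralizer ({x} : Set G)).index with hidx
  have hmul : idx * 2 ^ k = Nat.card G := by
    rw [← hC]; exact (Subgroup.centralizer ({x} : Set G)).index_mul_card
  -- the class of `x` injects into `O`
  have hle : idx ≤ Nat.card O := by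
    rw [hidx, ← card_isConj_eq_index x]
    have hmem : ∀ c : {t : G // IsConj x t}, c.1 * x⁻¹ ∈ O := by
      intro c
      obtain ⟨g, hg⟩ := isConj_iff.1 c.2
      rw [← hg]
      exact hZ g
    apply Nat.card_le_card_of_injective (fun c : {t : G // IsConj x t} => (⟨c.1 * x⁻¹, hmem c⟩ : O))
    intro c d hcd
    simp only [Subtype.mk.injEq] at hcd
    exact Subtype.ext (mul_right_cancel hcd)
  have hdvd : Nat.card O ∣ idx := by
    have h1 : Nat.card O ∣ idx * 2 ^ k := by rw [hmul]; exact Subgroup.card_subgroup_dvd_card O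
    exact (Nat.Coprime.dvd_of_dvd_mul_right (hOodd.pow_right k) h1)
  have hidxpos : 0 < idx := by
    rcases Nat.eq_zero_or_pos idx with h | h
    · rw [h, zero_mul] at hmul
      exact absurd hmul.symm Nat.card_pos.ne'
    · exact h
  have heq : idx = Nat.card O := le_antisymm hle (Nat.le_of_dvd hidxpos hdvd)
  obtain ⟨P⟩ : Nonempty (Sylow 2 G) := inferInstance
  have hPcard : Nat.card P = 2 ^ k := by
    have h := Sylow.card_eq_multiplicity P
    have hO0 : Nat.card O ≠ 0 := Nat.card_pos.ne'
    have h2 : ¬ 2 ∣ Nat.card O := by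
      intro h2
      have := Nat.Coprime.eq_one_of_dvd hOodd.symm h2
      omega
    have hfac : (Nat.card G).factorization 2 = k := by
      rw [← hmul, heq, Nat.factorization_mul hO0 (by positivity)]
      simp only [Finsupp.coe_add, Pi.add_apply]
      rw [Nat.factorization_eq_zero_of_not_dvd h2, Nat.Prime.factorization_pow Nat.prime_two]
      simp
    rw [hfac] at h
    exact h
  refine ⟨P, O, hOn, ?_⟩
  apply Subgroup.isComplement'_of_coprime
  · rw [hPcard, ← heq]; exact hmul
  · rw [hPcard]; exact hOodd.pow_right k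

end Isolated

section CommutingConjugates

variable {G : Type*} [Group G] [Finite G]

/-- If the conjugates of the involution `a` commute pairwise and the involution `x` has a
centralizer of order 4, then the normal closure of `a` is a normal elementary abelian subgroup of
order 2 or 4. -/
theorem normal_elementary_of_commuting_conjugates (x a : G) (hx : orderOf x = 2)
    (ha2 : a * a = 1) (ha1 : a ≠ 1)
    (hC4 : Nat.card (Subgroup.centralizer ({x} : Set G)) = 4)
    (hcomm : ∀ h₁ h₂ : G, Commute (h₁ * a * h₁⁻¹) (h₂ * a * h₂⁻¹)) :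
    ∃ E : Subgroup G, E.Normal ∧ Cfsg.IsElementaryAbelian 2 E ∧
      (Nat.card E = 2 ∨ Nat.card E = 4) := by
  classical
  haveI : Fact (Nat.Prime 2) := ⟨Nat.prime_two⟩
  set A := Subgroup.normalClosure ({a} : Set G) with hA
  have hAn : A.Normal := Subgroup.normalClosure_normal
  have haA : a ∈ A := Subgroup.subset_normalClosure (Set.mem_singleton a)
  have hxx : x * x = 1 := by
    have := pow_orderOf_eq_one x
    rwa [hx, pow_two] at this
  have hxinv : x⁻¹ = x := inv_eq_of_mul_eq_one_right hxx
  -- conjugates of `a`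
  have hconj_form : ∀ w ∈ Group.conjugatesOfSet ({a} : Set G), ∃ q : G, q * a * q⁻¹ = w := by
    intro w hw
    rw [Group.mem_conjugatesOfSet_iff] at hw
    obtain ⟨a', ha', hcj⟩ := hw
    rw [Set.mem_singleton_iff] at ha'
    subst ha'
    exact isConj_iff.mp hcj
  have hle : A ≤ Subgroup.centralizer (Group.conjugatesOfSet ({a} : Set G)) := by
    rw [hA]
    unfold Subgroup.normalClosure
    rw [Subgroup.closure_le]
    intro w hw
    obtain ⟨q, hq⟩ := hconj_form w hw
    rw [SetLike.mem_coe, Subgroup.mem_centralizer_iff]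
    intro v hv
    obtain ⟨p, hp⟩ := hconj_form v hv
    rw [← hq, ← hp]
    exact (hcomm p q).eq
  -- `A` is commutative
  have hAcomm : ∀ u ∈ A, ∀ v ∈ A, u * v = v * u := by
    have h2 : A ≤ Subgroup.centralizer (A : Set G) := by
      nth_rewrite 1 [hA]
      unfold Subgroup.normalClosure
      rw [Subgroup.closure_le]
      intro w hw
      rw [SetLike.mem_coe, Subgroup.mem_centralizer_iff]
      intro u hu
      have := hle hu
      rw [Subgroup.mem_centralizer_iff] at this
      exact (this w hw).symm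
    intro u hu v hv
    have := h2 hv
    rw [Subgroup.mem_centralizer_iff] at this
    exact this u hu
  -- `A` has exponent 2
  have hAsq : ∀ u ∈ A, u * u = 1 := by
    intro u hu
    have hu' : u ∈ Subgroup.closure (Group.conjugatesOfSet ({a} : Set G)) := hu
    induction hu' using Subgroup.closure_induction with
    | mem w hw =>
      obtain ⟨q, hq⟩ := hconj_form w hw
      rw [← hq]
      calc q * a * q⁻¹ * (q * a * q⁻¹) = q * (a * a) * q⁻¹ := by group
        _ = 1 := by rw [ha2]; group
    | one => exact one_mul 1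
    | mul u v hu' hv' ihu ihv =>
      have hu'' : u ∈ A := hu'
      have hv'' : v ∈ A := hv'
      have hc := hAcomm u hu'' v hv''
      calc u * v * (u * v) = u * (v * u) * v := by group
        _ = u * (u * v) * v := by rw [hc]
        _ = (u * u) * (v * v) := by group
        _ = 1 := by rw [ihu hu'', ihv hv'', one_mul]
    | inv u hu' ihu =>
      have hu'' : u ∈ A := hu'
      have := ihu hu''
      calc u⁻¹ * u⁻¹ = (u * u)⁻¹ := by group
        _ = 1 := by rw [this, inv_one]
  have hAinv : ∀ u ∈ A, u⁻¹ = u := fun u hu => inv_eq_of_mul_eq_one_right (hAsq u hu)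
  -- the homomorphism `b ↦ b * x b x⁻¹`
  have hmemψ : ∀ b : A, (b : G) * (x * b * x⁻¹) ∈ A :=
    fun b => A.mul_mem b.2 (hAn.conj_mem b.1 b.2 x)
  let ψ : A →* A :=
    { toFun := fun b => ⟨(b : G) * (x * b * x⁻¹), hmemψ b⟩
      map_one' := by
        apply Subtype.ext
        simp
      map_mul' := by
        intro b c
        apply Subtype.ext
        have h1 : (c : G) * (x * b * x⁻¹) = (x * b * x⁻¹) * c :=
          hAcomm _ c.2 _ (hAn.conj_mem b.1 b.2 x)
        show ((b * c : A) : G) * (x * ((b * c : A) : G) * x⁻¹) =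
          ((b : G) * (x * b * x⁻¹)) * ((c : G) * (x * c * x⁻¹))
        rw [Subgroup.coe_mul]
        calc (b : G) * c * (x * ((b : G) * c) * x⁻¹)
            = (b : G) * ((c : G) * (x * b * x⁻¹)) * (x * c * x⁻¹) := by group
          _ = (b : G) * ((x * b * x⁻¹) * c) * (x * c * x⁻¹) := by rw [h1]
          _ = ((b : G) * (x * b * x⁻¹)) * ((c : G) * (x * c * x⁻¹)) := by group }
  set B : Subgroup G := A ⊓ Subgroup.centralizer ({x} : Set G) with hB
  have hcard : Nat.card ψ.ker * Nat.card ψ.range = Nat.card A := by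
    rw [← Subgroup.index_ker]; exact ψ.ker.card_mul_index
  have hker : Nat.card ψ.ker ≤ Nat.card B := by
    have hmem : ∀ b : ψ.ker, ((b : A) : G) ∈ B := by
      intro b
      refine Subgroup.mem_inf.2 ⟨(b : A).2, ?_⟩
      rw [Subgroup.mem_centralizer_singleton_iff]
      have h1 : ψ (b : A) = 1 := b.2
      have h2 : ((b : A) : G) * (x * (b : A) * x⁻¹) = 1 := congrArg Subtype.val h1
      have h3 : x * ((b : A) : G) * x⁻¹ = ((b : A) : G) := by
        have := inv_eq_of_mul_eq_one_right h2
        rw [← this, hAinv _ (b : A).2]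
      calc ((b : A) : G) * x = (x * ((b : A) : G) * x⁻¹) * x := by rw [h3]
        _ = x * ((b : A) : G) := by group
    apply Nat.card_le_card_of_injective (fun b : ψ.ker => (⟨((b : A) : G), hmem b⟩ : B))
    intro b c hbc
    simp only [Subtype.mk.injEq] at hbc
    exact Subtype.ext (Subtype.ext hbc)
  have hrange : Nat.card ψ.range ≤ Nat.card B := by
    have hmem : ∀ r : ψ.range, ((r : A) : G) ∈ B := by
      intro r
      refine Subgroup.mem_inf.2 ⟨(r : A).2, ?_⟩
      obtain ⟨b, hb⟩ := r.2
      rw [Subgroup.mem_centralizer_singleton_iff]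
      have h1 : ((r : A) : G) = (b : G) * (x * b * x⁻¹) := by rw [← hb]; rfl
      have h2 : (b : G) * (x * b * x⁻¹) = (x * b * x⁻¹) * b :=
        hAcomm _ b.2 _ (hAn.conj_mem b.1 b.2 x)
      rw [h1]
      calc (b : G) * (x * b * x⁻¹) * x = (x * b * x⁻¹) * b * x := by rw [h2]
        _ = x * b * (x⁻¹ * b * x) := by group
        _ = x * b * (x * b * x⁻¹) := by rw [hxinv]
        _ = x * ((b : G) * (x * b * x⁻¹)) := by group
    apply Nat.card_le_card_of_injective (fun r : ψ.range => (⟨((r : A) : G), hmem r⟩ : B))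
    intro r t hrt
    simp only [Subtype.mk.injEq] at hrt
    exact Subtype.ext (Subtype.ext hrt)
  -- the order of `B`
  have hBle : B ≤ Subgroup.centralizer ({x} : Set G) := inf_le_right
  have hBdvd : Nat.card B ∣ 4 := by rw [← hC4]; exact Subgroup.card_dvd_of_le hBle
  have hA4 : Nat.card A ≤ 4 := by
    by_cases hB4 : Nat.card B = 4
    · -- then `x ∈ A` and `A ≤ C(x)`
      have hBeq : B = Subgroup.centralizer ({x} : Set G) :=
        Subgroup.eq_of_le_of_card_ge hBle (by rw [hB4, hC4])
      have hxB : x ∈ B := by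
        rw [hBeq, Subgroup.mem_centralizer_singleton_iff]
      have hxA : x ∈ A := hxB.1
      have hAle : A ≤ Subgroup.centralizer ({x} : Set G) := by
        intro u hu
        rw [Subgroup.mem_centralizer_singleton_iff]
        exact hAcomm u hu x hxA
      rw [← hC4]
      exact Subgroup.card_le_of_le hAle
    · have hB2 : Nat.card B ≤ 2 := by
        have hle4 := Nat.le_of_dvd (by norm_num) hBdvd
        have hpos : 0 < Nat.card B := Nat.card_pos
        interval_cases h : Nat.card B
        · omega
        · omega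
        · exfalso; revert hBdvd; decide
        · exact absurd rfl hB4
      have hkpos : 0 < Nat.card ψ.ker := Nat.card_pos
      have hrpos : 0 < Nat.card ψ.range := Nat.card_pos
      calc Nat.card A = Nat.card ψ.ker * Nat.card ψ.range := hcard.symm
        _ ≤ 2 * 2 := Nat.mul_le_mul (hker.trans hB2) (hrange.trans hB2)
  have hApg : IsPGroup 2 A := by
    intro u
    refine ⟨1, ?_⟩
    apply Subtype.ext
    rw [pow_one, pow_two]
    exact hAsq u.1 u.2
  obtain ⟨j, hj⟩ := hApg.exists_card_eq
  have hA2 : 2 ≤ Nat.card A := by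
    by_contra hlt
    have h1 : Nat.card A = 1 := by
      have : 0 < Nat.card A := Nat.card_pos
      omega
    have : A = ⊥ := Subgroup.card_eq_one.mp h1
    rw [this, Subgroup.mem_bot] at haA
    exact ha1 haA
  refine ⟨A, hAn, ⟨⟨⟨fun u v => Subtype.ext (hAcomm u.1 u.2 v.1 v.2)⟩⟩, ?_⟩, ?_⟩
  · intro u hu
    rw [pow_two]; exact hAsq u hu
  · rw [hj] at hA2 hA4 ⊢
    have hj2 : j ≤ 2 := by
      by_contra hgt
      have : 3 ≤ j := by omega
      have : 2 ^ 3 ≤ 2 ^ j := Nat.pow_le_pow_right (by norm_num) this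
      omega
    interval_cases j
    · omega
    · left; rfl
    · right; rfl

end CommutingConjugates

end Cfsg.Agent.Helper76
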