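import Mathlib
import Cfsg.Agent.Helper76.FourCentralizer
import Cfsg.Agent.Helper76.KleinFourSimpleMain
import Cfsg.Agent.Helper16.SylowIn

/-!
# Groups with an involution whose centralizer is a four-group (Klein four Sylow case)
-/

set_option autoImplicit false

namespace Cfsg.Agent.Helper76

section InvertedNormal

variable {G : Type*} [Group G] [Finite G]

/-- If the involution `t` has no nontrivial fixed point on the normal subgroup `K`, it inverts
`K`. -/
theorem inverts_of_inf_centralizer_eq_bot (K : Subgroup G) [hK : K.Normal] (t : G)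
    (ht : t * t = 1) (hfix : K ⊓ Subgroup.centralizer ({t} : Set G) = ⊥) :
    ∀ k ∈ K, t * k * t⁻¹ = k⁻¹ := by
  classical
  have htinv : t⁻¹ = t := inv_eq_of_mul_eq_one_right ht
  have hmem : ∀ k : K, (k : G)⁻¹ * (t * k * t⁻¹) ∈ K :=
    fun k => K.mul_mem (K.inv_mem k.2) (hK.conj_mem k.1 k.2 t)
  let f : K → K := fun k => ⟨(k : G)⁻¹ * (t * k * t⁻¹), hmem k⟩
  have hinj : Function.Injective f := by
    intro k l hkl
    have h1 : (k : G)⁻¹ * (t * k * t⁻¹) = (l : G)⁻¹ * (t * l * t⁻¹) := congrArg Subtype.val hkl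
    have h2 : (l : G) * (k : G)⁻¹ ∈ K ⊓ Subgroup.centralizer ({t} : Set G) := by
      refine Subgroup.mem_inf.2 ⟨K.mul_mem l.2 (K.inv_mem k.2), ?_⟩
      rw [Subgroup.mem_centralizer_singleton_iff]
      have h3 : (k : G)⁻¹ * t * k = (l : G)⁻¹ * t * l := by
        calc (k : G)⁻¹ * t * k = ((k : G)⁻¹ * (t * k * t⁻¹)) * t := by group
          _ = ((l : G)⁻¹ * (t * l * t⁻¹)) * t := by rw [h1]
          _ = (l : G)⁻¹ * t * l := by group
      calc (l : G) * (k : G)⁻¹ * t = l * ((k : G)⁻¹ * t * k) * (k : G)⁻¹ := by group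
        _ = l * ((l : G)⁻¹ * t * l) * (k : G)⁻¹ := by rw [h3]
        _ = t * (l * (k : G)⁻¹) := by group
    rw [hfix, Subgroup.mem_bot] at h2
    apply Subtype.ext
    exact (mul_inv_eq_one.mp h2).symm
  have hsurj : Function.Surjective f := Finite.surjective_of_injective hinj
  intro k hk
  obtain ⟨l, hl⟩ := hsurj ⟨k, hk⟩
  have hk' : k = (l : G)⁻¹ * (t * l * t⁻¹) := (congrArg Subtype.val hl).symm
  rw [hk', htinv]
  apply eq_inv_of_mul_eq_one_left
  calc t * ((l : G)⁻¹ * (t * l * t)) * t * ((l : G)⁻¹ * (t * l * t))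
      = t * (l : G)⁻¹ * t * l * (t * t) * (l : G)⁻¹ * t * l * t := by group
    _ = t * (l : G)⁻¹ * t * l * (l : G)⁻¹ * t * l * t := by rw [ht, mul_one]
    _ = t * (l : G)⁻¹ * (t * t) * l * t := by group
    _ = t * (l : G)⁻¹ * l * t := by rw [ht, mul_one]
    _ = t * t := by group
    _ = 1 := ht

end InvertedNormal

section KleinFourCase

variable {G : Type*} [Group G] [Finite G]

/-- `12 m ∣ m!` with `m ≤ 5` forces `m = 5`. -/
theorem five_of_twelve_mul_dvd_factorial (m : ℕ) (hm : m ≤ 5) (hdvd : 12 * m ∣ m.factorial) :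
    m = 5 := by
  interval_cases m
  · simp at hdvd
  · exfalso; revert hdvd; decide
  · exfalso; revert hdvd; decide
  · exfalso; revert hdvd; decide
  · exfalso; revert hdvd; decide
  · rfl

/-- The Klein four case: if `C(x)` is elementary abelian of order 4 and contains a Sylow
2-subgroup, all involutions are conjugate, `G` has no normal 2-complement and no normal
elementary abelian subgroup of order 2 or 4, then `G ≅ A₅`. -/
theorem alternating_five_of_four_centralizer (x : G) (hx : orderOf x = 2)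
    (hC4 : Nat.card ↥(Subgroup.centralizer ({x} : Set G)) = 4)
    (hCe : ∀ c ∈ Subgroup.centralizer ({x} : Set G), c ^ 2 = 1)
    (S : Sylow 2 G) (hSle : (S : Subgroup G) ≤ Subgroup.centralizer ({x} : Set G))
    (hconj : ∀ u v : G, orderOf u = 2 → orderOf v = 2 → IsConj u v)
    (hnc : ¬ Cfsg.HasNormalPComplement 2 G)
    (hne : ∀ E : Subgroup G, E.Normal → Cfsg.IsElementaryAbelian 2 E →
      Nat.card ↥E ≠ 2 ∧ Nat.card ↥E ≠ 4) :
    Nonempty (G ≃* ↥(alternatingGroup (Fin 5))) := by
  classical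
  haveI : Fact (Nat.Prime 2) := ⟨Nat.prime_two⟩
  set V := Subgroup.centralizer ({x} : Set G) with hV
  have hVp : IsPGroup 2 V := IsPGroup.of_card (n := 2) (by rw [hC4]; norm_num)
  have hS : (S : Subgroup G) = V := (S.is_maximal' hVp hSle).symm
  have hxV : x ∈ V := by rw [hV, Subgroup.mem_centralizer_singleton_iff]
  have hxS : x ∈ (S : Subgroup G) := hS ▸ hxV
  have hVsq : ∀ c ∈ V, c * c = 1 := fun c hc => by rw [← pow_two]; exact hCe c hc
  have hVcomm : ∀ u ∈ V, ∀ v ∈ V, u * v = v * u := by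
    intro u hu v hv
    have h1 := inv_eq_of_mul_eq_one_right (hVsq u hu)
    have h2 := inv_eq_of_mul_eq_one_right (hVsq v hv)
    have h3 := inv_eq_of_mul_eq_one_right (hVsq (u * v) (V.mul_mem hu hv))
    calc u * v = (u * v)⁻¹ := h3.symm
      _ = v⁻¹ * u⁻¹ := mul_inv_rev _ _
      _ = v * u := by rw [h1, h2]
  -- the order of `G`
  set g₀ := (S : Subgroup G).index with hg₀def
  have hScard : Nat.card (S : Subgroup G) = 4 := by rw [hS]; exact hC4
  have hG : Nat.card G = 4 * g₀ := by
    rw [← hScard]; exact ((S : Subgroup G).card_mul_index).symm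
  have hg₀ : Odd g₀ := by
    have := S.not_dvd_index
    exact Nat.odd_iff.2 (by omega)
  have hnc' : ¬ ∃ N : Subgroup G, N.Normal ∧ Nat.card N = g₀ := by
    rintro ⟨N, hN, hNc⟩
    apply hnc
    refine ⟨S, N, hN, Subgroup.isComplement'_of_coprime ?_ ?_⟩
    · rw [hNc, hScard, hG]; ring
    · rw [hNc, hScard]
      have : (g₀).Coprime (2 ^ 2) := (Nat.coprime_two_right.2 hg₀).pow_right 2
      simpa using this
  -- the principal 2-block
  have hexpS : ∀ s : (S : Subgroup G), s * s = 1 := by
    intro s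
    apply Subtype.ext
    exact hVsq s.1 (hS ▸ s.2)
  have hKS : IsKleinFour ↥(S : Subgroup G) := isKleinFour_of_sylow_four S hScard hexpS
  obtain ⟨M, hM⟩ := Cfsg.Agent.Helper74.exists_isPModular 2 Nat.prime_two
  obtain ⟨ζ₂, ζ₃, ζ₄, ε, hε, hζ₂, hζ₃, h23, h24, h34, hB, hval, hd2, hd3, hd4, hrel⟩ :=
    Cfsg.Agent.S0948.result M hM S hKS hconj
  obtain ⟨hv2, hv3, hv4⟩ := hval x hx
  have hζ₄ : (ζ₄ : G → ℂ) ≠ (fun _ => 1) := by
    intro h
    rw [h] at hv4
    norm_num at hv4
  have hform := Cfsg.Agent.S4479.result M hM g₀ hg₀ hG hnc' S x hxS hx ζ₂ ζ₃ ζ₄ 1 ε (-1) hB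
    ⟨hζ₂, hζ₃, hζ₄, h23, h24, h34⟩ ⟨Or.inl rfl, hε, Or.inr rfl⟩
    ⟨by rw [hv2]; norm_num, hv3, by rw [hv4]; norm_num⟩
  -- `C_G(S) = V`
  have hcent : Subgroup.centralizer ((S : Subgroup G) : Set G) = V := by
    apply le_antisymm
    · rw [hV]
      apply Subgroup.centralizer_le
      rw [Set.singleton_subset_iff]
      exact hxS
    · intro u hu
      rw [Subgroup.mem_centralizer_iff]
      intro s hs
      exact hVcomm s (hS ▸ hs) u hu
  rw [hcent, hC4] at hform
  -- counting involutions
  have hcardQ : ∀ Q : Sylow 2 G, Nat.card Q = 4 := fun Q => orderFour_sylow_card g₀ hg₀ hG Q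
  have hexpQ : ∀ Q : Sylow 2 G, ∀ u ∈ (Q : Subgroup G), u * u = 1 := by
    intro Q u hu
    exact congrArg Subtype.val (orderFour_sylow_mul_self g₀ hg₀ hG hnc' Q ⟨u, hu⟩)
  have hcardC : ∀ t : G, orderOf t = 2 →
      Nat.card (Subgroup.centralizer ({t} : Set G)) = 4 := by
    intro t ht
    rw [Helper16.card_centralizer_of_isConj (hconj x t hx ht)]
    exact hC4
  have hQeq : ∀ t : G, orderOf t = 2 → ∀ Q : Sylow 2 G, t ∈ (Q : Subgroup G) →
      (Q : Subgroup G) = Subgroup.centralizer ({t} : Set G) := by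
    intro t ht Q htQ
    have hle : (Q : Subgroup G) ≤ Subgroup.centralizer ({t} : Set G) := by
      intro q hq
      rw [Subgroup.mem_centralizer_singleton_iff]
      have h1 := inv_eq_of_mul_eq_one_right (hexpQ Q q hq)
      have h2 := inv_eq_of_mul_eq_one_right (hexpQ Q t htQ)
      have h3 := inv_eq_of_mul_eq_one_right (hexpQ Q (q * t) (mul_mem hq htQ))
      calc q * t = (q * t)⁻¹ := h3.symm
        _ = t⁻¹ * q⁻¹ := mul_inv_rev _ _
        _ = t * q := by rw [h1, h2]
    exact Subgroup.eq_of_le_of_card_ge hle (by rw [hcardC t ht, hcardQ Q])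
  have huniq : ∀ t : G, orderOf t = 2 → ∀ Q Q' : Sylow 2 G,
      t ∈ (Q : Subgroup G) → t ∈ (Q' : Subgroup G) → Q = Q' := by
    intro t ht Q Q' hQ hQ'
    apply Sylow.ext
    rw [hQeq t ht Q hQ, hQeq t ht Q' hQ']
  have hcount := card_involutions_eq_three_mul_card_sylow hcardQ hexpQ huniq
  have hidx := card_involutions_eq_index x hx hconj
  rw [hidx] at hcount
  set m := Nat.card (Sylow 2 G) with hmdef
  have hGm : Nat.card G = 12 * m := by
    have h := (Subgroup.centralizer ({x} : Set G)).index_mul_card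
    rw [hcount, hC4] at h
    omega
  -- arithmetic: `m ≤ 5`
  set a := Cfsg.charDegree (ζ₂ : G → ℂ) with hadef
  set b := Cfsg.charDegree (ζ₃ : G → ℂ) with hbdef
  set d := Cfsg.charDegree (ζ₄ : G → ℂ) with hddef
  have hapos : 0 < a := Helper79.irr_charDegree_pos ζ₂
  have hbpos : 0 < b := Helper79.irr_charDegree_pos ζ₃
  have hdpos : 0 < d := Helper79.irr_charDegree_pos ζ₄
  have hBne : (b : ℤ) + ε ≠ 0 := by
    have : (0 : ℤ) < b := by exact_mod_cast hbpos
    rcases hε with h | h <;> rw [h] at hd3 ⊢ <;> omega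
  have hDne : (d : ℤ) - 1 ≠ 0 := by
    have : (0 : ℤ) < d := by exact_mod_cast hdpos
    omega
  have hformZ : 3 * (m : ℤ) * (((a : ℤ) + 1) * ((b : ℤ) + ε) * ((d : ℤ) - 1)) =
      8 * ((a : ℤ) * b * d) := by
    have hA : ((a : ℚ) + 1) ≠ 0 := by positivity
    have hB' : ((b : ℚ) + ε) ≠ 0 := by exact_mod_cast hBne
    have hD' : ((d : ℚ) - 1) ≠ 0 := by exact_mod_cast hDne
    rw [hGm] at hform
    push_cast at hform
    have hQ : 3 * (m : ℚ) * (((a : ℚ) + 1) * ((b : ℚ) + ε) * ((d : ℚ) - 1)) =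
        8 * ((a : ℚ) * b * d) := by
      have hform' : 12 * (m : ℚ) = 8 * ((a : ℚ) * b * d /
          (((a : ℚ) + 1) * ((b : ℚ) + ε) * ((d : ℚ) + -1))) * (4 : ℚ) ^ 3 / (4 : ℚ) ^ 2 := hform
      have hD'' : ((d : ℚ) + -1) ≠ 0 := by
        rw [← sub_eq_add_neg]; exact hD'
      field_simp at hform'
      linear_combination hform' / 4
    exact_mod_cast hQ
  have hm5 : m ≤ 5 := kleinFour_simple_arith m a b d ε hε hapos hbpos hdpos hd3 hd4 hformZ
  -- the kernel of the action on the Sylow 2-subgroups is trivial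
  haveI : Fintype (Sylow 2 G) := Fintype.ofFinite _
  set φ := MulAction.toPermHom G (Sylow 2 G) with hφ
  have hDbot : (S : Subgroup G).normalCore = ⊥ := by
    set D := (S : Subgroup G).normalCore with hD
    have hDle : D ≤ V := hS ▸ (S : Subgroup G).normalCore_le
    have hDel : Cfsg.IsElementaryAbelian 2 D := by
      refine ⟨⟨⟨fun u v => Subtype.ext (hVcomm u.1 (hDle u.2) v.1 (hDle v.2))⟩⟩, ?_⟩
      intro u hu
      exact hCe u (hDle hu)
    have hDn : D.Normal := (S : Subgroup G).normalCore_normal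
    have hDdvd : Nat.card D ∣ 4 := by rw [← hC4]; exact Subgroup.card_dvd_of_le hDle
    obtain ⟨h2, h4⟩ := hne D hDn hDel
    have hD1 : Nat.card D = 1 := by
      have hle4 := Nat.le_of_dvd (by norm_num) hDdvd
      have hpos : 0 < Nat.card D := Nat.card_pos
      interval_cases h : Nat.card D
      · rfl
      · exact absurd rfl h2
      · exfalso; revert hDdvd; decide
      · exact absurd rfl h4
    exact Subgroup.card_eq_one.mp hD1
  have hKinv : ∀ t ∈ φ.ker, orderOf t ≠ 2 := by
    intro t htK ht2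
    -- every involution of the kernel lies in `S`
    have hmemS : ∀ u ∈ φ.ker, orderOf u = 2 → u ∈ (S : Subgroup G) := by
      intro u huK hu2
      have h1 : u • S = S := by
        have : φ u = 1 := huK
        have h2 : (φ u) S = S := by rw [this]; rfl
        exact h2
      have h2 : u ∈ Subgroup.normalizer (S : Set G) :=
        Sylow.smul_eq_iff_mem_normalizer.1 h1
      have hzp : IsPGroup 2 (Subgroup.zpowers u) :=
        IsPGroup.of_card (n := 1) (by rw [Nat.card_zpowers, hu2, pow_one])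
      have h3 := hzp.inf_normalizer_sylow S
      have h4 : u ∈ Subgroup.zpowers u ⊓ Subgroup.normalizer (S : Set G) :=
        Subgroup.mem_inf.2 ⟨Subgroup.mem_zpowers u, h2⟩
      rw [h3] at h4
      exact (Subgroup.mem_inf.1 h4).2
    have htD : t ∈ (S : Subgroup G).normalCore := by
      intro c
      apply hmemS
      · exact (inferInstance : φ.ker.Normal).conj_mem t htK c
      · have := (MulAut.conj c).orderOf_eq t
        rw [MulAut.conj_apply] at this
        rw [this]; exact ht2
    rw [hDbot, Subgroup.mem_bot] at htD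
    rw [htD, orderOf_one] at ht2
    omega
  have hKbot : φ.ker = ⊥ := by
    rw [Subgroup.eq_bot_iff_forall]
    intro k hk
    -- a second involution `y` of `V`
    obtain ⟨y, hyV, hy1, hyx⟩ : ∃ y ∈ V, y ≠ 1 ∧ y ≠ x := by
      by_contra hcon
      push Not at hcon
      have hsub : ∀ v : V, v = 1 ∨ v = ⟨x, hxV⟩ := by
        intro v
        by_cases h1 : (v : G) = 1
        · left; exact Subtype.ext h1
        · right; exact Subtype.ext (hcon v.1 v.2 h1)
      have : Nat.card V ≤ 2 := by
        haveI : Fintype V := Fintype.ofFinite _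
        rw [Nat.card_eq_fintype_card]
        calc Fintype.card V = (Finset.univ : Finset V).card := rfl
          _ ≤ ({1, ⟨x, hxV⟩} : Finset V).card := by
            apply Finset.card_le_card
            intro v _
            rcases hsub v with h | h <;> simp [h]
          _ ≤ 2 := Finset.card_le_two
      omega
    have hxx : x * x = 1 := hVsq x hxV
    have hyy : y * y = 1 := hVsq y hyV
    have hx1 : x ≠ 1 := by
      intro h; rw [h, orderOf_one] at hx; omega
    have hxyV : x * y ∈ V := V.mul_mem hxV hyV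
    have haa : (x * y) * (x * y) = 1 := hVsq _ hxyV
    have ha1 : x * y ≠ 1 := by
      intro h
      apply hyx
      have := inv_eq_of_mul_eq_one_right h
      rw [← this, inv_eq_of_mul_eq_one_right hxx]
    have hfix : ∀ t : G, t * t = 1 → t ≠ 1 →
        φ.ker ⊓ Subgroup.centralizer ({t} : Set G) = ⊥ := by
      intro t htt ht1
      have ht2 : orderOf t = 2 := orderOf_eq_prime (by rw [pow_two]; exact htt) ht1
      by_contra hne'
      have hcard1 : Nat.card ↥(φ.ker ⊓ Subgroup.centralizer ({t} : Set G)) ≠ 1 :=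
        fun h => hne' (Subgroup.card_eq_one.mp h)
      have hdvd4 : Nat.card ↥(φ.ker ⊓ Subgroup.centralizer ({t} : Set G)) ∣ 4 := by
        rw [← hcardC t ht2]; exact Subgroup.card_dvd_of_le inf_le_right
      have h2dvd : 2 ∣ Nat.card ↥(φ.ker ⊓ Subgroup.centralizer ({t} : Set G)) := by
        have hle4 := Nat.le_of_dvd (by norm_num) hdvd4
        have hpos : 0 < Nat.card ↥(φ.ker ⊓ Subgroup.centralizer ({t} : Set G)) := Nat.card_pos
        interval_cases h : Nat.card ↥(φ.ker ⊓ Subgroup.centralizer ({t} : Set G))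
        · exact absurd rfl hcard1
        · norm_num
        · exfalso; revert hdvd4; decide
        · norm_num
      obtain ⟨u, hu⟩ := exists_prime_orderOf_dvd_card' 2 h2dvd
      have hu' : orderOf (u : G) = 2 := by rw [Subgroup.orderOf_coe]; exact hu
      exact hKinv (u : G) (Subgroup.mem_inf.1 u.2).1 hu'
    have hix := inverts_of_inf_centralizer_eq_bot φ.ker x hxx (hfix x hxx hx1) k hk
    have hiy := inverts_of_inf_centralizer_eq_bot φ.ker y hyy (hfix y hyy hy1) k⁻¹
      (φ.ker.inv_mem hk)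
    have hia := inverts_of_inf_centralizer_eq_bot φ.ker (x * y) haa (hfix _ haa ha1) k hk
    -- `k = k⁻¹`
    have hyk : y * k * y⁻¹ = k⁻¹ := by
      have h := inverts_of_inf_centralizer_eq_bot φ.ker y hyy (hfix y hyy hy1) k hk
      exact h
    have hkk : k = k⁻¹ := by
      have h1 : x * y * k * (x * y)⁻¹ = x * (y * k * y⁻¹) * x⁻¹ := by group
      rw [hia, hyk] at h1
      have h2 : x * k⁻¹ * x⁻¹ = (x * k * x⁻¹)⁻¹ := by group
      rw [h2, hix, inv_inv] at h1
      exact h1.symm
    by_contra hk1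
    have hk2 : orderOf k = 2 := by
      apply orderOf_eq_prime
      · rw [pow_two]
        calc k * k = k * k⁻¹ := by rw [← hkk]
          _ = 1 := mul_inv_cancel k
      · exact hk1
    exact hKinv k hk hk2
  have hφinj : Function.Injective φ := (MonoidHom.ker_eq_bot_iff φ).1 hKbot
  -- `|G|` divides `m!`
  have hdvd : Nat.card G ∣ m.factorial := by
    have h1 : Nat.card G ∣ Nat.card (Equiv.Perm (Sylow 2 G)) :=
      Subgroup.card_dvd_of_injective φ hφinj
    rw [Nat.card_perm] at h1
    exact h1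
  rw [hGm] at hdvd
  have hm : m = 5 := five_of_twelve_mul_dvd_factorial m hm5 hdvd
  -- the image is the alternating group
  have hcardG : Nat.card G = 60 := by rw [hGm, hm]
  have hcardSyl : Fintype.card (Sylow 2 G) = 5 := by
    rw [← Nat.card_eq_fintype_card, ← hmdef, hm]
  have e1 : G ≃* φ.range := MonoidHom.ofInjective hφinj
  have hc : Nat.card φ.range = 60 := by
    rw [← hcardG]; exact (Nat.card_congr e1.toEquiv).symm
  have hidx2 : φ.range.index = 2 := by
    have h := φ.range.index_mul_card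
    rw [hc, Nat.card_perm, ← hmdef, hm] at h
    have : Nat.factorial 5 = 120 := by decide
    omega
  have hr : φ.range = alternatingGroup (Sylow 2 G) :=
    Equiv.Perm.eq_alternatingGroup_of_index_eq_two hidx2
  have e2 : Sylow 2 G ≃ Fin 5 := Fintype.equivFinOfCardEq hcardSyl
  exact ⟨(e1.trans (MulEquiv.subgroupCongr hr)).trans (Equiv.altCongrHom e2)⟩

end KleinFourCase

end Cfsg.Agent.Helper76
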