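import Mathlib
import Cfsg.Prelude.Def_Characters
import Cfsg.Agent.Helper74.CharBasic
import Cfsg.Agent.Helper15.IndChar
import Cfsg.Agent.Helper25.InnerBasics

/-!
# Degree criteria for characters (used for Dade's embedding theorem)

* `exists_isCharacter_add_sum`: a character with pairwise distinct irreducible constituents
  `ψ i` dominates their sum.
* `eq_of_irr_of_inner_ne_zero_of_degree`: an irreducible constituent `χ` of a character `Φ`
  with `Φ 1 ≤ χ 1` equals `Φ`.
-/

set_option autoImplicit false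

namespace Cfsg.Agent.Helper76

open Cfsg

universe u

variable {G : Type u} [Group G] [Fintype G]

theorem dade_irr_inner_self {φ : G → ℂ} (hφ : IsIrrCharacter G φ) : classInner φ φ = 1 :=
  Helper74.irr_inner_self ⟨φ, hφ⟩

theorem dade_irr_inner_ne {φ ψ : G → ℂ} (hφ : IsIrrCharacter G φ) (hψ : IsIrrCharacter G ψ)
    (h : φ ≠ ψ) : classInner φ ψ = 0 :=
  Helper74.irr_inner_ne (χ := ⟨φ, hφ⟩) (ψ := ⟨ψ, hψ⟩) (fun h' => h (congrArg Subtype.val h'))

/-- A character `Ψ` having the pairwise distinct irreducible constituents `ψ i` is the sum of the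
`ψ i` and another character. -/
theorem exists_isCharacter_add_sum {ι : Type*} [Fintype ι] {Ψ : G → ℂ} (hΨ : IsCharacter G Ψ)
    (ψ : ι → G → ℂ) (hinj : Function.Injective ψ) (hirr : ∀ i, IsIrrCharacter G (ψ i))
    (hne : ∀ i, classInner Ψ (ψ i) ≠ 0) :
    ∃ Δ : G → ℂ, IsCharacter G Δ ∧ Ψ = Δ + ∑ i, ψ i := by
  classical
  refine ⟨Ψ - ∑ i, ψ i, ?_, by simp⟩
  apply Helper15.isCharacter_of_classFunction_of_inner_nat
  · intro g h
    have h1 := Helper74.isClassFunction_of_isCharacter hΨ g h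
    have h2 : ∀ i, ψ i (h * g * h⁻¹) = ψ i g := fun i =>
      Helper74.isClassFunction_of_isCharacter (Helper74.isCharacter_of_isIrr (hirr i)) g h
    simp only [Pi.sub_apply, Finset.sum_apply, h1, h2]
  · intro φ
    rw [Helper74.classInner_sub_left, Helper74.classInner_sum_left]
    obtain ⟨m, hm⟩ := Helper74.isCharacter_inner_irr_nat hΨ φ
    by_cases hex : ∃ i₀, ψ i₀ = (φ : G → ℂ)
    · obtain ⟨i₀, hi₀⟩ := hex
      have hsum : ∑ i, classInner (ψ i) (φ : G → ℂ) = 1 := by
        have : ∀ i, classInner (ψ i) (φ : G → ℂ) = if i = i₀ then 1 else 0 := by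
          intro i
          split_ifs with hi
          · rw [hi, hi₀]; exact dade_irr_inner_self φ.2
          · apply dade_irr_inner_ne (hirr i) φ.2
            rw [← hi₀]
            exact fun h => hi (hinj h)
        simp only [this, Finset.sum_ite_eq', Finset.mem_univ, if_true]
      have hm0 : m ≠ 0 := by
        intro h0
        apply hne i₀
        rw [hi₀, hm, h0, Nat.cast_zero]
      refine ⟨m - 1, ?_⟩
      rw [hsum, hm]
      have : 1 ≤ m := Nat.one_le_iff_ne_zero.mpr hm0
      push_cast [this]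
      ring
    · have hsum : ∑ i, classInner (ψ i) (φ : G → ℂ) = 0 := by
        apply Finset.sum_eq_zero
        intro i _
        apply dade_irr_inner_ne (hirr i) φ.2
        exact fun h => hex ⟨i, h⟩
      exact ⟨m, by rw [hsum, hm, sub_zero]⟩

/-- If `χ` is an irreducible constituent of the character `Φ` and `Φ 1 ≤ χ 1`, then `χ = Φ`. -/
theorem eq_of_irr_of_inner_ne_zero_of_degree {χ Φ : G → ℂ} (hχ : IsIrrCharacter G χ)
    (hΦ : IsCharacter G Φ) (hne : classInner Φ χ ≠ 0) (hdeg : ∃ n : ℕ, χ 1 = n + Φ 1) :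
    χ = Φ := by
  obtain ⟨Δ, hΔ, hΦΔ⟩ := exists_isCharacter_add_sum hΦ (fun _ : Unit => χ)
    (fun a b _ => Subsingleton.elim a b) (fun _ => hχ) (fun _ => hne)
  obtain ⟨n, hn⟩ := hdeg
  obtain ⟨k, hk⟩ := Helper74.isCharacter_apply_one hΔ
  have h1 : Φ 1 = Δ 1 + χ 1 := by
    have := congrFun hΦΔ 1
    simpa using this
  have hk0 : k = 0 := by
    have h2 : ((k + n : ℕ) : ℂ) = 0 := by
      push_cast
      rw [← hk]
      have : χ 1 = n + (Δ 1 + χ 1) := by rw [← h1]; exact hn
      linear_combination (-1 : ℂ) * this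
    have := Nat.cast_eq_zero.mp h2
    omega
  have hΔ0 : Δ = 0 := by
    apply Helper25.isCharacter_eq_zero_of_apply_one hΔ
    rw [hk, hk0, Nat.cast_zero]
  rw [hΦΔ, hΔ0]
  simp

end Cfsg.Agent.Helper76
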