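import Mathlib
import Cfsg.Prelude.Def_Characters
import Cfsg.Agent.Helper74.CharBasic
import Cfsg.Agent.Helper15.IndFun
import Cfsg.Agent.Helper80.Pullback
import Cfsg.Agent.Helper80.CharLevel
import Cfsg.Agent.S0188
import Cfsg.Agent.Helper76.DadeCrit

/-!
# Characters of finite direct powers `ι → M`

* `piFun φ`: the function `f ↦ ∏ i, φ i (f i)` on `ι → M`.
* `irr_pi`: every irreducible character of `ι → M` is of the form `piFun φ` with all `φ i`
  irreducible (via S0188 and induction).
* `piFun_injective_of_irr`: `piFun` is injective on families of irreducible characters.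
* `piSub K`, `piSubFun K lam`, `indFun_piSub`: induction from a product subgroup.
-/

set_option autoImplicit false

namespace Cfsg.Agent.Helper76

open Cfsg

universe u v

variable {M : Type u} [Group M]

/-- The (outer tensor) product of a family of functions on `M`, as a function on `ι → M`. -/
def piFun {ι : Type v} [Fintype ι] (φ : ι → M → ℂ) : (ι → M) → ℂ := fun f => ∏ i, φ i (f i)

theorem piFun_apply {ι : Type v} [Fintype ι] (φ : ι → M → ℂ) (f : ι → M) :
    piFun φ f = ∏ i, φ i (f i) := rfl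

/-- An irreducible character of a trivial group is trivial. -/
theorem irr_of_subsingleton {T : Type u} [Group T] [Subsingleton T] {θ : T → ℂ}
    (hθ : IsIrrCharacter T θ) (t : T) : θ t = 1 := by
  classical
  haveI : Fintype T := Fintype.ofFinite T
  have h := dade_irr_inner_self hθ
  rw [Helper74.classInner_def, Nat.card_of_subsingleton (1 : T), Fintype.sum_subsingleton _ (1 : T)]
    at h
  obtain ⟨d, hd⟩ := Helper74.isCharacter_apply_one (Helper74.isCharacter_of_isIrr hθ)
  rw [Subsingleton.elim t 1, hd]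
  rw [hd] at h
  have h2 : ((d * d : ℕ) : ℂ) = 1 := by
    push_cast
    simpa using h
  have h3 : d * d = 1 := by exact_mod_cast h2
  have h4 : d = 1 := by
    rcases Nat.eq_zero_or_pos d with h0 | h0
    · rw [h0] at h3; omega
    · nlinarith
  rw [h4, Nat.cast_one]

/-- `(Fin (n+1) → M) ≃* M × (Fin n → M)`. -/
def finSuccPiMulEquiv (M : Type u) [Group M] (n : ℕ) : (Fin (n + 1) → M) ≃* M × (Fin n → M) where
  toFun f := (f 0, fun i => f i.succ)
  invFun x := (Fin.cons x.1 x.2 : Fin (n + 1) → M)
  left_inv f := by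
    funext i
    refine Fin.cases ?_ (fun j => ?_) i <;> simp
  right_inv x := by
    ext <;> simp
  map_mul' _ _ := rfl

theorem irr_fin_pi [Finite M] (n : ℕ) : ∀ θ : (Fin n → M) → ℂ, IsIrrCharacter (Fin n → M) θ →
    ∃ φ : Fin n → M → ℂ, (∀ i, IsIrrCharacter M (φ i)) ∧ θ = piFun φ := by
  induction n with
  | zero =>
    intro θ hθ
    refine ⟨fun i => i.elim0, fun i => i.elim0, ?_⟩
    funext f
    rw [irr_of_subsingleton hθ f]
    simp [piFun]
  | succ n ih =>
    intro θ hθ
    have h1 : IsIrrCharacter (M × (Fin n → M)) (fun x => θ ((finSuccPiMulEquiv M n).symm x)) :=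
      Helper80.IsIrrCharacter.comp_surjective hθ (finSuccPiMulEquiv M n).symm.toMonoidHom
        (finSuccPiMulEquiv M n).symm.surjective
    obtain ⟨φ₀, ψ, hφ₀, hψ, heq⟩ := (Cfsg.Agent.S0188.result _).mp h1
    obtain ⟨φ', hφ', rfl⟩ := ih ψ hψ
    refine ⟨(Fin.cons φ₀ φ' : Fin (n + 1) → M → ℂ), ?_, ?_⟩
    · intro i
      refine Fin.cases ?_ (fun j => ?_) i
      · simpa using hφ₀
      · simpa using hφ' j
    · funext f
      have h2 := congrFun heq (finSuccPiMulEquiv M n f)
      simp only [MulEquiv.symm_apply_apply] at h2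
      rw [h2, piFun_apply, piFun_apply, Fin.prod_univ_succ]
      simp [finSuccPiMulEquiv]

/-- **Irreducible characters of a finite direct power are products of irreducible characters.** -/
theorem irr_pi [Finite M] {ι : Type v} [Fintype ι] (θ : (ι → M) → ℂ)
    (hθ : IsIrrCharacter (ι → M) θ) :
    ∃ φ : ι → M → ℂ, (∀ i, IsIrrCharacter M (φ i)) ∧ θ = piFun φ := by
  classical
  let e := Fintype.equivFin ι
  let F : (Fin (Fintype.card ι) → M) →* (ι → M) :=
    { toFun := fun g => g ∘ e, map_one' := rfl, map_mul' := fun _ _ => rfl }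
  have hFa : ∀ g, F g = g ∘ e := fun _ => rfl
  have hF : Function.Surjective F := fun f => ⟨f ∘ e.symm, by funext i; simp [hFa]⟩
  have h1 := Helper80.IsIrrCharacter.comp_surjective hθ F hF
  obtain ⟨φ, hφ, heq⟩ := irr_fin_pi _ _ h1
  refine ⟨fun i => φ (e i), fun i => hφ _, ?_⟩
  funext f
  have h2 := congrFun heq (f ∘ e.symm)
  have h3 : F (f ∘ e.symm) = f := by funext i; simp [hFa]
  simp only [h3] at h2
  rw [h2, piFun_apply, piFun_apply]
  exact (Fintype.prod_equiv e _ _ (fun i => by simp)).symm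

theorem piFun_mulSingle {ι : Type v} [Fintype ι] [DecidableEq ι] (φ : ι → M → ℂ) (i : ι) (m : M) :
    piFun φ (Pi.mulSingle i m) = φ i m * ∏ j ∈ Finset.univ.erase i, φ j 1 := by
  rw [piFun_apply, ← Finset.mul_prod_erase Finset.univ _ (Finset.mem_univ i),
    Pi.mulSingle_eq_same]
  congr 1
  apply Finset.prod_congr rfl
  intro j hj
  rw [Pi.mulSingle_eq_of_ne (Finset.ne_of_mem_erase hj)]

/-- `piFun` is injective on families of irreducible characters. -/
theorem piFun_injective_of_irr [Fintype M] {ι : Type v} [Fintype ι] {φ φ' : ι → M → ℂ}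
    (hφ : ∀ i, IsIrrCharacter M (φ i)) (hφ' : ∀ i, IsIrrCharacter M (φ' i))
    (h : piFun φ = piFun φ') : φ = φ' := by
  classical
  funext i
  by_contra hne
  set c : ℂ := ∏ j ∈ Finset.univ.erase i, φ j 1 with hc
  set c' : ℂ := ∏ j ∈ Finset.univ.erase i, φ' j 1 with hc'
  have hc'0 : c' ≠ 0 := by
    rw [hc', Finset.prod_ne_zero_iff]
    intro j _
    exact Helper80.IsIrrCharacter.map_one_ne_zero (hφ' j)
  have hfun : c • φ i = c' • φ' i := by
    funext m
    have := congrFun h (Pi.mulSingle i m)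
    rw [piFun_mulSingle, piFun_mulSingle] at this
    simp only [Pi.smul_apply, smul_eq_mul]
    rw [mul_comm c, mul_comm c']
    exact this
  have h1 : classInner (c • φ i) (φ' i) = 0 := by
    rw [Helper74.classInner_smul_left, dade_irr_inner_ne (hφ i) (hφ' i) hne, mul_zero]
  rw [hfun, Helper74.classInner_smul_left, dade_irr_inner_self (hφ' i), mul_one] at h1
  exact hc'0 h1

section piSub

variable {ι : Type v}

/-- The product subgroup `∏ K i` of `ι → M`. -/
def piSub (K : ι → Subgroup M) : Subgroup (ι → M) := Subgroup.pi Set.univ K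

theorem mem_piSub {K : ι → Subgroup M} {f : ι → M} : f ∈ piSub K ↔ ∀ i, f i ∈ K i := by
  simp [piSub, Subgroup.mem_pi]

/-- The product of a family of functions on the `K i`, as a function on `piSub K`. -/
def piSubFun [Fintype ι] (K : ι → Subgroup M) (lam : ∀ i, K i → ℂ) : piSub K → ℂ :=
  fun f => ∏ i, lam i ⟨f.1 i, mem_piSub.1 f.2 i⟩

theorem piSubFun_apply [Fintype ι] (K : ι → Subgroup M) (lam : ∀ i, K i → ℂ) (f : piSub K) :
    piSubFun K lam f = ∏ i, lam i ⟨f.1 i, mem_piSub.1 f.2 i⟩ := rfl

theorem extendByZero_piSubFun [Fintype ι] (K : ι → Subgroup M) (lam : ∀ i, K i → ℂ)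
    (f : ι → M) :
    extendByZero (piSub K) (piSubFun K lam) f = ∏ i, extendByZero (K i) (lam i) (f i) := by
  by_cases hf : f ∈ piSub K
  · rw [Helper15.extendByZero_of_mem _ _ hf, piSubFun_apply]
    apply Finset.prod_congr rfl
    intro i _
    rw [Helper15.extendByZero_of_mem _ _ (mem_piSub.1 hf i)]
  · rw [Helper15.extendByZero_of_not_mem _ _ hf]
    rw [mem_piSub] at hf
    push Not at hf
    obtain ⟨i, hi⟩ := hf
    symm
    apply Finset.prod_eq_zero (Finset.mem_univ i)
    exact Helper15.extendByZero_of_not_mem _ _ hi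

/-- `piSub K ≃ ∀ i, K i`. -/
def piSubEquiv (K : ι → Subgroup M) : piSub K ≃ (∀ i, K i) where
  toFun f := fun i => ⟨f.1 i, mem_piSub.1 f.2 i⟩
  invFun g := ⟨fun i => (g i : M), mem_piSub.2 (fun i => (g i).2)⟩
  left_inv _ := rfl
  right_inv _ := rfl

theorem card_piSub [Fintype ι] (K : ι → Subgroup M) :
    Nat.card (piSub K) = ∏ i, Nat.card (K i) := by
  rw [Nat.card_congr (piSubEquiv K), Nat.card_pi]

/-- Induction from a product subgroup is the product of the inductions. -/
theorem indFun_piSub [Fintype M] [Fintype ι] [DecidableEq ι] (K : ι → Subgroup M)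
    (lam : ∀ i, K i → ℂ) :
    indFun (piSub K) (piSubFun K lam) = piFun (fun i => indFun (K i) (lam i)) := by
  funext f
  rw [piFun_apply, Helper15.indFun_apply, card_piSub]
  simp only [Helper15.indFun_apply, extendByZero_piSubFun]
  rw [Finset.prod_mul_distrib, Finset.prod_univ_sum, Fintype.piFinset_univ]
  congr 1
  push_cast
  rw [Finset.prod_inv_distrib]

/-- The product of a family of linear characters, as a homomorphism on `piSub K`. -/
def piSubHom [Fintype ι] (K : ι → Subgroup M) (lam : ∀ i, K i →* ℂˣ) : piSub K →* ℂˣ where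
  toFun f := ∏ i, lam i ⟨f.1 i, mem_piSub.1 f.2 i⟩
  map_one' := by
    apply Finset.prod_eq_one
    intro i _
    exact map_one (lam i)
  map_mul' f g := by
    rw [← Finset.prod_mul_distrib]
    apply Finset.prod_congr rfl
    intro i _
    rw [← map_mul]
    rfl

theorem piSubHom_coe [Fintype ι] (K : ι → Subgroup M) (lam : ∀ i, K i →* ℂˣ) (f : piSub K) :
    ((piSubHom K lam f : ℂˣ) : ℂ) = piSubFun K (fun i k => ((lam i k : ℂˣ) : ℂ)) f := by
  rw [piSubFun_apply]
  show ((∏ i, lam i ⟨f.1 i, mem_piSub.1 f.2 i⟩ : ℂˣ) : ℂ) = _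
  rw [Units.coe_prod]

end piSub

end Cfsg.Agent.Helper76
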