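import Mathlib
import Cfsg.Prelude.Def_Characters
import Cfsg.Agent.Helper76.DadeCrit
import Cfsg.Agent.Helper76.DadePi
import Cfsg.Agent.Helper15.IndChar
import Cfsg.Agent.Helper15.ConjChar
import Cfsg.Agent.Helper15.CliffordCorr
import Cfsg.Agent.Helper15.LinChar
import Cfsg.Agent.Helper81.NilpotentMonomial

/-!
# The wreath product of an M-group with a group of prime order is an M-group

`W = M ≀ᵣ Q` (Mathlib's regular wreath product), `Q` of prime order.  Main result:
`wreath_isMonomial`.
-/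

set_option autoImplicit false

namespace Cfsg.Agent.Helper76

open Cfsg

universe u v

variable {M : Type u} [Group M] {Q : Type v} [Group Q]

/-- The `Fintype` structure on the regular wreath product used throughout. -/
noncomputable def wreathFintype (M : Type u) (Q : Type v) [Fintype M] [Fintype Q]
    [DecidableEq Q] : Fintype (M ≀ᵣ Q) :=
  Fintype.ofEquiv _ (RegularWreathProduct.equivProd M Q).symm

attribute [local instance] wreathFintype

/-- The embedding of the base group `Q → M` into the wreath product. -/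
def baseHom : (Q → M) →* M ≀ᵣ Q where
  toFun f := ⟨f, 1⟩
  map_one' := rfl
  map_mul' f g := by ext <;> simp

theorem baseHom_left (f : Q → M) : (baseHom f : M ≀ᵣ Q).left = f := rfl

theorem baseHom_right (f : Q → M) : (baseHom f : M ≀ᵣ Q).right = 1 := rfl

/-- The shift action of `Q` on the base group. -/
def shiftHom (q : Q) : (Q → M) →* (Q → M) where
  toFun f := fun x => f (q⁻¹ * x)
  map_one' := rfl
  map_mul' _ _ := rfl

theorem shiftHom_apply (q : Q) (f : Q → M) (x : Q) : shiftHom q f x = f (q⁻¹ * x) := rfl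

/-- The shift, as an automorphism of the base group. -/
def shiftEquiv (q : Q) : (Q → M) ≃* (Q → M) where
  toFun := shiftHom q
  invFun := shiftHom q⁻¹
  left_inv f := by funext x; simp [shiftHom_apply]
  right_inv f := by funext x; simp [shiftHom_apply]
  map_mul' := map_mul (shiftHom q)

theorem shiftEquiv_apply (q : Q) (f : Q → M) : shiftEquiv q f = shiftHom q f := rfl

theorem inl_mul_baseHom (q : Q) (f : Q → M) :
    (RegularWreathProduct.inl q : M ≀ᵣ Q) * baseHom f * (RegularWreathProduct.inl q)⁻¹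
      = baseHom (shiftHom q f) := by
  ext x
  · simp [baseHom, shiftHom]
  · simp [baseHom]

/-- The subgroup `∏ K x` of the base group, inside the wreath product. -/
def baseSub (K : Q → Subgroup M) : Subgroup (M ≀ᵣ Q) where
  carrier := {w | w.right = 1 ∧ ∀ x, w.left x ∈ K x}
  one_mem' := ⟨rfl, fun x => (K x).one_mem⟩
  mul_mem' := by
    rintro a b ⟨ha1, ha2⟩ ⟨hb1, hb2⟩
    refine ⟨by simp [ha1, hb1], fun x => ?_⟩
    simp only [RegularWreathProduct.mul_left, Pi.mul_apply, ha1, inv_one, one_mul]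
    exact (K x).mul_mem (ha2 x) (hb2 x)
  inv_mem' := by
    rintro a ⟨ha1, ha2⟩
    refine ⟨by simp [ha1], fun x => ?_⟩
    simp only [RegularWreathProduct.inv_left, Pi.inv_apply, ha1, one_mul]
    exact (K x).inv_mem (ha2 x)

theorem mem_baseSub {K : Q → Subgroup M} {w : M ≀ᵣ Q} :
    w ∈ baseSub K ↔ w.right = 1 ∧ ∀ x, w.left x ∈ K x := Iff.rfl

/-- `piSub K ≃* baseSub K`. -/
def baseEquiv (K : Q → Subgroup M) : piSub K ≃* baseSub K where
  toFun f := ⟨baseHom f.1, ⟨rfl, mem_piSub.1 f.2⟩⟩
  invFun w := ⟨w.1.left, mem_piSub.2 w.2.2⟩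
  left_inv f := rfl
  right_inv w := by
    apply Subtype.ext
    ext
    · rfl
    · exact w.2.1.symm
  map_mul' f g := Subtype.ext (map_mul baseHom f.1 g.1)

section fin

variable [Fintype Q]

/-- The linear character `∏ lam x` of `baseSub K`. -/
def baseLam (K : Q → Subgroup M) (lam : ∀ x, K x →* ℂˣ) : baseSub K →* ℂˣ :=
  (piSubHom K lam).comp (baseEquiv K).symm.toMonoidHom

theorem baseLam_apply (K : Q → Subgroup M) (lam : ∀ x, K x →* ℂˣ) (w : baseSub K) :
    baseLam K lam w = ∏ x, lam x ⟨w.1.left x, w.2.2 x⟩ := rfl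

theorem baseLam_baseEquiv (K : Q → Subgroup M) (lam : ∀ x, K x →* ℂˣ) (f : piSub K) :
    baseLam K lam (baseEquiv K f) = piSubHom K lam f := rfl

/-- The subgroup `K^Q ⋊ Q` of the wreath product. -/
def fullSub (K : Subgroup M) : Subgroup (M ≀ᵣ Q) where
  carrier := {w | ∀ x, w.left x ∈ K}
  one_mem' := fun _ => K.one_mem
  mul_mem' := by
    intro a b ha hb x
    simp only [RegularWreathProduct.mul_left, Pi.mul_apply]
    exact K.mul_mem (ha x) (hb _)
  inv_mem' := by
    intro a ha x
    simp only [RegularWreathProduct.inv_left, Pi.inv_apply]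
    exact K.inv_mem (ha _)

theorem mem_fullSub {K : Subgroup M} {w : M ≀ᵣ Q} : w ∈ fullSub K ↔ ∀ x, w.left x ∈ K := Iff.rfl

theorem baseSub_le_fullSub (K : Subgroup M) : baseSub (fun _ : Q => K) ≤ fullSub K :=
  fun _ hw => hw.2

/-- The canonical extension of `lam × ⋯ × lam` to `K^Q ⋊ Q`. -/
def fullLam (K : Subgroup M) (lam : K →* ℂˣ) : (fullSub K : Subgroup (M ≀ᵣ Q)) →* ℂˣ where
  toFun w := ∏ x, lam ⟨w.1.left x, w.2 x⟩
  map_one' := by
    apply Finset.prod_eq_one
    intro x _
    exact map_one lam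
  map_mul' a b := by
    have h : ∀ x, (⟨(a * b).1.left x, (a * b).2 x⟩ : K)
        = ⟨a.1.left x, a.2 x⟩ * ⟨b.1.left (a.1.right⁻¹ * x), b.2 _⟩ := fun x => Subtype.ext rfl
    simp only [h, map_mul, Finset.prod_mul_distrib]
    congr 1
    exact Fintype.prod_equiv (Equiv.mulLeft a.1.right⁻¹) _ _ (fun x => rfl)

theorem fullLam_apply (K : Subgroup M) (lam : K →* ℂˣ) (w : (fullSub K : Subgroup (M ≀ᵣ Q))) :
    fullLam K lam w = ∏ x, lam ⟨w.1.left x, w.2 x⟩ := rfl

/-- The extension twisted by a linear character of `Q`. -/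
def fullLamTw (K : Subgroup M) (lam : K →* ℂˣ) (ν : Q →* ℂˣ) :
    (fullSub K : Subgroup (M ≀ᵣ Q)) →* ℂˣ :=
  fullLam K lam * (ν.comp (RegularWreathProduct.rightHom.comp (fullSub K).subtype))

theorem fullLamTw_apply (K : Subgroup M) (lam : K →* ℂˣ) (ν : Q →* ℂˣ)
    (w : (fullSub K : Subgroup (M ≀ᵣ Q))) :
    fullLamTw K lam ν w = fullLam K lam w * ν w.1.right := rfl

/-- `fullSub K ≃ baseSub K × Q`. -/
def fullSubEquiv (K : Subgroup M) :
    (fullSub K : Subgroup (M ≀ᵣ Q)) ≃ (baseSub (fun _ : Q => K) : Subgroup (M ≀ᵣ Q)) × Q where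
  toFun w := (⟨⟨w.1.left, 1⟩, ⟨rfl, w.2⟩⟩, w.1.right)
  invFun x := ⟨⟨x.1.1.left, x.2⟩, x.1.2.2⟩
  left_inv w := rfl
  right_inv x := by
    apply Prod.ext
    · apply Subtype.ext
      ext
      · rfl
      · exact x.1.2.1.symm
    · rfl

theorem card_fullSub [Finite M] (K : Subgroup M) :
    Nat.card (fullSub K : Subgroup (M ≀ᵣ Q))
      = Nat.card Q * Nat.card (baseSub (fun _ : Q => K) : Subgroup (M ≀ᵣ Q)) := by
  rw [Nat.card_congr (fullSubEquiv K), Nat.card_prod, mul_comm]

theorem card_baseSub (K : Q → Subgroup M) :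
    Nat.card (baseSub K) = ∏ x, Nat.card (K x) := by
  rw [← Nat.card_congr (baseEquiv K).toEquiv, card_piSub]

end fin

section main

variable [Fintype M] [Fintype Q] [DecidableEq Q]

theorem index_baseSub (K : Q → Subgroup M) :
    (baseSub K).index = Fintype.card Q * ∏ x, (K x).index := by
  have h1 := (baseSub K).card_mul_index
  rw [RegularWreathProduct.card, card_baseSub] at h1
  have hpos : 0 < ∏ x, Nat.card (K x) := Finset.prod_pos (fun x _ => Nat.card_pos)
  apply Nat.eq_of_mul_eq_mul_left hpos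
  rw [h1]
  have h2 : ∏ x : Q, (Nat.card (K x) * (K x).index) = Nat.card M ^ Nat.card Q := by
    simp only [Subgroup.card_mul_index, Finset.prod_const, Finset.card_univ,
      Nat.card_eq_fintype_card]
  rw [← h2, Finset.prod_mul_distrib, Nat.card_eq_fintype_card (α := Q)]
  ring

theorem index_fullSub (K : Subgroup M) :
    (fullSub K : Subgroup (M ≀ᵣ Q)).index = K.index ^ Fintype.card Q := by
  have h1 := (fullSub K : Subgroup (M ≀ᵣ Q)).card_mul_index
  have h2 := (baseSub (fun _ : Q => K)).card_mul_index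
  rw [index_baseSub] at h2
  rw [card_fullSub, ← h2] at h1
  have hpos : 0 < Nat.card Q * Nat.card (baseSub (fun _ : Q => K) : Subgroup (M ≀ᵣ Q)) :=
    Nat.mul_pos Nat.card_pos Nat.card_pos
  apply Nat.eq_of_mul_eq_mul_left hpos
  rw [h1, Finset.prod_const, Finset.card_univ, Nat.card_eq_fintype_card (α := Q)]
  ring

theorem isClassFunction_comp_baseHom {χ : M ≀ᵣ Q → ℂ} (hχ : IsClassFunction (M ≀ᵣ Q) χ) :
    IsClassFunction (Q → M) (fun f => χ (baseHom f)) := by
  intro g h
  show χ (baseHom (h * g * h⁻¹)) = χ (baseHom g)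
  rw [map_mul, map_mul, map_inv]
  exact hχ _ _

/-- Frobenius reciprocity twice: the multiplicity of `χ` in the character induced from
`baseSub K`. -/
theorem classInner_indFun_baseSub {χ : M ≀ᵣ Q → ℂ} (hχ : IsClassFunction (M ≀ᵣ Q) χ)
    (K : Q → Subgroup M) (lam : ∀ x, K x →* ℂˣ) :
    classInner (indFun (baseSub K) (fun h => ((baseLam K lam h : ℂˣ) : ℂ))) χ
      = classInner (piFun (fun x => indFun (K x) (fun k => ((lam x k : ℂˣ) : ℂ))))
          (fun f => χ (baseHom f)) := by
  classical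
  haveI : Fintype (baseSub K) := Fintype.ofFinite _
  haveI : Fintype (piSub K) := Fintype.ofFinite _
  rw [Helper15.frobenius_reciprocity (baseSub K) _ χ hχ, ← indFun_piSub,
    Helper15.frobenius_reciprocity (piSub K) _ _ (isClassFunction_comp_baseHom hχ)]
  rw [← Helper15.classInner_comp_mulEquiv (baseEquiv K)]
  congr 1
  funext f
  rw [baseLam_baseEquiv, piSubHom_coe]

theorem sum_extendByZero_fullLamTw {I : Type*} [Fintype I] (ν : I → (Q →* ℂˣ))
    (hν : ∀ q : Q, ∑ i, ((ν i q : ℂˣ) : ℂ) = if q = 1 then (Fintype.card Q : ℂ) else 0)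
    (K : Subgroup M) (lam : K →* ℂˣ) (y : M ≀ᵣ Q) :
    ∑ i, extendByZero (fullSub K) (fun w => ((fullLamTw K lam (ν i) w : ℂˣ) : ℂ)) y
      = (Fintype.card Q : ℂ) * extendByZero (baseSub (fun _ : Q => K))
          (fun h => ((baseLam (fun _ => K) (fun _ => lam) h : ℂˣ) : ℂ)) y := by
  by_cases hy : y ∈ fullSub K
  · have h1 : ∀ i, extendByZero (fullSub K) (fun w => ((fullLamTw K lam (ν i) w : ℂˣ) : ℂ)) y
        = ((fullLam K lam ⟨y, hy⟩ : ℂˣ) : ℂ) * ((ν i y.right : ℂˣ) : ℂ) := by
      intro i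
      rw [Helper15.extendByZero_of_mem _ _ hy, fullLamTw_apply, Units.val_mul]
    simp only [h1]
    rw [← Finset.mul_sum, hν]
    by_cases hr : y.right = 1
    · have hyb : y ∈ baseSub (fun _ : Q => K) := ⟨hr, hy⟩
      rw [if_pos hr, Helper15.extendByZero_of_mem _ _ hyb, baseLam_apply, fullLam_apply, mul_comm]
    · have hyb : y ∉ baseSub (fun _ : Q => K) := fun h => hr h.1
      rw [if_neg hr, Helper15.extendByZero_of_not_mem _ _ hyb, mul_zero, mul_zero]
  · have hyb : y ∉ baseSub (fun _ : Q => K) := fun h => hy (baseSub_le_fullSub K h)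
    rw [Helper15.extendByZero_of_not_mem _ _ hyb, mul_zero]
    apply Finset.sum_eq_zero
    intro i _
    exact Helper15.extendByZero_of_not_mem _ _ hy

/-- The character induced from `K^Q` is the sum of the characters induced from the extensions to
`K^Q ⋊ Q`. -/
theorem sum_indFun_fullSub {I : Type*} [Fintype I] (ν : I → (Q →* ℂˣ))
    (hν : ∀ q : Q, ∑ i, ((ν i q : ℂˣ) : ℂ) = if q = 1 then (Fintype.card Q : ℂ) else 0)
    (K : Subgroup M) (lam : K →* ℂˣ) :
    ∑ i, indFun (fullSub K) (fun w => ((fullLamTw K lam (ν i) w : ℂˣ) : ℂ))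
      = indFun (baseSub (fun _ : Q => K))
          (fun h => ((baseLam (fun _ => K) (fun _ => lam) h : ℂˣ) : ℂ)) := by
  funext g
  rw [Finset.sum_apply]
  simp only [Helper15.indFun_apply]
  rw [← Finset.mul_sum, Finset.sum_comm]
  simp only [sum_extendByZero_fullLamTw ν hν]
  rw [← Finset.mul_sum, card_fullSub, ← mul_assoc]
  congr 1
  have hQ : (Fintype.card Q : ℂ) ≠ 0 := by
    exact_mod_cast Fintype.card_ne_zero
  rw [Nat.card_eq_fintype_card (α := Q)]
  push_cast
  rw [mul_inv, mul_comm ((Fintype.card Q : ℂ))⁻¹, mul_assoc, inv_mul_cancel₀ hQ, mul_one]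

/-- A nonzero character has an irreducible constituent. -/
theorem exists_irr_constituent {G : Type u} [Group G] [Fintype G] {Ψ : G → ℂ}
    (hΨ : IsCharacter G Ψ) (h1 : Ψ 1 ≠ 0) :
    ∃ θ : G → ℂ, IsIrrCharacter G θ ∧ classInner Ψ θ ≠ 0 := by
  classical
  letI := Helper74.irrFintype G
  by_contra hcon
  push Not at hcon
  apply h1
  rw [Helper74.isCharacter_eq_sum_irr hΨ]
  simp only [Finset.sum_apply, Pi.smul_apply, smul_eq_mul]
  apply Finset.sum_eq_zero
  intro ψ _
  rw [hcon ψ.1 ψ.2, zero_mul]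

theorem isCharacter_unitsHom {G : Type u} [Group G] (lam : G →* ℂˣ) :
    IsCharacter G (fun g => ((lam g : ℂˣ) : ℂ)) :=
  (Helper15.isCharacter_of_hom ((Units.coeHom ℂ).comp lam)).1

theorem piFun_shiftHom (φ : Q → M → ℂ) (q : Q) (f : Q → M) :
    piFun φ (shiftHom q f) = piFun (fun y => φ (q * y)) f := by
  rw [piFun_apply, piFun_apply]
  symm
  exact Fintype.prod_equiv (Equiv.mulLeft q) _ _ (fun y => by simp [shiftHom_apply])

/-- **The wreath product of an M-group with a group of prime order is an M-group.** -/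
theorem wreath_isMonomial (hp : (Fintype.card Q).Prime) {I : Type*} [Fintype I]
    (ν : I → (Q →* ℂˣ))
    (hν : ∀ q : Q, ∑ i, ((ν i q : ℂˣ) : ℂ) = if q = 1 then (Fintype.card Q : ℂ) else 0)
    (hM : ∀ α : M → ℂ, IsIrrCharacter M α → Helper81.IsMonomial M α) :
    ∀ χ : M ≀ᵣ Q → ℂ, IsIrrCharacter (M ≀ᵣ Q) χ → Helper81.IsMonomial (M ≀ᵣ Q) χ := by
  classical
  intro χ hχ
  have hχc : IsCharacter (M ≀ᵣ Q) χ := Helper74.isCharacter_of_isIrr hχ
  have hχcf : IsClassFunction (M ≀ᵣ Q) χ := Helper74.isClassFunction_of_isCharacter hχc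
  set Ψ : (Q → M) → ℂ := fun f => χ (baseHom f) with hΨdef
  have hΨ : IsCharacter (Q → M) Ψ := Helper80.IsCharacter.comp_hom hχc baseHom
  have hΨ1 : Ψ 1 = χ 1 := by rw [hΨdef]; simp only [map_one]
  obtain ⟨θ, hθ, hθΨ⟩ := exists_irr_constituent hΨ
    (by rw [hΨ1]; exact Helper80.IsIrrCharacter.map_one_ne_zero hχ)
  obtain ⟨φ, hφ, rfl⟩ := irr_pi θ hθ
  have hθΨ' : classInner (piFun φ) Ψ ≠ 0 := by
    rw [← Helper74.classInner_conj_symm]
    simpa using hθΨ
  by_cases hconst : ∀ x, φ x = φ 1
  · -- the constant case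
    obtain ⟨K, lam, hα⟩ := hM (φ 1) (hφ 1)
    have hfam : (fun _ : Q => indFun K (fun k => ((lam k : ℂˣ) : ℂ))) = φ := by
      funext x
      rw [hconst x, hα]
    have h1 : classInner (indFun (baseSub (fun _ : Q => K))
        (fun h => ((baseLam (fun _ => K) (fun _ => lam) h : ℂˣ) : ℂ))) χ ≠ 0 := by
      rw [classInner_indFun_baseSub hχcf, hfam]
      exact hθΨ'
    rw [← sum_indFun_fullSub ν hν, Helper74.classInner_sum_left] at h1
    obtain ⟨i, _, hi⟩ := Finset.exists_ne_zero_of_sum_ne_zero h1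
    refine ⟨fullSub K, fullLamTw K lam (ν i), ?_⟩
    apply eq_of_irr_of_inner_ne_zero_of_degree hχ
      (Helper15.isCharacter_indFun _ (isCharacter_unitsHom _)) hi
    obtain ⟨Δ, hΔ, hΨΔ⟩ := exists_isCharacter_add_sum hΨ (fun _ : Unit => piFun φ)
      (fun a b _ => Subsingleton.elim a b) (fun _ => hθ) (fun _ => hθΨ)
    obtain ⟨n, hn⟩ := Helper74.isCharacter_apply_one hΔ
    refine ⟨n, ?_⟩
    rw [Helper15.indFun_apply_one, index_fullSub, map_one, Units.val_one, mul_one, ← hΨ1, hΨΔ]
    simp only [Pi.add_apply, Finset.sum_apply, Finset.univ_unique, Finset.sum_singleton, hn]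
    congr 1
    rw [piFun_apply]
    have : ∀ x, φ x 1 = (K.index : ℂ) := by
      intro x
      rw [hconst x, hα, Helper15.indFun_apply_one, map_one, Units.val_one, mul_one]
    simp only [Pi.one_apply, this, Finset.prod_const, Finset.card_univ]
    push_cast
    rfl
  · -- the non-constant case
    choose K lam hKlam using fun x => hM (φ x) (hφ x)
    have hfam : (fun x : Q => indFun (K x) (fun k => ((lam x k : ℂˣ) : ℂ))) = φ :=
      funext fun x => (hKlam x).symm
    have h1 : classInner (indFun (baseSub K) (fun h => ((baseLam K lam h : ℂˣ) : ℂ))) χ ≠ 0 := by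
      rw [classInner_indFun_baseSub hχcf, hfam]
      exact hθΨ'
    refine ⟨baseSub K, baseLam K lam, ?_⟩
    apply eq_of_irr_of_inner_ne_zero_of_degree hχ
      (Helper15.isCharacter_indFun _ (isCharacter_unitsHom _)) h1
    -- the `Q`-conjugates of `θ`
    have hΨshift : ∀ (q : Q) (f : Q → M), Ψ (shiftHom q f) = Ψ f := by
      intro q f
      show χ (baseHom (shiftHom q f)) = χ (baseHom f)
      rw [← inl_mul_baseHom]
      exact hχcf _ _
    have hirr : ∀ q : Q, IsIrrCharacter (Q → M) (fun f => piFun φ (shiftHom q f)) := fun q =>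
      Helper80.IsIrrCharacter.comp_surjective hθ (shiftHom q) (shiftEquiv q).surjective
    have hne : ∀ q : Q, classInner Ψ (fun f => piFun φ (shiftHom q f)) ≠ 0 := by
      intro q
      have := Helper15.classInner_comp_mulEquiv (shiftEquiv q) Ψ (piFun φ)
      simp only [shiftEquiv_apply, hΨshift] at this
      rw [this]
      exact hθΨ
    have hinj : Function.Injective (fun (q : Q) (f : Q → M) => piFun φ (shiftHom q f)) := by
      intro q r hqr
      have h2 : piFun (fun y => φ (q * y)) = piFun (fun y => φ (r * y)) := by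
        funext f
        rw [← piFun_shiftHom, ← piFun_shiftHom]
        exact congrFun hqr f
      have h3 := piFun_injective_of_irr (fun y => hφ (q * y)) (fun y => hφ (r * y)) h2
      -- the stabilizer of the family
      let S : Subgroup Q :=
        { carrier := {s | ∀ z, φ (s * z) = φ z}
          one_mem' := fun z => by rw [one_mul]
          mul_mem' := fun {a b} ha hb z => by rw [mul_assoc, ha, hb]
          inv_mem' := fun {a} ha z => by
            have := ha (a⁻¹ * z)
            rw [mul_inv_cancel_left] at this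
            exact this.symm }
      have hS : r * q⁻¹ ∈ S := by
        intro z
        have := congrFun h3 (q⁻¹ * z)
        simp only [mul_inv_cancel_left] at this
        rw [mul_assoc]
        exact this.symm
      haveI : Fact (Nat.card Q).Prime := ⟨by rwa [Nat.card_eq_fintype_card]⟩
      rcases Subgroup.eq_bot_or_eq_top_of_prime_card S with hbot | htop
      · rw [hbot, Subgroup.mem_bot] at hS
        exact (mul_inv_eq_one.mp hS).symm
      · exfalso
        apply hconst
        intro x
        have hx : x ∈ S := by rw [htop]; exact Subgroup.mem_top x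
        have := hx 1
        rwa [mul_one] at this
    obtain ⟨Δ, hΔ, hΨΔ⟩ := exists_isCharacter_add_sum hΨ
      (fun (q : Q) (f : Q → M) => piFun φ (shiftHom q f)) hinj hirr hne
    obtain ⟨n, hn⟩ := Helper74.isCharacter_apply_one hΔ
    refine ⟨n, ?_⟩
    rw [Helper15.indFun_apply_one, index_baseSub, map_one, Units.val_one, mul_one, ← hΨ1, hΨΔ]
    simp only [Pi.add_apply, Finset.sum_apply, hn, map_one]
    congr 1
    rw [piFun_apply]
    have : ∀ x, φ x 1 = ((K x).index : ℂ) := by
      intro x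
      rw [hKlam x, Helper15.indFun_apply_one, map_one, Units.val_one, mul_one]
    simp only [Pi.one_apply, this, Finset.sum_const, Finset.card_univ, nsmul_eq_mul]
    push_cast
    rfl

end main

end Cfsg.Agent.Helper76
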