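import Mathlib
import Cfsg.Prelude.Def_Characters
import Cfsg.Agent.Helper74.CharBasic
import Cfsg.Agent.Helper80.Degree
import Cfsg.Agent.Helper80.GalConj1
import Cfsg.Agent.Helper80.CharLevel
import Cfsg.Agent.Helper79.Linear
import Cfsg.Agent.Helper15.CliffordCorr
import Cfsg.Agent.Helper15.IndChar
import Cfsg.Agent.Helper15.LinChar
import Cfsg.Agent.Helper76.DadeWreath

/-!
# Groups of central type from nondegenerate cocycles

* `CTData K m`: a normalized nondegenerate 2-cocycle `α : K → K → ZMod m`.
* `CTExt D`: the central extension of `K` by `ZMod m` defined by `D.α`; its centre is `ZMod m` and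
  it has a faithful irreducible character of degree `√|K|` (`exists_faithful_fully_ramified`).
-/

set_option autoImplicit false

namespace Cfsg.Agent.Helper76

open Cfsg

universe u

/-- A normalized, nondegenerate 2-cocycle on `K` with values in `ZMod m`. -/
structure CTData (K : Type u) [Group K] (m : ℕ) where
  α : K → K → ZMod m
  cocycle : ∀ g h k, α g h + α (g * h) k = α h k + α g (h * k)
  one_left : ∀ g, α 1 g = 0
  one_right : ∀ g, α g 1 = 0
  nondeg : ∀ g, g ≠ 1 → ∃ x, x * g = g * x ∧ α g x ≠ α x g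

/-- The central extension of `K` by `ZMod m` defined by the cocycle. -/
@[ext] structure CTExt {K : Type u} [Group K] {m : ℕ} (D : CTData K m) : Type u where
  fst : K
  snd : ZMod m

namespace CTExt

variable {K : Type u} [Group K] {m : ℕ} (D : CTData K m)

instance : Mul (CTExt D) := ⟨fun x y => ⟨x.fst * y.fst, x.snd + y.snd + D.α x.fst y.fst⟩⟩
instance : One (CTExt D) := ⟨⟨1, 0⟩⟩
instance : Inv (CTExt D) := ⟨fun x => ⟨x.fst⁻¹, -x.snd - D.α x.fst⁻¹ x.fst⟩⟩

@[simp] theorem mul_fst (x y : CTExt D) : (x * y).fst = x.fst * y.fst := rfl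
@[simp] theorem mul_snd (x y : CTExt D) : (x * y).snd = x.snd + y.snd + D.α x.fst y.fst := rfl
@[simp] theorem one_fst : (1 : CTExt D).fst = 1 := rfl
@[simp] theorem one_snd : (1 : CTExt D).snd = 0 := rfl
@[simp] theorem inv_fst (x : CTExt D) : (x⁻¹).fst = x.fst⁻¹ := rfl
@[simp] theorem inv_snd (x : CTExt D) : (x⁻¹).snd = -x.snd - D.α x.fst⁻¹ x.fst := rfl

instance : Group (CTExt D) := Group.ofLeftAxioms
  (by
    intro x y z
    ext
    · simp [mul_assoc]
    · simp only [mul_snd, mul_fst]
      linear_combination D.cocycle x.fst y.fst z.fst)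
  (by
    intro x
    ext
    · simp
    · simp [D.one_left])
  (by
    intro x
    ext
    · simp
    · simp only [mul_snd, inv_snd, inv_fst, one_snd]
      ring)

/-- The projection onto `K`. -/
def fstHom : CTExt D →* K where
  toFun := fst
  map_one' := rfl
  map_mul' _ _ := rfl

theorem fstHom_apply (x : CTExt D) : fstHom D x = x.fst := rfl

theorem fstHom_surjective : Function.Surjective (fstHom D) := fun k => ⟨⟨k, 0⟩, rfl⟩

theorem mem_center_iff (x : CTExt D) : x ∈ Subgroup.center (CTExt D) ↔ x.fst = 1 := by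
  rw [Subgroup.mem_center_iff]
  constructor
  · intro h
    by_contra hne
    obtain ⟨g₀, hg₀, hα⟩ := D.nondeg x.fst hne
    have := congrArg CTExt.snd (h ⟨g₀, 0⟩)
    simp only [mul_snd] at this
    apply hα
    linear_combination -this
  · intro h y
    ext
    · simp [h]
    · simp only [mul_snd, h, D.one_left, D.one_right]
      ring

theorem ker_fstHom : (fstHom D).ker = Subgroup.center (CTExt D) := by
  ext x
  rw [MonoidHom.mem_ker, fstHom_apply, mem_center_iff]

/-- `CTExt D ≃ K × ZMod m`. -/
def equivProd : CTExt D ≃ K × ZMod m where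
  toFun x := (x.fst, x.snd)
  invFun p := ⟨p.1, p.2⟩
  left_inv _ := rfl
  right_inv _ := rfl

instance [Finite K] [NeZero m] : Finite (CTExt D) := Finite.of_equiv _ (equivProd D).symm

theorem card_eq [Finite K] : Nat.card (CTExt D) = Nat.card K * m := by
  rw [Nat.card_congr (equivProd D), Nat.card_prod, Nat.card_zmod]

/-- The centre is `ZMod m`. -/
def centerEquiv : Subgroup.center (CTExt D) ≃ ZMod m where
  toFun z := z.1.snd
  invFun a := ⟨⟨1, a⟩, (mem_center_iff D _).2 rfl⟩
  left_inv z := by
    apply Subtype.ext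
    ext
    · exact ((mem_center_iff D _).1 z.2).symm
    · rfl
  right_inv _ := rfl

theorem card_center : Nat.card (Subgroup.center (CTExt D)) = m := by
  rw [Nat.card_congr (centerEquiv D), Nat.card_zmod]

/-- The quotient by the centre is `K`. -/
noncomputable def quotientCenterEquiv : CTExt D ⧸ Subgroup.center (CTExt D) ≃* K :=
  (QuotientGroup.quotientMulEquivOfEq (ker_fstHom D).symm).trans
    (QuotientGroup.quotientKerEquivOfSurjective (fstHom D) (fstHom_surjective D))

/-- The faithful linear character of the centre. -/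
noncomputable def centerChar [NeZero m] : Subgroup.center (CTExt D) →* ℂ where
  toFun z := ZMod.stdAddChar z.1.snd
  map_one' := by simp
  map_mul' z w := by
    have h : (z * w).1.snd = z.1.snd + w.1.snd := by
      show (z.1 * w.1).snd = _
      rw [mul_snd, (mem_center_iff D _).1 z.2, D.one_left, add_zero]
    rw [h, AddChar.map_add_eq_mul]

theorem centerChar_apply [NeZero m] (z : Subgroup.center (CTExt D)) :
    centerChar D z = ZMod.stdAddChar z.1.snd := rfl

end CTExt

section general

variable {H : Type u} [Group H] [Finite H]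

/-- Central elements act as scalars. -/
theorem irr_mul_central {χ : H → ℂ} (hχ : IsIrrCharacter H χ) {z : H}
    (hz : z ∈ Subgroup.center H) (g : H) : χ (g * z) = χ z / χ 1 * χ g := by
  obtain ⟨ω, hω⟩ := Helper80.IsIrrCharacter.exists_central_scalar hχ hz
  have h1 : χ 1 ≠ 0 := Helper80.IsIrrCharacter.map_one_ne_zero hχ
  have hz1 : χ z = ω * χ 1 := by
    have := hω 1
    rwa [one_mul] at this
  rw [hω g, hz1]
  field_simp

/-- If `x y = y x z` with `z` central not in the kernel of `χ`, then `χ x = 0`. -/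
theorem irr_eq_zero_of_commutator {χ : H → ℂ} (hχ : IsIrrCharacter H χ) {x y z : H}
    (hz : z ∈ Subgroup.center H) (hxy : x * y = y * x * z) (hzχ : χ z ≠ χ 1) : χ x = 0 := by
  have hcf := Helper74.isClassFunction_of_isCharacter (Helper74.isCharacter_of_isIrr hχ)
  have h1 : χ 1 ≠ 0 := Helper80.IsIrrCharacter.map_one_ne_zero hχ
  have h2 : χ (x * z) = χ x := by
    have h3 : x * z = y⁻¹ * x * y⁻¹⁻¹ := by
      rw [inv_inv, mul_assoc, hxy]
      group
    rw [h3]
    exact hcf x y⁻¹
  rw [irr_mul_central hχ hz x] at h2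
  by_contra hx
  apply hzχ
  have h4 : χ z / χ 1 = 1 := by
    have : χ z / χ 1 * χ x = 1 * χ x := by rw [one_mul]; exact h2
    exact mul_right_cancel₀ hx this
  rw [div_eq_one_iff_eq h1] at h4
  exact h4

/-- An irreducible character vanishing off the centre is fully ramified over it. -/
theorem charDegree_sq_eq_index_center_of_vanish {χ : H → ℂ} (h : IsIrrCharacter H χ)
    (hvan : ∀ x, x ∉ Subgroup.center H → χ x = 0) :
    charDegree χ ^ 2 = (Subgroup.center H).index := by
  classical
  cases nonempty_fintype H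
  have h1 := Helper80.IsIrrCharacter.sum_normSq h
  have h2 : ∑ g ∈ (Finset.univ.filter fun g : H => g ∈ Subgroup.center H), ‖χ g‖ ^ 2 =
      ∑ g : H, ‖χ g‖ ^ 2 := by
    apply Finset.sum_subset (Finset.filter_subset _ _)
    intro g _ hg
    have hg' : g ∉ Subgroup.center H := by
      intro hgc
      exact hg (Finset.mem_filter.mpr ⟨Finset.mem_univ _, hgc⟩)
    rw [hvan g hg']
    simp
  have h3 : ∑ g ∈ (Finset.univ.filter fun g : H => g ∈ Subgroup.center H), ‖χ g‖ ^ 2 =
      ((Finset.univ.filter fun g : H => g ∈ Subgroup.center H).card : ℝ) *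
        (Cfsg.charDegree χ : ℝ) ^ 2 := by
    rw [← nsmul_eq_mul, ← Finset.sum_const]
    refine Finset.sum_congr rfl fun g hg => ?_
    rw [Helper80.IsIrrCharacter.norm_eq_of_mem_center h (Finset.mem_filter.mp hg).2]
  have h4 : (Finset.univ.filter fun g : H => g ∈ Subgroup.center H).card =
      Nat.card (Subgroup.center H) := by
    rw [Nat.card_eq_fintype_card, Fintype.card_subtype]
  rw [h3, h1, h4] at h2
  have h5 : Nat.card (Subgroup.center H) * Cfsg.charDegree χ ^ 2 = Nat.card H := by
    rw [Nat.card_eq_fintype_card (α := H)]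
    exact_mod_cast h2
  have h6 := Subgroup.card_mul_index (Subgroup.center H)
  rw [← h6] at h5
  exact Nat.eq_of_mul_eq_mul_left Nat.card_pos h5

end general

/-- **A nondegenerate cocycle gives a group of central type.** -/
theorem exists_faithful_fully_ramified {K : Type u} [Group K] [Finite K] {m : ℕ} [NeZero m]
    (D : CTData K m) :
    ∃ χ : IrrCharacter (CTExt D), (∀ h : CTExt D, (χ : CTExt D → ℂ) h = (χ : CTExt D → ℂ) 1 → h = 1) ∧
      charDegree (χ : CTExt D → ℂ) ^ 2 = (Subgroup.center (CTExt D)).index := by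
  classical
  haveI : Fintype (CTExt D) := Fintype.ofFinite _
  haveI : Fintype (Subgroup.center (CTExt D)) := Fintype.ofFinite _
  set Z := Subgroup.center (CTExt D) with hZ
  set lam : Z →* ℂ := CTExt.centerChar D with hlam
  have hlamc : IsCharacter Z lam := (Helper15.isCharacter_of_hom lam).1
  have hΦ : IsCharacter (CTExt D) (indFun Z lam) := Helper15.isCharacter_indFun Z hlamc
  have hΦ1 : indFun Z lam 1 ≠ 0 := by
    rw [Helper15.indFun_apply_one, map_one, mul_one]
    exact_mod_cast Subgroup.index_ne_zero_of_finite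
  obtain ⟨χ, hχ, hχΦ⟩ := exists_irr_constituent hΦ hΦ1
  have hχcf := Helper74.isClassFunction_of_isCharacter (Helper74.isCharacter_of_isIrr hχ)
  have hχ1 : χ 1 ≠ 0 := Helper80.IsIrrCharacter.map_one_ne_zero hχ
  have hin : classInner (fun z : Z => χ z) lam ≠ 0 := by
    rw [Helper15.frobenius_reciprocity Z lam χ hχcf] at hχΦ
    rw [← Helper74.classInner_conj_symm]
    simpa using hχΦ
  have hinv : ∀ g : CTExt D, Helper15.conjFun Z g lam = lam := by
    intro g
    funext n
    rw [Helper15.conjFun_apply]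
    congr 1
    apply Subtype.ext
    show g * (n : CTExt D) * g⁻¹ = n
    rw [Subgroup.mem_center_iff.mp n.2 g, mul_inv_cancel_right]
  have hres := Helper15.restrict_eq_smul_of_invariant Z hχ
    (Helper79.isIrrCharacter_of_monoidHom lam) hin hinv
  have hres1 : ∀ z : Z, χ z = χ 1 * lam z := by
    intro z
    have h1 := congrFun hres 1
    have hz := congrFun hres z
    simp only [Pi.smul_apply, smul_eq_mul, map_one, mul_one] at h1 hz
    rw [hz]
    congr 1
    exact h1.symm
  have hvan : ∀ x : CTExt D, x ∉ Z → χ x = 0 := by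
    intro x hx
    rw [hZ, CTExt.mem_center_iff] at hx
    obtain ⟨g₀, hg₀, hα⟩ := D.nondeg x.fst hx
    set z : CTExt D := ⟨1, D.α x.fst g₀ - D.α g₀ x.fst⟩ with hz
    have hzc : z ∈ Z := (CTExt.mem_center_iff D z).2 rfl
    have hxy : x * (⟨g₀, 0⟩ : CTExt D) = ⟨g₀, 0⟩ * x * z := by
      ext
      · simp [hz, hg₀]
      · simp only [CTExt.mul_snd, CTExt.mul_fst, hz, D.one_right]
        ring
    apply irr_eq_zero_of_commutator hχ hzc hxy
    have := hres1 ⟨z, hzc⟩
    rw [this]
    intro h1
    have h2 : lam ⟨z, hzc⟩ = 1 := by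
      have : χ 1 * lam ⟨z, hzc⟩ = χ 1 * 1 := by rw [mul_one]; exact h1
      exact mul_left_cancel₀ hχ1 this
    rw [hlam, CTExt.centerChar_apply] at h2
    have h3 : (ZMod.stdAddChar (N := m)) (D.α x.fst g₀ - D.α g₀ x.fst)
        = (ZMod.stdAddChar (N := m)) 0 := by
      rw [AddChar.map_zero_eq_one]
      exact h2
    have h4 := ZMod.injective_stdAddChar h3
    exact hα (sub_eq_zero.mp h4)
  refine ⟨⟨χ, hχ⟩, ?_, charDegree_sq_eq_index_center_of_vanish hχ hvan⟩
  intro h hh
  change χ h = χ 1 at hh
  have hhZ : h ∈ Z := by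
    by_contra hn
    apply hχ1
    rw [← hh, hvan h hn]
  have h1 := hres1 ⟨h, hhZ⟩
  have h2 : lam ⟨h, hhZ⟩ = 1 := by
    have : χ 1 * lam ⟨h, hhZ⟩ = χ 1 * 1 := by
      rw [mul_one, ← h1]
      exact hh
    exact mul_left_cancel₀ hχ1 this
  rw [hlam, CTExt.centerChar_apply] at h2
  have h3 : (ZMod.stdAddChar (N := m)) h.snd = (ZMod.stdAddChar (N := m)) 0 := by
    rw [AddChar.map_zero_eq_one]
    exact h2
  have h4 := ZMod.injective_stdAddChar h3
  ext
  · exact (CTExt.mem_center_iff D h).1 hhZ
  · exact h4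

end Cfsg.Agent.Helper76
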