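import Mathlib
import Cfsg.Agent.Helper3.E27Defs

/-!
# (A2) + (A3) of #6444 for helper3 (S3701): `T` is Sylow, `|N_G(T)| = 108`, and the action of
`N_G(T)` on `T` in coordinates (helper76)
-/

set_option autoImplicit false

namespace Cfsg.Agent.Helper76.E27
open Cfsg.Agent.Helper3.E27

universe u
variable {G : Type u} [Group G]

theorem HCfg_comm {T : Subgroup G} {τ : Vec → G} {a b : G} (h : HCfg T τ a b) (u v : Vec) :
    τ u * τ v = τ v * τ u := by
  rw [← h.τ_add, ← h.τ_add, add_comm]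

theorem HCfg_card_T {T : Subgroup G} {τ : Vec → G} {a b : G} (h : HCfg T τ a b) :
    Nat.card T = 27 := by
  have e : Vec ≃ T := Equiv.ofBijective (fun v => ⟨τ v, h.τ_mem v⟩) ⟨by
    intro u v huv
    exact h.τ_inj (congrArg Subtype.val huv), by
    rintro ⟨t, ht⟩
    obtain ⟨v, hv⟩ := h.memT t ht
    exact ⟨v, Subtype.ext hv⟩⟩
  rw [← Nat.card_congr e, Nat.card_eq_fintype_card]
  simp

/-- the four coset representatives and their sign vectors -/
def wrep (a b : G) : Fin 4 → G := ![1, a, b, a * b]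
def wsig : Fin 4 → Vec := ![1, sa, sb, sa * sb]

theorem wsig_inj : Function.Injective wsig := by decide

theorem HCfg_wrep_conj {T : Subgroup G} {τ : Vec → G} {a b : G} (h : HCfg T τ a b) (i : Fin 4)
    (v : Vec) : wrep a b i * τ v * (wrep a b i)⁻¹ = τ (wsig i * v) := by
  fin_cases i
  · simp [wrep, wsig]
  · simpa [wrep, wsig] using h.τ_a v
  · simpa [wrep, wsig] using h.τ_b v
  · have : a * b * τ v * (a * b)⁻¹ = a * (b * τ v * b⁻¹) * a⁻¹ := by group
    simp only [wrep, wsig]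
    change a * b * τ v * (a * b)⁻¹ = τ (sa * sb * v)
    rw [this, h.τ_b, h.τ_a, mul_assoc]

theorem HCfg_wrep_mem {T : Subgroup G} {τ : Vec → G} {a b : G} (h : HCfg T τ a b) (i : Fin 4) :
    wrep a b i ∈ Subgroup.normalizer (T : Set G) := by
  fin_cases i
  · exact one_mem _
  · exact h.aN
  · exact h.bN
  · exact mul_mem h.aN h.bN

theorem HCfg_card_N [Finite G] {T : Subgroup G} {τ : Vec → G} {a b : G} (h : HCfg T τ a b) :
    Nat.card (Subgroup.normalizer (T : Set G)) = 108 := by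
  classical
  have hTN : T ≤ Subgroup.normalizer (T : Set G) := Subgroup.le_normalizer
  let f : T × Fin 4 → Subgroup.normalizer (T : Set G) := fun x =>
    ⟨x.1 * wrep a b x.2, mul_mem (hTN x.1.2) (HCfg_wrep_mem h x.2)⟩
  have hf : Function.Bijective f := by
    constructor
    · rintro ⟨⟨t, ht⟩, i⟩ ⟨⟨t', ht'⟩, j⟩ hij
      have h1 : t * wrep a b i = t' * wrep a b j := congrArg Subtype.val hij
      obtain ⟨w, rfl⟩ := h.memT t ht
      obtain ⟨w', rfl⟩ := h.memT t' ht'
      have hsig : ∀ v, τ (wsig i * v) = τ (wsig j * v) := by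
        intro v
        have e1 : (τ w * wrep a b i) * τ v * (τ w * wrep a b i)⁻¹ = τ (wsig i * v) := by
          have : (τ w * wrep a b i) * τ v * (τ w * wrep a b i)⁻¹ =
              τ w * (wrep a b i * τ v * (wrep a b i)⁻¹) * (τ w)⁻¹ := by group
          rw [this, HCfg_wrep_conj h, HCfg_comm h, mul_assoc, mul_inv_cancel, mul_one]
        have e2 : (τ w' * wrep a b j) * τ v * (τ w' * wrep a b j)⁻¹ = τ (wsig j * v) := by
          have : (τ w' * wrep a b j) * τ v * (τ w' * wrep a b j)⁻¹ =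
              τ w' * (wrep a b j * τ v * (wrep a b j)⁻¹) * (τ w')⁻¹ := by group
          rw [this, HCfg_wrep_conj h, HCfg_comm h, mul_assoc, mul_inv_cancel, mul_one]
        rw [← e1, ← e2, h1]
      have hij' : i = j := by
        apply wsig_inj
        have := h.τ_inj (hsig 1)
        simpa using this
      subst hij'
      have : τ w = τ w' := mul_right_cancel h1
      simp [this]
    · rintro ⟨n, hn⟩
      obtain ⟨t, ht, hcase⟩ := h.memN n hn
      rcases hcase with hc | hc | hc | hc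
      · exact ⟨(⟨t, ht⟩, 0), Subtype.ext (by simp [f, wrep, hc])⟩
      · exact ⟨(⟨t, ht⟩, 1), Subtype.ext (by simp [f, wrep, hc])⟩
      · exact ⟨(⟨t, ht⟩, 2), Subtype.ext (by simp [f, wrep, hc])⟩
      · exact ⟨(⟨t, ht⟩, 3), Subtype.ext (by simp [f, wrep, hc])⟩
  rw [← Nat.card_congr (Equiv.ofBijective f hf), Nat.card_prod, HCfg_card_T h]
  simp

/-- (A2) `T` is a Sylow 3-subgroup of `G`, and `|N_G(T)| = 108`. -/
theorem sylow_of_hcfg [Finite G] {T : Subgroup G} {τ : Vec → G} {a b : G} (h : HCfg T τ a b) :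
    (∃ P : Sylow 3 G, (P : Subgroup G) = T) ∧
      Nat.card (Subgroup.normalizer (T : Set G)) = 108 := by
  refine ⟨?_, HCfg_card_N h⟩
  have : Fact (Nat.Prime 3) := ⟨Nat.prime_three⟩
  have hT27 := HCfg_card_T h
  have hTp : IsPGroup 3 T := IsPGroup.of_card (n := 3) (by rw [hT27]; norm_num)
  obtain ⟨P, hTP⟩ := hTp.exists_le_sylow
  refine ⟨P, ?_⟩
  by_contra hne
  have hlt : T.subgroupOf (P : Subgroup G) < ⊤ := by
    rw [lt_top_iff_ne_top, Ne, Subgroup.subgroupOf_eq_top]
    intro hPT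
    exact hne (le_antisymm hPT hTP)
  have : Group.IsNilpotent (P : Subgroup G) := P.2.isNilpotent
  have hnc := Group.normalizerCondition_of_isNilpotent (G := (P : Subgroup G)) _ hlt
  rw [← Subgroup.subgroupOf_normalizer_eq hTP] at hnc
  -- Q := N ⊓ P
  set Q : Subgroup G := Subgroup.normalizer (T : Set G) ⊓ (P : Subgroup G) with hQ
  have hTQ : T ≤ Q := le_inf Subgroup.le_normalizer hTP
  have hQp : IsPGroup 3 Q := P.2.to_le inf_le_right
  obtain ⟨k, hk⟩ := hQp.exists_card_eq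
  have hQN : Nat.card Q ∣ 108 := by
    rw [← HCfg_card_N h]
    exact Subgroup.card_dvd_of_le inf_le_left
  have hQ27 : Nat.card Q ∣ 27 := by
    rw [hk] at hQN ⊢
    have hc : Nat.Coprime (3 ^ k) 4 := Nat.Coprime.pow_left k (by norm_num)
    exact hc.dvd_of_dvd_mul_right (by simpa using hQN)
  have hQT : Q = T := by
    symm
    apply Subgroup.eq_of_le_of_card_ge hTQ
    rw [hT27]
    exact Nat.le_of_dvd (by norm_num) hQ27
  -- contradiction: the normalizer in `P` is `Q.subgroupOf P = T.subgroupOf P`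
  have : (Subgroup.normalizer (T : Set G)).subgroupOf (P : Subgroup G) =
      T.subgroupOf (P : Subgroup G) := by
    rw [← Subgroup.inf_subgroupOf_right (Subgroup.normalizer (T : Set G)) (P : Subgroup G)]
    exact congrArg (fun X => X.subgroupOf (P : Subgroup G)) hQT
  rw [this] at hnc
  exact lt_irrefl _ hnc

theorem HCfg_conj_T {τ : Vec → G} (t x : G) (v : Vec) : (t * x) * τ v * (t * x)⁻¹ = t * (x * τ v * x⁻¹) * t⁻¹ := by
  group

/-- (A3) the action of `N_G(T)` on `T` in coordinates. -/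
theorem conj_N {T : Subgroup G} {τ : Vec → G} {a b : G} (h : HCfg T τ a b)
    (n : G) (hn : n ∈ Subgroup.normalizer (T : Set G)) :
    ∃ σ ∈ Vs, ∀ v, n * τ v * n⁻¹ = τ (σ * v) := by
  obtain ⟨t, ht, hcase⟩ := h.memN n hn
  obtain ⟨w, rfl⟩ := h.memT t ht
  have hconj : ∀ v, τ w * τ v * (τ w)⁻¹ = τ v := by
    intro v
    rw [HCfg_comm h w v, mul_assoc, mul_inv_cancel, mul_one]
  rcases hcase with rfl | rfl | rfl | rfl
  · refine ⟨1, by simp [Vs], fun v => ?_⟩
    rw [hconj, one_mul]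
  · refine ⟨sa, by simp [Vs], fun v => ?_⟩
    rw [HCfg_conj_T (τ := τ), h.τ_a, hconj]
  · refine ⟨sb, by simp [Vs], fun v => ?_⟩
    rw [HCfg_conj_T (τ := τ), h.τ_b, hconj]
  · refine ⟨sa * sb, by simp [Vs], fun v => ?_⟩
    rw [HCfg_conj_T (τ := τ)]
    have : a * b * τ v * (a * b)⁻¹ = a * (b * τ v * b⁻¹) * a⁻¹ := by group
    rw [this, h.τ_b, h.τ_a, hconj, mul_assoc]

end Cfsg.Agent.Helper76.E27
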