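import Mathlib
import Cfsg.Agent.Helper34.FratLinDefs
import Cfsg.Agent.Helper63.Frattini

/-!
Piece (F1) of helper34's architecture for S4188: the basic API of `i2` (index of the subgroup
generated by the squares).
-/

set_option autoImplicit false

namespace Cfsg.Agent.Helper76.FratLin

open Cfsg.Agent.Helper34.FratLin

theorem sqSubgroup_normal (Q : Type*) [Group Q] : (sqSubgroup Q).Normal := by
  constructor
  intro n hn g
  unfold sqSubgroup at hn ⊢
  induction hn using Subgroup.closure_induction with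
  | mem x hx =>
    obtain ⟨y, rfl⟩ := hx
    apply Subgroup.subset_closure
    exact ⟨g * y * g⁻¹, by simp [conj_pow]⟩
  | one => simp
  | mul x y _ _ hx hy =>
    have : g * (x * y) * g⁻¹ = (g * x * g⁻¹) * (g * y * g⁻¹) := by group
    rw [this]; exact mul_mem hx hy
  | inv x _ hx =>
    have : g * x⁻¹ * g⁻¹ = (g * x * g⁻¹)⁻¹ := by group
    rw [this]; exact inv_mem hx

theorem sq_mem_sqSubgroup {Q : Type*} [Group Q] (g : Q) : g ^ 2 ∈ sqSubgroup Q :=
  Subgroup.subset_closure ⟨g, rfl⟩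

theorem sqSubgroup_map_of_surjective {Q Q' : Type*} [Group Q] [Group Q'] (f : Q →* Q')
    (hf : Function.Surjective f) : (sqSubgroup Q).map f = sqSubgroup Q' := by
  unfold sqSubgroup
  rw [MonoidHom.map_closure]
  congr 1
  ext y
  constructor
  · rintro ⟨_, ⟨x, rfl⟩, rfl⟩
    exact ⟨f x, by simp⟩
  · rintro ⟨y', rfl⟩
    obtain ⟨x, rfl⟩ := hf y'
    exact ⟨x ^ 2, ⟨x, rfl⟩, by simp⟩

theorem i2_congr {Q Q' : Type*} [Group Q] [Group Q'] (e : Q ≃* Q') : i2 Q = i2 Q' := by
  unfold i2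
  rw [← sqSubgroup_map_of_surjective (e : Q →* Q') e.surjective, Subgroup.index_map_equiv]

theorem i2_pos {Q : Type*} [Group Q] [Finite Q] : 0 < i2 Q :=
  Nat.pos_of_ne_zero Subgroup.index_ne_zero_of_finite

theorem i2_le_card {Q : Type*} [Group Q] [Finite Q] : i2 Q ≤ Nat.card Q :=
  Nat.le_of_dvd Nat.card_pos (Subgroup.index_dvd_card _)

theorem i2_le_mul {Q : Type*} [Group Q] [Finite Q] (K : Subgroup Q) [K.Normal] :
    i2 Q ≤ i2 K * i2 (Q ⧸ K) := by
  have := sqSubgroup_normal Q
  set S := sqSubgroup Q with hS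
  -- [Q : S] = [S ⊔ K : S] * [Q : S ⊔ K]
  have h1 : S.relIndex (S ⊔ K) * (S ⊔ K).index = S.index :=
    Subgroup.relIndex_mul_index le_sup_left
  -- [Q : S ⊔ K] = i2 (Q ⧸ K)
  have h2 : (S ⊔ K).index = i2 (Q ⧸ K) := by
    unfold i2
    rw [← sqSubgroup_map_of_surjective (QuotientGroup.mk' K) (QuotientGroup.mk'_surjective K),
      Subgroup.index_map, QuotientGroup.ker_mk',
      MonoidHom.range_eq_top_of_surjective _ (QuotientGroup.mk'_surjective K), Subgroup.index_top,
      mul_one]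
  -- [S ⊔ K : S] = [K : S ⊓ K] ≤ i2 K
  have h3 : S.relIndex (S ⊔ K) = S.relIndex K := Subgroup.relIndex_sup_left K S
  have h4 : S.relIndex K ≤ i2 K := by
    unfold i2 Subgroup.relIndex
    have hle : sqSubgroup K ≤ S.subgroupOf K := by
      unfold sqSubgroup
      rw [Subgroup.closure_le]
      rintro _ ⟨x, rfl⟩
      rw [SetLike.mem_coe, Subgroup.mem_subgroupOf]
      simpa using sq_mem_sqSubgroup (x : Q)
    exact Nat.le_of_dvd (Nat.pos_of_ne_zero Subgroup.index_ne_zero_of_finite)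
      (Subgroup.index_dvd_of_le hle)
  calc i2 Q = S.relIndex (S ⊔ K) * (S ⊔ K).index := h1.symm
    _ = S.relIndex K * i2 (Q ⧸ K) := by rw [h2, h3]
    _ ≤ i2 K * i2 (Q ⧸ K) := Nat.mul_le_mul_right _ h4

theorem i2_le_two_of_isCyclic {Q : Type*} [Group Q] [Finite Q] [IsCyclic Q] : i2 Q ≤ 2 := by
  have := sqSubgroup_normal Q
  unfold i2
  rw [Subgroup.index_eq_card]
  have : IsCyclic (Q ⧸ sqSubgroup Q) :=
    isCyclic_of_surjective (QuotientGroup.mk' (sqSubgroup Q)) (QuotientGroup.mk'_surjective _)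
  rw [← IsCyclic.exponent_eq_card]
  apply Nat.le_of_dvd (by norm_num)
  apply Monoid.exponent_dvd_of_forall_pow_eq_one
  intro x
  obtain ⟨g, rfl⟩ := QuotientGroup.mk_surjective x
  rw [← QuotientGroup.mk_pow, QuotientGroup.eq_one_iff]
  exact sq_mem_sqSubgroup g

theorem i2_le_two_mul_of_index_two {Q : Type*} [Group Q] [Finite Q] (M : Subgroup Q)
    (hM : M.index = 2) : i2 Q ≤ 2 * i2 M := by
  have : M.Normal := Subgroup.normal_of_index_eq_two hM
  have h1 := i2_le_mul M
  have h2 : i2 (Q ⧸ M) ≤ 2 := by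
    have := i2_le_card (Q := Q ⧸ M)
    rwa [← Subgroup.index_eq_card, hM] at this
  calc i2 Q ≤ i2 M * i2 (Q ⧸ M) := h1
    _ ≤ i2 M * 2 := Nat.mul_le_mul_left _ h2
    _ = 2 * i2 M := mul_comm _ _

theorem two_mul_i2_le_card_of_not_comm {Q : Type*} [Group Q] [Finite Q]
    (h : ¬ ∀ a b : Q, a * b = b * a) : 2 * i2 Q ≤ Nat.card Q := by
  have hne : sqSubgroup Q ≠ ⊥ := by
    intro hbot
    apply h
    have hsq : ∀ g : Q, g * g = 1 := by
      intro g
      have := sq_mem_sqSubgroup g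
      rw [hbot, Subgroup.mem_bot, pow_two] at this
      exact this
    intro a b
    calc a * b = (b * b) * (a * b) * (a * a) := by rw [hsq a, hsq b]; group
      _ = b * ((b * a) * (b * a)) * a := by group
      _ = b * a := by rw [hsq (b * a)]; group
  have hcard : 2 ≤ Nat.card (sqSubgroup Q) := by
    have h1 : 1 < Nat.card (sqSubgroup Q) := by
      rw [Subgroup.one_lt_card_iff_ne_bot]; exact hne
    omega
  have hmul : Nat.card (sqSubgroup Q) * (sqSubgroup Q).index = Nat.card Q :=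
    Subgroup.card_mul_index _
  unfold i2
  calc 2 * (sqSubgroup Q).index ≤ Nat.card (sqSubgroup Q) * (sqSubgroup Q).index :=
        Nat.mul_le_mul_right _ hcard
    _ = Nat.card Q := hmul

theorem i2_eq_card_sq_eq_one {H : Type*} [CommGroup H] [Finite H] :
    i2 H = Nat.card {h : H // h ^ 2 = 1} := by
  set φ : H →* H := powMonoidHom 2 with hφ
  have hrange : sqSubgroup H = φ.range := by
    unfold sqSubgroup
    have : (Set.range fun g : H => g ^ 2) = (φ.range : Set H) := by
      ext y; simp [hφ]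
    rw [this, Subgroup.closure_eq]
  have hker : Nat.card {h : H // h ^ 2 = 1} = Nat.card φ.ker := by
    apply Nat.card_congr
    refine Equiv.subtypeEquivRight ?_
    intro x
    simp [hφ, MonoidHom.mem_ker]
  have h1 : Nat.card φ.range * φ.range.index = Nat.card H := Subgroup.card_mul_index _
  have h2 : Nat.card φ.ker * φ.ker.index = Nat.card H := Subgroup.card_mul_index _
  have h3 : φ.ker.index = Nat.card φ.range := Subgroup.index_ker φ
  have hpos : 0 < Nat.card φ.range := Nat.card_pos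
  unfold i2
  rw [hrange, hker]
  rw [h3, mul_comm] at h2
  exact Nat.eq_of_mul_eq_mul_left hpos (h1.trans h2.symm)

theorem index_frattini_le_i2 {Q : Type*} [Group Q] [Finite Q] (hQ : IsPGroup 2 Q) :
    (frattini Q).index ≤ i2 Q := by
  have : Fact (Nat.Prime 2) := ⟨Nat.prime_two⟩
  have hle : sqSubgroup Q ≤ frattini Q := by
    unfold sqSubgroup
    rw [Subgroup.closure_le]
    rintro _ ⟨g, rfl⟩
    exact Cfsg.Agent.Helper63.pow_prime_mem_frattini hQ g
  exact Nat.le_of_dvd i2_pos (Subgroup.index_dvd_of_le hle)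

end Cfsg.Agent.Helper76.FratLin
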