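import Mathlib
import Cfsg.Agent.Helper38.Cov2P5.Defs

/-!
# (SC) of helper38's farm #12545 (S2500 part 5): every unitary `3 × 3` matrix over `F_{q²}`, `q = 3^a`, is
a scalar multiple of the matrix of an element of `SU_3(q)`
-/

set_option autoImplicit false

namespace Cfsg.Agent.Helper76.P5

open Matrix Polynomial Module Cfsg.Agent.S2587 Cfsg.Agent.S2578 Cfsg.Agent.Helper45.GU
  Cfsg.Agent.Helper43.Cov2 Cfsg.Agent.Helper38.Cov2

variable {F : Type*} [Field F] [Fintype F] {q : ℕ}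

/-- (SC) the scalar trick: as `gcd(3, q + 1) = 1`, every unitary matrix is a scalar multiple of the
matrix of an element of `SU_3(q)` -/
theorem exists_su_smul (a : ℕ) (ha : 1 ≤ a) (hq : q = 3 ^ a) (bar : F →+* F)
    (hbar : ∀ x, bar x = x ^ q) (Y : Matrix (Fin 3) (Fin 3) F) (hY : st bar Y * Y = 1) :
    ∃ (x : ↥(Cfsg.SU 3 F q)) (μ : F), μ ≠ 0 ∧ mat x = μ • Y := by
  have hδ : Y.det ^ (q + 1) = 1 := by
    have h1 := congrArg Matrix.det hY
    rw [Matrix.det_mul, det_st, hbar, Matrix.det_one] at h1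
    rw [pow_succ]
    exact h1
  have hδ0 : Y.det ≠ 0 := by
    intro h0
    rw [h0, zero_pow (by omega)] at hδ
    exact zero_ne_one hδ
  obtain ⟨m, hm⟩ : ∃ m : ℕ, q + 1 = 3 * m + 1 := by
    refine ⟨3 ^ (a - 1), ?_⟩
    rw [hq, ← pow_succ', Nat.sub_add_cancel ha]
  obtain ⟨μ, hμ⟩ : ∃ μ : F, μ = Y.det ^ m := ⟨_, rfl⟩
  have hμ0 : μ ≠ 0 := by rw [hμ]; exact pow_ne_zero _ hδ0
  have hμ1 : μ ^ (q + 1) = 1 := by rw [hμ, ← pow_mul, mul_comm, pow_mul, hδ, one_pow]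
  have hμ3 : μ ^ 3 * Y.det = 1 := by rw [hμ, ← pow_mul, ← pow_succ, mul_comm m 3, ← hm, hδ]
  have hU : st bar (μ • Y) * (μ • Y) = 1 := by
    rw [st_smul, Matrix.smul_mul, Matrix.mul_smul, smul_smul, hY, hbar, ← pow_succ, hμ1, one_smul]
  have hdet : (μ • Y).det = 1 := by
    rw [Matrix.det_smul, Fintype.card_fin, hμ3]
  obtain ⟨x, hx⟩ := exists_mat_eq bar hbar (μ • Y) hU hdet
  exact ⟨x, μ, hμ0, hx⟩

end Cfsg.Agent.Helper76.P5
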