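import Cfsg.Agent.Helper39.C320.Defs

/-!
# (A1) for S1903 (helper39): the abstract setup exists
-/

set_option autoImplicit false

namespace Cfsg.Agent.Helper76.C320

open Cfsg.Agent.Helper39.C320

variable {G : Type*} [Group G] [Finite G]

/-- (A1) -/
theorem exists_setup (hG : Nat.card G = 320) (hD : Nat.card (commutator G) = 64)
    (hZ : IsKleinFour (Subgroup.center (commutator G))) :
    ∃ x : G, Setup (commutator G)
      ((Subgroup.center (commutator G)).map (commutator G).subtype) x := by
  have : Fact (Nat.Prime 5) := ⟨by norm_num⟩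
  have h5 : 5 ∣ Nat.card G := by rw [hG]; norm_num
  obtain ⟨x, hx⟩ := exists_prime_orderOf_dvd_card' 5 h5
  refine ⟨x, ?_⟩
  refine
    { cardG := hG
      cardP := hD
      cardZ := ?_
      normP := inferInstance
      comm := rfl
      Z_le := Subgroup.map_subtype_le _
      mem_Z := ?_
      sq_Z := ?_
      ord_x := hx }
  · rw [Subgroup.card_subtype]; exact hZ.card_four
  · intro z
    constructor
    · rintro ⟨w, hw, rfl⟩
      refine ⟨w.2, ?_⟩
      intro p hp
      have := Subgroup.mem_center_iff.mp hw ⟨p, hp⟩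
      exact congrArg Subtype.val this
    · rintro ⟨hzP, hz⟩
      refine ⟨⟨z, hzP⟩, ?_, rfl⟩
      show (⟨z, hzP⟩ : commutator G) ∈ Subgroup.center (commutator G)
      rw [Subgroup.mem_center_iff]
      rintro ⟨p, hp⟩
      exact Subtype.ext (hz p hp)
  · rintro z ⟨w, hw, rfl⟩
    have h2 : (⟨w, hw⟩ : Subgroup.center (commutator G)) ^ 2 = 1 := by
      rw [← hZ.exponent_two]; exact Monoid.pow_exponent_eq_one _
    have h3 := congrArg Subtype.val (congrArg Subtype.val h2)
    simp only [Subgroup.coe_pow, Subgroup.coe_one] at h3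
    rw [← pow_two]
    exact h3

end Cfsg.Agent.Helper76.C320
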