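import Cfsg.Agent.Helper39.C320.Defs

/-!
# (A8) for S1903 (helper39): `x` acts fixed-point-freely on `P / Z`
-/

set_option autoImplicit false

namespace Cfsg.Agent.Helper76.C320

open Cfsg.Agent.Helper39.C320

variable {G : Type*} [Group G] [Finite G]
variable {P Z : Subgroup G} {x : G}

omit [Finite G] in
/-- if `x p x⁻¹ = z p` with `z` central then `x^n p x^-n = z^n p` -/
theorem A8_pow_conj (x p z : G) (hz : ∀ g : G, g * z = z * g) (hxp : x * p * x⁻¹ = z * p) (n : ℕ) :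
    x ^ n * p * (x ^ n)⁻¹ = z ^ n * p := by
  induction n with
  | zero => simp
  | succ n ih =>
    have hzn : ∀ g : G, g * z ^ n = z ^ n * g := by
      intro g
      induction n with
      | zero => simp
      | succ m ihm =>
        have : ∀ k : ℕ, g * z ^ k = z ^ k * g := by
          intro k
          induction k with
          | zero => simp
          | succ k ihk => rw [pow_succ, ← mul_assoc, ihk, mul_assoc, hz g, ← mul_assoc]
        exact this _
    calc x ^ (n + 1) * p * (x ^ (n + 1))⁻¹ = x * (x ^ n * p * (x ^ n)⁻¹) * x⁻¹ := by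
          rw [pow_succ']; group
      _ = x * (z ^ n * p) * x⁻¹ := by rw [ih]
      _ = (x * z ^ n) * p * x⁻¹ := by group
      _ = (z ^ n * x) * p * x⁻¹ := by rw [hzn x]
      _ = z ^ n * (x * p * x⁻¹) := by group
      _ = z ^ n * (z * p) := by rw [hxp]
      _ = z ^ (n + 1) * p := by rw [pow_succ]; group

/-- (A8) `x` acts fixed-point-freely on `P / Z` -/
theorem Setup.fpf (h : Setup P Z x)
    (hcen : ∀ z ∈ Z, ∀ g : G, g * z = z * g)
    (hnc : ¬ ∀ p ∈ P, x * p = p * x)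
    (hinv : ∀ K : Subgroup G, Z ≤ K → K ≤ P → (∀ k ∈ K, x * k * x⁻¹ ∈ K) → K = Z ∨ K = P) :
    ∀ p ∈ P, x * p * x⁻¹ * p⁻¹ ∈ Z → p ∈ Z := by
  have hnormP := h.normP
  -- the subgroup `S`
  let S : Subgroup G :=
    { carrier := {p | p ∈ P ∧ x * p * x⁻¹ * p⁻¹ ∈ Z}
      one_mem' := by
        refine ⟨P.one_mem, ?_⟩
        have : x * 1 * x⁻¹ * (1 : G)⁻¹ = 1 := by group
        rw [this]; exact Z.one_mem
      mul_mem' := by
        rintro p q ⟨hp, hpz⟩ ⟨hq, hqz⟩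
        refine ⟨P.mul_mem hp hq, ?_⟩
        have hq' := hcen _ hqz
        have : x * (p * q) * x⁻¹ * (p * q)⁻¹ =
            (x * p * x⁻¹) * (x * q * x⁻¹ * q⁻¹) * p⁻¹ := by group
        rw [this, mul_assoc (x * p * x⁻¹), ← hq' p⁻¹, ← mul_assoc, hq' (x * p * x⁻¹ * p⁻¹)]
        exact Z.mul_mem hqz hpz
      inv_mem' := by
        rintro p ⟨hp, hpz⟩
        refine ⟨P.inv_mem hp, ?_⟩
        have hp' := hcen _ hpz
        have : x * p⁻¹ * x⁻¹ * p⁻¹⁻¹ = p⁻¹ * (x * p * x⁻¹ * p⁻¹)⁻¹ * p := by group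
        rw [this, hcen _ (Z.inv_mem hpz) p⁻¹, mul_assoc, inv_mul_cancel, mul_one]
        exact Z.inv_mem hpz }
  have hS : ∀ p, p ∈ S ↔ p ∈ P ∧ x * p * x⁻¹ * p⁻¹ ∈ Z := fun p => Iff.rfl
  have hZS : Z ≤ S := by
    intro z hz
    rw [hS]
    refine ⟨h.Z_le hz, ?_⟩
    have : x * z * x⁻¹ * z⁻¹ = 1 := by
      rw [hcen z hz x]; group
    rw [this]; exact Z.one_mem
  have hSP : S ≤ P := fun p hp => ((hS p).mp hp).1
  have hSx : ∀ k ∈ S, x * k * x⁻¹ ∈ S := by
    intro k hk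
    obtain ⟨hkP, hkz⟩ := (hS k).mp hk
    rw [hS]
    refine ⟨hnormP.conj_mem k hkP x, ?_⟩
    have : x * (x * k * x⁻¹) * x⁻¹ * (x * k * x⁻¹)⁻¹ = x * (x * k * x⁻¹ * k⁻¹) * x⁻¹ := by group
    rw [this, hcen _ hkz x, mul_assoc, mul_inv_cancel, mul_one]
    exact hkz
  rcases hinv S hZS hSP hSx with hSZ | hSPeq
  · intro p hp hpz
    rw [← hSZ, hS]
    exact ⟨hp, hpz⟩
  · exfalso
    apply hnc
    intro p hp
    have hpS : p ∈ S := by rw [hSPeq]; exact hp
    obtain ⟨-, hpz⟩ := (hS p).mp hpS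
    set z := x * p * x⁻¹ * p⁻¹ with hzdef
    have hxp : x * p * x⁻¹ = z * p := by rw [hzdef]; group
    have h5 := A8_pow_conj x p z (hcen z hpz) hxp 5
    have hx5 : x ^ 5 = 1 := by rw [← h.ord_x]; exact pow_orderOf_eq_one x
    rw [hx5, one_mul, inv_one, mul_one] at h5
    have hz5 : z ^ 5 = 1 := by
      have h6 : z ^ 5 * p = 1 * p := by rw [one_mul]; exact h5.symm
      exact mul_right_cancel h6
    have hz2 : z * z = 1 := h.sq_Z z hpz
    have hz1 : z = 1 := by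
      calc z = z ^ 5 * ((z * z)⁻¹ * (z * z)⁻¹) := by group
        _ = 1 := by rw [hz5, hz2]; group
    rw [hz1, one_mul] at hxp
    calc x * p = (x * p * x⁻¹) * x := by group
      _ = p * x := by rw [hxp]

end Cfsg.Agent.Helper76.C320
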