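import Mathlib
import Cfsg.Agent.Helper42.GD.Core
import Cfsg.Agent.Helper93.Glaub_GB1b

/-!
# (REL3) of helper42's S4385 GD farm (#14513): the commutator relations for `t = 3`
-/

set_option autoImplicit false

universe u

namespace Cfsg.Agent.Helper76.GD

open Pointwise Cfsg Cfsg.Agent.Helper8.Sims3 Cfsg.Agent.Helper8.Glaub Cfsg.Agent.Helper42.GD

/-- powers of an involution -/
theorem REL3_pow_inv {G : Type*} [Group G] (g : G) (hg : g * g = 1) (i : ℕ) : g ^ i = 1 ∨ g ^ i = g := by
  rcases Nat.even_or_odd' i with ⟨q, hq | hq⟩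
  · left
    rw [hq, pow_mul, pow_two, hg, one_pow]
  · right
    rw [hq, pow_succ, pow_mul, pow_two, hg, one_pow, one_mul]

/-- the cyclic group generated by an involution -/
theorem REL3_zpowers_inv {G : Type*} [Group G] (g c : G) (hg : g * g = 1)
    (hc : c ∈ Subgroup.zpowers g) : c = 1 ∨ c = g := by
  obtain ⟨k, rfl⟩ := Subgroup.mem_zpowers_iff.mp hc
  have hginv : g⁻¹ = g := inv_eq_of_mul_eq_one_right hg
  rcases Int.eq_nat_or_neg k with ⟨n, rfl | rfl⟩
  · rw [zpow_natCast]
    exact REL3_pow_inv g hg n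
  · rw [zpow_neg, zpow_natCast, ← inv_pow, hginv]
    exact REL3_pow_inv g hg n

section tower

variable {G : Type*} [Group G] [Finite G] {H P : Subgroup G} {h : G} {x : ℤ → G}

/-- the commutator of `x a` and `x (a + 2)` is `x (a + 1)` -/
theorem REL3_step (T : Tow H P h 3 x) (a : ℤ) :
    x a * x (a + 2) * x a * x (a + 2) = x (a + 1) := by
  have hmem := Cfsg.Agent.Helper93.Glaub.ptower_comm_mem Nat.prime_two T.pt a 1 (by norm_num)
    (x a) (x (a + 2)) (Subgroup.mem_zpowers _)
    (by
      have e : a + ((1 + 1 : ℕ) : ℤ) = a + 2 := by norm_num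
      rw [e]
      exact Subgroup.mem_zpowers _)
  rw [U_one, T.inv (by norm_num), T.inv (by norm_num)] at hmem
  rcases REL3_zpowers_inv _ _ (T.sq (by norm_num) (a + 1)) hmem with h1 | h1
  · exfalso
    have hn := T.lam_three.ncomm a
    apply hn
    have e : a + ((2 : ℕ) : ℤ) = a + 2 := by norm_num
    rw [e]
    -- `x a * x (a+2) * x a * x (a+2) = 1` gives commutation
    have h2 : x a * x (a + 2) = (x (a + 2))⁻¹ * (x a)⁻¹ := by
      have : x a * x (a + 2) * (x a * x (a + 2)) = 1 := by
        rw [← h1]; group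
      exact eq_inv_of_mul_eq_one_left this |>.trans (mul_inv_rev _ _)
    rw [T.inv (by norm_num), T.inv (by norm_num)] at h2
    exact h2
  · exact h1

/-- (REL3) -/
theorem rel3 (T : Tow H P h 3 x) :
    x 0 * x 2 * x 0 * x 2 = x 1 ∧ x 1 * x 3 * x 1 * x 3 = x 2 := by
  refine ⟨?_, ?_⟩
  · have := REL3_step T 0
    simpa using this
  · have := REL3_step T 1
    norm_num at this
    exact this

end tower

end Cfsg.Agent.Helper76.GD
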