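import Mathlib
import Cfsg.Agent.Helper42.GD.Core
import Cfsg.Agent.Helper93.Glaub_GB1b
import Cfsg.Agent.Helper76.GD_REL3

/-!
# (REL4) of helper42's S4385 GD farm (#14513): the commutator relations for `t = 4`
-/

set_option autoImplicit false

universe u

namespace Cfsg.Agent.Helper76.GD

open Pointwise Cfsg Cfsg.Agent.Helper8.Sims3 Cfsg.Agent.Helper8.Glaub Cfsg.Agent.Helper42.GD

/-- the subgroup `{a^i b^j}` for commuting involutions `a`, `b` -/
def REL4_sub {G : Type*} [Group G] (a b : G) (ha : a * a = 1) (hb : b * b = 1) (hab : Commute a b) :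
    Subgroup G where
  carrier := {c | ∃ i j : ℕ, c = a ^ i * b ^ j}
  one_mem' := ⟨0, 0, by simp⟩
  mul_mem' := by
    rintro _ _ ⟨i, j, rfl⟩ ⟨k, l, rfl⟩
    refine ⟨i + k, j + l, ?_⟩
    have hc : b ^ j * a ^ k = a ^ k * b ^ j := ((hab.pow_pow k j).eq).symm
    calc a ^ i * b ^ j * (a ^ k * b ^ l) = a ^ i * (b ^ j * a ^ k) * b ^ l := by group
      _ = a ^ i * (a ^ k * b ^ j) * b ^ l := by rw [hc]
      _ = a ^ (i + k) * b ^ (j + l) := by rw [pow_add, pow_add]; group
  inv_mem' := by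
    rintro _ ⟨i, j, rfl⟩
    refine ⟨i, j, ?_⟩
    have hainv : a⁻¹ = a := inv_eq_of_mul_eq_one_right ha
    have hbinv : b⁻¹ = b := inv_eq_of_mul_eq_one_right hb
    rw [mul_inv_rev, ← inv_pow, ← inv_pow, hainv, hbinv]
    exact ((hab.pow_pow i j).eq).symm

/-- the group generated by two commuting involutions -/
theorem REL4_klein {G : Type*} [Group G] (a b c : G) (ha : a * a = 1) (hb : b * b = 1)
    (hab : Commute a b) (hc : c ∈ Subgroup.zpowers a ⊔ Subgroup.zpowers b) :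
    c = 1 ∨ c = a ∨ c = b ∨ c = a * b := by
  have hle : Subgroup.zpowers a ⊔ Subgroup.zpowers b ≤ REL4_sub a b ha hb hab := by
    refine sup_le ?_ ?_
    · rw [Subgroup.zpowers_le]
      exact ⟨1, 0, by simp⟩
    · rw [Subgroup.zpowers_le]
      exact ⟨0, 1, by simp⟩
  obtain ⟨i, j, rfl⟩ := hle hc
  rcases REL3_pow_inv a ha i with h1 | h1 <;> rcases REL3_pow_inv b hb j with h2 | h2 <;>
    rw [h1, h2]
  · left; simp
  · right; right; left; simp
  · right; left; simp
  · right; right; right; rfl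

section tower

variable {G : Type*} [Group G] [Finite G] {H P : Subgroup G} {h : G} {x : ℤ → G}

/-- conjugation by `h` shifts words in the `x k` -/
theorem REL4_shift4 (T : Tow H P h 4 x) (a b : ℤ) :
    x (a + 1) * x (b + 1) * x (a + 1) * x (b + 1) = h * (x a * x b * x a * x b) * h⁻¹ := by
  rw [T.shift a, T.shift b]
  group

/-- (REL4) -/
theorem rel4 (T : Tow H P h 4 x) :
    (x 0 * x 3 * x 0 * x 3 = x 1 ∧ x 1 * x 4 * x 1 * x 4 = x 2) ∨
    (x 0 * x 3 * x 0 * x 3 = x 2 ∧ x 1 * x 4 * x 1 * x 4 = x 3) ∨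
    (x 0 * x 3 * x 0 * x 3 = x 1 * x 2 ∧ x 1 * x 4 * x 1 * x 4 = x 2 * x 3) := by
  have hmem := Cfsg.Agent.Helper93.Glaub.ptower_comm_mem Nat.prime_two T.pt 0 2 (by norm_num)
    (x 0) (x 3) (Subgroup.mem_zpowers _)
    (by
      have e : (0 : ℤ) + ((2 + 1 : ℕ) : ℤ) = 3 := by norm_num
      rw [e]
      exact Subgroup.mem_zpowers _)
  rw [T.inv (by norm_num), T.inv (by norm_num)] at hmem
  have hU : U x ((0 : ℤ) + 1) 2 = Subgroup.zpowers (x 1) ⊔ Subgroup.zpowers (x 2) := by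
    rw [show (2 : ℕ) = 1 + 1 from rfl, U_succ, U_one]
    norm_num
  rw [hU] at hmem
  have h12 : Commute (x 1) (x 2) := by
    have := T.lam_four.comm 1 1 (by norm_num)
    norm_num at this
    exact this
  have hsh : x 1 * x 4 * x 1 * x 4 = h * (x 0 * x 3 * x 0 * x 3) * h⁻¹ := by
    have := REL4_shift4 T 0 3
    norm_num at this
    exact this
  have hx2 : x 2 = h * x 1 * h⁻¹ := by
    have := T.shift 1
    norm_num at this
    exact this
  have hx3 : x 3 = h * x 2 * h⁻¹ := by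
    have := T.shift 2
    norm_num at this
    exact this
  rcases REL4_klein _ _ _ (T.sq (by norm_num) 1) (T.sq (by norm_num) 2) h12 hmem with h1 | h1 | h1 | h1
  · exfalso
    have hn := T.lam_four.ncomm 0
    apply hn
    have e : (0 : ℤ) + ((3 : ℕ) : ℤ) = 3 := by norm_num
    rw [e]
    have h2 : x 0 * x 3 = (x 3)⁻¹ * (x 0)⁻¹ := by
      have : x 0 * x 3 * (x 0 * x 3) = 1 := by
        rw [← h1]; group
      exact eq_inv_of_mul_eq_one_left this |>.trans (mul_inv_rev _ _)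
    rw [T.inv (by norm_num), T.inv (by norm_num)] at h2
    exact h2
  · left
    refine ⟨h1, ?_⟩
    rw [hsh, h1, ← hx2]
  · right; left
    refine ⟨h1, ?_⟩
    rw [hsh, h1, ← hx3]
  · right; right
    refine ⟨h1, ?_⟩
    rw [hsh, h1, hx3, hx2]
    group

end tower

end Cfsg.Agent.Helper76.GD
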