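import Mathlib

/-!
# (PM1) for S2362 (helper99): sign of a permutation all of whose non-trivial cycles have the
same even length
-/

set_option autoImplicit false

namespace Cfsg.Agent.Helper76.BC

/-- the minimal period of a moved point is the length of its cycle -/
theorem minimalPeriod_eq_card_support_cycleOf {X : Type*} [Fintype X] [DecidableEq X]
    (σ : Equiv.Perm X) (x : X) (hx : σ x ≠ x) :
    Function.minimalPeriod σ x = (σ.cycleOf x).support.card := by
  have hc := Equiv.Perm.isCycle_cycleOf σ hx
  rw [← hc.orderOf]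
  apply Nat.dvd_antisymm
  · rw [← Function.isPeriodicPt_iff_minimalPeriod_dvd]
    show σ^[orderOf (σ.cycleOf x)] x = x
    rw [Equiv.Perm.iterate_eq_pow, ← Equiv.Perm.cycleOf_pow_apply_self, pow_orderOf_eq_one]
    rfl
  · apply orderOf_dvd_of_pow_eq_one
    have hx' : σ.cycleOf x x ≠ x := by rwa [Equiv.Perm.cycleOf_apply_self]
    rw [hc.pow_eq_one_iff' hx', Equiv.Perm.cycleOf_pow_apply_self, ← Equiv.Perm.iterate_eq_pow]
    exact Function.isPeriodicPt_minimalPeriod σ x

/-- (PM1) a permutation all of whose non-trivial cycles have the same even length `M` -/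
theorem sign_of_uniform_period {X : Type*} [Fintype X] [DecidableEq X] (σ : Equiv.Perm X) (M : ℕ)
    (hM : Even M) (hM0 : 0 < M)
    (h : ∀ x, σ x ≠ x → Function.minimalPeriod σ x = M) :
    ∃ K : ℕ, K * M + Fintype.card {x : X // σ x = x} = Fintype.card X ∧
      Equiv.Perm.sign σ = (-1) ^ K := by
  have hall : ∀ n ∈ σ.cycleType, n = M := by
    intro n hn
    rw [Equiv.Perm.cycleType_def, Multiset.mem_map] at hn
    obtain ⟨c, hc, rfl⟩ := hn
    have hc' : c ∈ σ.cycleFactorsFinset := hc
    obtain ⟨hcyc, hcσ⟩ := Equiv.Perm.mem_cycleFactorsFinset_iff.mp hc'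
    obtain ⟨x, hx, -⟩ := hcyc
    have hxs : x ∈ c.support := Equiv.Perm.mem_support.mpr hx
    have hσx : σ x ≠ x := by rw [← hcσ x hxs]; exact hx
    have hceq : c = σ.cycleOf x := Equiv.Perm.cycle_is_cycleOf hxs hc'
    show c.support.card = M
    rw [hceq, ← minimalPeriod_eq_card_support_cycleOf σ x hσx, h x hσx]
  have hrep := Multiset.eq_replicate_card.mpr hall
  have hsum : σ.cycleType.sum = Multiset.card σ.cycleType * M := by
    conv_lhs => rw [hrep]
    rw [Multiset.sum_replicate, smul_eq_mul]
  refine ⟨Multiset.card σ.cycleType, ?_, ?_⟩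
  · rw [← hsum, Equiv.Perm.sum_cycleType, Fintype.card_subtype, ← Finset.card_univ (α := X)]
    have hsupp : σ.support = Finset.univ.filter (fun x => ¬ σ x = x) := by
      ext x; simp [Equiv.Perm.mem_support]
    rw [hsupp, add_comm]
    exact Finset.card_filter_add_card_filter_not (s := Finset.univ) (fun x => σ x = x)
  · rw [Equiv.Perm.sign_of_cycleType, hsum, pow_add, mul_comm _ M, pow_mul, Even.neg_one_pow hM,
      one_pow, one_mul]

end Cfsg.Agent.Helper76.BC
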