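import Mathlib

/-!
Piece (F3) of helper6's architecture for S2347: every complex additive character of a finite
field is a multiplicative shift of a fixed non-trivial one.
-/

set_option autoImplicit false

namespace Cfsg.Agent.Helper76.SPrep

variable {F : Type*} [Field F] [Fintype F]

/-- (F3) every character is a multiplicative shift of a non-trivial one -/
theorem exists_eq_mulShift (ψ₀ : AddChar F ℂ) (hψ₀ : ψ₀ ≠ 0) (ψ : AddChar F ℂ) :
    ∃ β : F, ∀ c, ψ c = ψ₀ (β * c) := by
  have hprim : ψ₀.IsPrimitive :=
    AddChar.IsPrimitive.of_ne_one (by rwa [AddChar.one_eq_zero])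
  have hinj : Function.Injective ψ₀.mulShift := AddChar.to_mulShift_inj_of_isPrimitive hprim
  have hbij : Function.Bijective ψ₀.mulShift := by
    rw [Fintype.bijective_iff_injective_and_card]
    exact ⟨hinj, AddChar.card_eq.symm⟩
  obtain ⟨β, hβ⟩ := hbij.2 ψ
  exact ⟨β, fun c => by rw [← hβ, AddChar.mulShift_apply]⟩

end Cfsg.Agent.Helper76.SPrep
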