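import Mathlib

/-!
# Weisner's theorem, interval form (helper76 for helper42, piece (W) of S2425)
-/

set_option autoImplicit false

namespace Cfsg.Agent.Helper76.StW

open Finset

theorem weisner_Icc {L : Type*} [Lattice L] [LocallyFiniteOrder L] [DecidableEq L] {a b s : L}
    (has : a < s) (hsb : s ≤ b) :
    ∑ x ∈ (Icc a b).filter (fun x => x ⊔ s = b), IncidenceAlgebra.mu ℤ a x = 0 := by
  classical
  rw [Finset.sum_filter]
  -- replace the indicator by a sum of Möbius values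
  have h1 : ∀ x ∈ Icc a b, (if x ⊔ s = b then IncidenceAlgebra.mu ℤ a x else 0) =
      ∑ z ∈ Icc s b, if x ≤ z then IncidenceAlgebra.mu ℤ a x * IncidenceAlgebra.mu ℤ z b else 0 := by
    intro x hx
    have hxb : x ≤ b := (mem_Icc.1 hx).2
    have h2 : (if x ⊔ s = b then (1 : ℤ) else 0) = ∑ z ∈ Icc (x ⊔ s) b, IncidenceAlgebra.mu ℤ z b :=
      (IncidenceAlgebra.sum_Icc_mu_left (𝕜 := ℤ) (x ⊔ s) b).symm
    have h3 : (if x ⊔ s = b then IncidenceAlgebra.mu ℤ a x else 0) =
        IncidenceAlgebra.mu ℤ a x * (if x ⊔ s = b then (1 : ℤ) else 0) := by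
      split_ifs <;> simp
    rw [h3, h2, Finset.mul_sum, ← Finset.sum_filter]
    refine Finset.sum_congr ?_ (fun _ _ => rfl)
    ext z
    simp only [mem_Icc, mem_filter, sup_le_iff]
    tauto
  rw [Finset.sum_congr rfl h1, Finset.sum_comm]
  refine Finset.sum_eq_zero (fun z hz => ?_)
  have hsz : s ≤ z := (mem_Icc.1 hz).1
  have hzb : z ≤ b := (mem_Icc.1 hz).2
  rw [← Finset.sum_filter]
  have h4 : (Icc a b).filter (fun x => x ≤ z) = Icc a z := by
    ext x
    simp only [mem_Icc, mem_filter]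
    constructor
    · rintro ⟨⟨h5, _⟩, h6⟩; exact ⟨h5, h6⟩
    · rintro ⟨h5, h6⟩; exact ⟨⟨h5, h6.trans hzb⟩, h6⟩
  rw [h4, ← Finset.sum_mul, IncidenceAlgebra.sum_Icc_mu_right, if_neg, zero_mul]
  exact fun h => absurd (h ▸ hsz) (not_le_of_gt has)

end Cfsg.Agent.Helper76.StW
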