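import Mathlib
import Cfsg.Agent.Helper43.Cov2.P7Defs
import Cfsg.Agent.Helper69.Cov2P7Q2
import Cfsg.Agent.Helper13.SympTrans

/-!
# (Q1d) `quad_split` of helper43's sub-farm #12613 (S2500 part 7)

`s, u ∈ Sp₆(F)` commuting, `s² - γ s + 1 = 0` with `X² - γX + 1 = (X - l)(X - l⁻¹)`, `l ≠ l⁻¹`,
`N = u - 1` nilpotent with `ker N ⊆ Im N`: then `N³ = 0` and the family `u^i x, u^i s x` is a basis for
some `x`.  The two eigenspaces of `s` are totally isotropic, hence of dimension 3, `N` is regular nilpotent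
on both (plan of helper73, #12692).
-/

set_option autoImplicit false
set_option linter.unusedSectionVars false
set_option linter.unusedVariables false
set_option linter.deprecated false

namespace Cfsg.Agent.Helper76.Cov2.P7

open Module

section abs

variable {F V : Type*} [Field F] [AddCommGroup V] [Module F V]

/-- independence of `x, N x, N² x` when `N³ x = 0 ≠ N² x` -/
theorem q1d_indep3 (N : End F V) (x : V) (h3 : N (N (N x)) = 0) (h2 : N (N x) ≠ 0) (a b c : F)
    (h : a • x + b • N x + c • N (N x) = 0) : a = 0 ∧ b = 0 ∧ c = 0 := by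
  have ha : a = 0 := by
    have h' := congrArg (fun v => N (N v)) h
    simp only [map_add, map_smul, h3, map_zero, smul_zero, add_zero] at h'
    exact (smul_eq_zero.mp h').resolve_right h2
  subst ha
  have hb : b = 0 := by
    have h' := congrArg (fun v => N v) h
    simp only [map_add, map_smul, h3, map_zero, smul_zero, add_zero, zero_smul, zero_add] at h'
    exact (smul_eq_zero.mp h').resolve_right h2
  subst hb
  refine ⟨rfl, rfl, ?_⟩
  rw [zero_smul, zero_smul, zero_add, zero_add] at h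
  exact (smul_eq_zero.mp h).resolve_right h2

/-- independence of `x, U x, U² x` for `U = 1 + N` -/
theorem q1d_indepU (N : End F V) (x : V) (h3 : N (N (N x)) = 0) (h2 : N (N x) ≠ 0) (c0 c1 c2 : F)
    (h : c0 • x + c1 • (x + N x) + c2 • (x + N x + (N x + N (N x))) = 0) :
    c0 = 0 ∧ c1 = 0 ∧ c2 = 0 := by
  have h' : (c0 + c1 + c2) • x + (c1 + c2 + c2) • N x + c2 • N (N x) = 0 := by
    rw [← h]
    module
  obtain ⟨e0, e1, e2⟩ := q1d_indep3 N x h3 h2 _ _ _ h'
  subst e2
  have e1' : c1 = 0 := by simpa using e1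
  subst e1'
  have e0' : c0 = 0 := by simpa using e0
  exact ⟨e0', rfl, rfl⟩

/-- `l² ≠ 1` -/
theorem q1d_sq_ne_one {l m : F} (hlm : l * m = 1) (hne : l ≠ m) : l * l ≠ 1 := by
  intro h
  have h1 : l * (l - m) = 0 := by rw [mul_sub, h, hlm, sub_self]
  rcases mul_eq_zero.mp h1 with h0 | h0
  · rw [h0, zero_mul] at hlm
    exact zero_ne_one hlm
  · exact hne (sub_eq_zero.mp h0)

/-- the eigenspaces of an isometry for an eigenvalue `l` with `l² ≠ 1` are totally isotropic -/
theorem q1d_isotropic (B : LinearMap.BilinForm F V) (S : End F V)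
    (hSB : ∀ x y, B (S x) (S y) = B x y) {l : F} (hl : l * l ≠ 1) {x y : V}
    (hx : S x = l • x) (hy : S y = l • y) : B x y = 0 := by
  have h := hSB x y
  rw [hx, hy, map_smul, map_smul, LinearMap.smul_apply, smul_eq_mul, smul_eq_mul, ← mul_assoc] at h
  have h1 : (l * l - 1) * B x y = 0 := by rw [sub_mul, one_mul, h, sub_self]
  rcases mul_eq_zero.mp h1 with h0 | h0
  · exact absurd (sub_eq_zero.mp h0) hl
  · exact h0

/-- the projection to the `l`-eigenspace (unnormalised) -/
theorem q1d_proj_mem (S : End F V) {l m : F} (hlm : l * m = 1)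
    (hS : ∀ x, S (S x) = (l + m) • S x - x) (x : V) : S (S x - m • x) = l • (S x - m • x) := by
  rw [map_sub, map_smul, hS, smul_sub, smul_smul, hlm, one_smul]
  module

variable [FiniteDimensional F V]

/-- a nilpotent endomorphism of a 3-space with `ker N ≤ range N` is regular -/
theorem q1d_nil3 (hdim : finrank F V = 3) (N : End F V) (h6 : N ^ 6 = 0)
    (hker : ∀ x, N x = 0 → ∃ z, x = N z) : N ^ 3 = 0 ∧ ∃ x, N (N x) ≠ 0 := by
  have h3 : N ^ 3 = 0 := by
    have h := Module.End.ker_pow_eq_ker_pow_finrank_of_le (f := N) (m := 6) (by rw [hdim]; norm_num)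
    rw [hdim, h6, LinearMap.ker_zero] at h
    exact LinearMap.ker_eq_top.mp h.symm
  refine ⟨h3, ?_⟩
  by_contra hcon
  push Not at hcon
  have h1 : LinearMap.range N = LinearMap.ker N := by
    apply le_antisymm
    · rintro _ ⟨y, rfl⟩
      exact hcon y
    · intro x hx
      obtain ⟨z, hz⟩ := hker x hx
      exact ⟨z, hz.symm⟩
  have h2 := LinearMap.finrank_range_add_finrank_ker N
  rw [h1, hdim] at h2
  omega

/-- totally isotropic eigenspaces have dimension at most half -/
theorem q1d_finrank_le (B : LinearMap.BilinForm F V) (hB : B.Nondegenerate) (hdim : finrank F V = 6)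
    (S : End F V) (hSB : ∀ x y, B (S x) (S y) = B x y) {l : F} (hl : l * l ≠ 1) :
    finrank F (End.eigenspace S l) ≤ 3 := by
  have h1 : End.eigenspace S l ≤ B.orthogonal (End.eigenspace S l) := by
    intro y hy
    rw [LinearMap.BilinForm.mem_orthogonal_iff]
    intro x hx
    exact q1d_isotropic B S hSB hl (End.mem_eigenspace_iff.mp hx) (End.mem_eigenspace_iff.mp hy)
  have h2 := Submodule.finrank_mono h1
  have h3 := LinearMap.BilinForm.finrank_orthogonal hB (End.eigenspace S l)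
  have h4 := Submodule.finrank_le (End.eigenspace S l)
  rw [h3, hdim] at h2
  omega

/-- the two eigenspaces are complementary -/
theorem q1d_isCompl (S : End F V) {l m : F} (hlm : l * m = 1) (hne : l ≠ m)
    (hS : ∀ x, S (S x) = (l + m) • S x - x) :
    IsCompl (End.eigenspace S l) (End.eigenspace S m) := by
  have hlm' : l - m ≠ 0 := sub_ne_zero.mpr hne
  constructor
  · rw [Submodule.disjoint_def]
    intro x hx hx'
    rw [End.mem_eigenspace_iff] at hx hx'
    have h1 : (l - m) • x = 0 := by rw [sub_smul, ← hx, ← hx', sub_self]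
    exact (smul_eq_zero.mp h1).resolve_left hlm'
  · rw [Submodule.codisjoint_iff_exists_add_eq]
    intro z
    refine ⟨(l - m)⁻¹ • (S z - m • z), (m - l)⁻¹ • (S z - l • z), ?_, ?_, ?_⟩
    · apply Submodule.smul_mem
      rw [End.mem_eigenspace_iff]
      exact q1d_proj_mem S hlm hS z
    · apply Submodule.smul_mem
      rw [End.mem_eigenspace_iff]
      exact q1d_proj_mem S (by rw [mul_comm]; exact hlm) (by intro x; rw [add_comm]; exact hS x) z
    · have h2 : (m - l)⁻¹ = -(l - m)⁻¹ := by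
        rw [← neg_sub l m, inv_neg]
      rw [h2]
      have h3 : (l - m)⁻¹ • (S z - m • z) + -(l - m)⁻¹ • (S z - l • z) =
          ((l - m)⁻¹ * (l - m)) • z := by module
      rw [h3, inv_mul_cancel₀ hlm', one_smul]

/-- on a 3-dimensional eigenspace `N` is regular nilpotent -/
theorem q1d_eig_nil (S N : End F V) (hSN : ∀ x, S (N x) = N (S x)) {l m : F} (hlm : l * m = 1)
    (hne : l ≠ m) (hS : ∀ x, S (S x) = (l + m) • S x - x) (h6 : N ^ 6 = 0)
    (hker : ∀ x, N x = 0 → ∃ z, x = N z) (hW : finrank F (End.eigenspace S l) = 3) :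
    (∀ w, S w = l • w → N (N (N w)) = 0) ∧ ∃ x, S x = l • x ∧ N (N x) ≠ 0 := by
  have hlm' : l - m ≠ 0 := sub_ne_zero.mpr hne
  have hNW : ∀ x ∈ End.eigenspace S l, N x ∈ End.eigenspace S l := by
    intro x hx
    rw [End.mem_eigenspace_iff] at hx ⊢
    rw [hSN, hx, map_smul]
  have h6W : (N.restrict hNW) ^ 6 = 0 := by
    rw [Module.End.pow_restrict 6 hNW]
    ext w
    simp [h6]
  have hkerW : ∀ w : End.eigenspace S l, (N.restrict hNW) w = 0 → ∃ z, w = (N.restrict hNW) z := by
    intro w hw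
    have hw' : N w.1 = 0 := by
      have := congrArg Subtype.val hw
      simpa using this
    obtain ⟨z, hz⟩ := hker w.1 hw'
    have hwe : S w.1 = l • w.1 := End.mem_eigenspace_iff.mp w.2
    refine ⟨⟨(l - m)⁻¹ • (S z - m • z), ?_⟩, ?_⟩
    · apply Submodule.smul_mem
      rw [End.mem_eigenspace_iff]
      exact q1d_proj_mem S hlm hS z
    · apply Subtype.ext
      rw [LinearMap.restrict_coe_apply]
      show w.1 = N ((l - m)⁻¹ • (S z - m • z))
      rw [map_smul, map_sub, map_smul, ← hSN, ← hz, hwe, ← sub_smul, smul_smul, inv_mul_cancel₀ hlm',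
        one_smul]
  obtain ⟨h3, x, hx⟩ := q1d_nil3 hW (N.restrict hNW) h6W hkerW
  refine ⟨?_, x.1, End.mem_eigenspace_iff.mp x.2, ?_⟩
  · intro w hw
    have h := LinearMap.congr_fun h3 ⟨w, End.mem_eigenspace_iff.mpr hw⟩
    have h' := congrArg Subtype.val h
    simpa [pow_succ, Module.End.mul_apply] using h'
  · intro h0
    apply hx
    apply Subtype.ext
    simpa using h0

/-- the abstract form of (Q1d) -/
theorem q1d_abs (B : LinearMap.BilinForm F V) (hB : B.Nondegenerate) (hdim : finrank F V = 6)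
    (S N : End F V) (hSB : ∀ x y, B (S x) (S y) = B x y) (hSN : ∀ x, S (N x) = N (S x)) (l m : F)
    (hlm : l * m = 1) (hne : l ≠ m) (hS : ∀ x, S (S x) = (l + m) • S x - x) (h6 : N ^ 6 = 0)
    (hker : ∀ x, N x = 0 → ∃ z, x = N z) :
    (∀ v, N (N (N v)) = 0) ∧ ∃ x : V, ∀ g : Fin 3 × Fin 2 → F,
      (g (0, 0) • x + g (0, 1) • S x) + (g (1, 0) • (x + N x) + g (1, 1) • (S x + N (S x))) +
        (g (2, 0) • (x + N x + (N x + N (N x))) +
          g (2, 1) • (S x + N (S x) + (N (S x) + N (N (S x))))) = 0 → ∀ p, g p = 0 := by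
  have hml : m * l = 1 := by rw [mul_comm]; exact hlm
  have hS' : ∀ x, S (S x) = (m + l) • S x - x := by intro x; rw [add_comm]; exact hS x
  have hl2 := q1d_sq_ne_one hlm hne
  have hm2 := q1d_sq_ne_one hml hne.symm
  have hcompl := q1d_isCompl S hlm hne hS
  have hsum := Submodule.finrank_add_eq_of_isCompl hcompl
  have hle1 := q1d_finrank_le B hB hdim S hSB hl2
  have hle2 := q1d_finrank_le B hB hdim S hSB hm2
  have hW1 : finrank F (End.eigenspace S l) = 3 := by omega
  have hW2 : finrank F (End.eigenspace S m) = 3 := by omega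
  obtain ⟨hn1, x1, hx1, hx1'⟩ := q1d_eig_nil S N hSN hlm hne hS h6 hker hW1
  obtain ⟨hn2, x2, hx2, hx2'⟩ := q1d_eig_nil S N hSN hml hne.symm hS' h6 hker hW2
  have hN1 : S (N x1) = l • N x1 := by rw [hSN, hx1, map_smul]
  have hNN1 : S (N (N x1)) = l • N (N x1) := by rw [hSN, hN1, map_smul]
  have hN2 : S (N x2) = m • N x2 := by rw [hSN, hx2, map_smul]
  have hNN2 : S (N (N x2)) = m • N (N x2) := by rw [hSN, hN2, map_smul]
  refine ⟨?_, x1 + x2, ?_⟩
  · intro v
    obtain ⟨p, q, hp, hq, rfl⟩ := Submodule.codisjoint_iff_exists_add_eq.mp hcompl.codisjoint v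
    rw [map_add, map_add, map_add, hn1 p (End.mem_eigenspace_iff.mp hp),
      hn2 q (End.mem_eigenspace_iff.mp hq), add_zero]
  · intro g hg
    have hSx : S (x1 + x2) = l • x1 + m • x2 := by rw [map_add, hx1, hx2]
    obtain ⟨T1, hT1⟩ : ∃ T1 : V, T1 = (g (0, 0) + l * g (0, 1)) • x1 +
        (g (1, 0) + l * g (1, 1)) • (x1 + N x1) +
        (g (2, 0) + l * g (2, 1)) • (x1 + N x1 + (N x1 + N (N x1))) := ⟨_, rfl⟩
    obtain ⟨T2, hT2⟩ : ∃ T2 : V, T2 = (g (0, 0) + m * g (0, 1)) • x2 +
        (g (1, 0) + m * g (1, 1)) • (x2 + N x2) +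
        (g (2, 0) + m * g (2, 1)) • (x2 + N x2 + (N x2 + N (N x2))) := ⟨_, rfl⟩
    have hT : T1 + T2 = 0 := by
      rw [← hg, hSx, hT1, hT2]
      simp only [map_add, map_smul]
      module
    have hm1 : T1 ∈ End.eigenspace S l := by
      have a1 : x1 ∈ End.eigenspace S l := End.mem_eigenspace_iff.mpr hx1
      have a2 : N x1 ∈ End.eigenspace S l := End.mem_eigenspace_iff.mpr hN1
      have a3 : N (N x1) ∈ End.eigenspace S l := End.mem_eigenspace_iff.mpr hNN1
      rw [hT1]
      exact Submodule.add_mem _ (Submodule.add_mem _ (Submodule.smul_mem _ _ a1)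
        (Submodule.smul_mem _ _ (Submodule.add_mem _ a1 a2)))
        (Submodule.smul_mem _ _ (Submodule.add_mem _ (Submodule.add_mem _ a1 a2)
          (Submodule.add_mem _ a2 a3)))
    have hm2' : T2 ∈ End.eigenspace S m := by
      have a1 : x2 ∈ End.eigenspace S m := End.mem_eigenspace_iff.mpr hx2
      have a2 : N x2 ∈ End.eigenspace S m := End.mem_eigenspace_iff.mpr hN2
      have a3 : N (N x2) ∈ End.eigenspace S m := End.mem_eigenspace_iff.mpr hNN2
      rw [hT2]
      exact Submodule.add_mem _ (Submodule.add_mem _ (Submodule.smul_mem _ _ a1)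
        (Submodule.smul_mem _ _ (Submodule.add_mem _ a1 a2)))
        (Submodule.smul_mem _ _ (Submodule.add_mem _ (Submodule.add_mem _ a1 a2)
          (Submodule.add_mem _ a2 a3)))
    have hT10 : T1 = 0 := by
      have h1 : T1 ∈ End.eigenspace S m := by
        have : T1 = -T2 := eq_neg_of_add_eq_zero_left hT
        rw [this]
        exact Submodule.neg_mem _ hm2'
      exact (Submodule.disjoint_def.mp hcompl.disjoint) T1 hm1 h1
    have hT20 : T2 = 0 := by rw [hT10, zero_add] at hT; exact hT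
    rw [hT1] at hT10
    rw [hT2] at hT20
    obtain ⟨c0, c1, c2⟩ := q1d_indepU N x1 (hn1 x1 hx1) hx1' _ _ _ hT10
    obtain ⟨d0, d1, d2⟩ := q1d_indepU N x2 (hn2 x2 hx2) hx2' _ _ _ hT20
    have hlm' : l - m ≠ 0 := sub_ne_zero.mpr hne
    have key : ∀ a b : F, a + l * b = 0 → a + m * b = 0 → a = 0 ∧ b = 0 := by
      intro a b h1 h2
      have h3 : (l - m) * b = 0 := by linear_combination h1 - h2
      have hb : b = 0 := (mul_eq_zero.mp h3).resolve_left hlm'
      rw [hb, mul_zero, add_zero] at h1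
      exact ⟨h1, hb⟩
    obtain ⟨e00, e01⟩ := key _ _ c0 d0
    obtain ⟨e10, e11⟩ := key _ _ c1 d1
    obtain ⟨e20, e21⟩ := key _ _ c2 d2
    rintro ⟨i, j⟩
    fin_cases i <;> fin_cases j <;> assumption

end abs

section concrete

open Matrix Cfsg.Agent.Helper43.Cov2.P7 Cfsg.Agent.Helper13
open Cfsg.Agent.Helper69.Cov2.P7 (uFam sum_uFam)

variable {F : Type*} [Field F]

/-- the symplectic form as a bilinear form -/
noncomputable def q1d_B (F : Type*) [Field F] : LinearMap.BilinForm F (V6 F) :=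
  Matrix.toBilin' (Matrix.J (Fin 3) F)

theorem q1d_B_apply (x y : V6 F) : q1d_B F x y = Cfsg.sympForm 3 F x y := by
  unfold q1d_B
  rw [Matrix.toBilin'_apply']
  rfl

theorem q1d_B_nondeg : (q1d_B F).Nondegenerate := by
  constructor
  · intro x hx
    by_contra hne
    obtain ⟨y, hy⟩ := sympForm_nondeg_left (m := 3) hne
    apply hy
    rw [sympForm_swap, ← q1d_B_apply, hx, neg_zero]
  · intro y hy
    by_contra hne
    obtain ⟨x, hx⟩ := sympForm_nondeg_left (m := 3) hne
    apply hx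
    rw [← q1d_B_apply, hy]

theorem q1d_finrank : Module.finrank F (V6 F) = 6 := by
  rw [Module.finrank_fintype_fun_eq_card]
  simp

/-- (Q1d) the case `X² - γX + 1 = (X - l)(X - l⁻¹)`, `l ≠ l⁻¹`. -/
theorem quad_split (h2 : (2 : F) ≠ 0) (s u : Sp6 F) (hcomm : Commute s u) (γ : F)
    (hγ : γ ^ 2 ≠ 4) (hs : (s : M6 F) * (s : M6 F) - γ • (s : M6 F) + 1 = 0)
    (l : F) (hl : l * l - γ * l + 1 = 0)
    (h6 : ((u : M6 F) - 1) ^ 6 = 0)
    (hker : ∀ x : V6 F, ((u : M6 F) - 1) *ᵥ x = 0 → ∃ z : V6 F, x = ((u : M6 F) - 1) *ᵥ z) :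
    ((u : M6 F) - 1) ^ 3 = 0 ∧
      ∃ x : V6 F, LinearIndependent F (uFam (u : M6 F) (s : M6 F) x) := by
  obtain ⟨S, hSdef⟩ : ∃ S : Module.End F (V6 F), S = Matrix.toLinAlgEquiv' (s : M6 F) := ⟨_, rfl⟩
  obtain ⟨N, hNdef⟩ : ∃ N : Module.End F (V6 F), N = Matrix.toLinAlgEquiv' ((u : M6 F) - 1) :=
    ⟨_, rfl⟩
  have hSa : ∀ x, S x = (s : M6 F) *ᵥ x := by
    intro x
    rw [hSdef, Matrix.toLinAlgEquiv'_apply]
  have hNa : ∀ x, N x = ((u : M6 F) - 1) *ᵥ x := by
    intro x
    rw [hNdef, Matrix.toLinAlgEquiv'_apply]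
  have hNa' : ∀ x, N x = (u : M6 F) *ᵥ x - x := by
    intro x
    rw [hNa, Matrix.sub_mulVec, Matrix.one_mulVec]
  have hSB : ∀ x y, q1d_B F (S x) (S y) = q1d_B F x y := by
    intro x y
    rw [q1d_B_apply, q1d_B_apply, hSa, hSa]
    exact (mem_symplecticGroup_iff_preserves (s : M6 F)).mp s.2 x y
  have hsu : (s : M6 F) * (u : M6 F) = (u : M6 F) * (s : M6 F) := by
    have h := hcomm.eq
    have h' := congrArg (fun g : Sp6 F => (g : M6 F)) h
    simpa [coe_mul_Sp6] using h'
  have hSN : ∀ x, S (N x) = N (S x) := by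
    intro x
    rw [hSa, hNa, hNa, hSa, Matrix.mulVec_mulVec, Matrix.mulVec_mulVec, mul_sub, sub_mul, hsu,
      mul_one, one_mul]
  have hlm : l * (γ - l) = 1 := by linear_combination (-1 : F) * hl
  have hne : l ≠ γ - l := by
    intro h
    apply hγ
    have hγ' : γ = 2 * l := by linear_combination -h
    have hl2 : l * l = 1 := by
      rw [hγ'] at hl
      linear_combination (-1 : F) * hl
    rw [hγ']
    linear_combination 4 * hl2
  have hS : ∀ x, S (S x) = (l + (γ - l)) • S x - x := by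
    intro x
    have h := congrArg (fun M : M6 F => M *ᵥ x) hs
    simp only [Matrix.add_mulVec, Matrix.sub_mulVec, Matrix.smul_mulVec, Matrix.one_mulVec,
      Matrix.zero_mulVec, ← Matrix.mulVec_mulVec] at h
    rw [hSa, hSa, add_sub_cancel]
    rw [sub_add_eq_add_sub, sub_eq_zero] at h
    rw [← h]
    abel
  have h6' : N ^ 6 = 0 := by rw [hNdef, ← map_pow, h6, map_zero]
  have hker' : ∀ x, N x = 0 → ∃ z, x = N z := by
    intro x hx
    rw [hNa] at hx
    obtain ⟨z, hz⟩ := hker x hx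
    exact ⟨z, by rw [hNa]; exact hz⟩
  obtain ⟨h3, x, hx⟩ := q1d_abs (q1d_B F) q1d_B_nondeg q1d_finrank S N hSB hSN l (γ - l) hlm hne hS
    h6' hker'
  refine ⟨?_, x, ?_⟩
  · have h3' : N ^ 3 = 0 := by
      apply LinearMap.ext
      intro v
      simp only [pow_succ, pow_zero, one_mul, Module.End.mul_apply, LinearMap.zero_apply]
      exact h3 v
    rw [hNdef, ← map_pow] at h3'
    exact (map_eq_zero_iff _ (Matrix.toLinAlgEquiv' (R := F) (n := Fin 3 ⊕ Fin 3)).injective).mp h3'
  · rw [Fintype.linearIndependent_iff]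
    intro g hg
    rw [sum_uFam] at hg
    apply hx g
    have e1 : ∀ y : V6 F, y + N y = (u : M6 F) *ᵥ y := by
      intro y
      rw [hNa']
      abel
    have e2 : ∀ y : V6 F, y + N y + (N y + N (N y)) = (u : M6 F) *ᵥ ((u : M6 F) *ᵥ y) := by
      intro y
      rw [hNa' (N y), hNa' y, Matrix.mulVec_sub]
      abel
    rw [e2, e2, e1, e1, hSa, ← hg]
    abel

end concrete

end Cfsg.Agent.Helper76.Cov2.P7
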