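import Cfsg.Agent.Helper43.G2Vec

/-!
helper76: pieces (G2-C1), (G2-C2) of helper43's plan for S4632 (board #5933): involutions of
`SL₂(F)` and commutativity of centralizers of nonscalar `2 × 2` matrices.
-/

set_option autoImplicit false

namespace Cfsg.Agent.Helper76.G2S

open Cfsg.Agent.Helper43.G2S Matrix Cfsg.Lie

variable {F : Type*} [Field F]

/-- (G2-C1) -/
theorem sl2_involution (h2 : (2 : F) ≠ 0) (s : SL2 F) (hs : s * s = 1) : s = 1 ∨ s = -1 := by
  have hdet : s.1 0 0 * s.1 1 1 - s.1 0 1 * s.1 1 0 = 1 := by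
    have := s.2
    rwa [Matrix.det_fin_two] at this
  have hm : s.1 * s.1 = 1 := by
    have := congrArg (fun t : SL2 F => t.1) hs
    simpa using this
  have e00 : s.1 0 0 * s.1 0 0 + s.1 0 1 * s.1 1 0 = 1 := by
    have := congrFun (congrFun hm 0) 0
    simpa [Matrix.mul_apply, Fin.sum_univ_two] using this
  have e01 : s.1 0 0 * s.1 0 1 + s.1 0 1 * s.1 1 1 = 0 := by
    have := congrFun (congrFun hm 0) 1
    simpa [Matrix.mul_apply, Fin.sum_univ_two] using this
  have e10 : s.1 1 0 * s.1 0 0 + s.1 1 1 * s.1 1 0 = 0 := by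
    have := congrFun (congrFun hm 1) 0
    simpa [Matrix.mul_apply, Fin.sum_univ_two] using this
  have e11 : s.1 1 0 * s.1 0 1 + s.1 1 1 * s.1 1 1 = 1 := by
    have := congrFun (congrFun hm 1) 1
    simpa [Matrix.mul_apply, Fin.sum_univ_two] using this
  have htr : s.1 0 0 + s.1 1 1 ≠ 0 := by
    intro h
    apply h2
    have hd : s.1 1 1 = - s.1 0 0 := by linear_combination h
    rw [hd] at hdet
    linear_combination -e00 - hdet
  have hb : s.1 0 1 = 0 := by
    have : s.1 0 1 * (s.1 0 0 + s.1 1 1) = 0 := by linear_combination e01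
    exact (mul_eq_zero.mp this).resolve_right htr
  have hc : s.1 1 0 = 0 := by
    have : s.1 1 0 * (s.1 0 0 + s.1 1 1) = 0 := by linear_combination e10
    exact (mul_eq_zero.mp this).resolve_right htr
  rw [hb, hc] at e00 e11 hdet
  simp only [mul_zero, add_zero, zero_add, sub_zero] at e00 e11 hdet
  rcases mul_self_eq_one_iff.mp e00 with ha | ha
  · left
    have hd : s.1 1 1 = 1 := by rw [ha, one_mul] at hdet; exact hdet
    apply Subtype.ext
    ext i j
    fin_cases i <;> fin_cases j <;> simp [ha, hb, hc, hd]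
  · right
    have hd : s.1 1 1 = -1 := by rw [ha] at hdet; linear_combination -hdet
    apply Subtype.ext
    ext i j
    fin_cases i <;> fin_cases j <;> simp [ha, hb, hc, hd]

/-- a matrix commuting with a nonscalar `2 × 2` matrix `x` has the same "direction" as `x` -/
theorem exists_scalar_of_comm (x a : Matrix (Fin 2) (Fin 2) F)
    (hcase : x 0 1 ≠ 0 ∨ x 1 0 ≠ 0 ∨ x 0 0 - x 1 1 ≠ 0) (ha : x * a = a * x) :
    ∃ l : F, a 0 1 = l * x 0 1 ∧ a 1 0 = l * x 1 0 ∧ a 0 0 - a 1 1 = l * (x 0 0 - x 1 1) := by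
  have a00 : x 0 0 * a 0 0 + x 0 1 * a 1 0 = a 0 0 * x 0 0 + a 0 1 * x 1 0 := by
    have := congrFun (congrFun ha 0) 0
    simpa [Matrix.mul_apply, Fin.sum_univ_two] using this
  have a01 : x 0 0 * a 0 1 + x 0 1 * a 1 1 = a 0 0 * x 0 1 + a 0 1 * x 1 1 := by
    have := congrFun (congrFun ha 0) 1
    simpa [Matrix.mul_apply, Fin.sum_univ_two] using this
  have a10 : x 1 0 * a 0 0 + x 1 1 * a 1 0 = a 1 0 * x 0 0 + a 1 1 * x 1 0 := by
    have := congrFun (congrFun ha 1) 0
    simpa [Matrix.mul_apply, Fin.sum_univ_two] using this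
  rcases hcase with hp | hp | hp
  · refine ⟨a 0 1 / x 0 1, (div_mul_cancel₀ _ hp).symm, ?_, ?_⟩
    · rw [div_mul_eq_mul_div, eq_div_iff hp]
      linear_combination a00
    · rw [div_mul_eq_mul_div, eq_div_iff hp]
      linear_combination -a01
  · refine ⟨a 1 0 / x 1 0, ?_, (div_mul_cancel₀ _ hp).symm, ?_⟩
    · rw [div_mul_eq_mul_div, eq_div_iff hp]
      linear_combination -a00
    · rw [div_mul_eq_mul_div, eq_div_iff hp]
      linear_combination a10
  · refine ⟨(a 0 0 - a 1 1) / (x 0 0 - x 1 1), ?_, ?_, (div_mul_cancel₀ _ hp).symm⟩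
    · rw [div_mul_eq_mul_div, eq_div_iff hp]
      linear_combination a01
    · rw [div_mul_eq_mul_div, eq_div_iff hp]
      linear_combination -a10

/-- a `2 × 2` matrix which is not scalar has a nonzero "direction" -/
theorem dir_ne_zero_of_nonscalar (x : Matrix (Fin 2) (Fin 2) F) (hx : ¬ ∃ c : F, x = c • 1) :
    x 0 1 ≠ 0 ∨ x 1 0 ≠ 0 ∨ x 0 0 - x 1 1 ≠ 0 := by
  by_contra hcon
  push Not at hcon
  obtain ⟨h1, h2, h3⟩ := hcon
  apply hx
  refine ⟨x 0 0, ?_⟩
  have h4 : x 1 1 = x 0 0 := by linear_combination -h3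
  ext i j
  fin_cases i <;> fin_cases j <;> simp [h1, h2, h4]

/-- (G2-C2) -/
theorem comm_of_comm_nonscalar (x a b : Matrix (Fin 2) (Fin 2) F) (hx : ¬ ∃ c : F, x = c • 1)
    (ha : x * a = a * x) (hb : x * b = b * x) : a * b = b * a := by
  have hcase := dir_ne_zero_of_nonscalar x hx
  obtain ⟨l, ha1, ha2, ha3⟩ := exists_scalar_of_comm x a hcase ha
  obtain ⟨m, hb1, hb2, hb3⟩ := exists_scalar_of_comm x b hcase hb
  ext i j
  fin_cases i <;> fin_cases j <;> simp [Matrix.mul_apply, Fin.sum_univ_two]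
  · linear_combination (b 1 0) * ha1 + (l * x 0 1) * hb2 - (a 1 0) * hb1 - (m * x 0 1) * ha2
  · linear_combination (b 0 1) * ha3 - (a 0 1) * hb3 + (l * (x 0 0 - x 1 1)) * hb1 -
      (m * (x 0 0 - x 1 1)) * ha1
  · linear_combination (a 1 0) * hb3 - (b 1 0) * ha3 + (m * (x 0 0 - x 1 1)) * ha2 -
      (l * (x 0 0 - x 1 1)) * hb2
  · linear_combination (b 0 1) * ha2 + (l * x 1 0) * hb1 - (a 0 1) * hb2 - (m * x 1 0) * ha1

/-- a scalar matrix of determinant one in `SL₂` is `± 1` -/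
theorem sl2_nonscalar (s : SL2 F) (h1 : s ≠ 1) (h2 : s ≠ -1) : ¬ ∃ c : F, s.1 = c • 1 := by
  rintro ⟨c, hc⟩
  have hdet : c * c = 1 := by
    have := s.2
    rw [hc, Matrix.det_fin_two] at this
    simpa using this
  rcases mul_self_eq_one_iff.mp hdet with h | h
  · apply h1
    apply Subtype.ext
    rw [hc, h, one_smul]
    rfl
  · apply h2
    apply Subtype.ext
    rw [hc, h]
    ext i j
    fin_cases i <;> fin_cases j <;> simp

/-- (G2-C2) -/
theorem sl2_comm1 (s : SL2 F) (h1 : s ≠ 1) (h2 : s ≠ -1) (a b : SL2 F) (ha : s * a = a * s)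
    (hb : s * b = b * s) : a * b = b * a := by
  apply Subtype.ext
  have ha' : s.1 * a.1 = a.1 * s.1 := by
    have := congrArg (fun t : SL2 F => t.1) ha
    simpa using this
  have hb' : s.1 * b.1 = b.1 * s.1 := by
    have := congrArg (fun t : SL2 F => t.1) hb
    simpa using this
  have := comm_of_comm_nonscalar s.1 a.1 b.1 (sl2_nonscalar s h1 h2) ha' hb'
  simpa using this

/-- (G2-C2) -/
theorem sl2_comm2 (ν : F) (hν0 : ν ≠ 0) (hν : ¬ IsSquare ν) (s a b : SL2 F)
    (ha : tau ν hν0 (s * a * s⁻¹) = a) (hb : tau ν hν0 (s * b * s⁻¹) = b) : a * b = b * a := by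
  have hx : ¬ ∃ c : F, b0 ν * s.1 = c • 1 := by
    rintro ⟨c, hc⟩
    apply hν
    refine ⟨c, ?_⟩
    have h1 : (b0 ν * s.1).det = ν := by rw [Matrix.det_mul, det_b0, s.2, mul_one]
    rw [hc, Matrix.det_fin_two] at h1
    rw [← h1]
    simp
  have key : ∀ a : SL2 F, tau ν hν0 (s * a * s⁻¹) = a → (b0 ν * s.1) * a.1 = a.1 * (b0 ν * s.1) := by
    intro a ha
    obtain ⟨u, hu⟩ : ∃ u : SL2 F, u = s * a * s⁻¹ := ⟨_, rfl⟩
    rw [← hu] at ha
    have hus : u * s = s * a := by rw [hu]; group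
    have hus' : u.1 * s.1 = s.1 * a.1 := by
      rw [← Matrix.SpecialLinearGroup.coe_mul, hus, Matrix.SpecialLinearGroup.coe_mul]
    have h1 : cjM ν u.1 = a.1 := congrArg Subtype.val ha
    have h2 := cjM_mul_b0 ν hν0 u.1
    rw [h1] at h2
    calc b0 ν * s.1 * a.1 = b0 ν * (s.1 * a.1) := Matrix.mul_assoc _ _ _
      _ = b0 ν * (u.1 * s.1) := by rw [hus']
      _ = (b0 ν * u.1) * s.1 := (Matrix.mul_assoc _ _ _).symm
      _ = a.1 * b0 ν * s.1 := by rw [← h2]
      _ = a.1 * (b0 ν * s.1) := Matrix.mul_assoc _ _ _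
  apply Subtype.ext
  have := comm_of_comm_nonscalar (b0 ν * s.1) a.1 b.1 hx (key a ha) (key b hb)
  simpa using this

end Cfsg.Agent.Helper76.G2S
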