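import Mathlib
import Cfsg.Agent.Helper46.RSp.Defs

/-!
# (CENF) for S2281, n ≥ 3 (helper46): a long root element
-/

set_option autoImplicit false
set_option linter.unusedSectionVars false
set_option linter.unusedVariables false

namespace Cfsg.Agent.Helper76.RSp

open Matrix Cfsg.Agent.Helper13 Cfsg.Agent.Helper46.RSp

variable {K : Type*} [Field K] {j : ℕ}

local notation "Vec" => (Fin (j + 3) ⊕ Fin (j + 3) → K)
local notation "Mat" => Matrix (Fin (j + 3) ⊕ Fin (j + 3)) (Fin (j + 3) ⊕ Fin (j + 3)) K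
local notation "Mk" => Matrix (Fin (j + 3)) (Fin (j + 3)) K
local notation "SpG" => Matrix.symplecticGroup (Fin (j + 3)) K
local notation "B" => Cfsg.sympForm (j + 3) K

theorem cenf_i1_ne_i2 : (i1 : Fin (j + 3)) ≠ i2 := by
  simp [i1, i2]

theorem hasM_centre_f (s₁ : K) {H : Subgroup SpG} (hY : HasM H (YM s₁))
    (he2 : ∀ t : K, HasM H (eichS (bF i1) (t • bE i2) 0)) (hf2 : ∀ t : K, HasM H (eichS (bF i1) (t • bF i2) 0)) :
    HasM H (eichS (bF i1) 0 s₁) := by
  have h12 : (i1 : Fin (j + 3)) ≠ i2 := cenf_i1_ne_i2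
  -- orthogonality to `f_1`
  have hE : B (bE i2 : Vec) (bF i1) = 0 := by
    rw [form_bF_right, bE_apply_inl, if_neg h12, neg_zero]
  have hF : B (bF i2 : Vec) (bF i1) = 0 := by
    rw [form_bF_right, bF_apply_inl, neg_zero]
  have hy : B (-bF i2 - s₁ • bE i2 : Vec) (bF i1) = 0 := by
    rw [sympForm_sub_left, sympForm_neg_left, sympForm_smul_left, hE, hF, neg_zero, mul_zero, sub_zero]
  have hy' : B (s₁ • bE i2 : Vec) (bF i1) = 0 := by
    rw [sympForm_smul_left, hE, mul_zero]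
  have hy'' : B ((1 : K) • bF i2 : Vec) (bF i1) = 0 := by
    rw [sympForm_smul_left, hF, mul_zero]
  have hEF : B (bE i2 : Vec) (bF i2) = -1 := by
    rw [form_bF_right, bE_apply_inl, if_pos rfl]
  -- first product
  have h1 : HasM H (eichS (bF i1) (-bF i2 - s₁ • bE i2) 0 * eichS (bF i1) (s₁ • bE i2) 0) :=
    HasM.mul hY (he2 s₁)
  rw [eichS_mul 0 0 hy hy'] at h1
  have hval : B (s₁ • bE i2 : Vec) (-bF i2 - s₁ • bE i2) = s₁ := by
    rw [sympForm_smul_left, sympForm_sub_right, sympForm_neg_right, sympForm_smul_right, hEF,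
      sympForm_self]
    ring
  have hvec : (-bF i2 - s₁ • bE i2 + s₁ • bE i2 : Vec) = -bF i2 := by
    rw [sub_add_cancel]
  rw [hval, hvec, zero_add, zero_add] at h1
  -- second product
  have hnF : B (-bF i2 : Vec) (bF i1) = 0 := by
    rw [sympForm_neg_left, hF, neg_zero]
  have h2 : HasM H (eichS (bF i1) (-bF i2) s₁ * eichS (bF i1) ((1 : K) • bF i2) 0) :=
    HasM.mul h1 (hf2 1)
  rw [eichS_mul s₁ 0 hnF hy''] at h2
  have hval2 : B ((1 : K) • bF i2 : Vec) (-bF i2) = 0 := by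
    rw [one_smul, sympForm_neg_right, sympForm_self, neg_zero]
  have hvec2 : (-bF i2 + (1 : K) • bF i2 : Vec) = 0 := by
    rw [one_smul, neg_add_cancel]
  rw [hval2, hvec2, add_zero, add_zero] at h2
  exact h2

end Cfsg.Agent.Helper76.RSp
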