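import Mathlib
import Cfsg.Agent.Helper46.RSp.Defs

/-!
# (PF2) for S2281, n ≥ 3 (helper46): all pure `E(w, t f_2, 0)`
-/

set_option autoImplicit false
set_option linter.unusedSectionVars false
set_option linter.unusedVariables false

namespace Cfsg.Agent.Helper76.RSp

open Matrix Cfsg.Agent.Helper13 Cfsg.Agent.Helper46.RSp

variable {K : Type*} [Field K] {j : ℕ}

local notation "Vec" => (Fin (j + 3) ⊕ Fin (j + 3) → K)
local notation "Mat" => Matrix (Fin (j + 3) ⊕ Fin (j + 3)) (Fin (j + 3) ⊕ Fin (j + 3)) K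
local notation "Mk" => Matrix (Fin (j + 3)) (Fin (j + 3)) K
local notation "SpG" => Matrix.symplecticGroup (Fin (j + 3)) K
local notation "B" => Cfsg.sympForm (j + 3) K

theorem pf2_i1_ne_i2 : (i1 : Fin (j + 3)) ≠ i2 := by
  simp [i1, i2]

theorem pf2_i1_ne_iN : (i1 : Fin (j + 3)) ≠ iN := by
  simp [i1, iN, Fin.ext_iff]

theorem pf2_i2_ne_iN : (i2 : Fin (j + 3)) ≠ iN := by
  simp [i2, iN, Fin.ext_iff]

/-- `B(w, f_l) = 0` for `l ≠ 1` -/
theorem pf2_form_w_bF {w : Vec} (hw : w = bE i1 ∨ w = bF i1) (l : Fin (j + 3)) (hl : l ≠ i1) :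
    B w (bF l) = 0 := by
  rcases hw with rfl | rfl
  · rw [form_bF_right, bE_apply_inl, if_neg hl, neg_zero]
  · rw [form_bF_right, bF_apply_inl, neg_zero]

/-- `B(e_l, w) = 0` for `l ≠ 1` -/
theorem pf2_form_bE_w {w : Vec} (hw : w = bE i1 ∨ w = bF i1) (l : Fin (j + 3)) (hl : l ≠ i1) :
    B (bE l : Vec) w = 0 := by
  rcases hw with rfl | rfl
  · rw [form_bE_right, bE_apply_inr]
  · rw [form_bF_right, bE_apply_inl, if_neg (Ne.symm hl), neg_zero]

/-- `B(f_l, w) = 0` for `l ≠ 1` -/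
theorem pf2_form_bF_w {w : Vec} (hw : w = bE i1 ∨ w = bF i1) (l : Fin (j + 3)) (hl : l ≠ i1) :
    B (bF l : Vec) w = 0 := by
  rcases hw with rfl | rfl
  · rw [form_bE_right, bF_apply_inr, if_neg (Ne.symm hl)]
  · rw [form_bF_right, bF_apply_inl, neg_zero]

theorem pure_f2_all (c : K) (hc : c ≠ 0) {H : Subgroup SpG} (hk4 : ∀ τ : K, HasM H (k4M τ)) {w : Vec}
    (hw : w = bE i1 ∨ w = bF i1) (hEN : HasM H (eichS w (c • bE iN) (-c))) :
    ∀ t : K, HasM H (eichS w (t • bF i2) 0) := by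
  intro t
  have h12 : (i1 : Fin (j + 3)) ≠ i2 := pf2_i1_ne_i2
  have h1N : (i1 : Fin (j + 3)) ≠ iN := pf2_i1_ne_iN
  have h2N : (i2 : Fin (j + 3)) ≠ iN := pf2_i2_ne_iN
  -- `k4M τ` fixes `w`
  have hkw : ∀ τ : K, k4M τ *ᵥ w = w := by
    intro τ
    rw [k4M, eichS_mulVec, sympForm_neg_right, sympForm_smul_right, pf2_form_w_bF hw i2 (Ne.symm h12),
      pf2_form_w_bF hw iN (Ne.symm h1N)]
    simp
  -- `k4M τ e_n = e_n + τ f_2`
  have hkE : ∀ τ : K, k4M τ *ᵥ (bE iN : Vec) = bE iN + τ • bF i2 := by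
    intro τ
    have hEN2 : B (bE iN : Vec) (bF i2) = 0 := by
      rw [form_bF_right, bE_apply_inl, if_neg h2N, neg_zero]
    have hENN : B (bE iN : Vec) (bF iN) = -1 := by
      rw [form_bF_right, bE_apply_inl, if_pos rfl]
    rw [k4M, eichS_mulVec, sympForm_neg_right, sympForm_smul_right, hEN2, hENN]
    simp
  -- conjugate
  have h1 := hasM_conj_eichS (hk4 (t / c)) hEN
  rw [hkw, Matrix.mulVec_smul, hkE, smul_add, smul_smul, mul_div_cancel₀ t hc] at h1
  -- inverse of `hEN`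
  have hyw : B (c • bE iN : Vec) w = 0 := by
    rw [sympForm_smul_left, pf2_form_bE_w hw iN (Ne.symm h1N), mul_zero]
  have h2 := HasM.eichS_inv hyw hEN
  rw [neg_neg] at h2
  -- multiply
  have hyw1 : B (c • bE iN + t • bF i2 : Vec) w = 0 := by
    rw [sympForm_add_left, hyw, sympForm_smul_left, pf2_form_bF_w hw i2 (Ne.symm h12), mul_zero, add_zero]
  have hyw2 : B (-(c • bE iN) : Vec) w = 0 := by
    rw [sympForm_neg_left, hyw, neg_zero]
  have h3 := HasM.mul h1 h2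
  rw [eichS_mul (-c) c hyw1 hyw2] at h3
  have hvec : (c • bE iN + t • bF i2 + -(c • bE iN) : Vec) = t • bF i2 := by
    abel
  have hval : B (-(c • bE iN) : Vec) (c • bE iN + t • bF i2) = 0 := by
    have hEN2 : B (bE iN : Vec) (bF i2) = 0 := by
      rw [form_bF_right, bE_apply_inl, if_neg h2N, neg_zero]
    rw [sympForm_neg_left, sympForm_smul_left, sympForm_add_right, sympForm_smul_right,
      sympForm_smul_right, sympForm_self, hEN2]
    ring
  rw [hvec, hval, neg_add_cancel, add_zero] at h3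
  exact h3

end Cfsg.Agent.Helper76.RSp
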