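import Cfsg.Agent.Helper6.SPrep1

/-!
Pieces (S0b) and (S0c) of helper6's architecture for S2347: the orthogonal complement in `W` of
a hyperbolic pair `u, u'` of `W` has codimension two in `W` and is again relatively nondegenerate.
-/

set_option autoImplicit false

namespace Cfsg.Agent.Helper76.SPrep

open Matrix Cfsg.Agent.Helper13 Cfsg.Agent.Helper5 Cfsg.Agent.Helper6.SPrep Module

variable {F : Type*} [Field F] {m : ℕ}

local notation "Vec" => (Fin m ⊕ Fin m → F)
local notation "⟪" x ", " y "⟫" => Cfsg.sympForm m F x y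

/-- the linear form `x ↦ ⟪x, u⟫` -/
noncomputable def formLeft (u : Vec) : Vec →ₗ[F] F where
  toFun x := ⟪x, u⟫
  map_add' x y := sympForm_add_left x y u
  map_smul' c x := by simp [sympForm_smul_left]

@[simp] theorem formLeft_apply (u x : Vec) : formLeft u x = ⟪x, u⟫ := rfl

/-- the pair of linear forms `x ↦ (⟪x, u⟫, ⟪x, u'⟫)` on `W` -/
noncomputable def formPair (W : Submodule F (Fin m ⊕ Fin m → F)) (u u' : Vec) : W →ₗ[F] F × F :=
  ((formLeft u).prod (formLeft u')).comp W.subtype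

@[simp] theorem formPair_apply (W : Submodule F (Fin m ⊕ Fin m → F)) (u u' : Vec) (x : W) :
    formPair W u u' x = (⟪(x : Vec), u⟫, ⟪(x : Vec), u'⟫) := rfl

theorem formPair_surjective (W : Submodule F (Fin m ⊕ Fin m → F)) (u u' : Vec) (hu : u ∈ W)
    (hu' : u' ∈ W) (huu' : ⟪u, u'⟫ = 1) : Function.Surjective (formPair W u u') := by
  rintro ⟨a, b⟩
  have hu'u : ⟪u', u⟫ = -1 := by rw [sympForm_swap, huu']
  refine ⟨⟨b • u - a • u', W.sub_mem (W.smul_mem b hu) (W.smul_mem a hu')⟩, ?_⟩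
  rw [formPair_apply]
  simp only [sympForm_sub_left, sympForm_smul_left, sympForm_self, huu', hu'u]
  ext <;> simp

theorem ker_formPair_map (W : Submodule F (Fin m ⊕ Fin m → F)) (u u' : Vec) :
    (LinearMap.ker (formPair W u u')).map W.subtype = hypCompl W u u' := by
  ext v
  rw [Submodule.mem_map, Cfsg.Agent.Helper6.SPrep.mem_hypCompl]
  constructor
  · rintro ⟨x, hx, rfl⟩
    rw [LinearMap.mem_ker, formPair_apply, Prod.mk_eq_zero] at hx
    exact ⟨x.2, hx.1, hx.2⟩
  · rintro ⟨hv, h1, h2⟩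
    refine ⟨⟨v, hv⟩, ?_, rfl⟩
    rw [LinearMap.mem_ker, formPair_apply, Prod.mk_eq_zero]
    exact ⟨h1, h2⟩

/-- (S0b) -/
theorem finrank_hypCompl (W : Submodule F (Fin m ⊕ Fin m → F)) (u u' : Vec) (hu : u ∈ W)
    (hu' : u' ∈ W) (huu' : ⟪u, u'⟫ = 1) : finrank F (hypCompl W u u') + 2 = finrank F W := by
  have h1 := LinearMap.finrank_range_add_finrank_ker (formPair W u u')
  rw [LinearMap.range_eq_top.2 (formPair_surjective W u u' hu hu' huu'), finrank_top,
    Module.finrank_prod, Module.finrank_self] at h1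
  rw [← ker_formPair_map, Submodule.finrank_map_subtype_eq]
  omega

/-- (S0c) -/
theorem relNondeg_hypCompl {W : Submodule F (Fin m ⊕ Fin m → F)} (hW : RelNondeg W) (u u' : Vec)
    (hu : u ∈ W) (hu' : u' ∈ W) (huu' : ⟪u, u'⟫ = 1) : RelNondeg (hypCompl W u u') := by
  intro v hv hv0
  obtain ⟨hvW, hvu, hvu'⟩ := (Cfsg.Agent.Helper6.SPrep.mem_hypCompl W u u' v).1 hv
  obtain ⟨x, hxW, hx⟩ := hW v hvW hv0
  have hu'u : ⟪u', u⟫ = -1 := by rw [sympForm_swap, huu']
  have huv : ⟪u, v⟫ = 0 := by rw [sympForm_swap, hvu, neg_zero]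
  have hu'v : ⟪u', v⟫ = 0 := by rw [sympForm_swap, hvu', neg_zero]
  refine ⟨x - ⟪x, u'⟫ • u + ⟪x, u⟫ • u', ?_, ?_⟩
  · rw [Cfsg.Agent.Helper6.SPrep.mem_hypCompl]
    refine ⟨W.add_mem (W.sub_mem hxW (W.smul_mem _ hu)) (W.smul_mem _ hu'), ?_, ?_⟩
    · simp only [sympForm_add_left, sympForm_sub_left, sympForm_smul_left, sympForm_self, hu'u]
      ring
    · simp only [sympForm_add_left, sympForm_sub_left, sympForm_smul_left, sympForm_self, huu']
      ring
  · simp only [sympForm_add_left, sympForm_sub_left, sympForm_smul_left, huv, hu'v]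
    simpa using hx

end Cfsg.Agent.Helper76.SPrep
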