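import Mathlib
import Cfsg.Agent.Helper44.U4Defs
import Cfsg.Agent.S2677
import Cfsg.Agent.Helper42.P4E0
import Cfsg.Agent.Helper42.P4E3
import Cfsg.Agent.Helper53.P4E4

/-!
Piece (Y3) for helper44's S6001 (WANTED #9295): the elements `(i/2) • MMm i` and
`(-(1+i)/2) • M1m i` of order 3 in `GU_4 ∩ N0`.
-/

set_option autoImplicit false
open scoped MatrixGroups

namespace Cfsg.Agent.Helper76.U4

open Matrix Polynomial Cfsg.Agent.Helper99.P4 Cfsg.Geo Cfsg.Agent.Helper44.U4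

variable {F : Type*} [Field F]

/-- a generic scalar multiple `c • M` of a Clifford matrix `M` as an element of `GU_4 ∩ N0` of
order dividing `r` -/
theorem exists_scaled {p : ℕ} (bar : F →+* F) (hbar : ∀ x, bar x = x ^ p)
    {i : F} (hi : i ^ 2 = -1) (M : Matrix (Fin 4) (Fin 4) F) (c z d : F) (r : ℕ) (hr : r ≠ 0)
    (hpow : M ^ r = z • (1 : Matrix (Fin 4) (Fin 4) F)) (hcz : c ^ r * z = 1)
    (h1 : ∃ (k : ℕ) (v : V4), M * mX1 = i ^ k • (pw v * M))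
    (h2 : ∃ (k : ℕ) (v : V4), M * mZ1 = i ^ k • (pw v * M))
    (h3 : ∃ (k : ℕ) (v : V4), M * mX2 = i ^ k • (pw v * M))
    (h4 : ∃ (k : ℕ) (v : V4), M * mZ2 = i ^ k • (pw v * M))
    (hU : Mᵀ * M.map bar = d • (1 : Matrix (Fin 4) (Fin 4) F)) (hcd : c * bar c * d = 1) :
    ∃ y : GL (Fin 4) F, (y : Matrix (Fin 4) (Fin 4) F) = c • M ∧ y ∈ Cfsg.GU 4 F p ∧
      y ∈ N0 i hi ∧ y ^ r = 1 := by
  have hyr : (c • M) ^ r = 1 := by
    rw [_root_.smul_pow, hpow, smul_smul, hcz, one_smul]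
  refine ⟨Units.ofPowEqOne (c • M) r hyr hr, Units.val_ofPowEqOne _ _ _ _, ?_, ?_,
    Units.pow_ofPowEqOne hyr hr⟩
  · rw [Cfsg.Agent.S2677.mem_GU_iff_matrix 4 bar hbar, Units.val_ofPowEqOne]
    have hmap : (c • M).map bar = bar c • M.map bar := by
      ext a b
      simp [Matrix.map_apply, Matrix.smul_apply]
    rw [hmap, Matrix.transpose_smul, Matrix.smul_mul, Matrix.mul_smul, hU, smul_smul, smul_smul]
    rw [hcd, one_smul]
  · apply Cfsg.Agent.Helper42.P4.mem_N0_of_gens hi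
    · obtain ⟨k, v, h⟩ := h1
      refine ⟨k, v, ?_⟩
      rw [Units.val_ofPowEqOne, Matrix.smul_mul, h, Matrix.mul_smul, smul_comm]
    · obtain ⟨k, v, h⟩ := h2
      refine ⟨k, v, ?_⟩
      rw [Units.val_ofPowEqOne, Matrix.smul_mul, h, Matrix.mul_smul, smul_comm]
    · obtain ⟨k, v, h⟩ := h3
      refine ⟨k, v, ?_⟩
      rw [Units.val_ofPowEqOne, Matrix.smul_mul, h, Matrix.mul_smul, smul_comm]
    · obtain ⟨k, v, h⟩ := h4
      refine ⟨k, v, ?_⟩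
      rw [Units.val_ofPowEqOne, Matrix.smul_mul, h, Matrix.mul_smul, smul_comm]

theorem bar_two (bar : F →+* F) : bar 2 = 2 := map_ofNat bar 2

theorem MM_unitary (bar : F →+* F) {i : F} (hi : i ^ 2 = -1) (hbi : bar i = -i) :
    (MMm i)ᵀ * (MMm i).map bar = (4 : F) • (1 : Matrix (Fin 4) (Fin 4) F) := by
  ext a b
  fin_cases a <;> fin_cases b <;>
    simp [MMm, Matrix.mul_apply, Fin.sum_univ_four, Matrix.map_apply, hbi] <;>
    first | linear_combination (2 : F) * hi | linear_combination (-2 : F) * hi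

theorem M1_unitary (bar : F →+* F) {i : F} (hi : i ^ 2 = -1) (hbi : bar i = -i) :
    (M1m i)ᵀ * (M1m i).map bar = (2 : F) • (1 : Matrix (Fin 4) (Fin 4) F) := by
  ext a b
  fin_cases a <;> fin_cases b <;>
    simp [M1m, Matrix.mul_apply, Fin.sum_univ_four, Matrix.map_apply, hbi] <;>
    first | linear_combination (1 : F) * hi | linear_combination (-1 : F) * hi

/-- (Y3) `(i/2) • MMm i` and `(-(1+i)/2) • M1m i` -/
theorem exists_cubes {p : ℕ} (bar : F →+* F) (hbar : ∀ x, bar x = x ^ p) (h2 : (2 : F) ≠ 0)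
    {i : F} (hi : i ^ 2 = -1) (hbi : bar i = -i) :
    ∃ ya yb : GL (Fin 4) F, ya ∈ Cfsg.GU 4 F p ∧ ya ∈ N0 i hi ∧ ya ^ 3 = 1 ∧
      Matrix.trace (ya : Matrix (Fin 4) (Fin 4) F) = 1 ∧
      yb ∈ Cfsg.GU 4 F p ∧ yb ∈ N0 i hi ∧ yb ^ 3 = 1 ∧
      Matrix.trace (yb : Matrix (Fin 4) (Fin 4) F) = -2 := by
  obtain ⟨m1, m2, m3, m4, m5, m6⟩ := Cfsg.Agent.Helper42.P4.MM_rel (F := F) hi
  obtain ⟨n1, n2, n3, n4, n5, n6⟩ := Cfsg.Agent.Helper53.P4.M1_rel (F := F) hi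
  have hb2 : bar 2 = 2 := bar_two bar
  set e : F := (2 : F)⁻¹ with hedef
  have he : 2 * e = 1 := mul_inv_cancel₀ h2
  have hbe : bar e = e := by rw [hedef, map_inv₀, hb2]
  -- `ya`
  have hcz1 : (i * e) ^ 3 * (8 * i) = 1 := by
    linear_combination (i ^ 4 * (4 * e ^ 2 + 2 * e + 1)) * he + (i ^ 2 - 1) * hi
  have hcd1 : (i * e) * bar (i * e) * 4 = 1 := by
    rw [map_mul, hbi, hbe]
    linear_combination (-4 * e ^ 2) * hi + (2 * e + 1) * he
  obtain ⟨ya, hya, hyaU, hyaN, hya3⟩ := exists_scaled bar hbar hi (MMm i) (i * e) (8 * i) 4 3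
    (by norm_num) m1 hcz1
    ⟨0, _, by rw [pow_zero, one_smul]; exact m2⟩ ⟨1, _, by rw [pow_one]; exact m3⟩
    ⟨0, _, by rw [pow_zero, one_smul]; exact m4⟩ ⟨1, _, by rw [pow_one]; exact m5⟩
    (MM_unitary bar hi hbi) hcd1
  -- `yb`
  have hcz2 : (-(1 + i) * e) ^ 3 * (2 + 2 * i) = 1 := by
    linear_combination (-2 * e ^ 3 * (i ^ 2 + 4 * i + 5)) * hi + (4 * e ^ 2 + 2 * e + 1) * he
  have hcd2 : (-(1 + i) * e) * bar (-(1 + i) * e) * 2 = 1 := by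
    rw [map_mul, map_neg, map_add, map_one, hbi, hbe]
    linear_combination (-2 * e ^ 2) * hi + (2 * e + 1) * he
  obtain ⟨yb, hyb, hybU, hybN, hyb3⟩ := exists_scaled bar hbar hi (M1m i) (-(1 + i) * e)
    (2 + 2 * i) 2 3 (by norm_num) n1 hcz2
    ⟨0, _, by rw [pow_zero, one_smul]; exact n2⟩ ⟨1, _, by rw [pow_one]; exact n3⟩
    ⟨0, _, by rw [pow_zero, one_smul]; exact n4⟩ ⟨0, _, by rw [pow_zero, one_smul]; exact n5⟩
    (M1_unitary bar hi hbi) hcd2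
  refine ⟨ya, yb, hyaU, hyaN, hya3, ?_, hybU, hybN, hyb3, ?_⟩
  · rw [hya, Matrix.trace_smul, m6, smul_eq_mul]
    linear_combination (-2 * e) * hi + he
  · rw [hyb, Matrix.trace_smul, n6, smul_eq_mul]
    linear_combination (2 * e) * hi - 2 * he

end Cfsg.Agent.Helper76.U4
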