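import Mathlib
import Cfsg.Agent.Helper44.U4Defs
import Cfsg.Agent.S2677
import Cfsg.Agent.Helper42.P4E0
import Cfsg.Agent.Helper53.P4E5
import Cfsg.Agent.Helper76.U4Y3

/-!
Piece (Y5) for helper44's S6001 (WANTED #9295): the element `(-i/2) • G5m i` of order 5 in
`GU_4 ∩ N0`.
-/

set_option autoImplicit false
open scoped MatrixGroups

namespace Cfsg.Agent.Helper76.U4

open Matrix Polynomial Cfsg.Agent.Helper99.P4 Cfsg.Geo Cfsg.Agent.Helper44.U4

variable {F : Type*} [Field F]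

theorem G5_unitary (bar : F →+* F) {i : F} (hi : i ^ 2 = -1) (hbi : bar i = -i) :
    (G5m i)ᵀ * (G5m i).map bar = (4 : F) • (1 : Matrix (Fin 4) (Fin 4) F) := by
  ext a b
  fin_cases a <;> fin_cases b <;>
    simp [G5m, Matrix.mul_apply, Fin.sum_univ_four, Matrix.map_apply, hbi] <;>
    first | ring1 | linear_combination (2 : F) * hi | linear_combination (-2 : F) * hi |
      linear_combination (4 : F) * hi | linear_combination (-4 : F) * hi

/-- (Y5) `(-i/2) • G5m i` -/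
theorem exists_fifth {p : ℕ} (bar : F →+* F) (hbar : ∀ x, bar x = x ^ p) (h2 : (2 : F) ≠ 0)
    {i : F} (hi : i ^ 2 = -1) (hbi : bar i = -i) :
    ∃ y : GL (Fin 4) F, y ∈ Cfsg.GU 4 F p ∧ y ∈ N0 i hi ∧ y ^ 5 = 1 ∧
      Matrix.trace (y : Matrix (Fin 4) (Fin 4) F) = -1 := by
  obtain ⟨m1, m2, m3, m4, m5, m6⟩ := Cfsg.Agent.Helper53.P4.G5_rel (F := F) hi
  have hb2 : bar 2 = 2 := bar_two bar
  set e : F := (2 : F)⁻¹ with hedef
  have he : 2 * e = 1 := mul_inv_cancel₀ h2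
  have hbe : bar e = e := by rw [hedef, map_inv₀, hb2]
  have hcz : (-i * e) ^ 5 * (32 * i) = 1 := by
    linear_combination (-32 * e ^ 5 * (i ^ 4 - i ^ 2 + 1)) * hi +
      (16 * e ^ 4 + 8 * e ^ 3 + 4 * e ^ 2 + 2 * e + 1) * he
  have hcd : (-i * e) * bar (-i * e) * 4 = 1 := by
    rw [map_mul, map_neg, hbi, hbe]
    linear_combination (-4 * e ^ 2) * hi + (2 * e + 1) * he
  obtain ⟨y, hy, hyU, hyN, hy5⟩ := exists_scaled bar hbar hi (G5m i) (-i * e) (32 * i) 4 5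
    (by norm_num) m1 hcz
    ⟨3, _, m2⟩ ⟨0, _, by rw [pow_zero, one_smul]; exact m3⟩
    ⟨0, _, by rw [pow_zero, one_smul]; exact m4⟩ ⟨0, _, by rw [pow_zero, one_smul]; exact m5⟩
    (G5_unitary bar hi hbi) hcd
  refine ⟨y, hyU, hyN, hy5, ?_⟩
  rw [hy, Matrix.trace_smul, m6, smul_eq_mul]
  linear_combination (2 * e) * hi - he

end Cfsg.Agent.Helper76.U4
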