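import Cfsg.Agent.Helper61.DihDefs

/-!
# (CH1) for S3616 (helper61): the character sum identity from the reflection counts

Also the two general counting lemmas used by (CH2).
-/

set_option autoImplicit false

namespace Cfsg.Agent.Helper76.Dih

open Cfsg.Agent.Helper61.Dih DihedralGroup Finset

variable {e : ℕ} [NeZero e]

/-- weighted count: `∑ x, ψ x * #{i ∈ S | x + c i ∈ U} = (∑ U ψ) * ∑ i ∈ S, ψ (- c i)` -/
theorem csum_conv (ψ : AddChar (ZMod e) ℂ) (S U : Finset (ZMod e)) (c : ZMod e → ZMod e) :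
    ∑ x : ZMod e, ψ x * ((S.filter (fun i => x + c i ∈ U)).card : ℂ) =
      csum ψ U * ∑ i ∈ S, ψ (- c i) := by
  simp only [Finset.card_filter, Nat.cast_sum, Finset.mul_sum]
  rw [Finset.sum_comm]
  unfold csum
  refine Finset.sum_congr rfl fun i _ => ?_
  rw [Finset.sum_mul]
  rw [← (Equiv.subRight (c i)).sum_comp]
  simp only [Equiv.subRight_apply, sub_add_cancel]
  rw [← Finset.sum_filter_add_sum_filter_not univ (fun x => x ∈ U)]
  have h0 : ∑ x ∈ univ.filter (fun x => ¬ x ∈ U),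
      ψ (x - c i) * (((if x ∈ U then 1 else 0 : ℕ)) : ℂ) = 0 := by
    refine Finset.sum_eq_zero fun x hx => ?_
    rw [Finset.mem_filter] at hx
    simp [hx.2]
  rw [h0, add_zero]
  have h1 : univ.filter (fun x => x ∈ U) = U := by
    ext x; simp
  rw [h1]
  refine Finset.sum_congr rfl fun x hx => ?_
  rw [if_pos hx, Nat.cast_one, mul_one, sub_eq_add_neg, AddChar.map_add_eq_mul]

/-- weighted two-valued sum -/
theorem csum_ite (ψ : AddChar (ZMod e) ℂ) (U : Finset (ZMod e)) (lam mu : ℤ) :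
    ∑ x : ZMod e, ψ x * (((if x ∈ U then lam else mu : ℤ)) : ℂ) =
      ((lam : ℂ) - mu) * csum ψ U + mu * ∑ x : ZMod e, ψ x := by
  unfold csum
  rw [Finset.mul_sum, Finset.mul_sum]
  rw [← Finset.sum_filter_add_sum_filter_not univ (fun x => x ∈ U)]
  rw [← Finset.sum_filter_add_sum_filter_not univ (fun x => x ∈ U) (fun x => (mu : ℂ) * ψ x)]
  have h1 : univ.filter (fun x => x ∈ U) = U := by
    ext x; simp
  rw [h1, ← add_assoc, ← Finset.sum_add_distrib]
  congr 1
  · refine Finset.sum_congr rfl fun x hx => ?_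
    rw [if_pos hx]; ring
  · refine Finset.sum_congr rfl fun x hx => ?_
    rw [Finset.mem_filter] at hx
    rw [if_neg hx.2]; ring

/-- `A = -A` makes the character sum of `A` invariant under `i ↦ -i` -/
theorem csum_neg_of_neg_mem (ψ : AddChar (ZMod e) ℂ) (A : Finset (ZMod e))
    (hA : ∀ i ∈ A, -i ∈ A) : ∑ i ∈ A, ψ (-i) = csum ψ A := by
  unfold csum
  refine Finset.sum_nbij' (fun i => -i) (fun i => -i) hA hA ?_ ?_ ?_
  · intro i _; simp
  · intro i _; simp
  · intro i _; rfl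

/-- (CH1) -/
theorem csum_refl {A B : Finset (ZMod e)} {k lam mu : ℤ} (h : DihData e A B k lam mu)
    (ψ : AddChar (ZMod e) ℂ) (hψ : ψ ≠ 1) :
    (2 * csum ψ A - ((lam : ℂ) - mu)) * csum ψ B = 0 := by
  have h1 : ∑ x : ZMod e, ψ x * ((A.filter (fun i => x + i ∈ B)).card : ℂ) =
      csum ψ B * csum ψ A := by
    rw [csum_conv ψ A B (fun i => i), csum_neg_of_neg_mem ψ A h.neg_mem]
  have h2 : ∑ x : ZMod e, ψ x * (((if x ∈ B then lam else mu : ℤ)) : ℂ) =
      ((lam : ℂ) - mu) * csum ψ B := by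
    rw [csum_ite, AddChar.sum_eq_zero_of_ne_one hψ, mul_zero, add_zero]
  have h3 : ∀ x : ZMod e, (((if x ∈ B then lam else mu : ℤ)) : ℂ) =
      2 * ((A.filter (fun i => x + i ∈ B)).card : ℂ) := by
    intro x
    rw [← h.refl x]; push_cast; ring
  have h4 : ((lam : ℂ) - mu) * csum ψ B = 2 * (csum ψ B * csum ψ A) := by
    rw [← h2, ← h1, Finset.mul_sum]
    refine Finset.sum_congr rfl fun x _ => ?_
    rw [h3 x]; ring
  linear_combination -h4

end Cfsg.Agent.Helper76.Dih
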