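import Cfsg.Agent.Helper61.DihDefs
import Cfsg.Agent.Helper76.DihCH1

/-!
# (CH2) for S3616 (helper61): the character sum identity from the rotation counts
-/

set_option autoImplicit false

namespace Cfsg.Agent.Helper76.Dih

open Cfsg.Agent.Helper61.Dih DihedralGroup Finset

variable {e : ℕ} [NeZero e]

/-- (CH2) -/
theorem csum_rot {A B : Finset (ZMod e)} {k lam mu : ℤ} (h : DihData e A B k lam mu)
    (ψ : AddChar (ZMod e) ℂ) (hψ : ψ ≠ 1) :
    csum ψ A ^ 2 + csum ψ B * (starRingEnd ℂ) (csum ψ B) =
      ((k : ℂ) - mu) + ((lam : ℂ) - mu) * csum ψ A := by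
  -- the two convolution sums
  have h1 : ∑ x : ZMod e, ψ x * ((A.filter (fun i => x - i ∈ A)).card : ℂ) =
      csum ψ A * csum ψ A := by
    have := csum_conv ψ A A (fun i => -i)
    simp only [neg_neg, ← sub_eq_add_neg] at this
    rw [this]; rfl
  have h2 : ∑ x : ZMod e, ψ x * ((B.filter (fun j => j + x ∈ B)).card : ℂ) =
      csum ψ B * (starRingEnd ℂ) (csum ψ B) := by
    have := csum_conv ψ B B (fun i => i)
    have h3 : ∑ i ∈ B, ψ (-i) = (starRingEnd ℂ) (csum ψ B) := by
      unfold csum
      rw [map_sum]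
      exact Finset.sum_congr rfl fun i _ => AddChar.map_neg_eq_conj ψ i
    rw [← h3, ← this]
    refine Finset.sum_congr rfl fun x _ => ?_
    have hf : B.filter (fun j => j + x ∈ B) = B.filter (fun i => x + i ∈ B) := by
      ext j
      simp only [Finset.mem_filter]
      rw [add_comm]
    rw [hf]
  -- the two-valued sum
  have h4 : ∑ x : ZMod e, ψ x * (((if x ∈ A then lam else mu : ℤ)) : ℂ) =
      ((lam : ℂ) - mu) * csum ψ A := by
    rw [csum_ite, AddChar.sum_eq_zero_of_ne_one hψ, mul_zero, add_zero]
  -- compare termwise, the term `x = 0` being exceptional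
  have h5 : ∑ x : ZMod e, (ψ x * ((A.filter (fun i => x - i ∈ A)).card : ℂ) +
      ψ x * ((B.filter (fun j => j + x ∈ B)).card : ℂ) -
      ψ x * (((if x ∈ A then lam else mu : ℤ)) : ℂ)) = (k : ℂ) - mu := by
    rw [Finset.sum_eq_single (0 : ZMod e)]
    · have hA0 : A.filter (fun i => (0 : ZMod e) - i ∈ A) = A := by
        ext i
        simp only [Finset.mem_filter, zero_sub, and_iff_left_iff_imp]
        exact h.neg_mem i
      have hB0 : B.filter (fun j => j + (0 : ZMod e) ∈ B) = B := by
        ext j
        simp only [Finset.mem_filter, add_zero, and_self]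
      rw [hA0, hB0, if_neg h.zero_notMem, AddChar.map_zero_eq_one]
      have := h.card_add
      have h' : ((A.card : ℤ) : ℂ) + ((B.card : ℤ) : ℂ) = (k : ℂ) := by
        exact_mod_cast congrArg (Int.cast : ℤ → ℂ) this
      push_cast at h'
      rw [← h']; ring
    · intro x _ hx
      have := h.rot x hx
      have h' : (((if x ∈ A then lam else mu : ℤ)) : ℂ) =
          ((A.filter (fun i => x - i ∈ A)).card : ℂ) + ((B.filter (fun j => j + x ∈ B)).card : ℂ) := by
        rw [← this]; push_cast; ring
      rw [h']; ring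
    · intro h0; exact absurd (Finset.mem_univ _) h0
  rw [Finset.sum_sub_distrib, Finset.sum_add_distrib, h1, h2, h4] at h5
  linear_combination h5

end Cfsg.Agent.Helper76.Dih
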