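import Cfsg.Agent.S0202
import Cfsg.Agent.S0203

/-!
Piece (INV) of helper54's architecture for S4501: a perfect simple group with Klein four Sylow
`2`-subgroups has a single class of involutions.
-/

set_option autoImplicit false

namespace Cfsg.Agent.Helper76.K4

open Cfsg

universe u

variable {G : Type u} [Group G] [Fintype G]

/-- (INV) one class of involutions -/
theorem invol_conj [IsSimpleGroup G] (hperf : commutator G = ⊤) (P : Sylow 2 G)
    (hP : IsKleinFour (P : Subgroup G)) :
    ∀ s t : G, orderOf s = 2 → orderOf t = 2 → IsConj s t := by
  have hcardP : Nat.card (P : Subgroup G) = 4 := hP.card_four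
  have h1 : Nat.card {C : ConjClasses G // ∃ t : G, orderOf t = 2 ∧ ConjClasses.mk t = C} = 1 := by
    rcases Cfsg.Agent.S0202.result P hP with h | h
    · exact h
    · exfalso
      obtain ⟨N, hN, hc⟩ := (Cfsg.Agent.S0203.result P hP).1 h
      rcases hN.eq_bot_or_eq_top with rfl | rfl
      · rw [Subgroup.isComplement'_bot_left] at hc
        -- `G = P` is abelian
        have hcomm : ∀ a b : G, a * b = b * a := by
          intro a b
          have ha : a ∈ (P : Subgroup G) := by rw [hc]; trivial
          have hb : b ∈ (P : Subgroup G) := by rw [hc]; trivial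
          have := mul_comm_of_exponent_two hP.exponent_two (⟨a, ha⟩ : (P : Subgroup G)) ⟨b, hb⟩
          exact congrArg Subtype.val this
        have hbot : commutator G = ⊥ := by
          rw [commutator_def, Subgroup.commutator_eq_bot_iff_le_centralizer]
          intro x _
          rw [Subgroup.mem_centralizer_iff]
          intro y _
          exact hcomm y x
        rw [hbot] at hperf
        have h4 : Nat.card (⊤ : Subgroup G) = 4 := by rw [← hc]; exact hcardP
        rw [← hperf] at h4
        simp at h4
      · rw [Subgroup.isComplement'_top_left] at hc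
        rw [hc] at hcardP
        simp at hcardP
  intro s t hs ht
  rw [← ConjClasses.mk_eq_mk_iff_isConj]
  have hsub : Subsingleton
      {C : ConjClasses G // ∃ t : G, orderOf t = 2 ∧ ConjClasses.mk t = C} :=
    (Nat.card_eq_one_iff_unique.1 h1).1
  have := hsub.elim ⟨ConjClasses.mk s, s, hs, rfl⟩ ⟨ConjClasses.mk t, t, ht, rfl⟩
  exact congrArg Subtype.val this

end Cfsg.Agent.Helper76.K4
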