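import Cfsg.Agent.Helper76.K4PD3a
import Cfsg.Agent.Helper74.K4PD2
import Cfsg.Agent.Helper58.PrimeDegE2

/-!
Piece (PD3) of helper54's architecture for S4501: a perfect simple group with an irreducible
character of prime degree `q` has Sylow `q`-subgroups of order `q`.
-/

set_option autoImplicit false

namespace Cfsg.Agent.Helper76.K4

open Cfsg

universe u

variable {G : Type u} [Group G] [Fintype G]

/-- (PD3) a simple group with an irreducible character of prime degree `q` has Sylow
`q`-subgroups of order `q` -/
theorem card_sylow_of_degree [hs : IsSimpleGroup G] (hperf : commutator G = ⊤) (q : ℕ)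
    [Fact q.Prime] (χ : IrrCharacter G) (hdeg : charDegree (χ : G → ℂ) = q) (Q : Sylow q G) :
    Nat.card Q = q := by
  have hq : q.Prime := Fact.out
  have hfaith : ∀ g : G, (χ : G → ℂ) g = (χ : G → ℂ) 1 → g = 1 :=
    Cfsg.Agent.Helper58.PrimeDegE.faithful_of_simple hs χ (by rw [hdeg]; exact hq.one_lt.ne')
  exact card_sylow_of_degree_of hperf q χ hdeg Q
    (Cfsg.Agent.Helper74.K4.comm_or_exists_center q χ hdeg hfaith (Q : Subgroup G) Q.isPGroup')

end Cfsg.Agent.Helper76.K4
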