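import Cfsg.Agent.Helper56.T2T.Defs

/-!
# (CNT) of helper56's S2197 farm (#13565): orbit counting on an invariant set with stabilisers of constant order
-/

set_option autoImplicit false

namespace Cfsg.Agent.Helper76.T2T

open Cfsg.Agent.Helper56.T2T

universe u v
variable {G : Type u} [Group G] {Ω : Type v} [MulAction G Ω]

/-- orbit–stabiliser for the action of a subgroup `A` on `Ω` -/
theorem CNT_orbit (A : Subgroup G) (ω : Ω) :
    Nat.card {a : A // (a : G) • ω = ω} * (MulAction.orbit A ω).ncard = Nat.card A := by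
  have h1 := MulAction.index_stabilizer A ω
  have h2 := Subgroup.card_mul_index (MulAction.stabilizer A ω)
  rw [h1] at h2
  exact h2

/-- induction on the cardinality of the invariant set -/
theorem CNT_aux [Finite Ω] (A : Subgroup G) (d : ℕ) : ∀ (n : ℕ) (X : Set Ω), X.ncard = n →
    (∀ a ∈ A, ∀ ω ∈ X, a • ω ∈ X) → (∀ ω ∈ X, Nat.card {a : A // (a : G) • ω = ω} = d) →
    Nat.card A ∣ d * X.ncard := by
  intro n
  induction n using Nat.strong_induction_on with
  | _ n ih =>
  intro X hn hX hd
  rcases Set.eq_empty_or_nonempty X with h0 | ⟨ω, hω⟩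
  · rw [h0, Set.ncard_empty, mul_zero]
    exact dvd_zero _
  · have hOX : MulAction.orbit A ω ⊆ X := by
      rintro _ ⟨a, rfl⟩
      exact hX a a.2 ω hω
    have hsplit := Set.ncard_sdiff_add_ncard_of_subset hOX (Set.toFinite X)
    have hOpos : 0 < (MulAction.orbit A ω).ncard :=
      (Set.ncard_pos (Set.toFinite _)).mpr ⟨ω, MulAction.mem_orbit_self ω⟩
    have hX' : ∀ a ∈ A, ∀ x ∈ X \ MulAction.orbit A ω, a • x ∈ X \ MulAction.orbit A ω := by
      intro a ha x hx
      refine ⟨hX a ha x hx.1, fun hmem => hx.2 ?_⟩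
      have hmem' : (⟨a, ha⟩ : A) • x ∈ MulAction.orbit A ω := hmem
      have h1 : x ∈ MulAction.orbit A ((⟨a, ha⟩ : A) • x) := MulAction.mem_orbit_smul _ x
      rw [MulAction.orbit_eq_iff.mpr hmem'] at h1
      exact h1
    have hd' : ∀ x ∈ X \ MulAction.orbit A ω, Nat.card {a : A // (a : G) • x = x} = d :=
      fun x hx => hd x hx.1
    have hlt : (X \ MulAction.orbit A ω).ncard < n := by omega
    have hind := ih _ hlt (X \ MulAction.orbit A ω) rfl hX' hd'
    have horb := CNT_orbit A ω
    rw [hd ω hω] at horb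
    rw [← hsplit, mul_add, horb]
    exact Dvd.dvd.add hind (dvd_refl _)

/-- (CNT) orbit counting on an invariant set on which all point stabilisers (in `A`) have the same order `d`:
`X` is a disjoint union of `A`-orbits of size `|A| / d`. -/
theorem dvd_ncard_of_stabilizer_card [Fintype Ω] (A : Subgroup G) [Finite A] (X : Set Ω)
    (hX : ∀ a ∈ A, ∀ ω ∈ X, a • ω ∈ X) (d : ℕ)
    (hd : ∀ ω ∈ X, Nat.card {a : A // (a : G) • ω = ω} = d) :
    Nat.card A ∣ d * X.ncard :=
  CNT_aux A d X.ncard X rfl hX hd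

end Cfsg.Agent.Helper76.T2T
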