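import Cfsg.Agent.Helper56.T2T.Defs

/-!
# (AR2) of helper56's S2197 farm (#13565): `n (n - 1) ∣ 17971200`, `n ≥ 3` ⇒ `n` in an explicit list
-/

set_option autoImplicit false

namespace Cfsg.Agent.Helper76.T2T

open Cfsg.Agent.Helper56.T2T

/-- the test: `n (n - 1)` divides `17971200` and `n` is not in the list -/
def AR2_bad (n : ℕ) : Bool :=
  (17971200 % (n * (n - 1)) == 0) &&
    !(n == 3 || n == 4 || n == 5 || n == 6 || n == 9 || n == 10 || n == 13 || n == 16 || n == 25 ||
      n == 26 || n == 27 || n == 40 || n == 65)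

/-- is there a bad value in `[3, 3 + k)`? -/
def AR2_any : ℕ → Bool
  | 0 => false
  | k + 1 => AR2_bad (k + 3) || AR2_any k

theorem AR2_any_spec (k : ℕ) (h : AR2_any k = false) : ∀ j < k, AR2_bad (j + 3) = false := by
  induction k with
  | zero => intro j hj; omega
  | succ k ih =>
    intro j hj
    have h' : (AR2_bad (k + 3) || AR2_any k) = false := h
    rw [Bool.or_eq_false_iff] at h'
    rcases Nat.lt_succ_iff_lt_or_eq.mp hj with hlt | heq
    · exact ih h'.2 j hlt
    · rw [heq]
      exact h'.1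

set_option maxRecDepth 1000000 in
/-- the finite check -/
theorem AR2_check : AR2_any 4238 = false := by
  decide +kernel

/-- (AR2) arithmetic: `n (n - 1) ∣ 17971200` forces `n < 4241`; then a finite check. -/
theorem mem_list_of_dvd (n : ℕ) (h3 : 3 ≤ n) (h : n * (n - 1) ∣ 17971200) :
    n ∈ ({3, 4, 5, 6, 9, 10, 13, 16, 25, 26, 27, 40, 65} : Finset ℕ) := by
  have hle : n * (n - 1) ≤ 17971200 := Nat.le_of_dvd (by norm_num) h
  have hlt : n < 4241 := by
    by_contra hcon
    push Not at hcon
    have h1 : 4240 ≤ n - 1 := by omega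
    have h2 : 4241 * 4240 ≤ n * (n - 1) := Nat.mul_le_mul hcon h1
    omega
  have hb := AR2_any_spec 4238 AR2_check (n - 3) (by omega)
  rw [Nat.sub_add_cancel h3] at hb
  have hmod : 17971200 % (n * (n - 1)) = 0 := Nat.mod_eq_zero_of_dvd h
  unfold AR2_bad at hb
  rw [hmod] at hb
  simp only [Finset.mem_insert, Finset.mem_singleton]
  simp only [BEq.rfl, Bool.not_or, Bool.true_and, Bool.and_eq_false_imp, Bool.and_eq_true,
    Bool.not_eq_eq_eq_not, Bool.not_true, beq_eq_false_iff_ne, ne_eq, Bool.not_false, beq_iff_eq,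
    and_imp] at hb
  tauto

end Cfsg.Agent.Helper76.T2T
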