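import Cfsg.Agent.Helper56.U35.Defs

/-!
# (SYL) of helper56's S2149 farm (#14426): every `5`-subgroup lies in a conjugate of `P`
-/

set_option autoImplicit false

namespace Cfsg.Agent.Helper76.U35

open MulAction Cfsg.Agent.Helper56.U35
open scoped Pointwise

variable {G : Type*} [Group G] {Ω : Type*} [MulAction G Ω]

/-- the `5`-part of `126000` -/
theorem SYL_factorization : (126000 : ℕ).factorization 5 = 3 := by
  have h : (126000 : ℕ) = 5 ^ 3 * 1008 := by norm_num
  rw [h, Nat.factorization_mul (by norm_num) (by norm_num), Finsupp.add_apply,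
    Nat.Prime.factorization_pow (by norm_num : Nat.Prime 5), Finsupp.single_eq_same,
    Nat.factorization_eq_zero_of_not_dvd (by norm_num : ¬ 5 ∣ 1008)]

/-- (SYL) every `5`-subgroup lies in a conjugate of `P` -/
theorem exists_conj_le (D : TIData G Ω) (R : Subgroup G) (hR : IsPGroup 5 R) :
    ∃ g : G, ∀ r ∈ R, g⁻¹ * r * g ∈ D.P := by
  have : Fact (Nat.Prime 5) := ⟨by norm_num⟩
  have : Finite G := Nat.finite_of_card_ne_zero (by rw [D.cardG]; norm_num)
  -- `P` is a Sylow `5`-subgroup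
  have hPp : IsPGroup 5 D.P := IsPGroup.of_card (n := 3) (by rw [D.cardP]; norm_num)
  obtain ⟨Q, hPQ⟩ := hPp.exists_le_sylow
  have hQcard : Nat.card Q = 125 := by
    rw [Sylow.card_eq_multiplicity, D.cardG, SYL_factorization]
    norm_num
  have hPQeq : D.P = (Q : Subgroup G) :=
    Subgroup.eq_of_le_of_card_ge hPQ (by rw [hQcard, D.cardP])
  obtain ⟨Q₂, hRQ₂⟩ := hR.exists_le_sylow
  obtain ⟨g, hg⟩ := MulAction.exists_smul_eq G Q₂ Q
  refine ⟨g⁻¹, fun r hr => ?_⟩
  rw [inv_inv, hPQeq, ← hg, Sylow.smul_def, Sylow.pointwise_smul_def]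
  have := Subgroup.smul_mem_pointwise_smul r (MulAut.conj g) (Q₂ : Subgroup G) (hRQ₂ hr)
  rwa [MulAut.smul_def, MulAut.conj_apply] at this

end Cfsg.Agent.Helper76.U35
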