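import Mathlib
import Cfsg.Agent.Helper6.ReeH1

/-!
# (B) of #6395 for helper6 (S2343): the characters `chi2 ψ p` of `K × K` (helper76)

Orthogonality relations for the family `p ↦ chi2 ψ p` of additive characters of `K × K`, `ψ` a
primitive additive character of the finite field `K`.
-/

set_option autoImplicit false
set_option linter.unusedSectionVars false

namespace Cfsg.Agent.Helper76.ReeH

open Cfsg.Agent.Helper6.ReeH

variable {K : Type*} [Field K] [Fintype K] [DecidableEq K]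

theorem exists_primitive : ∃ ψ : AddChar K ℂ, ψ.IsPrimitive := by
  obtain ⟨ψ, hψ⟩ := (AddChar.exists_apply_ne_zero (α := K) (a := (1 : K))).mpr one_ne_zero
  refine ⟨ψ, AddChar.IsPrimitive.of_ne_one ?_⟩
  intro h
  apply hψ
  rw [h]
  rfl

theorem chi2_apply (ψ : AddChar K ℂ) (p x : K × K) :
    chi2 ψ p x = ψ (p.1 * x.1 + p.2 * x.2) := by
  simp [chi2, AddChar.map_add_eq_mul]

theorem sum_mul_left_aux (ψ : AddChar K ℂ) (hψ : ψ.IsPrimitive) (d : K) :
    ∑ c : K, ψ (d * c) = if d = 0 then (Fintype.card K : ℂ) else 0 := by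
  have := AddChar.sum_mulShift d hψ
  simp_rw [mul_comm d]
  rw [this]
  split_ifs <;> simp

theorem chi2_O1 (ψ : AddChar K ℂ) (hψ : ψ.IsPrimitive) (p p' : K × K) :
    ∑ x : K × K, chi2 ψ p x * chi2 ψ p' (-x) =
      if p = p' then (Fintype.card (K × K) : ℂ) else 0 := by
  have h1 : ∀ x : K × K, chi2 ψ p x * chi2 ψ p' (-x) =
      ψ ((p.1 - p'.1) * x.1) * ψ ((p.2 - p'.2) * x.2) := by
    intro x
    rw [chi2_apply, chi2_apply, ← AddChar.map_add_eq_mul, ← AddChar.map_add_eq_mul]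
    congr 1
    simp only [Prod.fst_neg, Prod.snd_neg]
    ring
  simp_rw [h1]
  rw [Fintype.sum_prod_type]
  simp only [← Finset.mul_sum]
  rw [← Finset.sum_mul, sum_mul_left_aux ψ hψ, sum_mul_left_aux ψ hψ, Fintype.card_prod]
  by_cases hp : p = p'
  · subst hp
    simp
  · rw [if_neg hp]
    have : ¬ (p.1 - p'.1 = 0 ∧ p.2 - p'.2 = 0) := by
      rintro ⟨h1, h2⟩
      apply hp
      exact Prod.ext (sub_eq_zero.mp h1) (sub_eq_zero.mp h2)
    by_cases ha : p.1 - p'.1 = 0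
    · have hb : ¬ p.2 - p'.2 = 0 := fun hb => this ⟨ha, hb⟩
      rw [if_neg hb, mul_zero]
    · rw [if_neg ha, zero_mul]

theorem chi2_O2 (ψ : AddChar K ℂ) (hψ : ψ.IsPrimitive) (x : K × K) :
    ∑ p : K × K, chi2 ψ p x = if x = 0 then (Fintype.card (K × K) : ℂ) else 0 := by
  have h1 : ∀ p : K × K, chi2 ψ p x = ψ (x.1 * p.1) * ψ (x.2 * p.2) := by
    intro p
    rw [chi2_apply, AddChar.map_add_eq_mul, mul_comm p.1, mul_comm p.2]
  simp_rw [h1]
  rw [Fintype.sum_prod_type]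
  simp only [← Finset.mul_sum]
  rw [← Finset.sum_mul, sum_mul_left_aux ψ hψ, sum_mul_left_aux ψ hψ, Fintype.card_prod]
  by_cases hx : x = 0
  · subst hx
    simp
  · rw [if_neg hx]
    have : ¬ (x.1 = 0 ∧ x.2 = 0) := by
      rintro ⟨h1, h2⟩
      apply hx
      exact Prod.ext h1 h2
    by_cases ha : x.1 = 0
    · have hb : ¬ x.2 = 0 := fun hb => this ⟨ha, hb⟩
      rw [if_neg hb, mul_zero]
    · rw [if_neg ha, zero_mul]

end Cfsg.Agent.Helper76.ReeH
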