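import Mathlib
import Cfsg.Agent.Helper6.SUaut1

set_option autoImplicit false
set_option linter.unusedSectionVars false

/-!
Piece (K2) for helper6's S3162 (WANTED #8751): the number of additive maps `F → F₀`
(`F₀` the fixed field of `bar`) is `2 ^ (2 n²)` when `#F = 2 ^ (2 n)` and `#F₀ = 2 ^ n`.
-/

namespace Cfsg.Agent.Helper76.SUaut

open Cfsg.Agent.Helper19.SU3 Cfsg.Agent.Helper6.SUaut

variable {F : Type*} [Field F] [Fintype F] {bar : F →+* F} [BarField F bar]

/-- the fixed points of `bar`, as a `ZMod 2`-submodule -/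
def fixSub (bar : F →+* F) [Module (ZMod 2) F] : Submodule (ZMod 2) F :=
  AddSubgroup.toZModSubmodule 2 (AddMonoidHom.eqLocus (bar : F →+ F) (AddMonoidHom.id F))

theorem mem_fixSub [Module (ZMod 2) F] (c : F) : c ∈ fixSub bar ↔ bar c = c := by
  unfold fixSub
  rw [← SetLike.mem_coe, AddSubgroup.coe_toZModSubmodule]
  rfl

/-- additive maps into the fixed points are linear maps into `fixSub` -/
noncomputable def addHomFixEquiv [Module (ZMod 2) F] :
    {γ : F →+ F // ∀ a, bar (γ a) = γ a} ≃ (F →ₗ[ZMod 2] fixSub bar) where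
  toFun γ := AddMonoidHom.toZModLinearMap 2
    (γ.1.codRestrict (fixSub bar) (fun x => (mem_fixSub (γ.1 x)).2 (γ.2 x)))
  invFun g := ⟨((fixSub bar).subtype.toAddMonoidHom).comp g.toAddMonoidHom,
    fun a => (mem_fixSub _).1 (g a).2⟩
  left_inv γ := by
    ext x
    rfl
  right_inv g := by
    ext x
    rfl

/-- (K2) -/
theorem K2 {n : ℕ} (hF : Fintype.card F = 2 ^ (2 * n))
    (h0 : Nat.card {c : F // bar c = c} = 2 ^ n) :
    Nat.card {γ : F →+ F // ∀ a, bar (γ a) = γ a} = 2 ^ (2 * n ^ 2) := by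
  have : Fact (Nat.Prime 2) := ⟨Nat.prime_two⟩
  have : CharP F 2 := charP_of_card_eq_prime_pow hF
  let _ : Algebra (ZMod 2) F := ZMod.algebra F 2
  rw [Nat.card_congr (addHomFixEquiv (bar := bar)), Module.natCard_eq_pow_finrank (K := ZMod 2),
    Module.finrank_linearMap]
  have h1 : Fintype.card F = Fintype.card (ZMod 2) ^ Module.finrank (ZMod 2) F :=
    Module.card_eq_pow_finrank
  rw [ZMod.card, hF] at h1
  have hfr : Module.finrank (ZMod 2) F = 2 * n := (Nat.pow_right_injective (le_refl 2) h1).symm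
  have h2 : Nat.card (fixSub bar) = Nat.card (ZMod 2) ^ Module.finrank (ZMod 2) (fixSub bar) :=
    Module.natCard_eq_pow_finrank
  have h3 : Nat.card (fixSub bar) = Nat.card {c : F // bar c = c} :=
    Nat.card_congr (Equiv.subtypeEquivRight (fun c => mem_fixSub c))
  rw [h3, h0, Nat.card_zmod] at h2
  have hfr0 : Module.finrank (ZMod 2) (fixSub bar) = n :=
    (Nat.pow_right_injective (le_refl 2) h2).symm
  rw [hfr, hfr0, Nat.card_zmod]
  congr 1
  ring

end Cfsg.Agent.Helper76.SUaut
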