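import Mathlib
import Cfsg.Agent.Helper6.SUaut1

set_option autoImplicit false
set_option linter.unusedSectionVars false

/-!
Piece (K1) for helper6's S3162 (WANTED #8751): an automorphism of `Heis bar` inducing the identity on
the `a`-coordinate is a central automorphism `cen γ hγ`.
-/

namespace Cfsg.Agent.Helper76.SUaut

open Cfsg.Agent.Helper19.SU3 Cfsg.Agent.Helper6.SUaut

variable {F : Type*} [Field F] [Fintype F] {bar : F →+* F} [BarField F bar]

/-- (K1) -/
theorem K1 (hω : ∃ ω : F, bar ω ≠ ω) (hTr : ∀ c : F, bar c = c → ∃ b, b + bar b = c)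
    (hsq : ∀ c : F, ∃ m : F, m * m = c)
    (ψ : MulAut (Heis bar)) (hψ : ∀ x : Heis bar, (ψ x).a = x.a) :
    ∃ (γ : F →+ F) (hγ : ∀ a, bar (γ a) = γ a), ψ = cen γ hγ := by
  -- the defect
  set δ : Heis bar → F := fun x => (ψ x).b + x.b with hδ
  have hδfix : ∀ x, bar (δ x) = δ x := by
    intro x
    apply Heis.fixed_of_add_eq_zero
    have h1 := (ψ x).h
    have h2 := x.h
    rw [hψ x] at h1
    show (ψ x).b + x.b + bar ((ψ x).b + x.b) = 0
    rw [map_add]
    have h3 := Heis.char2 bar (x.a * bar x.a)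
    linear_combination h1 + h2 + h3
  have hδmul : ∀ x y, δ (x * y) = δ x + δ y := by
    intro x y
    show (ψ (x * y)).b + (x * y).b = (ψ x).b + x.b + ((ψ y).b + y.b)
    rw [map_mul, Heis.mul_b, Heis.mul_b, hψ x, hψ y]
    have h3 := Heis.char2 bar (x.a * bar y.a)
    linear_combination h3
  -- the defect vanishes on the centre
  have hδcen : ∀ z : Heis bar, z.a = 0 → δ z = 0 := by
    intro z hz
    have hzh := z.h
    rw [hz, zero_mul] at hzh
    have hc : bar z.b = z.b := Heis.fixed_of_add_eq_zero hzh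
    obtain ⟨m, hm⟩ := hsq z.b
    have hmf : bar m = m := by
      apply Heis.eq_of_mul_self_eq bar
      rw [← map_mul, hm, hc]
    obtain ⟨y, hy⟩ := Heis.exists_a (bar := bar) hTr m
    have hzy : z = y * y := by
      apply Heis.ext
      · rw [Heis.sq_a, hz]
      · rw [Heis.sq_b, hy, hmf, hm]
    show (ψ z).b + z.b = 0
    rw [hzy, map_mul, Heis.sq_b, Heis.sq_b, hψ y]
    exact Heis.char2 bar _
  have hδdep : ∀ x x' : Heis bar, x.a = x'.a → δ x = δ x' := by
    intro x x' h
    have h1 : x' = x * (x⁻¹ * x') := by rw [mul_inv_cancel_left]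
    have h2 : (x⁻¹ * x').a = 0 := by
      rw [Heis.mul_a, Heis.inv_a, h]
      exact Heis.char2 bar _
    rw [h1, hδmul, hδcen _ h2, add_zero]
  choose s hs using fun a : F => Heis.exists_a (bar := bar) hTr a
  have hγadd : ∀ a a' : F, δ (s (a + a')) = δ (s a) + δ (s a') := by
    intro a a'
    rw [← hδmul]
    apply hδdep
    rw [Heis.mul_a, hs, hs, hs]
  have hγzero : δ (s 0) = 0 := hδcen _ (hs 0)
  refine ⟨{ toFun := fun a => δ (s a), map_zero' := hγzero, map_add' := hγadd },
    fun a => hδfix (s a), ?_⟩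
  ext x
  · rw [hψ x]
    rfl
  · show (ψ x).b = x.b + δ (s x.a)
    rw [hδdep (s x.a) x (hs x.a)]
    show (ψ x).b = x.b + ((ψ x).b + x.b)
    have h3 := Heis.char2 bar x.b
    linear_combination -h3

end Cfsg.Agent.Helper76.SUaut
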