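import Mathlib
import Cfsg.Agent.Helper6.SUaut1
import Cfsg.Agent.Helper76.SUautK1

set_option autoImplicit false
set_option linter.unusedSectionVars false

/-!
Piece (K3) for helper6's S3162 (WANTED #8751): the kernel of `indHom` is elementary abelian and in
bijection with the additive maps `F → F₀`.
-/

namespace Cfsg.Agent.Helper76.SUaut

open Cfsg.Agent.Helper19.SU3 Cfsg.Agent.Helper6.SUaut

variable {F : Type*} [Field F] [Fintype F] {bar : F →+* F} [BarField F bar]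

theorem cen_mul_cen_comm (γ γ' : F →+ F) (hγ : ∀ a, bar (γ a) = γ a)
    (hγ' : ∀ a, bar (γ' a) = γ' a) :
    (cen γ hγ : MulAut (Heis bar)) * cen γ' hγ' = cen γ' hγ' * cen γ hγ := by
  ext x
  · rfl
  · show (cen γ hγ (cen γ' hγ' x)).b = (cen γ' hγ' (cen γ hγ x)).b
    rw [cen_apply_b, cen_apply_b, cen_apply_a, cen_apply_b, cen_apply_b, cen_apply_a]
    ring

theorem cen_sq (γ : F →+ F) (hγ : ∀ a, bar (γ a) = γ a) :
    (cen γ hγ : MulAut (Heis bar)) ^ 2 = 1 := by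
  rw [pow_two]
  ext x
  · rfl
  · show (cen γ hγ (cen γ hγ x)).b = x.b
    rw [cen_apply_b, cen_apply_b, cen_apply_a]
    linear_combination Heis.char2 bar (γ x.a)

/-- (K3) from (K1) -/
theorem K3 (hω : ∃ ω : F, bar ω ≠ ω) (hTr : ∀ c : F, bar c = c → ∃ b, b + bar b = c)
    (hsq : ∀ c : F, ∃ m : F, m * m = c) :
    Nat.card (indHom hω hTr).ker = Nat.card {γ : F →+ F // ∀ a, bar (γ a) = γ a} ∧
    (∀ ψ ∈ (indHom hω hTr).ker, ∀ ψ' ∈ (indHom hω hTr).ker, ψ * ψ' = ψ' * ψ) ∧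
    (∀ ψ ∈ (indHom hω hTr).ker, ψ ^ 2 = 1) := by
  refine ⟨?_, ?_, ?_⟩
  · symm
    apply Nat.card_congr
    refine Equiv.ofBijective
      (fun γ => ⟨cen γ.1 γ.2, (mem_ker_indHom hω hTr _).2 (fun x => rfl)⟩) ⟨?_, ?_⟩
    · intro γ γ' h
      have h1 : (cen γ.1 γ.2 : MulAut (Heis bar)) = cen γ'.1 γ'.2 := congrArg Subtype.val h
      apply Subtype.ext
      ext a
      obtain ⟨x, hx⟩ := Heis.exists_a (bar := bar) hTr a
      have h2 : (cen γ.1 γ.2 x).b = (cen γ'.1 γ'.2 x).b := by rw [h1]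
      rw [cen_apply_b, cen_apply_b, hx] at h2
      exact add_left_cancel h2
    · intro ψ
      obtain ⟨γ, hγ, h⟩ := K1 hω hTr hsq ψ.1 ((mem_ker_indHom hω hTr _).1 ψ.2)
      exact ⟨⟨γ, hγ⟩, Subtype.ext h.symm⟩
  · intro ψ hψ ψ' hψ'
    obtain ⟨γ, hγ, h⟩ := K1 hω hTr hsq ψ ((mem_ker_indHom hω hTr _).1 hψ)
    obtain ⟨γ', hγ', h'⟩ := K1 hω hTr hsq ψ' ((mem_ker_indHom hω hTr _).1 hψ')
    rw [h, h']
    exact cen_mul_cen_comm γ γ' hγ hγ'
  · intro ψ hψ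
    obtain ⟨γ, hγ, h⟩ := K1 hω hTr hsq ψ ((mem_ker_indHom hω hTr _).1 hψ)
    rw [h]
    exact cen_sq γ hγ

end Cfsg.Agent.Helper76.SUaut
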