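import Mathlib
import Cfsg.Agent.Helper6.SUaut1

set_option autoImplicit false
set_option linter.unusedSectionVars false

/-!
Piece (R2) for helper6's S3162 (WANTED #8751): a finite field of order `2 ^ (2 n)` has exactly `2 n`
ring automorphisms.
-/

namespace Cfsg.Agent.Helper76.SUaut

open Cfsg.Agent.Helper19.SU3 Cfsg.Agent.Helper6.SUaut

/-- ring automorphisms of a `ZMod p`-algebra are the same as algebra automorphisms -/
noncomputable def ringEquivEquivAlgEquivZMod (p : ℕ) (E : Type*) [Field E] [Algebra (ZMod p) E] :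
    (E ≃+* E) ≃ (E ≃ₐ[ZMod p] E) where
  toFun f := AlgEquiv.ofRingEquiv (f := f) (fun x => by
    have h : ((f : E →+* E).comp (algebraMap (ZMod p) E)) = algebraMap (ZMod p) E :=
      Subsingleton.elim _ _
    exact RingHom.congr_fun h x)
  invFun g := g.toRingEquiv
  left_inv f := by
    ext x
    rfl
  right_inv g := by
    ext x
    rfl

variable {F : Type*} [Field F] [Fintype F] {bar : F →+* F} [BarField F bar]

/-- (R2) -/
theorem R2 {n : ℕ} (hF : Fintype.card F = 2 ^ (2 * n)) : Nat.card (F ≃+* F) = 2 * n := by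
  have : Fact (Nat.Prime 2) := ⟨Nat.prime_two⟩
  have : CharP F 2 := charP_of_card_eq_prime_pow hF
  let _ : Algebra (ZMod 2) F := ZMod.algebra F 2
  rw [Nat.card_congr (ringEquivEquivAlgEquivZMod 2 F), IsGalois.card_aut_eq_finrank]
  have h1 : Fintype.card F = Fintype.card (ZMod 2) ^ Module.finrank (ZMod 2) F :=
    Module.card_eq_pow_finrank
  rw [ZMod.card, hF] at h1
  exact (Nat.pow_right_injective (le_refl 2) h1).symm

end Cfsg.Agent.Helper76.SUaut
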