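import Mathlib
import Cfsg.Agent.Helper17.SylowKit
import Cfsg.Agent.Helper17.SylowKit2

/-!
# Leaves (L1), (L2) for S4274 (helper61, WANTED #3711)

No simple group of order `11704 = 8*7*11*19`; no simple group of order `58520 = 8*5*7*11*19`
with `77` Sylow `19`-subgroups.  Tool `cen`: if a prime `q` (with Sylow `q`-subgroups of order `q`)
divides `|C(P)|`, then `|P|` divides `|N(Q)|`.
-/

set_option autoImplicit false
set_option linter.style.haveILetI false

namespace Cfsg.Agent.Helper76.J1L12

open Subgroup Cfsg.Agent.Helper17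

variable {K : Type*} [Group K] [Finite K]

/-- All Sylow `q`-normalizers have the same order. -/
theorem card_normalizer_sylow_eq {q : ℕ} [Fact q.Prime] (Q Q' : Sylow q K) :
    Nat.card (normalizer ((Q : Subgroup K) : Set K)) =
      Nat.card (normalizer ((Q' : Subgroup K) : Set K)) := by
  have h1 := card_normalizer_mul_card_sylow Q
  have h2 := card_normalizer_mul_card_sylow Q'
  have hpos : 0 < Nat.card (Sylow q K) := Nat.card_pos
  exact Nat.eq_of_mul_eq_mul_right hpos (h1.trans h2.symm)

/-- (CEN): if the Sylow `q`-subgroups have order `q` and `q ∣ |C(P)|`, then `|P| ∣ |N(Q)|`. -/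
theorem cen {p q : ℕ} [Fact p.Prime] [Fact q.Prime] (P : Sylow p K) (Q : Sylow q K)
    (hQ : Nat.card (Q : Subgroup K) = q)
    (hq : q ∣ Nat.card (centralizer ((P : Subgroup K) : Set K))) :
    Nat.card (P : Subgroup K) ∣ Nat.card (normalizer ((Q : Subgroup K) : Set K)) := by
  obtain ⟨x, hx⟩ :=
    exists_prime_orderOf_dvd_card' (G := ↥(centralizer ((P : Subgroup K) : Set K))) q hq
  have hxo : orderOf (x : K) = q := by rw [Subgroup.orderOf_coe]; exact hx
  have hpg : IsPGroup q (Subgroup.zpowers (x : K)) := by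
    apply IsPGroup.of_card (n := 1)
    rw [Nat.card_zpowers, hxo, pow_one]
  obtain ⟨Q', hQ'⟩ := hpg.exists_le_sylow
  have hQ'card : Nat.card (Q' : Subgroup K) = q := by
    exact (Q'.card_eq_multiplicity).trans ((Q.card_eq_multiplicity).symm.trans hQ)
  have hzQ : Subgroup.zpowers (x : K) = (Q' : Subgroup K) :=
    Subgroup.eq_of_le_of_card_ge hQ' (by rw [hQ'card, Nat.card_zpowers, hxo])
  have hPle : (P : Subgroup K) ≤ normalizer ((Q' : Subgroup K) : Set K) := by
    intro y hy
    apply Subgroup.centralizer_le_normalizer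
    rw [Subgroup.mem_centralizer_iff]
    intro h hh
    have hh' : h ∈ Subgroup.zpowers (x : K) := by rw [hzQ]; exact hh
    obtain ⟨k, rfl⟩ := Subgroup.mem_zpowers_iff.mp hh'
    have hc : Commute (x : K) y := ((Subgroup.mem_centralizer_iff.mp x.2) y hy).symm
    exact (hc.zpow_left k).eq
  have := Subgroup.card_dvd_of_le hPle
  rwa [card_normalizer_sylow_eq Q' Q] at this

/-- index bookkeeping: a Sylow normalizer of index `n < 19` is impossible when `19 ∣ |K|`. -/
theorem idx_kill [IsSimpleGroup K] (hG : ¬ IsMulCommutative K) {p : ℕ} [Fact p.Prime] (P : Sylow p K)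
    {n : ℕ} (hn : Nat.card (Sylow p K) = n) (hn1 : n ≠ 1) (hn19 : n < 19)
    (h19 : 19 ∣ Nat.card K) : False := by
  have hidx : (normalizer ((P : Subgroup K) : Set K)).index = n := by
    have h0 := P.card_eq_index_normalizer
    rw [hn] at h0
    exact h0.symm
  have hne : normalizer ((P : Subgroup K) : Set K) ≠ ⊤ := by
    intro h
    rw [h, Subgroup.index_top] at hidx
    exact hn1 hidx.symm
  have h1 := two_mul_card_dvd_factorial_index hG _ hne
  rw [hidx] at h1
  have h2 : 19 ∣ n.factorial := (h19.trans (dvd_mul_left _ 2)).trans h1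
  have h3 := (Nat.Prime.dvd_factorial (by norm_num : Nat.Prime 19)).mp h2
  omega

theorem not_simple_11704 [IsSimpleGroup K] (hcard : Nat.card K = 11704) : False := by
  haveI : Fact (Nat.Prime 7) := ⟨by norm_num⟩
  haveI : Fact (Nat.Prime 19) := ⟨by norm_num⟩
  have hG : ¬ IsMulCommutative K := not_comm_of_simple_of_not_prime (by rw [hcard]; norm_num)
  obtain ⟨P⟩ : Nonempty (Sylow 7 K) := inferInstance
  obtain ⟨Q⟩ : Nonempty (Sylow 19 K) := inferInstance
  have hc7 : Nat.card K = 7 ^ 1 * 1672 := by rw [hcard]; norm_num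
  have hc19 : Nat.card K = 19 ^ 1 * 616 := by rw [hcard]; norm_num
  have hP : Nat.card (P : Subgroup K) = 7 := by
    have := card_sylow_subgroup_of_card_eq hc7 (by norm_num) P
    simpa using this
  have hQ : Nat.card (Q : Subgroup K) = 19 := by
    have := card_sylow_subgroup_of_card_eq hc19 (by norm_num) Q
    simpa using this
  -- n19 = 77
  have h19 : Nat.card (Sylow 19 K) = 77 := by
    have hdvd : Nat.card (Sylow 19 K) ∣ 616 := card_sylow_dvd_of_card_eq hc19 (by norm_num)
    have hmod := card_sylow_modEq_one 19 K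
    have hne1 : Nat.card (Sylow 19 K) ≠ 1 :=
      card_sylow_ne_one_of_simple hc19 (by norm_num) (by norm_num) (by norm_num)
    unfold Nat.ModEq at hmod
    generalize Nat.card (Sylow 19 K) = n at *
    have hm : n ∈ Nat.divisors 616 := Nat.mem_divisors.mpr ⟨hdvd, by norm_num⟩
    simp only [Nat.divisors_ofNat] at hm
    simp only [Finset.mem_insert, Finset.mem_singleton] at hm
    omega
  have hN19 : Nat.card (normalizer ((Q : Subgroup K) : Set K)) = 152 := by
    have := card_normalizer_mul_card_sylow Q
    rw [h19, hcard] at this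
    omega
  -- n7 in {8, 22}
  have h7 : Nat.card (Sylow 7 K) = 8 ∨ Nat.card (Sylow 7 K) = 22 := by
    have hdvd : Nat.card (Sylow 7 K) ∣ 1672 := card_sylow_dvd_of_card_eq hc7 (by norm_num)
    have hmod := card_sylow_modEq_one 7 K
    have hne1 : Nat.card (Sylow 7 K) ≠ 1 :=
      card_sylow_ne_one_of_simple hc7 (by norm_num) (by norm_num) (by norm_num)
    unfold Nat.ModEq at hmod
    generalize Nat.card (Sylow 7 K) = n at *
    have hm : n ∈ Nat.divisors 1672 := Nat.mem_divisors.mpr ⟨hdvd, by norm_num⟩
    simp only [Nat.divisors_ofNat] at hm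
    simp only [Finset.mem_insert, Finset.mem_singleton] at hm
    omega
  rcases h7 with h7 | h7
  · exact idx_kill hG P h7 (by norm_num) (by norm_num) (by rw [hcard]; norm_num)
  · have hN7 : Nat.card (normalizer ((P : Subgroup K) : Set K)) = 532 := by
      have := card_normalizer_mul_card_sylow P
      rw [h7, hcard] at this
      omega
    obtain ⟨hf6, -⟩ := relIndex_dvd_of_card_sylow_prime P hP
    have hCmul := card_centralizer_mul_relIndex (P : Subgroup K)
    have h0 : (centralizer ((P : Subgroup K) : Set K)).relIndex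
        (normalizer ((P : Subgroup K) : Set K)) ≠ 0 := Subgroup.index_ne_zero_of_finite
    rw [hN7] at hCmul
    have h19C : 19 ∣ Nat.card (centralizer ((P : Subgroup K) : Set K)) := by
      generalize (centralizer ((P : Subgroup K) : Set K)).relIndex
        (normalizer ((P : Subgroup K) : Set K)) = f at hf6 hCmul h0
      have h19' : 19 ∣ Nat.card (centralizer ((P : Subgroup K) : Set K)) * f := by
        rw [hCmul]; norm_num
      rcases (Nat.Prime.dvd_mul (by norm_num)).mp h19' with h | h
      · exact h
      · exfalso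
        have h1 := Nat.le_of_dvd (by norm_num) hf6
        have h2 := Nat.le_of_dvd (Nat.pos_of_ne_zero h0) h
        omega
    have := cen P Q hQ h19C
    rw [hP, hN19] at this
    norm_num at this

theorem not_simple_58520_77 [IsSimpleGroup K] (hcard : Nat.card K = 58520)
    (h19 : Nat.card (Sylow 19 K) = 77) : False := by
  haveI : Fact (Nat.Prime 5) := ⟨by norm_num⟩
  haveI : Fact (Nat.Prime 19) := ⟨by norm_num⟩
  have hG : ¬ IsMulCommutative K := not_comm_of_simple_of_not_prime (by rw [hcard]; norm_num)
  obtain ⟨P⟩ : Nonempty (Sylow 5 K) := inferInstance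
  obtain ⟨Q⟩ : Nonempty (Sylow 19 K) := inferInstance
  have hc5 : Nat.card K = 5 ^ 1 * 11704 := by rw [hcard]; norm_num
  have hc19 : Nat.card K = 19 ^ 1 * 3080 := by rw [hcard]; norm_num
  have hP : Nat.card (P : Subgroup K) = 5 := by
    have := card_sylow_subgroup_of_card_eq hc5 (by norm_num) P
    simpa using this
  have hQ : Nat.card (Q : Subgroup K) = 19 := by
    have := card_sylow_subgroup_of_card_eq hc19 (by norm_num) Q
    simpa using this
  have hN19 : Nat.card (normalizer ((Q : Subgroup K) : Set K)) = 760 := by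
    have := card_normalizer_mul_card_sylow Q
    rw [h19, hcard] at this
    omega
  -- 5 ∣ |C(Q)|
  have h5C : 5 ∣ Nat.card (centralizer ((Q : Subgroup K) : Set K)) := by
    obtain ⟨hf18, hf760⟩ := relIndex_dvd_of_card_sylow_prime Q hQ
    have hCmul := card_centralizer_mul_relIndex (Q : Subgroup K)
    rw [hN19] at hCmul hf760
    generalize (centralizer ((Q : Subgroup K) : Set K)).relIndex
      (normalizer ((Q : Subgroup K) : Set K)) = f at hf18 hf760 hCmul
    have hm : f ∈ Nat.divisors 18 := Nat.mem_divisors.mpr ⟨hf18, by norm_num⟩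
    simp only [Nat.divisors_ofNat] at hm
    simp only [Finset.mem_insert, Finset.mem_singleton] at hm
    rcases hm with rfl | rfl | rfl | rfl | rfl | rfl
    · exact ⟨152, by omega⟩
    · exact ⟨76, by omega⟩
    · norm_num at hf760
    · norm_num at hf760
    · norm_num at hf760
    · norm_num at hf760
  have h19N5 : 19 ∣ Nat.card (normalizer ((P : Subgroup K) : Set K)) := by
    have := cen Q P hP h5C
    rwa [hQ] at this
  have h5N5 : 5 ∣ Nat.card (normalizer ((P : Subgroup K) : Set K)) := by
    have := Subgroup.card_dvd_of_le (Subgroup.le_normalizer (H := (P : Subgroup K)))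
    rwa [hP] at this
  have h95 : 95 ∣ Nat.card (normalizer ((P : Subgroup K) : Set K)) :=
    Nat.Coprime.mul_dvd_of_dvd_of_dvd (by norm_num : Nat.Coprime 5 19) h5N5 h19N5
  have hmul := card_normalizer_mul_card_sylow P
  rw [hcard] at hmul
  have hdvd : Nat.card (Sylow 5 K) ∣ 616 := by
    obtain ⟨j, hj⟩ := h95
    rw [hj] at hmul
    refine ⟨j, ?_⟩
    have : 95 * (j * Nat.card (Sylow 5 K)) = 95 * 616 := by rw [← mul_assoc]; exact hmul
    have := Nat.eq_of_mul_eq_mul_left (by norm_num) this
    rw [mul_comm]; exact this.symm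
  have hmod := card_sylow_modEq_one 5 K
  have hne1 : Nat.card (Sylow 5 K) ≠ 1 :=
    card_sylow_ne_one_of_simple hc5 (by norm_num) (by norm_num) (by norm_num)
  unfold Nat.ModEq at hmod
  have hcases : Nat.card (Sylow 5 K) = 11 ∨ Nat.card (Sylow 5 K) = 56 ∨
      Nat.card (Sylow 5 K) = 616 := by
    generalize Nat.card (Sylow 5 K) = n at *
    have hm : n ∈ Nat.divisors 616 := Nat.mem_divisors.mpr ⟨hdvd, by norm_num⟩
    simp only [Nat.divisors_ofNat] at hm
    simp only [Finset.mem_insert, Finset.mem_singleton] at hm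
    omega
  obtain ⟨d, hd1, hd4, hdN⟩ := exists_dvd_of_simple_sylow_prime P hP (by rw [hcard]; norm_num)
  have hd : d = 2 ∨ d = 4 := by
    have hm : d ∈ Nat.divisors 4 := Nat.mem_divisors.mpr ⟨hd4, by norm_num⟩
    simp only [Nat.divisors_ofNat] at hm
    simp only [Finset.mem_insert, Finset.mem_singleton] at hm
    omega
  have h10 : 10 ∣ Nat.card (normalizer ((P : Subgroup K) : Set K)) := by
    rcases hd with rfl | rfl
    · exact hdN
    · exact (by norm_num : 10 ∣ 5 * 4).trans hdN
  rcases hcases with h5 | h5 | h5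
  · exact idx_kill hG P h5 (by norm_num) (by norm_num) (by rw [hcard]; norm_num)
  · rw [h5] at hmul
    have : Nat.card (normalizer ((P : Subgroup K) : Set K)) = 1045 := by omega
    rw [this] at h10
    norm_num at h10
  · rw [h5] at hmul
    have : Nat.card (normalizer ((P : Subgroup K) : Set K)) = 95 := by omega
    rw [this] at h10
    norm_num at h10

end Cfsg.Agent.Helper76.J1L12
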