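import Mathlib
import Cfsg.Agent.Helper99.P4Defs

/-!
Piece (T1g) for helper99's S6000 (WANTED #8930): an absolutely irreducible subgroup of `GL₄(F)` of
symplectic type with centre of order `4` and `R / Z(R)` elementary abelian is "Pauli-like".
-/

set_option autoImplicit false
open scoped MatrixGroups

namespace Cfsg.Agent.Helper76.P4

open Matrix Polynomial Cfsg.Agent.Helper99.P4 Cfsg.Geo

variable {F : Type*} [Field F]

theorem scalar_one_inj (c d : F)
    (h : c • (1 : Matrix (Fin 4) (Fin 4) F) = d • (1 : Matrix (Fin 4) (Fin 4) F)) : c = d := by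
  have h1 := congrFun (congrFun h 0) 0
  simpa using h1

theorem sq_eq_one_cases (c : F) (h : c * c = 1) : c = 1 ∨ c = -1 := by
  have h1 : (c - 1) * (c + 1) = 0 := by linear_combination h
  rcases mul_eq_zero.mp h1 with h | h
  · left; linear_combination h
  · right; linear_combination h

theorem pow_mul_self_four (X : Matrix (Fin 4) (Fin 4) F) : X ^ 4 = (X * X) * (X * X) := by
  rw [← pow_two, ← pow_two, ← pow_mul]

/-- (T1g) -/
theorem pauliLike_of_symplecticType (h2 : (2 : F) ≠ 0) (R : Subgroup (GL (Fin 4) F)) [Finite R]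
    (hRs : IsSymplecticTypeGroup 2 R) (hRi : ActsAbsolutelyIrreducibly (matrixSet R))
    (hRZ : Nat.card (Subgroup.center R) = 4)
    (hA1 : ∀ g h : R, g * g ∈ Subgroup.center R ∧ g * h * g⁻¹ * h⁻¹ ∈ Subgroup.center R) :
    ∃ i : F, i ^ 2 = -1 ∧ IsPauliLike i R := by
  classical
  -- the centre consists of scalars
  have hcen : ∀ z : R, z ∈ Subgroup.center R →
      ∃ c : F, ((z : GL (Fin 4) F) : Matrix (Fin 4) (Fin 4) F) = c • 1 := by
    intro z hz
    apply hRi.2
    rintro s ⟨g, hg, rfl⟩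
    have h1 := Subgroup.mem_center_iff.mp hz ⟨g, hg⟩
    have h3 : g * (z : GL (Fin 4) F) = (z : GL (Fin 4) F) * g := congrArg Subtype.val h1
    have h4 := congrArg (fun x : GL (Fin 4) F => (x : Matrix (Fin 4) (Fin 4) F)) h3
    simp only [Units.val_mul] at h4
    exact h4.symm
  -- exponent four
  have hexp : ∀ g : R, g ^ 4 = 1 := by
    intro g
    have h1 := Monoid.pow_exponent_eq_one g
    rw [hRs.exponent_eq] at h1
    exact h1
  have hpow4 : ∀ g ∈ R, ((g : GL (Fin 4) F) : Matrix (Fin 4) (Fin 4) F) ^ 4 = 1 := by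
    intro g hg
    have h1 := hexp ⟨g, hg⟩
    have h3 : g ^ 4 = 1 := congrArg Subtype.val h1
    have h4 := congrArg (fun x : GL (Fin 4) F => (x : Matrix (Fin 4) (Fin 4) F)) h3
    simpa using h4
  have hscal : ∀ g ∈ R, ∀ z : F, ((g : GL (Fin 4) F) : Matrix (Fin 4) (Fin 4) F) = z • 1 →
      z ^ 4 = 1 := by
    intro g hg z hz
    have h1 := hpow4 g hg
    rw [hz, _root_.smul_pow, one_pow] at h1
    have h3 : z ^ 4 • (1 : Matrix (Fin 4) (Fin 4) F) = (1 : F) • 1 := by rw [h1, one_smul]
    exact scalar_one_inj _ _ h3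
  -- a central element with `c ≠ ±1`
  have hex : ∃ z : R, z ∈ Subgroup.center R ∧
      ∃ c : F, ((z : GL (Fin 4) F) : Matrix (Fin 4) (Fin 4) F) = c • 1 ∧ c ≠ 1 ∧ c ≠ -1 := by
    by_contra hcon
    push Not at hcon
    choose! f hf using hcen
    have hmem : ∀ z : Subgroup.center R, f z.1 ∈ ({1, -1} : Finset F) := by
      intro z
      rw [Finset.mem_insert, Finset.mem_singleton]
      by_cases h1 : f z.1 = 1
      · left; exact h1
      · right; exact hcon z.1 z.2 (f z.1) (hf z.1 z.2) h1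
    have hinj : Function.Injective
        (fun z : Subgroup.center R => (⟨f z.1, hmem z⟩ : ({1, -1} : Finset F))) := by
      intro z z' h
      have h1 : f z.1 = f z'.1 := congrArg Subtype.val h
      apply Subtype.ext
      apply Subtype.ext
      apply Units.ext
      rw [hf z.1 z.2, hf z'.1 z'.2, h1]
    have h1 := Nat.card_le_card_of_injective _ hinj
    rw [hRZ, Nat.card_eq_fintype_card, Fintype.card_coe] at h1
    have h3 : ({1, -1} : Finset F).card ≤ 2 := Finset.card_le_two
    omega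
  obtain ⟨z, hz, i, hzi, hi1, hi2⟩ := hex
  have hi4 : i ^ 4 = 1 := hscal z.1 z.2 i hzi
  have hi : i ^ 2 = -1 := by
    have h1 : (i ^ 2) * (i ^ 2) = 1 := by rw [← hi4]; ring
    rcases sq_eq_one_cases _ h1 with h | h
    · exfalso
      have h3 : i * i = 1 := by rw [← h]; ring
      rcases sq_eq_one_cases _ h3 with h | h
      · exact hi1 h
      · exact hi2 h
    · exact h
  refine ⟨i, hi, ⟨⟨z.1, z.2, hzi⟩, ?_, ?_, hscal, ?_⟩⟩
  · -- squares
    intro g hg
    obtain ⟨c, hc⟩ := hcen (⟨g, hg⟩ * ⟨g, hg⟩) (hA1 ⟨g, hg⟩ ⟨g, hg⟩).1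
    have hc' : (g : Matrix (Fin 4) (Fin 4) F) * (g : Matrix (Fin 4) (Fin 4) F) = c • 1 := by
      rw [← hc]
      rfl
    have h4 := hpow4 g hg
    have h5 : ((g : GL (Fin 4) F) : Matrix (Fin 4) (Fin 4) F) ^ 4 =
        ((g : Matrix (Fin 4) (Fin 4) F) * g) * ((g : Matrix (Fin 4) (Fin 4) F) * g) := by
      rw [pow_mul_self_four]
    rw [h5, hc', Matrix.smul_mul, Matrix.mul_smul, Matrix.one_mul, smul_smul] at h4
    have h6 : (c * c) • (1 : Matrix (Fin 4) (Fin 4) F) = (1 : F) • 1 := by rw [h4, one_smul]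
    rcases sq_eq_one_cases c (scalar_one_inj _ _ h6) with h | h
    · left; rw [hc', h, one_smul]
    · right; rw [hc', h, neg_smul, one_smul]
  · -- commutators
    intro g hg h hh
    set g' : R := ⟨g, hg⟩ with hg'
    set h' : R := ⟨h, hh⟩ with hh'
    have hzc := (hA1 g' h').2
    obtain ⟨c, hc⟩ := hcen _ hzc
    set w : R := g' * h' * g'⁻¹ * h'⁻¹ with hw
    have hgh : g' * h' = w * (h' * g') := by rw [hw]; group
    -- `w ^ 2 = 1`
    have hw2 : w * w = 1 := by
      have hwc : ∀ x : R, x * w = w * x := fun x => Subgroup.mem_center_iff.mp hzc x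
      have hg2 : ∀ x : R, x * (g' * g') = (g' * g') * x :=
        fun x => Subgroup.mem_center_iff.mp (hA1 g' g').1 x
      have e1 : g' * h' * g'⁻¹ = w * h' := by rw [hw]; group
      have e2 : g' * (g' * h' * g'⁻¹) * g'⁻¹ = w * w * h' := by
        calc g' * (g' * h' * g'⁻¹) * g'⁻¹ = g' * (w * h') * g'⁻¹ := by rw [e1]
          _ = (g' * w) * h' * g'⁻¹ := by group
          _ = (w * g') * h' * g'⁻¹ := by rw [hwc g']
          _ = w * (g' * h' * g'⁻¹) := by group
          _ = w * (w * h') := by rw [e1]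
          _ = w * w * h' := by group
      have e3 : g' * (g' * h' * g'⁻¹) * g'⁻¹ = h' := by
        have := hg2 h'
        calc g' * (g' * h' * g'⁻¹) * g'⁻¹ = (g' * g') * h' * (g'⁻¹ * g'⁻¹) := by group
          _ = h' * (g' * g') * (g'⁻¹ * g'⁻¹) := by rw [← this]
          _ = h' := by group
      rw [e3] at e2
      have : w * w * h' = 1 * h' := by rw [← e2, one_mul]
      exact mul_right_cancel this
    have hcc : c = 1 ∨ c = -1 := by
      have h4 : ((w * w : R) : GL (Fin 4) F) = 1 := by rw [hw2]; rfl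
      have h5 := congrArg (fun x : GL (Fin 4) F => (x : Matrix (Fin 4) (Fin 4) F)) h4
      simp only [Subgroup.coe_mul, Units.val_mul, Units.val_one] at h5
      rw [hc, Matrix.smul_mul, Matrix.mul_smul, Matrix.one_mul, smul_smul] at h5
      have h6 : (c * c) • (1 : Matrix (Fin 4) (Fin 4) F) = (1 : F) • 1 := by rw [h5, one_smul]
      exact sq_eq_one_cases c (scalar_one_inj _ _ h6)
    have hmat : (g : Matrix (Fin 4) (Fin 4) F) * (h : Matrix (Fin 4) (Fin 4) F) =
        c • ((h : Matrix (Fin 4) (Fin 4) F) * (g : Matrix (Fin 4) (Fin 4) F)) := by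
      have h4 : ((g' * h' : R) : GL (Fin 4) F) = ((w * (h' * g') : R) : GL (Fin 4) F) := by rw [hgh]
      have h5 := congrArg (fun x : GL (Fin 4) F => (x : Matrix (Fin 4) (Fin 4) F)) h4
      simp only [Subgroup.coe_mul, Units.val_mul] at h5
      rw [hc, Matrix.smul_mul, Matrix.one_mul] at h5
      exact h5
    rcases hcc with hc1 | hc1
    · left; rw [hmat, hc1, one_smul]
    · right; rw [hmat, hc1, neg_smul, one_smul]
  · -- commutant
    intro M hM
    apply hRi.2
    rintro s ⟨g, hg, rfl⟩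
    exact hM g hg

end Cfsg.Agent.Helper76.P4
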