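import Mathlib
import Cfsg.Agent.Helper99.P4Defs

/-!
Piece (U1) for helper99's S6000 (WANTED #8930): the trace of a Pauli word.
-/

set_option autoImplicit false
open scoped MatrixGroups

namespace Cfsg.Agent.Helper76.P4

open Matrix Polynomial Cfsg.Agent.Helper99.P4 Cfsg.Geo

variable {F : Type*} [Field F]

theorem v4_eq_zero_iff (a b c d : ZMod 2) :
    ((a, b, c, d) : V4) = 0 ↔ a = 0 ∧ b = 0 ∧ c = 0 ∧ d = 0 := by
  revert a b c d; decide

/-- (U1) -/
theorem pw_trace (v : V4) :
    Matrix.trace (pw v : Matrix (Fin 4) (Fin 4) F) = if v = 0 then 4 else 0 := by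
  obtain ⟨a, b, c, d⟩ := v
  rcases zmod2_cases a with rfl | rfl <;> rcases zmod2_cases b with rfl | rfl <;>
  rcases zmod2_cases c with rfl | rfl <;> rcases zmod2_cases d with rfl | rfl <;>
  simp only [v4_eq_zero_iff, z2_10, and_self, and_true, and_false,
    if_true, if_false, pw, z2_v0, z2_v1, pow_zero, pow_one, mul_one, one_mul] <;>
  simp [mX1, mZ1, mX2, mZ2, Matrix.trace, Fin.sum_univ_four]
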