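import Mathlib
import Cfsg.Agent.Helper99.P4Defs
import Cfsg.Agent.Helper76.P4U1

/-!
Piece (U2) for helper99's S6000 (WANTED #8930): Pauli words are linearly independent in the weak
sense `c • pw u = c' • pw v → u = v ∧ c = c'` (for `c ≠ 0`, characteristic `≠ 2`).
-/

set_option autoImplicit false
open scoped MatrixGroups

namespace Cfsg.Agent.Helper76.P4

open Matrix Polynomial Cfsg.Agent.Helper99.P4 Cfsg.Geo

variable {F : Type*} [Field F]

theorem sg_ne_zero (t : ZMod 2) : (sg t : F) ≠ 0 := by
  intro h
  have h1 := sg_mul_self (F := F) t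
  rw [h, mul_zero] at h1
  exact zero_ne_one h1

/-- (U2) -/
theorem pw_unique (h2 : (2 : F) ≠ 0) (c c' : F) (u v : V4) (hc : c ≠ 0)
    (h : c • (pw u : Matrix (Fin 4) (Fin 4) F) = c' • pw v) : u = v ∧ c = c' := by
  have h4 : (4 : F) ≠ 0 := by
    have : (4 : F) = 2 * 2 := by norm_num
    rw [this]
    exact mul_ne_zero h2 h2
  -- multiply by `pw u` on the right and take traces
  have h1 : c • ((pw u : Matrix (Fin 4) (Fin 4) F) * pw u) = c' • (pw v * pw u) := by
    rw [← Matrix.smul_mul, h, Matrix.smul_mul]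
  rw [pw_mul_self, pw_mul] at h1
  have ht := congrArg Matrix.trace h1
  rw [Matrix.trace_smul, Matrix.trace_smul, Matrix.trace_smul, Matrix.trace_smul, pw_trace,
    Matrix.trace_one, Fintype.card_fin] at ht
  have huv : v + u = 0 := by
    by_contra hne
    rw [if_neg hne] at ht
    simp only [smul_eq_mul, mul_zero] at ht
    rcases mul_eq_zero.mp ht with h | h
    · exact hc h
    · rcases mul_eq_zero.mp h with h | h
      · exact sg_ne_zero _ h
      · apply h4
        exact_mod_cast h
  have huv' : u = v := by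
    have h5 := add_self_V4 u
    have h6 : v + u = u + u := by rw [huv, h5]
    exact (add_right_cancel h6).symm
  refine ⟨huv', ?_⟩
  subst huv'
  rw [if_pos huv] at ht
  simp only [smul_eq_mul] at ht
  have h7 : (sg (eps u u) : F) * ((4 : ℕ) : F) ≠ 0 := by
    apply mul_ne_zero (sg_ne_zero _)
    exact_mod_cast h4
  have h8 : c * ((sg (eps u u) : F) * ((4 : ℕ) : F)) = c' * ((sg (eps u u) : F) * ((4 : ℕ) : F)) := by
    rw [ht]
    push_cast
    ring
  exact mul_right_cancel₀ h7 h8
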