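import Cfsg.Agent.Helper85.XDefs
import Cfsg.Agent.Helper85.Basic
import Cfsg.Agent.Helper87.FusionQuot

/-!
# (S1) of #6637 for helper85 (S5141): basic facts about `U = T C_S(T)` and `P⁺ = P C_S(T)` (helper76)
-/

set_option autoImplicit false

namespace Cfsg.Agent.Helper76.XS1

open Cfsg Cfsg.FusionSystem

variable {Ω : Type*} [Group Ω] {S T : Subgroup Ω}

/-- if `A` and `B` commute elementwise, every element of `A ⊔ B` is a product `a * b` -/
theorem exists_mul_of_mem_sup_of_commute {A B : Subgroup Ω}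
    (hAB : ∀ a ∈ A, ∀ b ∈ B, a * b = b * a) {x : Ω} (hx : x ∈ A ⊔ B) :
    ∃ a ∈ A, ∃ b ∈ B, x = a * b := by
  let K : Subgroup Ω :=
    { carrier := {x | ∃ a ∈ A, ∃ b ∈ B, x = a * b}
      mul_mem' := by
        rintro _ _ ⟨a, ha, b, hb, rfl⟩ ⟨a', ha', b', hb', rfl⟩
        refine ⟨a * a', mul_mem ha ha', b * b', mul_mem hb hb', ?_⟩
        calc a * b * (a' * b') = a * (b * a') * b' := by group
          _ = a * (a' * b) * b' := by rw [hAB a' ha' b hb]
          _ = a * a' * (b * b') := by group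
      one_mem' := ⟨1, A.one_mem, 1, B.one_mem, by simp⟩
      inv_mem' := by
        rintro _ ⟨a, ha, b, hb, rfl⟩
        refine ⟨a⁻¹, A.inv_mem ha, b⁻¹, B.inv_mem hb, ?_⟩
        rw [mul_inv_rev]
        have := hAB a⁻¹ (A.inv_mem ha) b⁻¹ (B.inv_mem hb)
        exact this.symm }
  have hA : A ≤ K := fun a ha => ⟨a, ha, 1, B.one_mem, by simp⟩
  have hB : B ≤ K := fun b hb => ⟨1, A.one_mem, b, hb, by simp⟩
  exact (sup_le hA hB) hx

theorem commute_of_mem_centralizerIn {t c : Ω} (ht : t ∈ T) (hc : c ∈ centralizerIn S T) :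
    t * c = c * t := by
  have h : c ∈ Subgroup.centralizer (T : Set Ω) := (Subgroup.mem_inf.mp hc).2
  rw [Subgroup.mem_centralizer_iff] at h
  exact h t ht

/-- For `P` with `C_T(P) ≤ P`: `P C_S(T) ∩ T = P`. -/
theorem mem_of_mem_sup_of_mem {P : Subgroup Ω} (hPT : P ≤ T) (hTS : T ≤ S) (hPc : centralizerIn T P ≤ P)
    {x : Ω} (hx : x ∈ P ⊔ centralizerIn S T) (hxT : x ∈ T) : x ∈ P := by
  obtain ⟨a, ha, c, hc, rfl⟩ := exists_mul_of_mem_sup_of_commute
    (fun a ha c hc => commute_of_mem_centralizerIn (hPT ha) hc) hx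
  have hcT : c ∈ T := by
    have := T.mul_mem (T.inv_mem (hPT ha)) hxT
    rwa [inv_mul_cancel_left] at this
  have hcP : c ∈ centralizerIn T P := by
    refine Subgroup.mem_inf.mpr ⟨hcT, ?_⟩
    rw [Subgroup.mem_centralizer_iff]
    intro y hy
    exact commute_of_mem_centralizerIn (hPT hy) hc
  exact P.mul_mem ha (hPc hcP)

/-- For `P` with `C_T(P) ≤ P`: an element of `T C_S(T)` centralizing `P` lies in `Z(P) C_S(T)`. -/
theorem exists_mul_of_centralizes {P : Subgroup Ω} (hPT : P ≤ T) (hTS : T ≤ S)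
    (hPc : centralizerIn T P ≤ P) {x : Ω}
    (hx : x ∈ T ⊔ centralizerIn S T) (hxP : x ∈ Subgroup.centralizer (P : Set Ω)) :
    ∃ z ∈ P, z ∈ Subgroup.centralizer (P : Set Ω) ∧ ∃ c ∈ centralizerIn S T, x = z * c := by
  obtain ⟨t, ht, c, hc, rfl⟩ := exists_mul_of_mem_sup_of_commute
    (fun a ha c hc => commute_of_mem_centralizerIn (S := S) ha hc) hx
  have htP : t ∈ Subgroup.centralizer (P : Set Ω) := by
    rw [Subgroup.mem_centralizer_iff] at hxP ⊢
    intro y hy
    have h1 := hxP y hy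
    have h2 : y * c = c * y := commute_of_mem_centralizerIn (hPT hy) hc
    -- y * (t * c) = t * c * y
    have : y * t * c = t * y * c := by
      calc y * t * c = y * (t * c) := by group
        _ = t * c * y := h1
        _ = t * (c * y) := by group
        _ = t * (y * c) := by rw [h2]
        _ = t * y * c := by group
    exact mul_right_cancel this
  have htP' : t ∈ P := hPc (Subgroup.mem_inf.mpr ⟨ht, htP⟩)
  exact ⟨t, htP', htP, c, hc, rfl⟩

/-- auxiliary form of `hom_sup_centralizer` for a source propositionally equal to `T C_S(T)` -/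
theorem hom_sup_centralizer_aux [Finite S] (F : FusionSystem S) (hT : F.StronglyClosed T)
    (U : Subgroup Ω) (hU : U = T ⊔ centralizerIn S T)
    (ψ : U →* Ω) (hψ : ψ ∈ F.Hom U) :
    ψ.range = U ∧ (∀ x : U, (x : Ω) ∈ T → ψ x ∈ T) ∧
      (∀ x : U, (x : Ω) ∈ centralizerIn S T → ψ x ∈ centralizerIn S T) := by
  classical
  have hTS : T ≤ S := hT.1
  have hUS : U ≤ S := (F.le_of_mem hψ).1
  have hTU : T ≤ U := hU ▸ le_sup_left
  have hCU : centralizerIn S T ≤ U := hU ▸ le_sup_right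
  have hinj : Function.Injective ψ := F.injective_of_mem hψ
  have : Finite T := Finite.of_injective (Subgroup.inclusion hTS) (Subgroup.inclusion_injective _)
  have : Finite U := Finite.of_injective (Subgroup.inclusion hUS) (Subgroup.inclusion_injective _)
  -- `ψ` maps `T` into `T`
  have hψT : ∀ x : U, (x : Ω) ∈ T → ψ x ∈ T := by
    intro x hx
    have h1 := Cfsg.Agent.Helper85.restrict_mem F hψ hTU
    exact hT.2 T le_rfl _ h1 ⟨x, hx⟩
  -- `ψ` maps `T` onto `T`
  have hψT_surj : ∀ t ∈ T, ∃ t' : U, (t' : Ω) ∈ T ∧ ψ t' = t := by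
    let f : T → T := fun t => ⟨ψ ⟨t, hTU t.2⟩, hψT _ t.2⟩
    have hf : Function.Injective f := by
      intro a b hab
      have h1 : ψ ⟨a, hTU a.2⟩ = ψ ⟨b, hTU b.2⟩ := congrArg Subtype.val hab
      have h2 := hinj h1
      have h3 : ((⟨a, hTU a.2⟩ : U) : Ω) = ((⟨b, hTU b.2⟩ : U) : Ω) := congrArg Subtype.val h2
      exact Subtype.ext h3
    have hfs : Function.Surjective f := Finite.surjective_of_injective hf
    intro t ht
    obtain ⟨t', ht'⟩ := hfs ⟨t, ht⟩
    exact ⟨⟨t', hTU t'.2⟩, t'.2, congrArg Subtype.val ht'⟩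
  -- `ψ` maps `C` into `C`
  have hψC : ∀ x : U, (x : Ω) ∈ centralizerIn S T → ψ x ∈ centralizerIn S T := by
    intro x hx
    refine Subgroup.mem_inf.mpr ⟨(F.le_of_mem hψ).2 x, ?_⟩
    rw [Subgroup.mem_centralizer_iff]
    intro t ht
    obtain ⟨t', ht', rfl⟩ := hψT_surj t ht
    rw [← map_mul, ← map_mul]
    congr 1
    apply Subtype.ext
    exact commute_of_mem_centralizerIn ht' hx
  refine ⟨?_, hψT, hψC⟩
  -- the range
  have hle : ψ.range ≤ U := by
    rintro _ ⟨x, rfl⟩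
    have hx : (x : Ω) ∈ T ⊔ centralizerIn S T := hU ▸ x.2
    obtain ⟨t, ht, c, hc, hxe⟩ := exists_mul_of_mem_sup_of_commute
      (fun a ha c hc => commute_of_mem_centralizerIn (S := S) ha hc) hx
    have : x = ⟨t, hTU ht⟩ * ⟨c, hCU hc⟩ := Subtype.ext hxe
    rw [this, map_mul]
    exact U.mul_mem (hTU (hψT _ ht)) (hCU (hψC _ hc))
  apply Subgroup.eq_of_le_of_card_ge hle
  have : Nat.card ψ.range = Nat.card U :=
    (Nat.card_congr (Equiv.ofInjective ψ hinj)).symm
  rw [this]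

/-- `U = T C_S(T)` is weakly closed; maps of `F` on `U` carry `T` onto `T` and `C_S(T)` into
`C_S(T)`. -/
theorem hom_sup_centralizer [Finite S] (F : FusionSystem S) (hT : F.StronglyClosed T)
    (ψ : ↥(T ⊔ centralizerIn S T) →* Ω) (hψ : ψ ∈ F.Hom (T ⊔ centralizerIn S T)) :
    ψ.range = T ⊔ centralizerIn S T ∧
      (∀ x : ↥(T ⊔ centralizerIn S T), (x : Ω) ∈ T → ψ x ∈ T) ∧
      (∀ x : ↥(T ⊔ centralizerIn S T), (x : Ω) ∈ centralizerIn S T → ψ x ∈ centralizerIn S T) :=
  hom_sup_centralizer_aux F hT _ rfl ψ hψ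

/-- A map of `F` defined on `P C_S(T)`, `P ≤ T`, takes values in `T C_S(T)`. -/
theorem map_mem_sup_centralizer [Finite S] (p : ℕ) [Fact p.Prime] (hS : IsPGroup p S)
    (F : FusionSystem S) (hF : F.IsSaturated p) (hT : F.StronglyClosed T) {P : Subgroup Ω}
    (hPT : P ≤ T) (ψ : ↥(P ⊔ centralizerIn S T) →* Ω) (hψ : ψ ∈ F.Hom (P ⊔ centralizerIn S T))
    (x : ↥(P ⊔ centralizerIn S T)) : ψ x ∈ T ⊔ centralizerIn S T := by
  obtain ⟨ψ', hψ', hmod⟩ := Cfsg.Agent.Helper87.exists_extension_mod hS F hF hT hψ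
  have hU : P ⊔ centralizerIn S T ⊔ T = T ⊔ centralizerIn S T := by
    apply le_antisymm
    · exact sup_le (sup_le (hPT.trans le_sup_left) le_sup_right) le_sup_left
    · exact sup_le le_sup_right (le_sup_right.trans le_sup_left)
  have h1 := hom_sup_centralizer_aux F hT _ hU ψ' hψ'
  have h2 : ψ' (Subgroup.inclusion le_sup_left x) ∈ T ⊔ centralizerIn S T := by
    have h5 : ψ' (Subgroup.inclusion le_sup_left x) ∈ ψ'.range := ⟨_, rfl⟩
    rw [h1.1] at h5
    exact hU.le h5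
  have h3 := hmod x
  have h4 : ψ x = ψ' (Subgroup.inclusion le_sup_left x) *
      ((ψ x)⁻¹ * ψ' (Subgroup.inclusion le_sup_left x))⁻¹ := by group
  rw [h4]
  exact Subgroup.mul_mem _ h2 (Subgroup.inv_mem _ ((le_sup_left : T ≤ T ⊔ centralizerIn S T) h3))

end Cfsg.Agent.Helper76.XS1
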