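import Cfsg.Agent.Helper90.PronBU1.Defs

/-!
# (M2) of helper90's BU1 farm (#15500, S2225/S2226): a matrix commuting with `diag(a, b)`, `a ≠ b`,
and with an antidiagonal matrix is scalar
-/

set_option autoImplicit false

namespace Cfsg.Agent.Helper76.Pron

open Matrix Cfsg.Agent.Helper99.Pron Cfsg.Agent.Helper90.Pron

section group

variable {F : Type*} [Field F] {q : ℕ} (hq : ∀ l : Fˣ, fr q (fr q l) = l)

/-- (M2) a matrix commuting with `diag(a, b)`, `a ≠ b`, and with `[[0, l], [m, 0]]` is scalar -/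
theorem comm_core (a b l m : Fˣ) (hab : a ≠ b) (X : Matrix (Fin 2) (Fin 2) F)
    (h1 : ((dg a b : GL (Fin 2) F) : Matrix (Fin 2) (Fin 2) F) * X =
      X * ((dg a b : GL (Fin 2) F) : Matrix (Fin 2) (Fin 2) F))
    (h2 : ((ag l m : GL (Fin 2) F) : Matrix (Fin 2) (Fin 2) F) * X =
      X * ((ag l m : GL (Fin 2) F) : Matrix (Fin 2) (Fin 2) F)) : ∃ c : F, X = c • 1 := by
  have hab' : (a : F) - (b : F) ≠ 0 := by
    intro h
    exact hab (Units.ext (sub_eq_zero.mp h))
  have e01 := congrFun (congrFun h1 0) 1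
  have e10 := congrFun (congrFun h1 1) 0
  have f01 := congrFun (congrFun h2 0) 1
  simp only [dg_val, ag_val, Matrix.mul_apply, Fin.sum_univ_two, Matrix.of_apply,
    Matrix.cons_val', Matrix.cons_val_zero, Matrix.cons_val_one, Matrix.cons_val_fin_one,
    zero_mul, mul_zero, add_zero, zero_add] at e01 e10 f01
  have hX01 : X 0 1 = 0 := by
    have h : ((a : F) - (b : F)) * X 0 1 = 0 := by
      rw [sub_mul, e01]
      ring
    rcases mul_eq_zero.mp h with h | h
    · exact absurd h hab'
    · exact h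
  have hX10 : X 1 0 = 0 := by
    have h : ((a : F) - (b : F)) * X 1 0 = 0 := by
      rw [sub_mul, e10]
      ring
    rcases mul_eq_zero.mp h with h | h
    · exact absurd h hab'
    · exact h
  have hX11 : X 1 1 = X 0 0 := by
    have hl : (l : F) ≠ 0 := l.ne_zero
    have h : (l : F) * X 1 1 = (l : F) * X 0 0 := by
      rw [f01]
      ring
    exact mul_left_cancel₀ hl h
  refine ⟨X 0 0, ?_⟩
  ext i j
  fin_cases i <;> fin_cases j <;> simp [hX01, hX10, hX11]

end group

end Cfsg.Agent.Helper76.Pron
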