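import Mathlib
import Cfsg.Prelude.Def_Transfer
import Cfsg.Agent.Helper74.HSDefs

/-!
helper76: pieces (CH1), (CH2) of helper74's plan for S3032 (board #5823/#5824): the residual
`resid q G` centralizes every normal subgroup of order `q` and every `G`-chief-like factor
`S / M` of order `q`.
-/

set_option autoImplicit false

namespace Cfsg.Agent.Helper76.HS

open Cfsg.Agent.Helper74.HS

universe u

variable {G : Type u} [Group G] [Finite G]

/-- (CH1) -/
theorem commute_of_mem_resid_of_card_prime {q : ℕ} [Fact q.Prime] (N : Subgroup G) [N.Normal]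
    (hN : Nat.card N = q) (b : G) (hb : b ∈ resid q G) : ∀ x ∈ N, b * x = x * b := by
  haveI : IsCyclic N := isCyclic_of_prime_card (p := q) hN
  let e1 : MulAut N ≃* (ZMod (Nat.card N))ˣ := IsCyclic.mulAutMulEquiv N
  let e2 : (ZMod (Nat.card N))ˣ ≃* (ZMod q)ˣ := Units.mapEquiv (ZMod.ringEquivCongr hN).toMulEquiv
  let χ : G →* (ZMod q)ˣ :=
    (e2.toMonoidHom.comp e1.toMonoidHom).comp (MulAut.conjNormal (H := N))
  have h1 : χ b = 1 := mem_resid.mp hb χ
  have h2 : (MulAut.conjNormal b : MulAut N) = 1 := by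
    have h3 : e2 (e1 (MulAut.conjNormal b)) = 1 := h1
    have h4 : e1 (MulAut.conjNormal b) = 1 := e2.injective (h3.trans (map_one e2).symm)
    exact e1.injective (h4.trans (map_one e1).symm)
  intro x hx
  have h5 : ((MulAut.conjNormal b : MulAut N) ⟨x, hx⟩ : G) = x := by rw [h2]; rfl
  rw [MulAut.conjNormal_apply] at h5
  calc b * x = b * x * b⁻¹ * b := by group
    _ = x * b := by rw [h5]

/-- the order of the image of `S` in `G ⧸ M` -/
theorem card_map_mk_mul {M S : Subgroup G} [M.Normal] (hMS : M ≤ S) :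
    Nat.card (S.map (QuotientGroup.mk' M)) * Nat.card M = Nat.card S := by
  have hcomap : (S.map (QuotientGroup.mk' M)).comap (QuotientGroup.mk' M) = S := by
    rw [Subgroup.comap_map_eq, QuotientGroup.ker_mk', sup_eq_left.mpr hMS]
  have h1 : (S.map (QuotientGroup.mk' M)).index = S.index := by
    rw [← Subgroup.index_comap_of_surjective _ (QuotientGroup.mk'_surjective M), hcomap]
  have h2 := Subgroup.card_mul_index (S.map (QuotientGroup.mk' M))
  have h3 := Subgroup.card_mul_index S
  have h4 : Nat.card (G ⧸ M) * Nat.card M = Nat.card G := by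
    rw [mul_comm]; exact (Subgroup.card_eq_card_quotient_mul_card_subgroup M).symm ▸ (mul_comm _ _)
  have hpos : 0 < S.index := Nat.pos_of_ne_zero Subgroup.index_ne_zero_of_finite
  apply Nat.eq_of_mul_eq_mul_right hpos
  calc Nat.card (S.map (QuotientGroup.mk' M)) * Nat.card M * S.index
      = (Nat.card (S.map (QuotientGroup.mk' M)) * (S.map (QuotientGroup.mk' M)).index) * Nat.card M := by
        rw [h1]; ring
    _ = Nat.card (G ⧸ M) * Nat.card M := by rw [h2]
    _ = Nat.card G := h4
    _ = Nat.card S * S.index := h3.symm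

/-- (CH2) -/
theorem commutator_mem_of_mem_resid {q : ℕ} [Fact q.Prime] (M S : Subgroup G) [M.Normal] [S.Normal]
    (hMS : M ≤ S) (hidx : q * Nat.card M = Nat.card S) (b : G) (hb : b ∈ resid q G) :
    ∀ s ∈ S, b * s * b⁻¹ * s⁻¹ ∈ M := by
  intro s hs
  haveI : (S.map (QuotientGroup.mk' M)).Normal :=
    Subgroup.Normal.map inferInstance _ (QuotientGroup.mk'_surjective M)
  have hcard : Nat.card (S.map (QuotientGroup.mk' M)) = q := by
    have h1 := card_map_mk_mul hMS
    rw [← hidx] at h1
    exact Nat.eq_of_mul_eq_mul_right Nat.card_pos h1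
  have hb' : QuotientGroup.mk' M b ∈ resid q (G ⧸ M) := map_mem_resid (QuotientGroup.mk' M) hb
  have hs' : QuotientGroup.mk' M s ∈ S.map (QuotientGroup.mk' M) := Subgroup.mem_map_of_mem _ hs
  have h := commute_of_mem_resid_of_card_prime (S.map (QuotientGroup.mk' M)) hcard _ hb' _ hs'
  rw [← QuotientGroup.eq_one_iff]
  have h' : (QuotientGroup.mk' M b) * (QuotientGroup.mk' M s) * (QuotientGroup.mk' M b)⁻¹ *
      (QuotientGroup.mk' M s)⁻¹ = 1 := by
    rw [h]; group
  simpa using h'

end Cfsg.Agent.Helper76.HS
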