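import Mathlib
import Cfsg.Prelude.Def_Transfer
import Cfsg.Agent.Helper74.HSDefs
import Cfsg.Agent.Helper76.HSCH
import Cfsg.Agent.Helper50.FixedOrder

/-!
helper76: piece (CB) of helper74's plan for S3032 (board #5823/#5824): if all subgroups of
order `q ^ a` of the normal `q`-subgroup `Q` are normal in `G` (`1 ≤ a`, `q ^ a < |Q|`, `q` odd),
then every `q'`-element of `resid q G` centralizes `Q`.  The proof follows helper50's
`commute_of_normalizes_fixed_order_aux`, with (CH1)/(CH2) in place of the `q - 1` arguments.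
-/

set_option autoImplicit false

namespace Cfsg.Agent.Helper76.HS

open Cfsg.Agent.Helper74.HS Cfsg.Agent.Helper50 Cfsg.Agent.Helper24

universe u

variable {G : Type u} [Group G] [Finite G]

/-- in a cyclic subgroup `E`, a subgroup `C` of prime order `q` contains every element of `E`
of order dividing `q` -/
theorem mem_of_pow_eq_one_of_isCyclic {q : ℕ} [hq : Fact q.Prime] {E C : Subgroup G} (hCE : C ≤ E)
    (hEcyc : IsCyclic E) (hC : Nat.card C = q) (y : G) (hy : y ∈ E) (hyq : y ^ q = 1) : y ∈ C := by
  classical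
  haveI := Fintype.ofFinite ↥E
  have hle := IsCyclic.card_pow_eq_one_le (α := ↥E) (n := q) hq.out.pos
  set S : Finset ↥E := Finset.univ.filter (fun e : ↥E => e ^ q = 1) with hS
  set T : Finset ↥E := Finset.univ.filter (fun e : ↥E => (e : G) ∈ C) with hT
  have hTS : T ⊆ S := by
    intro e he
    rw [hT, Finset.mem_filter] at he
    rw [hS, Finset.mem_filter]
    refine ⟨Finset.mem_univ _, ?_⟩
    have h1 : (⟨(e : G), he.2⟩ : ↥C) ^ Nat.card ↥C = 1 := pow_card_eq_one'
    rw [hC] at h1
    apply Subtype.ext
    have h2 := congrArg (Subtype.val : ↥C → G) h1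
    simpa using h2
  have hTcard : T.card = q := by
    rw [← hC, hT, ← Fintype.card_subtype, ← Nat.card_eq_fintype_card]
    apply Nat.card_congr
    exact
      { toFun := fun e => ⟨(e.1 : G), e.2⟩
        invFun := fun c => ⟨⟨(c : G), hCE c.2⟩, c.2⟩
        left_inv := fun e => rfl
        right_inv := fun c => rfl }
  have hST : T = S := Finset.eq_of_subset_of_card_le hTS (by rw [hTcard]; exact hle)
  have hyS : (⟨y, hy⟩ : ↥E) ∈ S := by
    rw [hS, Finset.mem_filter]
    refine ⟨Finset.mem_univ _, ?_⟩
    apply Subtype.ext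
    simpa using hyq
  rw [← hST, hT, Finset.mem_filter] at hyS
  exact hyS.2

/-- (CB) -/
theorem commute_of_mem_resid_of_fixed_order {q : ℕ} [hq : Fact q.Prime] (hq2 : q ≠ 2)
    (Q : Subgroup G) [Q.Normal] (hQ : IsPGroup q Q) {a : ℕ} (ha1 : 1 ≤ a) (haQ : q ^ a < Nat.card Q)
    (hN : ∀ F : Subgroup G, F ≤ Q → Nat.card F = q ^ a → F.Normal)
    (b : G) (hb : b ∈ resid q G) (hbq : (orderOf b).Coprime q) : ∀ x ∈ Q, b * x = x * b := by
  have hnorm : ∀ F : Subgroup G, F.Normal → b ∈ Subgroup.normalizer (F : Set G) := by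
    intro F hF
    rw [Subgroup.normalizer_eq_top_iff.mpr hF]
    exact Subgroup.mem_top b
  apply commute_of_commute_omega_odd hq2 hbq Q hQ (hnorm Q inferInstance)
  intro x hx hxq
  by_cases hx1 : x = 1
  · subst hx1; simp
  obtain ⟨k, hk⟩ := (IsPGroup.iff_card).mp hQ
  have hak : a < k := by
    rw [hk] at haQ
    exact (Nat.pow_lt_pow_iff_right hq.out.one_lt).mp haQ
  set C : Subgroup G := Subgroup.zpowers x with hCdef
  have hCQ : C ≤ Q := Subgroup.zpowers_le.mpr hx
  have hxC : x ∈ C := Subgroup.mem_zpowers x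
  have hCcard : Nat.card C = q ^ 1 := by
    rw [pow_one, Nat.card_zpowers]
    exact orderOf_eq_prime hxq hx1
  have key : C.Normal → b * x = x * b := by
    intro hCn
    exact commute_of_mem_resid_of_card_prime C (by rw [hCcard, pow_one]) b hb x hxC
  by_cases ha : a = 1
  · exact key (hN C hCQ (by rw [hCcard, ha]))
  · have ha2 : 2 ≤ a := by omega
    obtain ⟨E, hCE, hEQ, hEcard⟩ := exists_between_card_pow hCQ hCcard ha1
      (hk ▸ pow_dvd_pow q hak.le)
    have hEn : E.Normal := hN E hEQ hEcard
    by_cases hEcyc : IsCyclic E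
    · apply key
      constructor
      intro n hn g
      have h1 : g * n * g⁻¹ ∈ E := hEn.conj_mem n (hCE hn) g
      have h2 : (g * n * g⁻¹) ^ q = 1 := by
        have h3 : (⟨n, hn⟩ : ↥C) ^ Nat.card ↥C = 1 := pow_card_eq_one'
        rw [hCcard, pow_one] at h3
        have h4 : n ^ q = 1 := by
          have := congrArg (Subtype.val : ↥C → G) h3
          simpa using this
        rw [conj_pow, h4, mul_one, mul_inv_cancel]
      exact mem_of_pow_eq_one_of_isCyclic hCE hEcyc (by rw [hCcard, pow_one]) _ h1 h2
    · obtain ⟨S, hES, hSQ, hScard⟩ := exists_between_card_pow hEQ hEcard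
        (Nat.le_succ a) (hk ▸ pow_dvd_pow q (Nat.succ_le_of_lt hak))
      have hEneS : E ≠ S := by
        intro h
        rw [h, hScard] at hEcard
        have := Nat.pow_right_injective hq.out.two_le hEcard
        omega
      obtain ⟨g, hgS, hgE⟩ := SetLike.exists_of_lt (lt_of_le_of_ne hES hEneS)
      have hgle : Subgroup.zpowers g ≤ S := Subgroup.zpowers_le.mpr hgS
      have hgne : Subgroup.zpowers g ≠ S := by
        intro h
        apply hEcyc
        have hEg : E ≤ Subgroup.zpowers g := h ▸ hES
        exact Subgroup.isCyclic_of_le hEg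
      obtain ⟨i, hi⟩ := exists_card_eq_pow_of_le hQ (le_trans hgle hSQ)
      have hid : i ≤ a := by
        have hlt : Nat.card (Subgroup.zpowers g) < Nat.card S :=
          card_lt_of_lt (lt_of_le_of_ne hgle hgne)
        rw [hi, hScard] at hlt
        have := (Nat.pow_lt_pow_iff_right hq.out.one_lt).mp hlt
        omega
      obtain ⟨M', hgM', hM'S, hM'card⟩ := exists_between_card_pow hgle hi hid
        (hScard ▸ pow_dvd_pow q (Nat.le_succ a))
      have hM'n : M'.Normal := hN M' (le_trans hM'S hSQ) hM'card
      have hsup : E ⊔ M' = S := by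
        have hle : E ⊔ M' ≤ S := sup_le hES hM'S
        have hEne : E ≠ E ⊔ M' := by
          intro h
          apply hgE
          rw [h]
          exact (le_sup_right : M' ≤ E ⊔ M') (hgM' (Subgroup.mem_zpowers g))
        obtain ⟨t, ht⟩ := exists_card_eq_pow_of_le hQ (le_trans hle hSQ)
        have h1 : Nat.card E < Nat.card ↥(E ⊔ M') :=
          card_lt_of_lt (lt_of_le_of_ne le_sup_left hEne)
        rw [hEcard, ht] at h1
        have h2 := (Nat.pow_lt_pow_iff_right hq.out.one_lt).mp h1
        by_contra hne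
        have h3 : Nat.card ↥(E ⊔ M') < Nat.card S :=
          card_lt_of_lt (lt_of_le_of_ne hle hne)
        rw [ht, hScard] at h3
        have h4 := (Nat.pow_lt_pow_iff_right hq.out.one_lt).mp h3
        omega
      have hSn : S.Normal := by
        rw [← hsup]
        infer_instance
      have hMn : ∀ M : Subgroup G, M ≤ S → q * Nat.card M = Nat.card S → M.Normal :=
        fun M hMS hMcard => hN M (le_trans hMS hSQ) (by
          rw [hScard, pow_succ'] at hMcard
          exact Nat.eq_of_mul_eq_mul_left hq.out.pos hMcard)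
      have hcentS := commute_of_commutator_mem_maximal (hQ.to_le hSQ) (hnorm S hSn) hbq
        (fun M hMS hMcard => ⟨hnorm M (hMn M hMS hMcard), by
          haveI := hMn M hMS hMcard
          haveI := hSn
          exact commutator_mem_of_mem_resid M S hMS hMcard b hb⟩)
      exact hcentS x (hES (hCE hxC))

end Cfsg.Agent.Helper76.HS
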