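import Mathlib
import Cfsg.Agent.S0112
import Cfsg.Agent.Helper2.MaxClass

/-!
# Sylow subgroups with `|P : P'| = p²` and elements with `|C_G(x)|_p = p²`: basic lemmas

* `index_commutator_of_card_centralizer`: a `p`-group with an element whose centralizer has order
  `p²` has `|T : T'| = p²` (Suzuki; via `S0112` and `Helper2.MaxClass`).
* `exists_conj_mem_sylow_card_inf_centralizer`: every `p`-element has a conjugate `x' ∈ P` with
  `C_P(x')` a Sylow `p`-subgroup of `C_G(x')`.
-/

set_option autoImplicit false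

namespace Cfsg.Agent.Helper76

open Cfsg

/-- A `p`-group with an element whose centralizer has order `p²` has `|T : T'| = p²`. -/
theorem index_commutator_of_card_centralizer {T : Type*} [Group T] [Finite T] {p : ℕ}
    [hp : Fact p.Prime] (hT : IsPGroup p T) (x : T)
    (hx : Nat.card (Subgroup.centralizer ({x} : Set T)) = p ^ 2) :
    (commutator T).index = p ^ 2 := by
  obtain ⟨m, hm⟩ := IsPGroup.iff_card.1 hT
  set A := Subgroup.centralizer ({x} : Set T) with hA
  have hxA : x ∈ A := Subgroup.mem_centralizer_singleton_iff.2 rfl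
  have hAab : ∀ a b : A, a * b = b * a := IsPGroup.commutative_of_card_eq_prime_sq hx
  have hC : Subgroup.centralizer (A : Set T) = A := by
    apply le_antisymm
    · intro g hg
      rw [hA, Subgroup.mem_centralizer_singleton_iff]
      exact (hg x hxA).symm
    · intro a ha b hb
      have := hAab ⟨b, hb⟩ ⟨a, ha⟩
      exact congrArg Subtype.val this
  have hcl := Cfsg.Agent.S0112.result m hm A hx hC
  have hm2 : 2 ≤ m := by
    have h1 : Nat.card A ∣ Nat.card T := Subgroup.card_subgroup_dvd_card A
    rw [hx, hm] at h1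
    exact (Nat.pow_dvd_pow_iff_le_right hp.out.one_lt).1 h1
  obtain ⟨n, rfl⟩ : ∃ n, m = n + 2 := ⟨m - 2, by omega⟩
  exact Cfsg.Agent.Helper2.index_commutator_of_maxClass n T hm (by rw [hcl]; omega)

/-- `|P : P'|` computed inside `P`. -/
theorem relIndex_commutator_eq_index {G : Type*} [Group G] (P : Subgroup G) :
    (⁅P, P⁆).relIndex P = (commutator P).index := by
  rw [Subgroup.relIndex, ← Subgroup.map_subtype_commutator, Subgroup.subgroupOf,
    Subgroup.comap_map_eq_self_of_injective P.subtype_injective]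

/-- The centralizer of `x ∈ P` inside `P`. -/
theorem card_centralizer_subtype {G : Type*} [Group G] (P : Subgroup G) (x : G) (hx : x ∈ P) :
    Nat.card (Subgroup.centralizer ({(⟨x, hx⟩ : P)} : Set P)) =
      Nat.card (P ⊓ Subgroup.centralizer ({x} : Set G) : Subgroup G) := by
  apply Nat.card_congr
  refine
    { toFun := fun y => ⟨y.1.1, Subgroup.mem_inf.2 ⟨y.1.2, ?_⟩⟩
      invFun := fun y => ⟨⟨y.1, (Subgroup.mem_inf.1 y.2).1⟩, ?_⟩
      left_inv := fun y => rfl
      right_inv := fun y => rfl }
  · have h := Subgroup.mem_centralizer_singleton_iff.1 y.2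
    rw [Subgroup.mem_centralizer_singleton_iff]
    exact congrArg Subtype.val h
  · have h := Subgroup.mem_centralizer_singleton_iff.1 (Subgroup.mem_inf.1 y.2).2
    rw [Subgroup.mem_centralizer_singleton_iff]
    exact Subtype.ext h

/-- Every `p`-element `x` has a conjugate `x' ∈ P` such that `C_P(x')` is a Sylow `p`-subgroup of
`C_G(x')`. -/
theorem exists_conj_mem_sylow_card_inf_centralizer {G : Type*} [Group G] [Finite G] {p : ℕ}
    [hp : Fact p.Prime] (P : Sylow p G) (x : G) (hx : ∃ k : ℕ, orderOf x = p ^ k) :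
    ∃ g : G, g * x * g⁻¹ ∈ (P : Subgroup G) ∧
      Nat.card ((P : Subgroup G) ⊓ Subgroup.centralizer ({g * x * g⁻¹} : Set G) : Subgroup G) =
        p ^ (Nat.card (Subgroup.centralizer ({x} : Set G))).factorization p := by
  classical
  obtain ⟨k, hk⟩ := hx
  set C := Subgroup.centralizer ({x} : Set G) with hC
  have hxC : x ∈ C := Subgroup.mem_centralizer_singleton_iff.2 rfl
  have hz : IsPGroup p (Subgroup.zpowers (⟨x, hxC⟩ : C)) := by
    apply IsPGroup.of_card (n := k)
    rw [Nat.card_zpowers, Subgroup.orderOf_mk, hk]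
  obtain ⟨R, hR⟩ := hz.exists_le_sylow
  have hR' : IsPGroup p ((R : Subgroup C).map C.subtype) := R.2.map _
  obtain ⟨S, hS⟩ := hR'.exists_le_sylow
  obtain ⟨g, hg⟩ := MulAction.exists_smul_eq G S P
  have hconj : ∀ r : G, r ∈ (S : Subgroup G) → g * r * g⁻¹ ∈ (P : Subgroup G) := by
    intro r hr
    rw [← hg, Sylow.coe_subgroup_smul, Subgroup.mem_pointwise_smul_iff_inv_smul_mem]
    simp only [MulAut.smul_def, MulAut.conj_inv_apply]
    have : g⁻¹ * (g * r * g⁻¹) * g = r := by group
    rw [this]; exact hr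
  have hxR : x ∈ (R : Subgroup C).map C.subtype :=
    ⟨⟨x, hxC⟩, hR (Subgroup.mem_zpowers _), rfl⟩
  refine ⟨g, hconj x (hS hxR), ?_⟩
  set D : Subgroup G := (P : Subgroup G) ⊓ Subgroup.centralizer ({g * x * g⁻¹} : Set G) with hD
  have hDp : IsPGroup p D := P.2.to_le inf_le_left
  obtain ⟨j, hj⟩ := IsPGroup.iff_card.1 hDp
  have hCcard : Nat.card (Subgroup.centralizer ({g * x * g⁻¹} : Set G)) = Nat.card C := by
    symm
    apply Nat.card_congr
    refine
      { toFun := fun c => ⟨g * c.1 * g⁻¹, ?_⟩
        invFun := fun c => ⟨g⁻¹ * c.1 * g, ?_⟩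
        left_inv := fun c => Subtype.ext (by simp [mul_assoc])
        right_inv := fun c => Subtype.ext (by simp [mul_assoc]) }
    · have h := Subgroup.mem_centralizer_singleton_iff.1 c.2
      rw [Subgroup.mem_centralizer_singleton_iff]
      calc g * c.1 * g⁻¹ * (g * x * g⁻¹) = g * (c.1 * x) * g⁻¹ := by group
        _ = g * (x * c.1) * g⁻¹ := by rw [h]
        _ = g * x * g⁻¹ * (g * c.1 * g⁻¹) := by group
    · have h := Subgroup.mem_centralizer_singleton_iff.1 c.2
      rw [hC, Subgroup.mem_centralizer_singleton_iff]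
      calc g⁻¹ * c.1 * g * x = g⁻¹ * (c.1 * (g * x * g⁻¹)) * g := by group
        _ = g⁻¹ * ((g * x * g⁻¹) * c.1) * g := by rw [h]
        _ = x * (g⁻¹ * c.1 * g) := by group
  have hCne : Nat.card C ≠ 0 := Nat.card_pos.ne'
  have hle : j ≤ (Nat.card C).factorization p := by
    have h1 : Nat.card D ∣ Nat.card C := by
      rw [← hCcard]
      exact Subgroup.card_dvd_of_le inf_le_right
    rw [hj] at h1
    exact (hp.out.pow_dvd_iff_le_factorization hCne).1 h1
  have hge : (Nat.card C).factorization p ≤ j := by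
    have hRcard : Nat.card (R : Subgroup C) = p ^ (Nat.card C).factorization p :=
      Sylow.card_eq_multiplicity R
    have hinj : Nat.card (R : Subgroup C) ≤ Nat.card D := by
      apply Nat.card_le_card_of_injective
        (fun r : (R : Subgroup C) => (⟨g * (r.1 : G) * g⁻¹, ?_⟩ : D))
      · intro a b hab
        have h1 : g * ((a : C) : G) * g⁻¹ = g * ((b : C) : G) * g⁻¹ := congrArg Subtype.val hab
        have h2 : ((a : C) : G) = ((b : C) : G) := by
          have := mul_right_cancel h1
          exact mul_left_cancel this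
        exact Subtype.ext (Subtype.ext h2)
      · rw [hD, Subgroup.mem_inf]
        constructor
        · exact hconj _ (hS ⟨r.1, r.2, rfl⟩)
        · have h := Subgroup.mem_centralizer_singleton_iff.1 (r.1 : C).2
          rw [Subgroup.mem_centralizer_singleton_iff]
          calc g * ((r : C) : G) * g⁻¹ * (g * x * g⁻¹) = g * (((r : C) : G) * x) * g⁻¹ := by group
            _ = g * (x * ((r : C) : G)) * g⁻¹ := by rw [h]
            _ = g * x * g⁻¹ * (g * ((r : C) : G) * g⁻¹) := by group
    rw [hRcard, hj] at hinj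
    exact (Nat.pow_le_pow_iff_right hp.out.one_lt).1 hinj
  rw [hj, le_antisymm hle hge]

/-- **(⇐) of `S4587`** (no hypothesis on `G` needed). -/
theorem relIndex_commutator_of_exists_centralizer {G : Type*} [Group G] [Finite G] {p : ℕ}
    [hp : Fact p.Prime] (P : Sylow p G) (x : G) (hx : ∃ k : ℕ, orderOf x = p ^ k)
    (hfac : (Nat.card (Subgroup.centralizer ({x} : Set G))).factorization p = 2) :
    (⁅(P : Subgroup G), (P : Subgroup G)⁆).relIndex (P : Subgroup G) = p ^ 2 := by
  obtain ⟨g, hgP, hcard⟩ := exists_conj_mem_sylow_card_inf_centralizer P x hx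
  rw [hfac] at hcard
  rw [relIndex_commutator_eq_index]
  apply index_commutator_of_card_centralizer P.2 ⟨g * x * g⁻¹, hgP⟩
  rw [card_centralizer_subtype]
  exact hcard

end Cfsg.Agent.Helper76
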