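import Mathlib
import Cfsg.Agent.S0081
import Cfsg.Agent.S0115
import Cfsg.Agent.Helper2.Basic
import Cfsg.Agent.Helper64.PNilp
import Cfsg.Agent.Helper76.AbelSqBasic

/-!
# Sylow subgroups with `|P : P'| = p²`: consequences of Tate's theorem

* `commutator_le_of_not_le_commutator`: in a `p`-group `T` with `|T : T'| = p²`, a normal subgroup
  `R ≰ T'` contains `T'` and has index `1` or `p`.
* `hasNormalPComplement_of_inf_sylow_le_commutator`: Tate's theorem in commutator form, for a
  subgroup `K` normalized by the Sylow subgroup `P`.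
* `commutator_le_of_not_hasNormalPComplement`: if `|P : P'| = p²`, `P ≤ N_G(K)` and `K` is not
  `p`-nilpotent, then `P' ≤ K` and `|P : P ∩ K| ∈ {1, p}`.
-/

set_option autoImplicit false

namespace Cfsg.Agent.Helper76

open Cfsg
open scoped commutatorElement

/-- In a `p`-group `T` with `|T : T'| = p²`, a normal subgroup `R ≰ T'` contains `T'` and has index
`1` or `p`. -/
theorem commutator_le_of_not_le_commutator {T : Type*} [Group T] [Finite T] {p : ℕ}
    [hp : Fact p.Prime] (hT : IsPGroup p T) (hidx : (commutator T).index = p ^ 2)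
    (R : Subgroup T) [hRn : R.Normal] (hR : ¬ R ≤ commutator T) :
    commutator T ≤ R ∧ (R.index = 1 ∨ R.index = p) := by
  set L := commutator T ⊔ R with hL
  have hcL : commutator T ≤ L := le_sup_left
  have hLdvd : L.index ∣ p ^ 2 := hidx ▸ Subgroup.index_dvd_of_le hcL
  obtain ⟨i, hi2, hi⟩ := (Nat.dvd_prime_pow hp.out).1 hLdvd
  have hi1 : i ≠ 2 := by
    intro h2
    apply hR
    have h1 : (commutator T).relIndex L * L.index = (commutator T).index :=
      Subgroup.relIndex_mul_index hcL
    rw [hidx, hi, h2] at h1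
    have h3 : (commutator T).relIndex L = 1 := by
      have hpos : 0 < p ^ 2 := pow_pos hp.out.pos 2
      exact Nat.eq_of_mul_eq_mul_right hpos (by rw [h1, one_mul])
    exact le_sup_right.trans (Subgroup.relIndex_eq_one.1 h3)
  -- the quotient `T ⧸ R` has cyclic abelianization
  have hQp : IsPGroup p (T ⧸ R) := hT.to_quotient R
  haveI : Group.IsNilpotent (T ⧸ R) := hQp.isNilpotent
  have hcQ : commutator (T ⧸ R) = (commutator T).map (QuotientGroup.mk' R) := by
    rw [commutator_def, commutator_def, Subgroup.map_commutator,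
      Subgroup.map_top_of_surjective _ (QuotientGroup.mk'_surjective R)]
  have hidxQ : (commutator (T ⧸ R)).index = L.index := by
    rw [hcQ, Subgroup.index_map, QuotientGroup.ker_mk',
      MonoidHom.range_eq_top.2 (QuotientGroup.mk'_surjective R), Subgroup.index_top, mul_one]
  have hcyc : IsCyclic ((T ⧸ R) ⧸ commutator (T ⧸ R)) := by
    have hcard : Nat.card ((T ⧸ R) ⧸ commutator (T ⧸ R)) = p ^ i := by
      rw [← Subgroup.index_eq_card, hidxQ, hi]
    have hi01 : i = 0 ∨ i = 1 := by omega
    rcases hi01 with h0 | h1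
    · rw [h0, pow_zero] at hcard
      haveI : Subsingleton ((T ⧸ R) ⧸ commutator (T ⧸ R)) :=
        (Nat.card_eq_one_iff_unique.1 hcard).1
      exact isCyclic_of_subsingleton
    · rw [h1, pow_one] at hcard
      exact isCyclic_of_prime_card hcard
  have hcomm := Cfsg.Agent.S0115.isMulCommutative_of_isCyclic_abelianization hcyc
  have hle : commutator T ≤ R := by
    rw [commutator_def, Subgroup.commutator_le]
    intro a _ b _
    rw [← QuotientGroup.eq_one_iff]
    change QuotientGroup.mk' R ⁅a, b⁆ = 1
    rw [map_commutatorElement, commutatorElement_eq_one_iff_mul_comm]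
    exact hcomm.is_comm.comm _ _
  refine ⟨hle, ?_⟩
  have hLR : L = R := by rw [hL]; exact sup_eq_right.2 hle
  rw [← hLR, hi]
  have hi01 : i = 0 ∨ i = 1 := by omega
  rcases hi01 with h0 | h1
  · left; rw [h0, pow_zero]
  · right; rw [h1, pow_one]

/-- Commutators inside a subgroup. -/
theorem commutator_subgroupOf_eq {G : Type*} [Group G] {H A B : Subgroup G} (hA : A ≤ H)
    (hB : B ≤ H) : ⁅A.subgroupOf H, B.subgroupOf H⁆ = (⁅A, B⁆).subgroupOf H := by
  apply Subgroup.map_injective H.subtype_injective
  rw [Subgroup.map_commutator, Subgroup.map_subgroupOf_eq_of_le hA,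
    Subgroup.map_subgroupOf_eq_of_le hB,
    Subgroup.map_subgroupOf_eq_of_le ((Subgroup.commutator_mono hA hB).trans
      (Subgroup.commutator_le_self H))]

/-- **Tate's theorem, commutator form**: if the Sylow `p`-subgroup `P` normalizes `K` and
`K ∩ P ≤ P'` then `K` has a normal `p`-complement. -/
theorem hasNormalPComplement_of_inf_sylow_le_commutator {G : Type*} [Group G] [Finite G] {p : ℕ}
    [hp : Fact p.Prime] (P : Sylow p G) (K : Subgroup G)
    (hPK : (P : Subgroup G) ≤ Subgroup.normalizer (K : Set G))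
    (h : K ⊓ (P : Subgroup G) ≤ ⁅(P : Subgroup G), (P : Subgroup G)⁆) :
    Cfsg.HasNormalPComplement p K := by
  set H := Subgroup.normalizer (K : Set G) with hH
  have hKH : K ≤ H := Subgroup.le_normalizer
  set P' : Sylow p H := P.subtype hPK with hP'
  have hKn : (K.subgroupOf H).Normal := Subgroup.normal_in_normalizer
  have hcoe : (P' : Subgroup H) = (P : Subgroup G).subgroupOf H := Sylow.coe_subtype _ _
  have : Group.IsNilpotent (P' : Subgroup H) := P'.2.isNilpotent
  have hkey : K.subgroupOf H ⊓ (P' : Subgroup H) ≤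
      (frattini (P' : Subgroup H)).map (P' : Subgroup H).subtype := by
    have h1 : (commutator (P' : Subgroup H)).map (P' : Subgroup H).subtype ≤
        (frattini (P' : Subgroup H)).map (P' : Subgroup H).subtype :=
      Subgroup.map_mono Cfsg.Agent.Helper2.commutator_le_frattini
    refine le_trans ?_ h1
    rw [Subgroup.map_subtype_commutator, hcoe, commutator_subgroupOf_eq hPK hPK]
    intro x hx
    rw [Subgroup.mem_inf, Subgroup.mem_subgroupOf, Subgroup.mem_subgroupOf] at hx
    rw [Subgroup.mem_subgroupOf]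
    exact h (Subgroup.mem_inf.2 hx)
  have hres := Cfsg.Agent.S0081.result P' (K.subgroupOf H) hkey
  exact Cfsg.Agent.Helper64.hasNormalPComplement_of_mulEquiv (Subgroup.subgroupOfEquivOfLe hKH) hres

/-- If `|P : P'| = p²`, the Sylow subgroup `P` normalizes `K`, and `K` is not `p`-nilpotent, then
`P' ≤ K` and `|P : P ∩ K| ∈ {1, p}`. -/
theorem commutator_le_of_not_hasNormalPComplement {G : Type*} [Group G] [Finite G] {p : ℕ}
    [hp : Fact p.Prime] (P : Sylow p G)
    (hidx : (⁅(P : Subgroup G), (P : Subgroup G)⁆).relIndex (P : Subgroup G) = p ^ 2)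
    (K : Subgroup G) (hPK : (P : Subgroup G) ≤ Subgroup.normalizer (K : Set G))
    (hK : ¬ Cfsg.HasNormalPComplement p K) :
    ⁅(P : Subgroup G), (P : Subgroup G)⁆ ≤ K ∧
      (K.relIndex (P : Subgroup G) = 1 ∨ K.relIndex (P : Subgroup G) = p) := by
  have : (K.subgroupOf (P : Subgroup G)).Normal := Subgroup.normal_subgroupOf_of_le_normalizer hPK
  rw [relIndex_commutator_eq_index] at hidx
  have hR : ¬ K.subgroupOf (P : Subgroup G) ≤ commutator (P : Subgroup G) := by
    intro hle
    apply hK
    apply hasNormalPComplement_of_inf_sylow_le_commutator P K hPK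
    intro x hx
    obtain ⟨hxK, hxP⟩ := Subgroup.mem_inf.1 hx
    have h1 : (⟨x, hxP⟩ : (P : Subgroup G)) ∈ commutator (P : Subgroup G) :=
      hle (Subgroup.mem_subgroupOf.2 hxK)
    rw [← Subgroup.map_subtype_commutator]
    exact ⟨⟨x, hxP⟩, h1, rfl⟩
  obtain ⟨h1, h2⟩ := commutator_le_of_not_le_commutator P.2 hidx (K.subgroupOf (P : Subgroup G)) hR
  refine ⟨?_, h2⟩
  rw [← Subgroup.map_subtype_commutator]
  intro x hx
  obtain ⟨y, hy, rfl⟩ := hx
  exact Subgroup.mem_subgroupOf.1 (h1 hy)

end Cfsg.Agent.Helper76
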