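import Mathlib
import Cfsg.Agent.Helper76.AbelSqTate

/-!
# Sylow subgroups with `|P : P'| = p²`: elements with small centralizer

* `card_centralizer_of_abelian_index_prime`: in a `p`-group `T` with `|T : T'| = p²` and an abelian
  normal subgroup `A` of index `p`, every `y ∉ A` has `|C_T(y)| = p²`.
* `exists_centralizer_of_abelian_inf`: if `N ⊴ G`, `N ∩ P` is abelian of index `p` in the Sylow
  subgroup `P` and `|P : P'| = p²`, then some `p`-element `x` has `|C_G(x)|_p = p²`.
-/

set_option autoImplicit false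

namespace Cfsg.Agent.Helper76

open Cfsg

/-- A subgroup of prime index together with an element outside it generates the group. -/
theorem sup_zpowers_eq_top_of_index_eq_prime_card {T : Type*} [Group T] [Finite T] {p : ℕ}
    [hp : Fact p.Prime] (A : Subgroup T) (hA : A.index = p) (y : T) (hy : y ∉ A) :
    A ⊔ Subgroup.zpowers y = ⊤ := by
  have hle : A ≤ A ⊔ Subgroup.zpowers y := le_sup_left
  have hdvd : (A ⊔ Subgroup.zpowers y).index ∣ p := hA ▸ Subgroup.index_dvd_of_le hle
  rcases (Nat.dvd_prime hp.out).1 hdvd with h1 | h2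
  · exact Subgroup.index_eq_one.1 h1
  · exfalso
    have h3 : A.relIndex (A ⊔ Subgroup.zpowers y) * (A ⊔ Subgroup.zpowers y).index = A.index :=
      Subgroup.relIndex_mul_index hle
    rw [h2, hA] at h3
    have h4 : A.relIndex (A ⊔ Subgroup.zpowers y) = 1 :=
      Nat.eq_of_mul_eq_mul_right hp.out.pos (by rw [h3, one_mul])
    have h5 : A ⊔ Subgroup.zpowers y ≤ A := Subgroup.relIndex_eq_one.1 h4
    exact hy (h5 (le_sup_right (a := A) (Subgroup.mem_zpowers y)))

/-- In a `p`-group `T` with `|T : T'| = p²` and an abelian normal subgroup `A` of index `p`, every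
`y ∉ A` has `|C_T(y)| = p²`. -/
theorem card_centralizer_of_abelian_index_prime {T : Type*} [Group T] [Finite T] {p : ℕ}
    [hp : Fact p.Prime] (hidx : (commutator T).index = p ^ 2) (A : Subgroup T) [hAn : A.Normal]
    (hAab : ∀ x ∈ A, ∀ y ∈ A, x * y = y * x) (hA : A.index = p) (y : T) (hy : y ∉ A) :
    Nat.card (Subgroup.centralizer ({y} : Set T)) = p ^ 2 := by
  have hgen := sup_zpowers_eq_top_of_index_eq_prime_card A hA y hy
  have h1 := Cfsg.Agent.Helper2.card_eq_card_commutator_mul_card_inf_center A hAab y hgen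
  have h2 : Nat.card A * p = Nat.card T := by rw [← hA]; exact A.card_mul_index
  have h3 : Nat.card (commutator T) * p ^ 2 = Nat.card T := by
    rw [← hidx]; exact (commutator T).card_mul_index
  have hcpos : 0 < Nat.card (commutator T) := Nat.card_pos
  have h4 : Nat.card (A ⊓ Subgroup.center T : Subgroup T) = p := by
    have h5 : Nat.card (commutator T) * (Nat.card (A ⊓ Subgroup.center T : Subgroup T) * p) =
        Nat.card (commutator T) * (p * p) := by
      rw [← mul_assoc, ← h1, h2, ← h3, pow_two]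
    have h6 := Nat.eq_of_mul_eq_mul_left hcpos h5
    exact Nat.eq_of_mul_eq_mul_right hp.out.pos h6
  set C := Subgroup.centralizer ({y} : Set T) with hC
  have hyC : y ∈ C := Subgroup.mem_centralizer_singleton_iff.2 rfl
  have hinf : A ⊓ C = A ⊓ Subgroup.center T := by
    ext a
    rw [Subgroup.mem_inf, Subgroup.mem_inf]
    constructor
    · rintro ⟨haA, haC⟩
      refine ⟨haA, ?_⟩
      have hay : a * y = y * a := Subgroup.mem_centralizer_singleton_iff.1 haC
      have hle : A ⊔ Subgroup.zpowers y ≤ Subgroup.centralizer ({a} : Set T) := by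
        apply sup_le
        · intro b hb
          rw [Subgroup.mem_centralizer_singleton_iff]
          exact hAab b hb a haA
        · rw [Subgroup.zpowers_le, Subgroup.mem_centralizer_singleton_iff]
          exact hay.symm
      rw [hgen] at hle
      rw [Subgroup.mem_center_iff]
      intro g
      exact Subgroup.mem_centralizer_singleton_iff.1 (hle (Subgroup.mem_top g))
    · rintro ⟨haA, haZ⟩
      refine ⟨haA, ?_⟩
      rw [hC, Subgroup.mem_centralizer_singleton_iff]
      exact (Subgroup.mem_center_iff.1 haZ y).symm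
  have hrel : A.relIndex C = p := by
    have hdvd : A.relIndex C ∣ p := hA ▸ Subgroup.relIndex_dvd_index_of_normal A C
    rcases (Nat.dvd_prime hp.out).1 hdvd with h | h
    · exfalso
      exact hy (Subgroup.relIndex_eq_one.1 h hyC)
    · exact h
  have hmul : (⊥ : Subgroup T).relIndex (A ⊓ C) * (A ⊓ C).relIndex C = (⊥ : Subgroup T).relIndex C :=
    Subgroup.relIndex_mul_relIndex _ _ _ bot_le inf_le_right
  rw [Subgroup.relIndex_bot_left, Subgroup.relIndex_bot_left, Subgroup.inf_relIndex_right, hrel,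
    hinf, h4] at hmul
  rw [← hmul, pow_two]

/-- If `N ⊴ G`, `N ∩ P` is abelian of index `p` in the Sylow subgroup `P`, and `|P : P'| = p²`,
then some `p`-element `x` has `|C_G(x)|_p = p²`. -/
theorem exists_centralizer_of_abelian_inf {G : Type*} [Group G] [Finite G] {p : ℕ}
    [hp : Fact p.Prime] (P : Sylow p G)
    (hidx : (⁅(P : Subgroup G), (P : Subgroup G)⁆).relIndex (P : Subgroup G) = p ^ 2)
    (N : Subgroup G) [hN : N.Normal]
    (hab : ∀ a ∈ N ⊓ (P : Subgroup G), ∀ b ∈ N ⊓ (P : Subgroup G), a * b = b * a)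
    (hNP : N.relIndex (P : Subgroup G) = p) :
    ∃ x : G, (∃ k : ℕ, orderOf x = p ^ k) ∧
      (Nat.card (Subgroup.centralizer ({x} : Set G))).factorization p = 2 := by
  -- an element of `P` outside `N`
  obtain ⟨y₀, hy₀P, hy₀N⟩ : ∃ y₀ ∈ (P : Subgroup G), y₀ ∉ N := by
    by_contra hcon
    push Not at hcon
    have h1 : N.relIndex (P : Subgroup G) = 1 := Subgroup.relIndex_eq_one.2 hcon
    rw [hNP] at h1
    exact hp.out.one_lt.ne' h1
  have hy₀ord : ∃ k : ℕ, orderOf y₀ = p ^ k := by
    obtain ⟨k, hk⟩ := (IsPGroup.iff_orderOf.1 P.2) ⟨y₀, hy₀P⟩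
    exact ⟨k, by rw [← hk, Subgroup.orderOf_mk]⟩
  refine ⟨y₀, hy₀ord, ?_⟩
  obtain ⟨g, hgP, hcard⟩ := exists_conj_mem_sylow_card_inf_centralizer P y₀ hy₀ord
  set y := g * y₀ * g⁻¹ with hy
  have hyN : y ∉ N := by
    intro h
    apply hy₀N
    have := hN.conj_mem y h g⁻¹
    have h2 : g⁻¹ * y * g⁻¹⁻¹ = y₀ := by rw [hy]; group
    rwa [h2] at this
  rw [relIndex_commutator_eq_index] at hidx
  haveI : (N.subgroupOf (P : Subgroup G)).Normal := hN.subgroupOf _
  have hAab : ∀ a ∈ N.subgroupOf (P : Subgroup G), ∀ b ∈ N.subgroupOf (P : Subgroup G),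
      a * b = b * a := by
    intro a ha b hb
    have := hab a.1 (Subgroup.mem_inf.2 ⟨Subgroup.mem_subgroupOf.1 ha, a.2⟩) b.1
      (Subgroup.mem_inf.2 ⟨Subgroup.mem_subgroupOf.1 hb, b.2⟩)
    exact Subtype.ext this
  have hc := card_centralizer_of_abelian_index_prime hidx (N.subgroupOf (P : Subgroup G)) hAab hNP
    ⟨y, hgP⟩ (fun h => hyN (Subgroup.mem_subgroupOf.1 h))
  rw [card_centralizer_subtype, hcard] at hc
  exact Nat.pow_right_injective hp.out.two_le hc

/-- If the Sylow `p`-subgroup is abelian of order `p²` then `x = 1` works. -/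
theorem exists_centralizer_of_commutator_eq_bot {G : Type*} [Group G] [Finite G] {p : ℕ}
    [hp : Fact p.Prime] (P : Sylow p G)
    (hidx : (⁅(P : Subgroup G), (P : Subgroup G)⁆).relIndex (P : Subgroup G) = p ^ 2)
    (hab : ⁅(P : Subgroup G), (P : Subgroup G)⁆ = ⊥) :
    ∃ x : G, (∃ k : ℕ, orderOf x = p ^ k) ∧
      (Nat.card (Subgroup.centralizer ({x} : Set G))).factorization p = 2 := by
  refine ⟨1, ⟨0, by rw [orderOf_one, pow_zero]⟩, ?_⟩
  rw [hab, Subgroup.relIndex_bot_left, Sylow.card_eq_multiplicity] at hidx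
  have h2 := Nat.pow_right_injective hp.out.two_le hidx
  have htop : Subgroup.centralizer ({1} : Set G) = ⊤ := by
    rw [eq_top_iff]
    intro g _
    rw [Subgroup.mem_centralizer_singleton_iff, mul_one, one_mul]
  rw [htop, Subgroup.card_top]
  exact h2

end Cfsg.Agent.Helper76
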