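import Mathlib
import Cfsg.Agent.Helper22.Radical
import Cfsg.Agent.Helper48.PCore
import Cfsg.Agent.Helper76.AbelSqLocal

/-!
# Sylow subgroups with `|P : P'| = p²`: global consequences

`G` finite with `O_{p'}(G) = 1`.

* `isPGroup_of_subnormal_hasNormalPComplement`: a subnormal `p`-nilpotent subgroup is a `p`-group.
* `commutator_le_of_subnormal`: if moreover `O_p(G) = 1` and `|P : P'| = p²`, every nontrivial
  subnormal subgroup `K` normalized by `P` contains `P'`, with `|P : P ∩ K| ∈ {1, p}`.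
* `eq_bot_of_subnormal_of_comm`: if `O_p(G) = O_{p'}(G) = 1`, abelian subnormal subgroups are
  trivial.
* `exists_centralizer_of_pCore_ne_bot`: the case `O_p(G) ≠ 1` of `S4587` (⇒).
-/

set_option autoImplicit false

namespace Cfsg.Agent.Helper76

open Cfsg

section

variable {G : Type*} [Group G] [Finite G] {p : ℕ} [hp : Fact p.Prime]

/-- A commutative finite group has a normal `p`-complement. -/
theorem hasNormalPComplement_of_comm {A : Type*} [Group A] [Finite A]
    (h : ∀ a b : A, a * b = b * a) : Cfsg.HasNormalPComplement p A := by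
  have hnorm : ∀ H : Subgroup A, H.Normal := fun H =>
    ⟨fun n hn g => by rw [h g n, mul_inv_cancel_right]; exact hn⟩
  obtain ⟨S⟩ : Nonempty (Sylow p A) := inferInstance
  haveI : (S : Subgroup A).Normal := hnorm _
  obtain ⟨H, hH⟩ := Subgroup.exists_right_complement'_of_coprime
    (N := (S : Subgroup A)) S.card_coprime_index
  exact ⟨S, H, hnorm H, hH.symm⟩

/-- With `O_{p'}(G) = 1`, a subnormal `p`-nilpotent subgroup is a `p`-group. -/
theorem isPGroup_of_subnormal_hasNormalPComplement (hcore : Cfsg.pPrimeCore p G = ⊥)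
    {K : Subgroup G} (hK : K.IsSubnormal) (h : Cfsg.HasNormalPComplement p K) : IsPGroup p K := by
  obtain ⟨M, hMn, hMc, k, hk⟩ := Cfsg.Agent.Helper64.hasNormalPComplement_iff_exists.1 h
  have hle : M.map K.subtype ≤ K := Subgroup.map_subtype_le M
  have hsub : (M.map K.subtype).IsSubnormal := by
    refine Subgroup.IsSubnormal.step _ K hle hK ?_
    have : (M.map K.subtype).subgroupOf K = M := by
      rw [Subgroup.subgroupOf, Subgroup.comap_map_eq_self_of_injective K.subtype_injective]
    rw [this]; exact hMn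
  have hcard : (Nat.card (M.map K.subtype)).Coprime p := by
    rw [← Nat.card_congr (M.equivMapOfInjective K.subtype K.subtype_injective).toEquiv]
    exact hMc
  have h1 := Cfsg.Agent.Helper22.le_pPrimeCore_of_isSubnormal hsub hcard
  rw [hcore, le_bot_iff] at h1
  have hM : M = ⊥ := by
    rw [eq_bot_iff]
    intro x hx
    have : (x : G) ∈ M.map K.subtype := ⟨x, hx, rfl⟩
    rw [h1, Subgroup.mem_bot] at this
    rw [Subgroup.mem_bot]
    exact Subtype.ext this
  rw [hM, Subgroup.index_bot] at hk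
  exact IsPGroup.of_card hk

/-- With `O_p(G) = O_{p'}(G) = 1`, nontrivial subnormal subgroups are not `p`-nilpotent. -/
theorem not_hasNormalPComplement_of_subnormal (hcore : Cfsg.pPrimeCore p G = ⊥)
    (hOp : Cfsg.pCore p G = ⊥) {K : Subgroup G} (hK : K.IsSubnormal) (hK0 : K ≠ ⊥) :
    ¬ Cfsg.HasNormalPComplement p K := by
  intro h
  have h1 := isPGroup_of_subnormal_hasNormalPComplement hcore hK h
  have h2 := Cfsg.Agent.Helper22.le_pCore_of_isSubnormal hK h1
  rw [hOp, le_bot_iff] at h2
  exact hK0 h2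

/-- With `O_p(G) = O_{p'}(G) = 1`, abelian subnormal subgroups are trivial. -/
theorem eq_bot_of_subnormal_of_comm (hcore : Cfsg.pPrimeCore p G = ⊥)
    (hOp : Cfsg.pCore p G = ⊥) {K : Subgroup G} (hK : K.IsSubnormal)
    (hab : ∀ a ∈ K, ∀ b ∈ K, a * b = b * a) : K = ⊥ := by
  by_contra hK0
  apply not_hasNormalPComplement_of_subnormal hcore hOp hK hK0
  apply hasNormalPComplement_of_comm
  intro a b
  exact Subtype.ext (hab a.1 a.2 b.1 b.2)

/-- A subgroup of `N ⊴ G` normalized by `N` is subnormal. -/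
theorem isSubnormal_of_le_normal {N K : Subgroup G} (hN : N.Normal) (hKN : K ≤ N)
    (hNK : N ≤ Subgroup.normalizer (K : Set G)) : K.IsSubnormal :=
  Subgroup.IsSubnormal.step K N hKN hN.isSubnormal
    ((Subgroup.normal_subgroupOf_iff_le_normalizer hKN).2 hNK)

/-- With `O_p(G) = O_{p'}(G) = 1` and `|P : P'| = p²`, every nontrivial subnormal subgroup `K`
normalized by `P` contains `P'`, and `|P : P ∩ K| ∈ {1, p}`. -/
theorem commutator_le_of_subnormal (P : Sylow p G)
    (hidx : (⁅(P : Subgroup G), (P : Subgroup G)⁆).relIndex (P : Subgroup G) = p ^ 2)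
    (hcore : Cfsg.pPrimeCore p G = ⊥) (hOp : Cfsg.pCore p G = ⊥) {K : Subgroup G}
    (hK : K.IsSubnormal) (hK0 : K ≠ ⊥) (hPK : (P : Subgroup G) ≤ Subgroup.normalizer (K : Set G)) :
    ⁅(P : Subgroup G), (P : Subgroup G)⁆ ≤ K ∧
      (K.relIndex (P : Subgroup G) = 1 ∨ K.relIndex (P : Subgroup G) = p) :=
  commutator_le_of_not_hasNormalPComplement P hidx K hPK
    (not_hasNormalPComplement_of_subnormal hcore hOp hK hK0)

/-- The case `O_p(G) ≠ 1` of `S4587` (⇒). -/
theorem exists_centralizer_of_pCore_ne_bot (P : Sylow p G)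
    (hidx : (⁅(P : Subgroup G), (P : Subgroup G)⁆).relIndex (P : Subgroup G) = p ^ 2)
    (hcore' : (⁅(P : Subgroup G), (P : Subgroup G)⁆).normalCore = ⊥)
    (hnab : ⁅(P : Subgroup G), (P : Subgroup G)⁆ ≠ ⊥) (hOp : Cfsg.pCore p G ≠ ⊥) :
    ∃ x : G, (∃ k : ℕ, orderOf x = p ^ k) ∧
      (Nat.card (Subgroup.centralizer ({x} : Set G))).factorization p = 2 := by
  set O := Cfsg.pCore p G with hO
  haveI hOn : O.Normal := Cfsg.Agent.Helper48.pCore_normal p G
  have hOpg : IsPGroup p O := Cfsg.Agent.Helper48.pCore_isPGroup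
  have hOP : O ≤ (P : Subgroup G) := Cfsg.Agent.Helper48.pCore_le_sylow P
  set A : Subgroup G := (Subgroup.center O).map O.subtype with hA
  haveI hAn : A.Normal := ConjAct.normal_of_characteristic_of_normal
  have hAO : A ≤ O := Subgroup.map_subtype_le _
  have hAP : A ≤ (P : Subgroup G) := hAO.trans hOP
  have hA0 : A ≠ ⊥ := by
    haveI : Nontrivial O := (Subgroup.nontrivial_iff_ne_bot O).2 hOp
    have h1 : Nontrivial (Subgroup.center O) := hOpg.center_nontrivial
    obtain ⟨z, hz⟩ := exists_ne (1 : Subgroup.center O)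
    intro h
    have h2 : ((z : O) : G) ∈ A := ⟨(z : O), z.2, rfl⟩
    rw [h, Subgroup.mem_bot] at h2
    apply hz
    exact Subtype.ext (Subtype.ext h2)
  have hAab : ∀ a ∈ A, ∀ b ∈ A, a * b = b * a := by
    rintro _ ⟨a, ha, rfl⟩ _ ⟨b, hb, rfl⟩
    have := Subgroup.mem_center_iff.1 ha b
    have h2 := congrArg Subtype.val this
    simpa using h2.symm
  have hAc : ¬ A ≤ ⁅(P : Subgroup G), (P : Subgroup G)⁆ := by
    intro h
    have h1 : A ≤ (⁅(P : Subgroup G), (P : Subgroup G)⁆).normalCore :=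
      (Subgroup.normal_le_normalCore).2 h
    rw [hcore', le_bot_iff] at h1
    exact hA0 h1
  have hidx' := hidx
  rw [relIndex_commutator_eq_index] at hidx'
  haveI : (A.subgroupOf (P : Subgroup G)).Normal := hAn.subgroupOf _
  have hR : ¬ A.subgroupOf (P : Subgroup G) ≤ commutator (P : Subgroup G) := by
    intro hle
    apply hAc
    intro x hx
    have h1 : (⟨x, hAP hx⟩ : (P : Subgroup G)) ∈ commutator (P : Subgroup G) :=
      hle (Subgroup.mem_subgroupOf.2 hx)
    rw [← Subgroup.map_subtype_commutator]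
    exact ⟨⟨x, hAP hx⟩, h1, rfl⟩
  obtain ⟨-, h2⟩ := commutator_le_of_not_le_commutator P.2 hidx' (A.subgroupOf (P : Subgroup G)) hR
  have hrel : A.relIndex (P : Subgroup G) = p := by
    rcases h2 with h | h
    · exfalso
      apply hnab
      have hPA : (P : Subgroup G) ≤ A := Subgroup.relIndex_eq_one.1 h
      rw [eq_bot_iff, Subgroup.commutator_le]
      intro a ha b hb
      rw [Subgroup.mem_bot, commutatorElement_eq_one_iff_mul_comm]
      exact hAab a (hPA ha) b (hPA hb)
    · exact h
  apply exists_centralizer_of_abelian_inf P hidx A _ hrel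
  intro a ha b hb
  exact hAab a (Subgroup.mem_inf.1 ha).1 b (Subgroup.mem_inf.1 hb).1

end

end Cfsg.Agent.Helper76
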