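import Mathlib
import Cfsg.Agent.Helper76.AbelSqTate

/-!
# A wreath-type lemma for `p`-groups with `|T : T'| = p²`

`abelian_of_wreath_data`: `T` a `p`-group with `|T : T'| = p²`, `Q ⊴ T` of index `p` which is an
internal direct product `Q = Q₁ × E₁` such that every `t ∉ Q` conjugates `Q₁` into `E₁`, and the
`T`-core of `E₁` is trivial. Then `Q` is abelian.  (Transfer `T → Q₁/Q₁'`.)
-/

set_option autoImplicit false

namespace Cfsg.Agent.Helper76

open Cfsg
open scoped commutatorElement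

/-- The transfer evaluated on an element of a normal subgroup (as in `Helper84.Tate2`). -/
theorem transfer_apply_mem_normal {G : Type*} [Group G] {H : Subgroup G} [hH : H.Normal]
    [H.FiniteIndex] {A : Type*} [CommGroup A] (ϕ : H →* A) (T : H.LeftTransversal) (h : G)
    (hh : h ∈ H) :
    letI := H.fintypeQuotientOfFiniteIndex
    MonoidHom.transfer ϕ h = ∏ q : G ⧸ H,
      ϕ ⟨((T.2.leftQuotientEquiv q : T.1) : G)⁻¹ * h * (T.2.leftQuotientEquiv q : T.1), by
        have := hH.conj_mem h hh ((T.2.leftQuotientEquiv q : T.1) : G)⁻¹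
        simpa using this⟩ := by
  rw [MonoidHom.transfer_def ϕ T]
  unfold Subgroup.leftTransversals.diff
  refine Finset.prod_congr rfl (fun q _ => ?_)
  congr 1
  apply Subtype.ext
  show ((T.2.leftQuotientEquiv q : T.1) : G)⁻¹ *
    (((h • T).2.leftQuotientEquiv q : (h • T).1) : G) = _
  rw [Subgroup.smul_apply_eq_smul_apply_inv_smul]
  have h1 : h⁻¹ • q = q := by
    induction q using QuotientGroup.induction_on with | _ g => ?_
    show ((h⁻¹ * g : G) : G ⧸ H) = (g : G ⧸ H)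
    rw [QuotientGroup.eq]
    have := hH.conj_mem h hh g⁻¹
    have h2 : (h⁻¹ * g)⁻¹ * g = g⁻¹ * h * g⁻¹⁻¹ := by group
    rw [h2]
    exact this
  rw [h1, smul_eq_mul]
  exact (mul_assoc _ _ _).symm

section wreath

variable {T : Type*} [Group T] [Finite T] {p : ℕ} [hp : Fact p.Prime]

/-- Uniqueness of the decomposition `q = a e` in an internal direct product. -/
theorem eq_of_mul_eq_mul_of_disjoint {Q₁ E₁ : Subgroup T} (hdisj : Q₁ ⊓ E₁ = ⊥) {a a' e e' : T}
    (ha : a ∈ Q₁) (ha' : a' ∈ Q₁) (he : e ∈ E₁) (he' : e' ∈ E₁) (h : a * e = a' * e') :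
    a = a' := by
  have h1 : a'⁻¹ * a = e' * e⁻¹ := by
    calc a'⁻¹ * a = a'⁻¹ * (a * e) * e⁻¹ := by group
      _ = a'⁻¹ * (a' * e') * e⁻¹ := by rw [h]
      _ = e' * e⁻¹ := by group
  have h2 : a'⁻¹ * a ∈ Q₁ ⊓ E₁ :=
    Subgroup.mem_inf.2 ⟨Q₁.mul_mem (Q₁.inv_mem ha') ha, h1 ▸ E₁.mul_mem he' (E₁.inv_mem he)⟩
  rw [hdisj, Subgroup.mem_bot] at h2
  exact (inv_mul_eq_one.1 h2).symm

/-- The projection `Q = Q₁ × E₁ → Q₁`. -/
noncomputable def wreathProj {Q Q₁ E₁ : Subgroup T}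
    (hcomm : ∀ a ∈ Q₁, ∀ e ∈ E₁, a * e = e * a) (hdisj : Q₁ ⊓ E₁ = ⊥)
    (hdec : ∀ q ∈ Q, ∃ a ∈ Q₁, ∃ e ∈ E₁, q = a * e) : Q →* Q₁ :=
  MonoidHom.mk' (fun q => ⟨Classical.choose (hdec q.1 q.2), (Classical.choose_spec (hdec q.1 q.2)).1⟩)
    (by
      intro q q'
      obtain ⟨ha, e, he, hq⟩ := Classical.choose_spec (hdec q.1 q.2)
      obtain ⟨ha', e', he', hq'⟩ := Classical.choose_spec (hdec q'.1 q'.2)
      obtain ⟨ha'', e'', he'', hq''⟩ := Classical.choose_spec (hdec (q * q').1 (q * q').2)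
      apply Subtype.ext
      show Classical.choose (hdec (q * q').1 (q * q').2) =
        Classical.choose (hdec q.1 q.2) * Classical.choose (hdec q'.1 q'.2)
      set a := Classical.choose (hdec q.1 q.2)
      set a' := Classical.choose (hdec q'.1 q'.2)
      set a'' := Classical.choose (hdec (q * q').1 (q * q').2)
      have hmul : a'' * e'' = (a * a') * (e * e') := by
        rw [← hq'']
        show (q : T) * (q' : T) = _
        rw [hq, hq']
        calc a * e * (a' * e') = a * (e * a') * e' := by group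
          _ = a * (a' * e) * e' := by rw [hcomm a' ha' e he]
          _ = a * a' * (e * e') := by group
      exact eq_of_mul_eq_mul_of_disjoint hdisj ha'' (Q₁.mul_mem ha ha') he'' (E₁.mul_mem he he') hmul)

theorem wreathProj_spec {Q Q₁ E₁ : Subgroup T}
    (hcomm : ∀ a ∈ Q₁, ∀ e ∈ E₁, a * e = e * a) (hdisj : Q₁ ⊓ E₁ = ⊥)
    (hdec : ∀ q ∈ Q, ∃ a ∈ Q₁, ∃ e ∈ E₁, q = a * e) (q : Q) :
    ∃ e ∈ E₁, (q : T) = ((wreathProj hcomm hdisj hdec q : Q₁) : T) * e :=
  (Classical.choose_spec (hdec q.1 q.2)).2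

theorem wreathProj_eq {Q Q₁ E₁ : Subgroup T}
    (hcomm : ∀ a ∈ Q₁, ∀ e ∈ E₁, a * e = e * a) (hdisj : Q₁ ⊓ E₁ = ⊥)
    (hdec : ∀ q ∈ Q, ∃ a ∈ Q₁, ∃ e ∈ E₁, q = a * e) (q : Q) {a e : T} (ha : a ∈ Q₁) (he : e ∈ E₁)
    (hq : (q : T) = a * e) : ((wreathProj hcomm hdisj hdec q : Q₁) : T) = a := by
  obtain ⟨e', he', hq'⟩ := wreathProj_spec hcomm hdisj hdec q
  exact eq_of_mul_eq_mul_of_disjoint hdisj (wreathProj hcomm hdisj hdec q).2 ha he' he
    (hq'.symm.trans hq)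

/-- **Wreath-type lemma.** -/
theorem abelian_of_wreath_data (hT : IsPGroup p T) (hidx : (commutator T).index = p ^ 2)
    (Q Q₁ E₁ : Subgroup T) [hQn : Q.Normal] (hQ : Q.index = p) (hQ₁ : Q₁ ≤ Q) (hE₁ : E₁ ≤ Q)
    (hcomm : ∀ a ∈ Q₁, ∀ e ∈ E₁, a * e = e * a) (hdisj : Q₁ ⊓ E₁ = ⊥)
    (hdec : ∀ q ∈ Q, ∃ a ∈ Q₁, ∃ e ∈ E₁, q = a * e)
    (hmove : ∀ t : T, t ∉ Q → ∀ a ∈ Q₁, t⁻¹ * a * t ∈ E₁)
    (hcore : ∀ x : T, (∀ t : T, t⁻¹ * x * t ∈ E₁) → x = 1) :
    ∀ a ∈ Q, ∀ b ∈ Q, a * b = b * a := by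
  classical
  set π := wreathProj hcomm hdisj hdec with hπ
  have hπQ₁ : ∀ (a : T) (ha : a ∈ Q₁), π ⟨a, hQ₁ ha⟩ = ⟨a, ha⟩ := by
    intro a ha
    apply Subtype.ext
    exact wreathProj_eq hcomm hdisj hdec ⟨a, hQ₁ ha⟩ ha E₁.one_mem (mul_one a).symm
  have hπE₁ : ∀ (e : T) (he : e ∈ E₁), π ⟨e, hE₁ he⟩ = 1 := by
    intro e he
    apply Subtype.ext
    exact wreathProj_eq hcomm hdisj hdec ⟨e, hE₁ he⟩ Q₁.one_mem he (one_mul e).symm
  have hker : ∀ q : Q, π q = 1 → (q : T) ∈ E₁ := by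
    intro q hq
    obtain ⟨e, he, hqe⟩ := wreathProj_spec hcomm hdisj hdec q
    rw [← hπ, hq] at hqe
    rw [hqe]
    simpa using he
  -- the transfer into the abelianization of `Q₁`
  set ϕ : Q →* Abelianization Q₁ := (Abelianization.of).comp π with hϕ
  haveI : Q.FiniteIndex := Subgroup.finiteIndex_of_finite
  have hV : ∀ (a : T) (ha : a ∈ Q₁), MonoidHom.transfer ϕ a = Abelianization.of ⟨a, ha⟩ := by
    intro a ha
    let TT : Q.LeftTransversal := default
    have htr := transfer_apply_mem_normal ϕ TT a (hQ₁ ha)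
    rw [htr]
    letI := Q.fintypeQuotientOfFiniteIndex
    rw [Finset.prod_eq_single (1 : T ⧸ Q)]
    · -- the coset `Q`
      set t : T := ((TT.2.leftQuotientEquiv (1 : T ⧸ Q) : TT.1) : T) with ht
      have htQ : t ∈ Q := by
        have h1 : ((t : T) : T ⧸ Q) = 1 :=
          Subgroup.IsComplement.quotientGroupMk_leftQuotientEquiv TT.2 1
        exact (QuotientGroup.eq_one_iff t).1 h1
      have h2 : (⟨t⁻¹ * a * t, by
          have := hQn.conj_mem a (hQ₁ ha) t⁻¹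
          simpa using this⟩ : Q) = (⟨t, htQ⟩ : Q)⁻¹ * ⟨a, hQ₁ ha⟩ * ⟨t, htQ⟩ := rfl
      rw [h2, map_mul, map_mul, map_inv, mul_comm, mul_inv_cancel_left, hϕ, MonoidHom.comp_apply,
        hπQ₁ a ha]
    · intro q _ hq1
      set t : T := ((TT.2.leftQuotientEquiv q : TT.1) : T) with ht
      have htQ : t ∉ Q := by
        intro h
        apply hq1
        have h1 : ((t : T) : T ⧸ Q) = q :=
          Subgroup.IsComplement.quotientGroupMk_leftQuotientEquiv TT.2 q
        rw [← h1]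
        exact (QuotientGroup.eq_one_iff t).2 h
      have hE := hmove t htQ a ha
      rw [hϕ, MonoidHom.comp_apply]
      have h3 : π ⟨t⁻¹ * a * t, by
          have := hQn.conj_mem a (hQ₁ ha) t⁻¹
          simpa using this⟩ = 1 := hπE₁ _ hE
      rw [h3, map_one]
    · intro h
      exact absurd (Finset.mem_univ _) h
  -- `Q₁ ⊓ T' ≤ Q₁'`
  have hinf : Q₁ ⊓ commutator T ≤ (commutator Q₁).map Q₁.subtype := by
    intro a ha
    obtain ⟨ha1, ha2⟩ := Subgroup.mem_inf.1 ha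
    have h1 : MonoidHom.transfer ϕ a = 1 := by
      have := Abelianization.commutator_subset_ker (MonoidHom.transfer ϕ) ha2
      exact this
    rw [hV a ha1] at h1
    have h2 : (⟨a, ha1⟩ : Q₁) ∈ commutator Q₁ := by
      rw [← Abelianization.ker_of, MonoidHom.mem_ker]
      exact h1
    exact ⟨⟨a, ha1⟩, h2, rfl⟩
  -- `T' ≤ Q` with index `p`
  have hcQ : commutator T ≤ Q := by
    have hQp : IsPGroup p (T ⧸ Q) := hT.to_quotient Q
    have hcard : Nat.card (T ⧸ Q) = p := by rw [← Subgroup.index_eq_card, hQ]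
    haveI : IsCyclic (T ⧸ Q) := isCyclic_of_prime_card hcard
    rw [commutator_def, Subgroup.commutator_le]
    intro a _ b _
    rw [← QuotientGroup.eq_one_iff]
    change QuotientGroup.mk' Q ⁅a, b⁆ = 1
    rw [map_commutatorElement, commutatorElement_eq_one_iff_mul_comm]
    obtain ⟨g, hg⟩ := IsCyclic.exists_generator (α := T ⧸ Q)
    obtain ⟨i, hi⟩ := Subgroup.mem_zpowers_iff.1 (hg (QuotientGroup.mk' Q a))
    obtain ⟨j, hj⟩ := Subgroup.mem_zpowers_iff.1 (hg (QuotientGroup.mk' Q b))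
    rw [← hi, ← hj, ← zpow_add, ← zpow_add, add_comm]
  have hrelQ : (commutator T).relIndex Q = p := by
    have h1 : (commutator T).relIndex Q * Q.index = (commutator T).index :=
      Subgroup.relIndex_mul_index hcQ
    rw [hQ, hidx, pow_two] at h1
    exact Nat.eq_of_mul_eq_mul_right hp.out.pos h1
  -- `Q₁` is abelian
  have hQ₁p : IsPGroup p Q₁ := hT.to_subgroup Q₁
  haveI : Group.IsNilpotent Q₁ := hQ₁p.isNilpotent
  have hidx₁ : (commutator Q₁).index ≤ p := by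
    rw [← relIndex_commutator_eq_index, ← Subgroup.map_subtype_commutator]
    have h1 : ((commutator Q₁).map Q₁.subtype).relIndex Q₁ ∣ (Q₁ ⊓ commutator T).relIndex Q₁ :=
      Subgroup.relIndex_dvd_of_le_left Q₁ hinf
    have h2 : (Q₁ ⊓ commutator T).relIndex Q₁ = (commutator T).relIndex Q₁ := by
      rw [inf_comm, Subgroup.inf_relIndex_right]
    have h3 : (commutator T).relIndex Q₁ ≤ (commutator T).relIndex Q :=
      Subgroup.relIndex_le_of_le_right hQ₁ (by rw [hrelQ]; exact hp.out.ne_zero)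
    have h4 : (commutator T).relIndex Q₁ ≠ 0 := by
      intro h0
      have hd : (commutator T).relIndex Q₁ ∣ Nat.card Q₁ := Subgroup.relIndex_dvd_card _ _
      rw [h0, zero_dvd_iff] at hd
      exact Nat.card_pos.ne' hd
    rw [h2] at h1
    exact (Nat.le_of_dvd (Nat.pos_of_ne_zero h4) h1).trans (h3.trans hrelQ.le)
  have hQ₁comm : IsMulCommutative Q₁ := by
    apply Cfsg.Agent.S0115.isMulCommutative_of_isCyclic_abelianization
    have hdvd : (commutator Q₁).index ∣ Nat.card Q₁ := Subgroup.index_dvd_card _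
    obtain ⟨m, hm⟩ := IsPGroup.iff_card.1 hQ₁p
    rw [hm] at hdvd
    obtain ⟨i, _, hi⟩ := (Nat.dvd_prime_pow hp.out).1 hdvd
    have hcard : Nat.card (Q₁ ⧸ commutator Q₁) = p ^ i := by
      rw [← Subgroup.index_eq_card, hi]
    have hi01 : i = 0 ∨ i = 1 := by
      rw [hi] at hidx₁
      rcases Nat.lt_or_ge i 2 with h | h
      · omega
      · exfalso
        have : p ^ 2 ≤ p ^ i := Nat.pow_le_pow_right hp.out.pos h
        have h2 : p < p ^ 2 := by nlinarith [hp.out.two_le]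
        omega
    rcases hi01 with h0 | h1
    · rw [h0, pow_zero] at hcard
      haveI : Subsingleton (Q₁ ⧸ commutator Q₁) := (Nat.card_eq_one_iff_unique.1 hcard).1
      exact isCyclic_of_subsingleton
    · rw [h1, pow_one] at hcard
      exact isCyclic_of_prime_card hcard
  -- `Q' ≤ E₁`
  have hQE : ∀ a ∈ Q, ∀ b ∈ Q, ⁅a, b⁆ ∈ E₁ := by
    intro a ha b hb
    have hab : ⁅a, b⁆ ∈ Q := Q.mul_mem (Q.mul_mem (Q.mul_mem ha hb) (Q.inv_mem ha)) (Q.inv_mem hb)
    have h1 : π ⟨⁅a, b⁆, hab⟩ = 1 := by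
      have h2 : (⟨⁅a, b⁆, hab⟩ : Q) = ⁅(⟨a, ha⟩ : Q), ⟨b, hb⟩⁆ := rfl
      rw [h2, map_commutatorElement, commutatorElement_eq_one_iff_mul_comm]
      exact hQ₁comm.is_comm.comm _ _
    exact hker _ h1
  intro a ha b hb
  rw [← commutatorElement_eq_one_iff_mul_comm]
  apply hcore
  intro t
  have h1 : t⁻¹ * ⁅a, b⁆ * t = ⁅t⁻¹ * a * t, t⁻¹ * b * t⁆ := by
    simp only [commutatorElement_def]; group
  rw [h1]
  apply hQE
  · have := hQn.conj_mem a ha t⁻¹; simpa using this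
  · have := hQn.conj_mem b hb t⁻¹; simpa using this

end wreath

end Cfsg.Agent.Helper76
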