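import Mathlib
import Cfsg.Agent.Helper9.SubnormalSylow
import Cfsg.Agent.Helper10.MinNormal
import Cfsg.Agent.Helper76.AbelSqGlobal
import Cfsg.Agent.Helper76.AbelSqWreath
import Cfsg.Agent.Helper76.AbelSqConj

/-!
# `S4587` (⇒), the case `O_p(G) = O_{p'}(G) = 1`

`G` has a unique minimal normal subgroup `N`, which is not simple; the Sylow subgroup `P` permutes
the `p` minimal normal subgroups of `N` transitively and `P ∩ N` is abelian of index `p` in `P`.
-/

set_option autoImplicit false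

namespace Cfsg.Agent.Helper76

open Cfsg

section orbit

variable {G : Type*} [Group G]

/-- The join of the `P`-conjugates of `g₀ S g₀⁻¹`. -/
def orbJoin (P S : Subgroup G) (g₀ : G) : Subgroup G := ⨆ u : P, conjSub ((u : G) * g₀) S

theorem conjSub_le_orbJoin {P S : Subgroup G} (g₀ : G) {u : G} (hu : u ∈ P) :
    conjSub (u * g₀) S ≤ orbJoin P S g₀ :=
  le_iSup (fun u : P => conjSub ((u : G) * g₀) S) ⟨u, hu⟩

theorem orbJoin_le {P N S : Subgroup G} (hN : N.Normal) (hS : IsMinInv N S) (g₀ : G) :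
    orbJoin P S g₀ ≤ N :=
  iSup_le fun _ => conjSub_le_of_normal hN hS.1 _

theorem le_normalizer_orbJoin {P N S : Subgroup G} (hN : N.Normal) (hS : IsMinInv N S) (g₀ : G) :
    N ≤ Subgroup.normalizer (orbJoin P S g₀ : Set G) :=
  le_normalizer_iSup N _ fun _ => le_normalizer_conjSub hN hS.2.2.1 _

theorem self_le_normalizer_orbJoin (P S : Subgroup G) (g₀ : G) :
    P ≤ Subgroup.normalizer (orbJoin P S g₀ : Set G) := by
  apply le_normalizer_of_conjSub_le
  intro v hv
  unfold orbJoin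
  rw [conjSub_iSup]
  apply iSup_le
  intro u
  rw [← conjSub_mul, ← mul_assoc]
  exact conjSub_le_orbJoin g₀ (P.mul_mem hv u.2)

theorem orbJoin_ne_bot {P S : Subgroup G} (hS : S ≠ ⊥) (g₀ : G) : orbJoin P S g₀ ≠ ⊥ := by
  intro h
  have h1 : conjSub (1 * g₀) S ≤ orbJoin P S g₀ := conjSub_le_orbJoin g₀ P.one_mem
  rw [h, le_bot_iff] at h1
  exact conjSub_ne_bot hS h1

end orbit

section caseB

variable {G : Type*} [Group G] [Finite G] {p : ℕ} [hp : Fact p.Prime]

/-- The Sylow subgroup `P` is transitive on the conjugates of a minimal `N`-invariant subgroup. -/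
theorem exists_conjSub_eq_of_sylow (P : Sylow p G)
    (hidx : (⁅(P : Subgroup G), (P : Subgroup G)⁆).relIndex (P : Subgroup G) = p ^ 2)
    (hcore : Cfsg.pPrimeCore p G = ⊥) (hOp : Cfsg.pCore p G = ⊥)
    (hnab : ⁅(P : Subgroup G), (P : Subgroup G)⁆ ≠ ⊥) {N S : Subgroup G} (hN : N.Normal)
    (hS : IsMinInv N S) (g₀ : G) :
    ∃ u ∈ (P : Subgroup G), conjSub g₀ S = conjSub u S := by
  by_contra hcon
  push Not at hcon
  set K1 := orbJoin (P : Subgroup G) S 1 with hK1
  set K2 := orbJoin (P : Subgroup G) S g₀ with hK2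
  have hne : ∀ u ∈ (P : Subgroup G), ∀ u' ∈ (P : Subgroup G),
      conjSub (u * 1) S ≠ conjSub (u' * g₀) S := by
    intro u hu u' hu' h
    apply hcon (u'⁻¹ * u) ((P : Subgroup G).mul_mem ((P : Subgroup G).inv_mem hu') hu)
    rw [mul_one] at h
    rw [conjSub_mul, h, ← conjSub_mul, inv_mul_cancel_left]
  have hcent : K2 ≤ Subgroup.centralizer (K1 : Set G) := by
    apply iSup_le
    intro u'
    rw [Subgroup.le_centralizer_iff]
    apply iSup_le
    intro u
    intro a ha
    rw [Subgroup.mem_centralizer_iff]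
    intro b hb
    exact ((hS.conj hN _).commute_of_ne (hS.conj hN _) (hne u u.2 u' u'.2) a ha b hb).symm
  have hsub : ∀ g : G, (orbJoin (P : Subgroup G) S g).IsSubnormal := fun g =>
    isSubnormal_of_le_normal hN (orbJoin_le hN hS g) (le_normalizer_orbJoin hN hS g)
  have h1 := (commutator_le_of_subnormal P hidx hcore hOp (hsub 1) (orbJoin_ne_bot hS.2.1 1)
    (self_le_normalizer_orbJoin _ _ _)).1
  have h2 := (commutator_le_of_subnormal P hidx hcore hOp (hsub g₀) (orbJoin_ne_bot hS.2.1 g₀)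
    (self_le_normalizer_orbJoin _ _ _)).1
  have hX : K1 ⊓ K2 = ⊥ := by
    apply eq_bot_of_subnormal_of_comm hcore hOp
    · exact isSubnormal_of_le_normal hN (inf_le_left.trans (orbJoin_le hN hS 1))
        (le_normalizer_inf (le_normalizer_orbJoin hN hS 1) (le_normalizer_orbJoin hN hS g₀))
    · intro a ha b hb
      have ha2 : a ∈ Subgroup.centralizer (K1 : Set G) := hcent (Subgroup.mem_inf.1 ha).2
      exact (Subgroup.mem_centralizer_iff.1 ha2 b (Subgroup.mem_inf.1 hb).1).symm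
  apply hnab
  rw [eq_bot_iff, ← hX]
  exact le_inf h1 h2

/-- A minimal normal subgroup is generated by the conjugates of any of its nontrivial invariant
subgroups. -/
theorem le_iSup_conjSub_of_minimal {N S : Subgroup G} (hN : N.Normal)
    (hmin : ∀ M : Subgroup G, M.Normal → M ≤ N → M = ⊥ ∨ M = N) (hS : IsMinInv N S) :
    N ≤ ⨆ g : G, conjSub g S := by
  set M := ⨆ g : G, conjSub g S with hM
  have hMN : M ≤ N := iSup_le fun g => conjSub_le_of_normal hN hS.1 g
  have hMn : M.Normal := by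
    refine ⟨fun n hn g => ?_⟩
    have h1 : g * n * g⁻¹ ∈ conjSub g M := conj_mem_conjSub hn
    have h2 : conjSub g M ≤ M := by
      rw [hM, conjSub_iSup]
      apply iSup_le
      intro g'
      rw [← conjSub_mul]
      exact le_iSup (fun g : G => conjSub g S) (g * g')
    exact h2 h1
  have hM0 : M ≠ ⊥ := by
    intro h
    have h1 : conjSub 1 S ≤ M := le_iSup (fun g : G => conjSub g S) 1
    rw [h, le_bot_iff, conjSub_one] at h1
    exact hS.2.1 h1
  rcases hmin M hMn hMN with h | h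
  · exact absurd h hM0
  · exact h.ge

/-- Decomposition of `P ∩ N` along `N = S × C_N(S)`. -/
theorem exists_mul_of_mem_inf_sylow (P : Sylow p G) {N S : Subgroup G}
    (hSsub : S.IsSubnormal)
    (hZ : S ⊓ Subgroup.centralizer (S : Set G) = ⊥)
    (hNsup : N ≤ S ⊔ (N ⊓ Subgroup.centralizer (S : Set G))) {q : G}
    (hq : q ∈ N ⊓ (P : Subgroup G)) :
    ∃ a ∈ S ⊓ (P : Subgroup G), ∃ e ∈ (N ⊓ Subgroup.centralizer (S : Set G)) ⊓ (P : Subgroup G),
      q = a * e := by
  set C₁ := N ⊓ Subgroup.centralizer (S : Set G) with hC₁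
  have hcomm : ∀ s ∈ S, ∀ c ∈ C₁, s * c = c * s := by
    intro s hs c hc
    exact Subgroup.mem_centralizer_iff.1 (Subgroup.mem_inf.1 hc).2 s hs
  -- the projection of the `p`-elements
  let Sh : Subgroup G :=
    { carrier := {s | s ∈ S ∧ ∃ c ∈ C₁, s * c ∈ (P : Subgroup G)}
      one_mem' := ⟨S.one_mem, 1, C₁.one_mem, by rw [mul_one]; exact (P : Subgroup G).one_mem⟩
      mul_mem' := by
        rintro s s' ⟨hs, c, hc, hsc⟩ ⟨hs', c', hc', hsc'⟩
        refine ⟨S.mul_mem hs hs', c * c', C₁.mul_mem hc hc', ?_⟩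
        have : s * s' * (c * c') = (s * c) * (s' * c') := by
          calc s * s' * (c * c') = s * (s' * c) * c' := by group
            _ = s * (c * s') * c' := by rw [hcomm s' hs' c hc]
            _ = (s * c) * (s' * c') := by group
        rw [this]
        exact (P : Subgroup G).mul_mem hsc hsc'
      inv_mem' := by
        rintro s ⟨hs, c, hc, hsc⟩
        refine ⟨S.inv_mem hs, c⁻¹, C₁.inv_mem hc, ?_⟩
        have : s⁻¹ * c⁻¹ = (s * c)⁻¹ := by
          rw [mul_inv_rev, hcomm s⁻¹ (S.inv_mem hs) c⁻¹ (C₁.inv_mem hc)]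
        rw [this]
        exact (P : Subgroup G).inv_mem hsc }
  have hShS : Sh ≤ S := fun s hs => hs.1
  have hQSh : (P : Subgroup G) ⊓ S ≤ Sh := by
    intro s hs
    exact ⟨(Subgroup.mem_inf.1 hs).2, 1, C₁.one_mem, by
      rw [mul_one]; exact (Subgroup.mem_inf.1 hs).1⟩
  have hShp : IsPGroup p Sh := by
    rintro ⟨s, hs, c, hc, hsc⟩
    obtain ⟨k, hk⟩ := P.2 ⟨s * c, hsc⟩
    have hk' : (s * c) ^ p ^ k = 1 := by
      have := congrArg Subtype.val hk
      simpa using this
    refine ⟨k, Subtype.ext ?_⟩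
    have hcs : Commute s c := hcomm s hs c hc
    rw [hcs.mul_pow] at hk'
    have h1 : s ^ p ^ k = (c ^ p ^ k)⁻¹ := eq_inv_of_mul_eq_one_left hk'
    have h2 : s ^ p ^ k ∈ S ⊓ Subgroup.centralizer (S : Set G) := by
      refine Subgroup.mem_inf.2 ⟨S.pow_mem hs _, ?_⟩
      rw [h1]
      exact Subgroup.inv_mem _ (Subgroup.pow_mem _ (Subgroup.mem_inf.1 hc).2 _)
    rw [hZ, Subgroup.mem_bot] at h2
    exact h2
  have hShP : Sh ≤ (P : Subgroup G) ⊓ S := by
    have hnd : ¬ p ∣ (P : Subgroup G).relIndex S :=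
      Cfsg.Agent.Helper9.not_dvd_relIndex_of_isSubnormal p P hSsub
    rw [← Subgroup.inf_relIndex_right] at hnd
    have hmul : ((P : Subgroup G) ⊓ S).relIndex Sh * Sh.relIndex S =
        ((P : Subgroup G) ⊓ S).relIndex S := Subgroup.relIndex_mul_relIndex _ _ _ hQSh hShS
    have hdvd : ((P : Subgroup G) ⊓ S).relIndex Sh ∣ Nat.card Sh := Subgroup.relIndex_dvd_card _ _
    obtain ⟨j, hj⟩ := IsPGroup.iff_card.1 hShp
    rw [hj] at hdvd
    obtain ⟨i, _, hi⟩ := (Nat.dvd_prime_pow hp.out).1 hdvd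
    have hi0 : i = 0 := by
      by_contra h0
      apply hnd
      rw [← hmul, hi]
      exact Dvd.dvd.mul_right (dvd_pow_self p h0) _
    rw [hi0, pow_zero] at hi
    exact Subgroup.relIndex_eq_one.1 hi
  obtain ⟨hqN, hqP⟩ := Subgroup.mem_inf.1 hq
  obtain ⟨s, hs, c, hc, hqsc⟩ := exists_mul_of_mem_sup_of_commute hcomm (hNsup hqN)
  have hsSh : s ∈ Sh := ⟨hs, c, hc, hqsc ▸ hqP⟩
  have hsP : s ∈ (P : Subgroup G) := (Subgroup.mem_inf.1 (hShP hsSh)).1
  have hcP : c ∈ (P : Subgroup G) := by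
    have : c = s⁻¹ * q := by rw [hqsc]; group
    rw [this]
    exact (P : Subgroup G).mul_mem ((P : Subgroup G).inv_mem hsP) hqP
  exact ⟨s, Subgroup.mem_inf.2 ⟨hs, hsP⟩, c, Subgroup.mem_inf.2 ⟨hc, hcP⟩, hqsc⟩

end caseB

end Cfsg.Agent.Helper76
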