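import Mathlib
import Cfsg.Agent.Helper76.AbelSqSimple

/-!
# `S4587` (⇒): the case `O_p(G) = O_{p'}(G) = 1`, assembly
-/

set_option autoImplicit false

namespace Cfsg.Agent.Helper76

open Cfsg

section

variable {G : Type*} [Group G]

/-- The normalizer of `S` normalizes the centralizer of `S`. -/
theorem normalizer_le_normalizer_centralizer (S : Subgroup G) :
    Subgroup.normalizer (S : Set G) ≤
      Subgroup.normalizer ((Subgroup.centralizer (S : Set G) : Subgroup G) : Set G) := by
  apply le_normalizer_of_conjSub_le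
  intro n hn x hx
  rw [mem_conjSub] at hx
  rw [Subgroup.mem_centralizer_iff]
  intro s hs
  have hs' : n⁻¹ * s * n ∈ S := (Subgroup.mem_normalizer_iff''.1 hn s).1 hs
  have h1 := Subgroup.mem_centralizer_iff.1 hx _ hs'
  have h2 : n⁻¹ * (s * x) * n = n⁻¹ * (x * s) * n := by
    calc n⁻¹ * (s * x) * n = (n⁻¹ * s * n) * (n⁻¹ * x * n) := by group
      _ = (n⁻¹ * x * n) * (n⁻¹ * s * n) := h1
      _ = n⁻¹ * (x * s) * n := by group
  exact mul_left_cancel (mul_right_cancel h2)

end

section

variable {G : Type*} [Group G] [Finite G] {p : ℕ} [hp : Fact p.Prime]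

/-- The case `O_p(G) = O_{p'}(G) = 1` of `S4587` (⇒). -/
theorem exists_centralizer_of_pCore_eq_bot (P : Sylow p G)
    (hidx : (⁅(P : Subgroup G), (P : Subgroup G)⁆).relIndex (P : Subgroup G) = p ^ 2)
    (hcore : Cfsg.pPrimeCore p G = ⊥) (hOp : Cfsg.pCore p G = ⊥)
    (hnab : ⁅(P : Subgroup G), (P : Subgroup G)⁆ ≠ ⊥)
    (hnas : ¬ ∃ S : Subgroup G, S.Normal ∧ IsSimpleGroup S ∧ ¬ IsMulCommutative S ∧
      Subgroup.centralizer (S : Set G) = ⊥) :
    ∃ x : G, (∃ k : ℕ, orderOf x = p ^ k) ∧
      (Nat.card (Subgroup.centralizer ({x} : Set G))).factorization p = 2 := by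
  classical
  -- a minimal normal subgroup
  have htop : (⊤ : Subgroup G) ≠ ⊥ := by
    intro h
    apply hnab
    rw [eq_bot_iff, ← h]
    exact le_top
  obtain ⟨N, hNn, hN0, -, hmin⟩ := Cfsg.Agent.Helper10.exists_minimal_normal_le ⊤ htop
  haveI := hNn
  have hPN : (P : Subgroup G) ≤ Subgroup.normalizer (N : Set G) := by
    rw [Subgroup.normalizer_eq_top]; exact le_top
  obtain ⟨hcN, hrelN⟩ := commutator_le_of_subnormal P hidx hcore hOp hNn.isSubnormal hN0 hPN
  -- the centralizer of `N` is trivial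
  have hC : Subgroup.centralizer (N : Set G) = ⊥ := by
    by_contra hC0
    set C := Subgroup.centralizer (N : Set G) with hCdef
    have hCn : C.Normal := Subgroup.normal_centralizer
    have hPC : (P : Subgroup G) ≤ Subgroup.normalizer (C : Set G) := by
      haveI := hCn
      rw [Subgroup.normalizer_eq_top]; exact le_top
    have hcC := (commutator_le_of_subnormal P hidx hcore hOp hCn.isSubnormal hC0 hPC).1
    have hZ : N ⊓ C = ⊥ := by
      apply eq_bot_of_subnormal_of_comm hcore hOp
      · haveI := hCn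
        exact (Subgroup.normal_inf_normal N C).isSubnormal
      · intro a ha b hb
        exact Subgroup.mem_centralizer_iff.1 (Subgroup.mem_inf.1 hb).2 a (Subgroup.mem_inf.1 ha).1
    apply hnab
    rw [eq_bot_iff, ← hZ]
    exact le_inf hcN hcC
  -- `N` is not simple
  have hNns : ¬ IsSimpleGroup N := by
    intro hs
    apply hnas
    refine ⟨N, hNn, hs, ?_, hC⟩
    intro hc
    apply hN0
    apply eq_bot_of_subnormal_of_comm hcore hOp hNn.isSubnormal
    intro a ha b hb
    have := hc.is_comm.comm (⟨a, ha⟩ : N) ⟨b, hb⟩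
    exact congrArg Subtype.val this
  -- a proper nontrivial normal subgroup of `N`
  obtain ⟨H, hHn, hH0, hHtop⟩ : ∃ H : Subgroup N, H.Normal ∧ H ≠ ⊥ ∧ H ≠ ⊤ := by
    by_contra hcon
    push Not at hcon
    apply hNns
    haveI : Nontrivial N := (Subgroup.nontrivial_iff_ne_bot N).2 hN0
    exact ⟨fun H hH => by
      by_cases h : H = ⊥
      · exact Or.inl h
      · exact Or.inr (hcon H hH h)⟩
  -- a minimal `N`-invariant subgroup `S < N`
  have hex : ∃ S : Subgroup G, S ≠ ⊥ ∧ S ≤ N ∧ N ≤ Subgroup.normalizer (S : Set G) ∧ S ≠ N := by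
    refine ⟨H.map N.subtype, ?_, Subgroup.map_subtype_le H, ?_, ?_⟩
    · intro h
      apply hH0
      rw [eq_bot_iff]
      intro x hx
      have : (x : G) ∈ H.map N.subtype := ⟨x, hx, rfl⟩
      rw [h, Subgroup.mem_bot] at this
      rw [Subgroup.mem_bot]
      exact Subtype.ext this
    · rw [← Subgroup.normal_subgroupOf_iff_le_normalizer (Subgroup.map_subtype_le H)]
      have : (H.map N.subtype).subgroupOf N = H := by
        rw [Subgroup.subgroupOf, Subgroup.comap_map_eq_self_of_injective N.subtype_injective]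
      rw [this]; exact hHn
    · intro h
      apply hHtop
      rw [eq_top_iff]
      intro x _
      have : (x : G) ∈ H.map N.subtype := by rw [h]; exact x.2
      obtain ⟨y, hy, hyx⟩ := this
      have : y = x := Subtype.ext hyx
      rw [← this]; exact hy
  obtain ⟨S, hSm⟩ := exists_minimal_of_wellFoundedLT
    (fun S : Subgroup G => S ≠ ⊥ ∧ S ≤ N ∧ N ≤ Subgroup.normalizer (S : Set G) ∧ S ≠ N) hex
  obtain ⟨hS0, hSN, hSnorm, hSneN⟩ := hSm.prop
  have hS : IsMinInv N S := by
    refine ⟨hSN, hS0, hSnorm, fun S' hS'S hS'0 hS'N => ?_⟩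
    apply le_antisymm hS'S
    apply hSm.le_of_le ⟨hS'0, hS'S.trans hSN, hS'N, ?_⟩ hS'S
    intro h
    apply hSneN
    exact le_antisymm hSN (h ▸ hS'S)
  -- `P` is transitive on the conjugates of `S`
  have htrans := exists_conjSub_eq_of_sylow P hidx hcore hOp hnab hNn hS
  have hNorb : N ≤ orbJoin (P : Subgroup G) S 1 := by
    refine (le_iSup_conjSub_of_minimal hNn hmin hS).trans (iSup_le fun g => ?_)
    obtain ⟨u, hu, hgu⟩ := htrans g
    rw [hgu]
    have := conjSub_le_orbJoin (P := (P : Subgroup G)) (S := S) 1 hu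
    rwa [mul_one] at this
  -- `P` does not normalize `S`
  have hPS : ¬ (P : Subgroup G) ≤ Subgroup.normalizer (S : Set G) := by
    intro h
    apply hSneN
    apply le_antisymm hSN
    refine hNorb.trans (iSup_le fun u => ?_)
    rw [mul_one, conjSub_eq_self_iff.2 (h u.2)]
  have hPN' : ¬ (P : Subgroup G) ≤ N := fun h => hPS (h.trans hSnorm)
  have hrel : N.relIndex (P : Subgroup G) = p := by
    rcases hrelN with h | h
    · exact absurd (Subgroup.relIndex_eq_one.1 h) hPN'
    · exact h
  -- `N_P(S) = P ∩ N`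
  have hTN : ∀ u ∈ (P : Subgroup G), u ∈ Subgroup.normalizer (S : Set G) → u ∈ N := by
    set T := (P : Subgroup G) ⊓ Subgroup.normalizer (S : Set G) with hT
    have hQT : N ⊓ (P : Subgroup G) ≤ T := by
      intro x hx
      exact Subgroup.mem_inf.2 ⟨(Subgroup.mem_inf.1 hx).2, hSnorm (Subgroup.mem_inf.1 hx).1⟩
    have hTP : T ≤ (P : Subgroup G) := inf_le_left
    have hmul : (N ⊓ (P : Subgroup G)).relIndex T * T.relIndex (P : Subgroup G) =
        (N ⊓ (P : Subgroup G)).relIndex (P : Subgroup G) :=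
      Subgroup.relIndex_mul_relIndex _ _ _ hQT hTP
    rw [Subgroup.inf_relIndex_right, hrel] at hmul
    have hT1 : T.relIndex (P : Subgroup G) ≠ 1 := by
      intro h
      exact hPS ((Subgroup.relIndex_eq_one.1 h).trans inf_le_right)
    have hTdvd : T.relIndex (P : Subgroup G) ∣ p := Dvd.intro_left _ hmul
    have hTp : T.relIndex (P : Subgroup G) = p :=
      ((Nat.dvd_prime hp.out).1 hTdvd).resolve_left hT1
    rw [hTp] at hmul
    have h1 : (N ⊓ (P : Subgroup G)).relIndex T = 1 :=
      Nat.eq_of_mul_eq_mul_right hp.out.pos (by rw [hmul, one_mul])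
    intro u hu hun
    have := Subgroup.relIndex_eq_one.1 h1 (Subgroup.mem_inf.2 ⟨hu, hun⟩)
    exact (Subgroup.mem_inf.1 this).1
  -- the centre of `S` is trivial
  have hZS : S ⊓ Subgroup.centralizer (S : Set G) = ⊥ := by
    apply eq_bot_of_subnormal_of_comm hcore hOp
    · exact isSubnormal_of_le_normal hNn (inf_le_left.trans hSN)
        (le_normalizer_inf hSnorm (hSnorm.trans (normalizer_le_normalizer_centralizer S)))
    · intro a ha b hb
      exact Subgroup.mem_centralizer_iff.1 (Subgroup.mem_inf.1 hb).2 a (Subgroup.mem_inf.1 ha).1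
  set C₁ := N ⊓ Subgroup.centralizer (S : Set G) with hC₁
  -- conjugates by elements of `P` outside `N` centralize `S`
  have hmoveG : ∀ u ∈ (P : Subgroup G), u ∉ N → conjSub u S ≤ C₁ := by
    intro u hu huN
    have hne : conjSub u S ≠ S := fun h => huN (hTN u hu (conjSub_eq_self_iff.1 h))
    refine le_inf (conjSub_le_of_normal hNn hSN u) ?_
    intro b hb
    rw [Subgroup.mem_centralizer_iff]
    intro a ha
    exact ((hS.conj hNn u).commute_of_ne hS hne b hb a ha).symm
  have hNsup : N ≤ S ⊔ C₁ := by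
    refine hNorb.trans (iSup_le fun u => ?_)
    rw [mul_one]
    by_cases huN : (u : G) ∈ N
    · rw [conjSub_eq_self_iff.2 (hSnorm huN)]
      exact le_sup_left
    · exact (hmoveG u u.2 huN).trans le_sup_right
  have hSsub : S.IsSubnormal := isSubnormal_of_le_normal hNn hSN hSnorm
  -- apply the wreath lemma inside `P`
  have hidx' := hidx
  rw [relIndex_commutator_eq_index] at hidx'
  haveI : (N.subgroupOf (P : Subgroup G)).Normal := hNn.subgroupOf _
  have hab := abelian_of_wreath_data P.2 hidx' (N.subgroupOf (P : Subgroup G))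
    (S.subgroupOf (P : Subgroup G)) (C₁.subgroupOf (P : Subgroup G)) hrel
    (by
      intro x hx
      exact Subgroup.mem_subgroupOf.2 (hSN (Subgroup.mem_subgroupOf.1 hx)))
    (by
      intro x hx
      exact Subgroup.mem_subgroupOf.2 (Subgroup.mem_inf.1 (Subgroup.mem_subgroupOf.1 hx)).1)
    (by
      intro a ha e he
      apply Subtype.ext
      have h1 := Subgroup.mem_centralizer_iff.1
        (Subgroup.mem_inf.1 (Subgroup.mem_subgroupOf.1 he)).2 a.1 (Subgroup.mem_subgroupOf.1 ha)
      exact h1)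
    (by
      rw [eq_bot_iff]
      intro x hx
      obtain ⟨h1, h2⟩ := Subgroup.mem_inf.1 hx
      have h3 : (x : G) ∈ S ⊓ Subgroup.centralizer (S : Set G) :=
        Subgroup.mem_inf.2 ⟨Subgroup.mem_subgroupOf.1 h1,
          (Subgroup.mem_inf.1 (Subgroup.mem_subgroupOf.1 h2)).2⟩
      rw [hZS, Subgroup.mem_bot] at h3
      rw [Subgroup.mem_bot]
      exact Subtype.ext h3)
    (by
      intro q hq
      obtain ⟨a, ha, e, he, hqae⟩ := exists_mul_of_mem_inf_sylow P hSsub hZS hNsup
        (Subgroup.mem_inf.2 ⟨Subgroup.mem_subgroupOf.1 hq, q.2⟩)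
      refine ⟨⟨a, (Subgroup.mem_inf.1 ha).2⟩, Subgroup.mem_subgroupOf.2 (Subgroup.mem_inf.1 ha).1,
        ⟨e, (Subgroup.mem_inf.1 he).2⟩, Subgroup.mem_subgroupOf.2 (Subgroup.mem_inf.1 he).1, ?_⟩
      exact Subtype.ext hqae)
    (by
      intro t ht a ha
      rw [Subgroup.mem_subgroupOf]
      have htN : ((t : G))⁻¹ ∉ N := by
        intro h
        apply ht
        rw [Subgroup.mem_subgroupOf]
        have := N.inv_mem h
        rwa [inv_inv] at this
      have h1 := hmoveG (t : G)⁻¹ ((P : Subgroup G).inv_mem t.2) htN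
      apply h1
      have h2 := conj_mem_conjSub (g := (t : G)⁻¹) (Subgroup.mem_subgroupOf.1 ha)
      rw [inv_inv] at h2
      exact h2)
    (by
      intro x hx
      have hxC : ∀ t : (P : Subgroup G), (t : G)⁻¹ * (x : G) * (t : G) ∈ C₁ := fun t =>
        Subgroup.mem_subgroupOf.1 (hx t)
      have hxcent : (x : G) ∈ Subgroup.centralizer (N : Set G) := by
        rw [Subgroup.mem_centralizer_iff]
        intro n hn
        have hle : orbJoin (P : Subgroup G) S 1 ≤ Subgroup.centralizer ({(x : G)} : Set G) := by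
          apply iSup_le
          intro u y hy
          rw [mul_one, mem_conjSub] at hy
          rw [Subgroup.mem_centralizer_singleton_iff]
          have h1 := Subgroup.mem_centralizer_iff.1 (Subgroup.mem_inf.1 (hxC u)).2 _ hy
          have h2 : (u : G)⁻¹ * (y * (x : G)) * (u : G) = (u : G)⁻¹ * ((x : G) * y) * (u : G) := by
            calc (u : G)⁻¹ * (y * (x : G)) * (u : G)
                = ((u : G)⁻¹ * y * (u : G)) * ((u : G)⁻¹ * (x : G) * (u : G)) := by group
              _ = ((u : G)⁻¹ * (x : G) * (u : G)) * ((u : G)⁻¹ * y * (u : G)) := h1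
              _ = (u : G)⁻¹ * ((x : G) * y) * (u : G) := by group
          exact mul_left_cancel (mul_right_cancel h2)
        have := hle (hNorb hn)
        exact (Subgroup.mem_centralizer_singleton_iff.1 this)
      rw [hC, Subgroup.mem_bot] at hxcent
      exact Subtype.ext hxcent)
  apply exists_centralizer_of_abelian_inf P hidx N _ hrel
  intro a ha b hb
  have := hab ⟨a, (Subgroup.mem_inf.1 ha).2⟩ (Subgroup.mem_subgroupOf.2 (Subgroup.mem_inf.1 ha).1)
    ⟨b, (Subgroup.mem_inf.1 hb).2⟩ (Subgroup.mem_subgroupOf.2 (Subgroup.mem_inf.1 hb).1)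
  exact congrArg Subtype.val this

end

end Cfsg.Agent.Helper76
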