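import Mathlib
import Cfsg.Agent.Helper76.PermOrbits

/-!
# The action on unordered pairs and orbit counts for 4-transitive groups (helper76)

`UPair Ω` is the set of 2-subsets of `Ω` (off-diagonal part of `Sym2 Ω`) with the induced
action.  For a `4`-transitive action on at least `4` points we count the orbits on
`UPair Ω`, `UPair Ω × Ω`, `UPair Ω × (Fin 2 ↪ Ω)`, `UPair Ω × UPair Ω`: `1, 2, 4, 3`.
-/

set_option autoImplicit false

namespace Cfsg.Agent.Helper76

/-- unordered pairs of distinct points -/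
def UPair (Ω : Type*) := {z : Sym2 Ω // ¬ z.IsDiag}

namespace UPair

variable {Ω : Type*}

/-- the pair `{a, b}` -/
def mk (a b : Ω) (h : a ≠ b) : UPair Ω := ⟨s(a, b), by simpa using h⟩

theorem exists_mk (y : UPair Ω) : ∃ (a b : Ω) (h : a ≠ b), y = mk a b h := by
  obtain ⟨z, hz⟩ := y
  induction z using Sym2.ind with
  | _ a b => exact ⟨a, b, by simpa using hz, rfl⟩

/-- the underlying element of `Sym2 Ω` -/
def val (y : UPair Ω) : Sym2 Ω := Subtype.val y

theorem val_mk (a b : Ω) (h : a ≠ b) : val (mk a b h) = s(a, b) := rfl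

theorem val_injective : Function.Injective (val : UPair Ω → Sym2 Ω) :=
  fun _ _ h => Subtype.ext h

theorem mk_eq_mk_iff {a b c d : Ω} (h : a ≠ b) (h' : c ≠ d) :
    mk a b h = mk c d h' ↔ (a = c ∧ b = d) ∨ (a = d ∧ b = c) := by
  rw [← val_injective.eq_iff, val_mk, val_mk, Sym2.eq_iff]

theorem mk_comm {a b : Ω} (h : a ≠ b) : mk a b h = mk b a h.symm := by
  rw [mk_eq_mk_iff]; right; exact ⟨rfl, rfl⟩

/-- membership in a pair -/
def Mem (x : Ω) (y : UPair Ω) : Prop := x ∈ y.1

theorem mem_mk_iff {x a b : Ω} (h : a ≠ b) : Mem x (mk a b h) ↔ x = a ∨ x = b :=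
  Sym2.mem_iff

instance [DecidableEq Ω] (x : Ω) (y : UPair Ω) : Decidable (Mem x y) :=
  inferInstanceAs (Decidable (x ∈ y.1))

instance [DecidableEq Ω] : DecidableEq (UPair Ω) :=
  inferInstanceAs (DecidableEq {z : Sym2 Ω // ¬ z.IsDiag})

instance [Fintype Ω] [DecidableEq Ω] : Fintype (UPair Ω) :=
  inferInstanceAs (Fintype {z : Sym2 Ω // ¬ z.IsDiag})

theorem card_eq [Fintype Ω] [DecidableEq Ω] :
    Fintype.card (UPair Ω) = (Fintype.card Ω).choose 2 :=
  Sym2.card_subtype_not_diag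

/-- image of a pair under an injective map -/
def map {β : Type*} (f : Ω → β) (hf : Function.Injective f) (y : UPair Ω) : UPair β :=
  ⟨Sym2.map f (val y), by rw [Sym2.isDiag_map hf]; exact y.2⟩

theorem map_mk {β : Type*} (f : Ω → β) (hf : Function.Injective f) {a b : Ω} (h : a ≠ b) :
    map f hf (mk a b h) = mk (f a) (f b) (fun e => h (hf e)) := rfl

theorem map_injective {β : Type*} (f : Ω → β) (hf : Function.Injective f) :
    Function.Injective (map f hf) := by
  intro y y' h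
  apply val_injective
  have h1 : Sym2.map f (val y) = Sym2.map f (val y') := congrArg val h
  exact Sym2.map.injective hf h1

section action

variable {G : Type*} [Group G] [MulAction G Ω]

instance : MulAction G (UPair Ω) where
  smul g y := ⟨Sym2.map (fun a => g • a) y.1, by
    rw [Sym2.isDiag_map (MulAction.injective g)]; exact y.2⟩
  one_smul y := by
    apply Subtype.ext
    show Sym2.map (fun a => (1 : G) • a) y.1 = y.1
    simp
  mul_smul g h y := by
    apply Subtype.ext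
    show Sym2.map (fun a => (g * h) • a) y.1 =
      Sym2.map (fun a => g • a) (Sym2.map (fun a => h • a) y.1)
    rw [Sym2.map_map]
    congr 1
    funext a
    exact mul_smul g h a

theorem smul_mk (g : G) {a b : Ω} (h : a ≠ b) :
    g • mk a b h = mk (g • a) (g • b) (fun e => h (MulAction.injective g e)) := rfl

theorem mem_smul_iff (g : G) (x : Ω) (y : UPair Ω) : Mem (g • x) (g • y) ↔ Mem x y := by
  obtain ⟨a, b, h, rfl⟩ := exists_mk y
  rw [smul_mk, mem_mk_iff, mem_mk_iff]
  simp [(MulAction.injective g).eq_iff]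

end action

end UPair

section trans

variable {G : Type*} [Group G] {Ω : Type*} [MulAction G Ω]

theorem injective_vec2 {a b : Ω} (hab : a ≠ b) : Function.Injective ![a, b] := by
  intro i j hij
  fin_cases i <;> fin_cases j <;> simp_all

theorem injective_vec3 {a b c : Ω} (hab : a ≠ b) (hac : a ≠ c) (hbc : b ≠ c) :
    Function.Injective ![a, b, c] := by
  intro i j hij
  fin_cases i <;> fin_cases j <;> simp_all

theorem injective_vec4 {a b c d : Ω} (hab : a ≠ b) (hac : a ≠ c) (had : a ≠ d) (hbc : b ≠ c)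
    (hbd : b ≠ d) (hcd : c ≠ d) : Function.Injective ![a, b, c, d] := by
  intro i j hij
  fin_cases i <;> fin_cases j <;> simp_all

theorem exists_smul_two [MulAction.IsMultiplyPretransitive G Ω 2] {a b a' b' : Ω}
    (hab : a ≠ b) (hab' : a' ≠ b') : ∃ g : G, g • a = a' ∧ g • b = b' := by
  obtain ⟨g, hg⟩ := MulAction.exists_smul_eq G
    (⟨![a, b], injective_vec2 hab⟩ : Fin 2 ↪ Ω) ⟨![a', b'], injective_vec2 hab'⟩
  refine ⟨g, ?_, ?_⟩
  · simpa using congrArg (fun f : Fin 2 ↪ Ω => f 0) hg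
  · simpa using congrArg (fun f : Fin 2 ↪ Ω => f 1) hg

theorem exists_smul_three [MulAction.IsMultiplyPretransitive G Ω 3] {a b c a' b' c' : Ω}
    (hab : a ≠ b) (hac : a ≠ c) (hbc : b ≠ c) (hab' : a' ≠ b') (hac' : a' ≠ c') (hbc' : b' ≠ c') :
    ∃ g : G, g • a = a' ∧ g • b = b' ∧ g • c = c' := by
  obtain ⟨g, hg⟩ := MulAction.exists_smul_eq G
    (⟨![a, b, c], injective_vec3 hab hac hbc⟩ : Fin 3 ↪ Ω)
    ⟨![a', b', c'], injective_vec3 hab' hac' hbc'⟩
  refine ⟨g, ?_, ?_, ?_⟩
  · simpa using congrArg (fun f : Fin 3 ↪ Ω => f 0) hg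
  · simpa using congrArg (fun f : Fin 3 ↪ Ω => f 1) hg
  · simpa using congrArg (fun f : Fin 3 ↪ Ω => f 2) hg

theorem exists_smul_four [MulAction.IsMultiplyPretransitive G Ω 4] {a b c d a' b' c' d' : Ω}
    (hab : a ≠ b) (hac : a ≠ c) (had : a ≠ d) (hbc : b ≠ c) (hbd : b ≠ d) (hcd : c ≠ d)
    (hab' : a' ≠ b') (hac' : a' ≠ c') (had' : a' ≠ d') (hbc' : b' ≠ c') (hbd' : b' ≠ d')
    (hcd' : c' ≠ d') :
    ∃ g : G, g • a = a' ∧ g • b = b' ∧ g • c = c' ∧ g • d = d' := by
  obtain ⟨g, hg⟩ := MulAction.exists_smul_eq G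
    (⟨![a, b, c, d], injective_vec4 hab hac had hbc hbd hcd⟩ : Fin 4 ↪ Ω)
    ⟨![a', b', c', d'], injective_vec4 hab' hac' had' hbc' hbd' hcd'⟩
  refine ⟨g, ?_, ?_, ?_, ?_⟩
  · simpa using congrArg (fun f : Fin 4 ↪ Ω => f 0) hg
  · simpa using congrArg (fun f : Fin 4 ↪ Ω => f 1) hg
  · simpa using congrArg (fun f : Fin 4 ↪ Ω => f 2) hg
  · simpa using congrArg (fun f : Fin 4 ↪ Ω => f 3) hg

end trans

end Cfsg.Agent.Helper76

namespace Cfsg.Agent.Helper76

namespace UPair

variable {Ω : Type*}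

theorem exists_mk_of_mem {x : Ω} {y : UPair Ω} (hx : Mem x y) :
    ∃ (b : Ω) (h : x ≠ b), y = mk x b h := by
  obtain ⟨a, b, h, rfl⟩ := exists_mk y
  rw [mem_mk_iff] at hx
  rcases hx with rfl | rfl
  · exact ⟨b, h, rfl⟩
  · exact ⟨a, h.symm, mk_comm h⟩

theorem eq_mk_of_mem_of_mem {a b : Ω} {y : UPair Ω} (ha : Mem a y) (hb : Mem b y) (h : a ≠ b) :
    y = mk a b h := by
  obtain ⟨c, hc, rfl⟩ := exists_mk_of_mem ha
  rw [mem_mk_iff] at hb
  rcases hb with rfl | rfl
  · exact absurd rfl h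
  · rfl

end UPair

section counts

open UPair

variable {G : Type*} [Group G] {Ω : Type*} [MulAction G Ω] [Fintype Ω] [DecidableEq Ω]

theorem exists_four_points (h4 : 4 ≤ Fintype.card Ω) :
    ∃ p0 p1 p2 p3 : Ω, p0 ≠ p1 ∧ p0 ≠ p2 ∧ p0 ≠ p3 ∧ p1 ≠ p2 ∧ p1 ≠ p3 ∧ p2 ≠ p3 := by
  have hne : Nonempty (Fin 4 ↪ Ω) := by
    rw [Function.Embedding.nonempty_iff_card_le]
    simpa using h4
  obtain ⟨e⟩ := hne
  refine ⟨e 0, e 1, e 2, e 3, ?_, ?_, ?_, ?_, ?_, ?_⟩ <;>
    · intro h
      have := e.injective h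
      revert this
      decide

variable [MulAction.IsMultiplyPretransitive G Ω 4]

theorem isMultiplyPretransitive_three (h4 : 4 ≤ Fintype.card Ω) :
    MulAction.IsMultiplyPretransitive G Ω 3 :=
  MulAction.isMultiplyPretransitive_of_le (n := 4) (by norm_num)
    (by rw [Nat.card_eq_fintype_card]; exact h4)

theorem isMultiplyPretransitive_two (h4 : 4 ≤ Fintype.card Ω) :
    MulAction.IsMultiplyPretransitive G Ω 2 :=
  MulAction.isMultiplyPretransitive_of_le (n := 4) (by norm_num)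
    (by rw [Nat.card_eq_fintype_card]; exact h4)

theorem isMultiplyPretransitive_one (h4 : 4 ≤ Fintype.card Ω) :
    MulAction.IsMultiplyPretransitive G Ω 1 :=
  MulAction.isMultiplyPretransitive_of_le (n := 4) (by norm_num)
    (by rw [Nat.card_eq_fintype_card]; exact h4)

theorem isPretransitive_of_four (h4 : 4 ≤ Fintype.card Ω) : MulAction.IsPretransitive G Ω := by
  have := isMultiplyPretransitive_one (G := G) h4
  exact MulAction.is_one_pretransitive_iff.mp this

theorem isPretransitive_upair (h4 : 4 ≤ Fintype.card Ω) :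
    MulAction.IsPretransitive G (UPair Ω) := by
  have := isMultiplyPretransitive_two (G := G) h4
  refine ⟨fun y y' => ?_⟩
  obtain ⟨a, b, h, rfl⟩ := exists_mk y
  obtain ⟨a', b', h', rfl⟩ := exists_mk y'
  obtain ⟨g, rfl, rfl⟩ := exists_smul_two (G := G) h h'
  exact ⟨g, rfl⟩

theorem nonempty_upair (h4 : 4 ≤ Fintype.card Ω) : Nonempty (UPair Ω) := by
  obtain ⟨p0, p1, _, _, h01, _⟩ := exists_four_points h4
  exact ⟨mk p0 p1 h01⟩

/-- orbits on pairs × points -/
theorem card_orbits_upair_point (h4 : 4 ≤ Fintype.card Ω) :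
    Nat.card (MulAction.orbitRel.Quotient G (UPair Ω × Ω)) = 2 := by
  have i3 := isMultiplyPretransitive_three (G := G) h4
  have i2 := isMultiplyPretransitive_two (G := G) h4
  rw [card_orbits_eq_of_invariant (ι := Bool) (fun z : UPair Ω × Ω => decide (Mem z.2 z.1))]
  · simp
  · intro g z
    show decide (Mem (g • z.2) (g • z.1)) = decide (Mem z.2 z.1)
    rw [decide_eq_decide, mem_smul_iff]
  · obtain ⟨p0, p1, p2, p3, h01, h02, h03, h12, h13, h23⟩ := exists_four_points h4
    intro b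
    cases b
    · refine ⟨(mk p0 p1 h01, p2), ?_⟩
      simp only [decide_eq_false_iff_not, mem_mk_iff]
      push Not
      exact ⟨h02.symm, h12.symm⟩
    · refine ⟨(mk p0 p1 h01, p0), ?_⟩
      simp [mem_mk_iff]
  · rintro ⟨y, x⟩ ⟨y', x'⟩ h
    simp only [decide_eq_decide] at h
    by_cases hm : Mem x y
    · have hm' := h.mp hm
      obtain ⟨b, hb, rfl⟩ := exists_mk_of_mem hm
      obtain ⟨b', hb', rfl⟩ := exists_mk_of_mem hm'
      obtain ⟨g, rfl, rfl⟩ := exists_smul_two (G := G) hb hb'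
      exact ⟨g, rfl⟩
    · have hm' : ¬ Mem x' y' := fun h' => hm (h.mpr h')
      obtain ⟨a, b, hab, rfl⟩ := exists_mk y
      obtain ⟨a', b', hab', rfl⟩ := exists_mk y'
      rw [mem_mk_iff] at hm hm'
      push Not at hm hm'
      obtain ⟨g, rfl, rfl, rfl⟩ := exists_smul_three (G := G) hab hm.1.symm hm.2.symm hab'
        hm'.1.symm hm'.2.symm
      exact ⟨g, rfl⟩

/-- orbits on pairs × ordered pairs -/
theorem card_orbits_upair_emb (h4 : 4 ≤ Fintype.card Ω) :
    Nat.card (MulAction.orbitRel.Quotient G (UPair Ω × (Fin 2 ↪ Ω))) = 4 := by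
  have i3 := isMultiplyPretransitive_three (G := G) h4
  have i2 := isMultiplyPretransitive_two (G := G) h4
  rw [card_orbits_eq_of_invariant (ι := Bool × Bool)
    (fun z : UPair Ω × (Fin 2 ↪ Ω) => (decide (Mem (z.2 0) z.1), decide (Mem (z.2 1) z.1)))]
  · simp
  · intro g z
    show (decide (Mem (g • z.2 0) (g • z.1)), decide (Mem (g • z.2 1) (g • z.1))) = _
    rw [Prod.mk.injEq, decide_eq_decide, decide_eq_decide, mem_smul_iff, mem_smul_iff]
    exact ⟨Iff.rfl, Iff.rfl⟩
  · obtain ⟨p0, p1, p2, p3, h01, h02, h03, h12, h13, h23⟩ := exists_four_points h4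
    rintro ⟨b, c⟩
    cases b <;> cases c
    · refine ⟨(mk p0 p1 h01, ⟨![p2, p3], injective_vec2 h23⟩), ?_⟩
      simp [mem_mk_iff, h02.symm, h12.symm, h03.symm, h13.symm]
    · refine ⟨(mk p0 p1 h01, ⟨![p2, p0], injective_vec2 h02.symm⟩), ?_⟩
      simp [mem_mk_iff, h02.symm, h12.symm]
    · refine ⟨(mk p0 p1 h01, ⟨![p0, p2], injective_vec2 h02⟩), ?_⟩
      simp [mem_mk_iff, h02.symm, h12.symm]
    · refine ⟨(mk p0 p1 h01, ⟨![p0, p1], injective_vec2 h01⟩), ?_⟩
      simp [mem_mk_iff]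
  · rintro ⟨y, e⟩ ⟨y', e'⟩ h
    simp only [Prod.mk.injEq, decide_eq_decide] at h
    obtain ⟨h0, h1⟩ := h
    have he : e 0 ≠ e 1 := fun h => by have := e.injective h; revert this; decide
    have he' : e' 0 ≠ e' 1 := fun h => by have := e'.injective h; revert this; decide
    have key : ∀ g : G, g • e 0 = e' 0 → g • e 1 = e' 1 → g • e = e' := by
      intro g hg0 hg1
      ext i
      fin_cases i
      · simpa using hg0
      · simpa using hg1
    by_cases hm0 : Mem (e 0) y <;> by_cases hm1 : Mem (e 1) y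
    · have hm0' := h0.mp hm0
      have hm1' := h1.mp hm1
      obtain rfl := eq_mk_of_mem_of_mem hm0 hm1 he
      obtain rfl := eq_mk_of_mem_of_mem hm0' hm1' he'
      obtain ⟨g, hg0, hg1⟩ := exists_smul_two (G := G) he he'
      refine ⟨g, Prod.ext ?_ (key g hg0 hg1)⟩
      show g • mk (e 0) (e 1) he = _
      rw [smul_mk]
      simp only [hg0, hg1]
    · have hm0' := h0.mp hm0
      have hm1' : ¬ Mem (e' 1) y' := fun h' => hm1 (h1.mpr h')
      obtain ⟨c, hc, rfl⟩ := exists_mk_of_mem hm0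
      obtain ⟨c', hc', rfl⟩ := exists_mk_of_mem hm0'
      rw [mem_mk_iff] at hm1 hm1'
      push Not at hm1 hm1'
      obtain ⟨g, hg0, hg1, hg2⟩ := exists_smul_three (G := G) he hc hm1.2 he' hc' hm1'.2
      refine ⟨g, Prod.ext ?_ (key g hg0 hg1)⟩
      show g • mk (e 0) c hc = _
      rw [smul_mk]
      simp only [hg0, hg2]
    · have hm0' : ¬ Mem (e' 0) y' := fun h' => hm0 (h0.mpr h')
      have hm1' := h1.mp hm1
      obtain ⟨c, hc, rfl⟩ := exists_mk_of_mem hm1
      obtain ⟨c', hc', rfl⟩ := exists_mk_of_mem hm1'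
      rw [mem_mk_iff] at hm0 hm0'
      push Not at hm0 hm0'
      obtain ⟨g, hg0, hg1, hg2⟩ := exists_smul_three (G := G) he hm0.2 hc he' hm0'.2 hc'
      refine ⟨g, Prod.ext ?_ (key g hg0 hg1)⟩
      show g • mk (e 1) c hc = _
      rw [smul_mk]
      simp only [hg1, hg2]
    · have hm0' : ¬ Mem (e' 0) y' := fun h' => hm0 (h0.mpr h')
      have hm1' : ¬ Mem (e' 1) y' := fun h' => hm1 (h1.mpr h')
      obtain ⟨a, b, hab, rfl⟩ := exists_mk y
      obtain ⟨a', b', hab', rfl⟩ := exists_mk y'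
      rw [mem_mk_iff] at hm0 hm1 hm0' hm1'
      push Not at hm0 hm1 hm0' hm1'
      obtain ⟨g, hg0, hg1, hg2, hg3⟩ := exists_smul_four (G := G) he hm0.1 hm0.2 hm1.1 hm1.2 hab
        he' hm0'.1 hm0'.2 hm1'.1 hm1'.2 hab'
      refine ⟨g, Prod.ext ?_ (key g hg0 hg1)⟩
      show g • mk a b hab = _
      rw [smul_mk]
      simp only [hg2, hg3]

/-- orbits on pairs × pairs -/
theorem card_orbits_upair_upair (h4 : 4 ≤ Fintype.card Ω) :
    Nat.card (MulAction.orbitRel.Quotient G (UPair Ω × UPair Ω)) = 3 := by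
  have i3 := isMultiplyPretransitive_three (G := G) h4
  have i2 := isMultiplyPretransitive_two (G := G) h4
  rw [card_orbits_eq_of_invariant (ι := Option Bool)
    (fun z : UPair Ω × UPair Ω =>
      if z.1 = z.2 then none else some (decide (∃ x, Mem x z.1 ∧ Mem x z.2)))]
  · simp
  · intro g z
    show (if g • z.1 = g • z.2 then none
      else some (decide (∃ x, Mem x (g • z.1) ∧ Mem x (g • z.2)))) = _
    have h1 : g • z.1 = g • z.2 ↔ z.1 = z.2 := (MulAction.injective g).eq_iff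
    have h2 : (∃ x, Mem x (g • z.1) ∧ Mem x (g • z.2)) ↔ ∃ x, Mem x z.1 ∧ Mem x z.2 := by
      constructor
      · rintro ⟨x, hx1, hx2⟩
        refine ⟨g⁻¹ • x, ?_, ?_⟩
        · rw [← mem_smul_iff g, smul_inv_smul]; exact hx1
        · rw [← mem_smul_iff g, smul_inv_smul]; exact hx2
      · rintro ⟨x, hx1, hx2⟩
        exact ⟨g • x, (mem_smul_iff g x _).mpr hx1, (mem_smul_iff g x _).mpr hx2⟩
    simp only [h1, h2]
  · obtain ⟨p0, p1, p2, p3, h01, h02, h03, h12, h13, h23⟩ := exists_four_points h4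
    rintro (_ | b)
    · exact ⟨(mk p0 p1 h01, mk p0 p1 h01), by simp⟩
    · cases b
      · refine ⟨(mk p0 p1 h01, mk p2 p3 h23), ?_⟩
        have hne : mk p0 p1 h01 ≠ mk p2 p3 h23 := by
          rw [Ne, mk_eq_mk_iff]
          rintro (⟨h, _⟩ | ⟨h, _⟩)
          · exact h02 h
          · exact h03 h
        simp only [hne, if_false, Option.some.injEq, decide_eq_false_iff_not, mem_mk_iff]
        rintro ⟨x, rfl | rfl, h | h⟩
        · exact h02 h
        · exact h03 h
        · exact h12 h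
        · exact h13 h
      · refine ⟨(mk p0 p1 h01, mk p0 p2 h02), ?_⟩
        have hne : mk p0 p1 h01 ≠ mk p0 p2 h02 := by
          rw [Ne, mk_eq_mk_iff]
          rintro (⟨_, h⟩ | ⟨h, _⟩)
          · exact h12 h
          · exact h02 h
        simp only [hne, if_false, Option.some.injEq, decide_eq_true_eq, mem_mk_iff]
        exact ⟨p0, Or.inl rfl, Or.inl rfl⟩
  · rintro ⟨y, w⟩ ⟨y', w'⟩ h
    dsimp only at h
    by_cases hyw : y = w
    · have hyw' : y' = w' := by
        by_contra hne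
        rw [if_pos hyw, if_neg hne] at h
        exact absurd h (by simp)
      subst hyw hyw'
      have := isPretransitive_upair (G := G) h4
      obtain ⟨g, hg⟩ := MulAction.exists_smul_eq G y y'
      exact ⟨g, Prod.ext hg hg⟩
    · have hyw' : y' ≠ w' := by
        intro he
        rw [if_neg hyw, if_pos he] at h
        exact absurd h (by simp)
      rw [if_neg hyw, if_neg hyw', Option.some.injEq, decide_eq_decide] at h
      by_cases hc : ∃ x, Mem x y ∧ Mem x w
      · obtain ⟨x, hx1, hx2⟩ := hc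
        obtain ⟨x', hx1', hx2'⟩ := h.mp ⟨x, hx1, hx2⟩
        obtain ⟨b, hb, rfl⟩ := exists_mk_of_mem hx1
        obtain ⟨c, hc, rfl⟩ := exists_mk_of_mem hx2
        obtain ⟨b', hb', rfl⟩ := exists_mk_of_mem hx1'
        obtain ⟨c', hc', rfl⟩ := exists_mk_of_mem hx2'
        have hbc : b ≠ c := by rintro rfl; exact hyw rfl
        have hbc' : b' ≠ c' := by rintro rfl; exact hyw' rfl
        obtain ⟨g, rfl, rfl, rfl⟩ := exists_smul_three (G := G) hb hc hbc hb' hc' hbc'
        exact ⟨g, rfl⟩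
      · have hc' : ¬ ∃ x, Mem x y' ∧ Mem x w' := fun h' => hc (h.mpr h')
        obtain ⟨a, b, hab, rfl⟩ := exists_mk y
        obtain ⟨c, d, hcd, rfl⟩ := exists_mk w
        obtain ⟨a', b', hab', rfl⟩ := exists_mk y'
        obtain ⟨c', d', hcd', rfl⟩ := exists_mk w'
        simp only [mem_mk_iff, not_exists, not_and, not_or] at hc hc'
        have hac : a ≠ c := fun e => (hc a (Or.inl rfl)).1 e
        have had : a ≠ d := fun e => (hc a (Or.inl rfl)).2 e
        have hbc : b ≠ c := fun e => (hc b (Or.inr rfl)).1 e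
        have hbd : b ≠ d := fun e => (hc b (Or.inr rfl)).2 e
        have hac' : a' ≠ c' := fun e => (hc' a' (Or.inl rfl)).1 e
        have had' : a' ≠ d' := fun e => (hc' a' (Or.inl rfl)).2 e
        have hbc' : b' ≠ c' := fun e => (hc' b' (Or.inr rfl)).1 e
        have hbd' : b' ≠ d' := fun e => (hc' b' (Or.inr rfl)).2 e
        obtain ⟨g, rfl, rfl, rfl, rfl⟩ := exists_smul_four (G := G) hab hac had hbc hbd hcd
          hab' hac' had' hbc' hbd' hcd'
        exact ⟨g, rfl⟩

end counts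

end Cfsg.Agent.Helper76
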