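import Mathlib
import Cfsg.Agent.Helper76.PairOrbits
import Cfsg.Agent.Helper74.CharBasic
import Cfsg.Agent.Helper75.VirtualChar

/-!
# Three irreducible characters of a 4-transitive group (helper76)

For a `4`-transitive action of `G` on `Ω` (at least `4` points), with `π₁`, `π_X`, `π_Y` the
permutation characters on points, ordered pairs and unordered pairs:

* `chiStd = π₁ - 1`  (the character `(n-1,1)` for `S_n`),
* `psiA = π_Y - π₁`  (`(n-2,2)`),
* `psiB = π_X - π_Y - π₁ + 1`  (`(n-2,1,1)`)

are irreducible characters.
-/

set_option autoImplicit false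

namespace Cfsg.Agent.Helper76

open Cfsg
open scoped ComplexConjugate
open Cfsg.Agent.Helper12.PermCharBasics

section identities

theorem descFactorial_id_one (f : ℕ) : f * f = f.descFactorial 2 + f.descFactorial 1 := by
  rcases f with _ | f
  · rfl
  · simp [Nat.descFactorial_succ]; ring

theorem descFactorial_id_two (f : ℕ) :
    f * f.descFactorial 2 = f.descFactorial 3 + 2 * f.descFactorial 2 := by
  rcases f with _ | _ | f
  · rfl
  · rfl
  · simp [Nat.descFactorial_succ]; ring

theorem descFactorial_id_three (f : ℕ) :
    f.descFactorial 2 * f.descFactorial 2 =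
      f.descFactorial 4 + 4 * f.descFactorial 3 + 2 * f.descFactorial 2 := by
  rcases f with _ | _ | _ | f
  · rfl
  · rfl
  · rfl
  · simp [Nat.descFactorial_succ]; ring

end identities

variable (G : Type*) [Group G] (Ω : Type*) [MulAction G Ω]

/-- the standard character `π₁ - 1` -/
noncomputable def chiStd : G → ℂ := permChar G Ω - fun _ => 1

/-- the character `π_Y - π₁` -/
noncomputable def psiA : G → ℂ := permChar G (UPair Ω) - permChar G Ω

/-- the character `π_X - π_Y - π₁ + 1` -/
noncomputable def psiB : G → ℂ :=
  permChar G (Fin 2 ↪ Ω) - permChar G (UPair Ω) - permChar G Ω + fun _ => 1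

variable {G Ω}
variable [Fintype G] [Fintype Ω] [DecidableEq Ω]

theorem permChar_embedding (k : ℕ) (g : G) :
    permChar G (Fin k ↪ Ω) g = ((Nat.card (MulAction.fixedBy Ω g)).descFactorial k : ℂ) := by
  show ((Nat.card (MulAction.fixedBy (Fin k ↪ Ω) g) : ℕ) : ℂ) = _
  rw [card_fixedBy_embedding]

/-- a moment computation template -/
theorem classInner_of_nat_identity (φ ψ : G → ℂ) (a b : G → ℕ) (c : ℕ)
    (hφ : ∀ g, φ g = a g) (hψ : ∀ g, ψ g = b g)
    (hsum : ∑ g : G, a g * b g = c * Nat.card G) :
    classInner φ ψ = c := by
  have hne : (Nat.card G : ℂ) ≠ 0 := by exact_mod_cast Nat.card_pos.ne'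
  unfold classInner
  have : ∀ g : G, φ g * conj (ψ g) = ((a g * b g : ℕ) : ℂ) := by
    intro g
    rw [hφ, hψ]
    simp
  simp only [this]
  rw [← Nat.cast_sum, hsum, Nat.cast_mul, mul_comm, mul_assoc, mul_inv_cancel₀ hne, mul_one]

variable [MulAction.IsMultiplyPretransitive G Ω 4]

section table

variable (h4 : 4 ≤ Fintype.card Ω)
include h4

theorem moment_one : ∑ g : G, (Nat.card (MulAction.fixedBy Ω g)).descFactorial 1 = Nat.card G := by
  have := isMultiplyPretransitive_one (G := G) h4
  exact sum_descFactorial_fixedBy 1 (by omega)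

theorem moment_two : ∑ g : G, (Nat.card (MulAction.fixedBy Ω g)).descFactorial 2 = Nat.card G := by
  have := isMultiplyPretransitive_two (G := G) h4
  exact sum_descFactorial_fixedBy 2 (by omega)

theorem moment_three :
    ∑ g : G, (Nat.card (MulAction.fixedBy Ω g)).descFactorial 3 = Nat.card G := by
  have := isMultiplyPretransitive_three (G := G) h4
  exact sum_descFactorial_fixedBy 3 (by omega)

theorem moment_four : ∑ g : G, (Nat.card (MulAction.fixedBy Ω g)).descFactorial 4 = Nat.card G :=
  sum_descFactorial_fixedBy 4 h4

theorem inner_pt_pt : classInner (permChar G Ω) (permChar G Ω) = 2 := by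
  have := classInner_of_nat_identity (permChar G Ω) (permChar G Ω)
    (fun g => Nat.card (MulAction.fixedBy Ω g)) (fun g => Nat.card (MulAction.fixedBy Ω g)) 2
    (fun g => rfl) (fun g => rfl) (by
      simp only [descFactorial_id_one, Finset.sum_add_distrib, moment_one h4, moment_two h4]
      ring)
  exact_mod_cast this

theorem inner_pt_emb : classInner (permChar G Ω) (permChar G (Fin 2 ↪ Ω)) = 3 := by
  have := classInner_of_nat_identity (permChar G Ω) (permChar G (Fin 2 ↪ Ω))
    (fun g => Nat.card (MulAction.fixedBy Ω g))
    (fun g => (Nat.card (MulAction.fixedBy Ω g)).descFactorial 2) 3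
    (fun g => rfl) (fun g => permChar_embedding 2 g) (by
      simp only [descFactorial_id_two, Finset.sum_add_distrib, ← Finset.mul_sum,
        moment_three h4, moment_two h4]
      ring)
  exact_mod_cast this

theorem inner_emb_emb : classInner (permChar G (Fin 2 ↪ Ω)) (permChar G (Fin 2 ↪ Ω)) = 7 := by
  have := classInner_of_nat_identity (permChar G (Fin 2 ↪ Ω)) (permChar G (Fin 2 ↪ Ω))
    (fun g => (Nat.card (MulAction.fixedBy Ω g)).descFactorial 2)
    (fun g => (Nat.card (MulAction.fixedBy Ω g)).descFactorial 2) 7
    (fun g => permChar_embedding 2 g) (fun g => permChar_embedding 2 g) (by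
      simp only [descFactorial_id_three, Finset.sum_add_distrib, ← Finset.mul_sum,
        moment_four h4, moment_three h4, moment_two h4]
      ring)
  exact_mod_cast this

theorem inner_emb_pt : classInner (permChar G (Fin 2 ↪ Ω)) (permChar G Ω) = 3 := by
  rw [classInner_permChar_comm, inner_pt_emb h4]

theorem inner_upair_pt : classInner (permChar G (UPair Ω)) (permChar G Ω) = 2 := by
  rw [classInner_permChar_permChar, card_orbits_upair_point h4]; norm_num

theorem inner_pt_upair : classInner (permChar G Ω) (permChar G (UPair Ω)) = 2 := by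
  rw [classInner_permChar_comm, inner_upair_pt h4]

theorem inner_upair_emb : classInner (permChar G (UPair Ω)) (permChar G (Fin 2 ↪ Ω)) = 4 := by
  rw [classInner_permChar_permChar, card_orbits_upair_emb h4]; norm_num

theorem inner_emb_upair : classInner (permChar G (Fin 2 ↪ Ω)) (permChar G (UPair Ω)) = 4 := by
  rw [classInner_permChar_comm, inner_upair_emb h4]

theorem inner_upair_upair : classInner (permChar G (UPair Ω)) (permChar G (UPair Ω)) = 3 := by
  rw [classInner_permChar_permChar, card_orbits_upair_upair h4]; norm_num

theorem nonempty_pt : Nonempty Ω := by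
  rw [← Fintype.card_pos_iff]; omega

theorem nonempty_emb : Nonempty (Fin 2 ↪ Ω) := by
  rw [Function.Embedding.nonempty_iff_card_le]
  simp only [Fintype.card_fin]; omega

theorem inner_pt_one : classInner (permChar G Ω) (fun _ => 1) = 1 := by
  have := isPretransitive_of_four (G := G) h4
  have := nonempty_pt h4
  exact classInner_permChar_triv Ω

theorem inner_one_pt : classInner (fun _ => (1 : ℂ)) (permChar G Ω) = 1 := by
  have := isPretransitive_of_four (G := G) h4
  have := nonempty_pt h4
  exact classInner_triv_permChar Ω

theorem inner_emb_one : classInner (permChar G (Fin 2 ↪ Ω)) (fun _ => 1) = 1 := by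
  have : MulAction.IsPretransitive G (Fin 2 ↪ Ω) := isMultiplyPretransitive_two (G := G) h4
  have := nonempty_emb h4
  exact classInner_permChar_triv (Fin 2 ↪ Ω)

theorem inner_one_emb : classInner (fun _ => (1 : ℂ)) (permChar G (Fin 2 ↪ Ω)) = 1 := by
  have : MulAction.IsPretransitive G (Fin 2 ↪ Ω) := isMultiplyPretransitive_two (G := G) h4
  have := nonempty_emb h4
  exact classInner_triv_permChar (Fin 2 ↪ Ω)

theorem inner_upair_one : classInner (permChar G (UPair Ω)) (fun _ => 1) = 1 := by
  have := isPretransitive_upair (G := G) h4
  have := nonempty_upair h4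
  exact classInner_permChar_triv (UPair Ω)

theorem inner_one_upair : classInner (fun _ => (1 : ℂ)) (permChar G (UPair Ω)) = 1 := by
  have := isPretransitive_upair (G := G) h4
  have := nonempty_upair h4
  exact classInner_triv_permChar (UPair Ω)

end table

section irr

omit [Fintype Ω] [DecidableEq Ω] [MulAction.IsMultiplyPretransitive G Ω 4] in
/-- a generalized character of norm one having inner product `1` with a character is
irreducible -/
theorem isIrrCharacter_of_norm_one_of_inner {f π : G → ℂ} (hf : IsGeneralizedCharacter G f)
    (h1 : classInner f f = 1) (hπ : IsCharacter G π) (hpos : classInner π f = 1) :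
    IsIrrCharacter G f := by
  obtain ⟨θ, h | h⟩ := Helper75.vc_pm_irr hf h1
  · rw [h]; exact θ.2
  · exfalso
    obtain ⟨m, hm⟩ := Helper74.isCharacter_inner_irr_nat hπ θ
    rw [h, Helper74.classInner_neg_right, hm] at hpos
    have : ((m : ℤ) : ℂ) = ((-1 : ℤ) : ℂ) := by
      push_cast
      linear_combination -hpos
    have := Int.cast_injective this
    omega

variable (h4 : 4 ≤ Fintype.card Ω)
include h4

theorem chiStd_isIrrCharacter : IsIrrCharacter G (chiStd G Ω) := by
  refine isIrrCharacter_of_norm_one_of_inner (π := permChar G Ω)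
    ⟨permChar G Ω, fun _ => 1, permChar_isCharacter, Helper74.isCharacter_one, rfl⟩ ?_
    permChar_isCharacter ?_
  · unfold chiStd
    rw [Helper74.classInner_sub_left, Helper74.classInner_sub_right, Helper74.classInner_sub_right,
      inner_pt_pt h4, inner_pt_one h4, inner_one_pt h4, classInner_triv_triv]
    norm_num
  · unfold chiStd
    rw [Helper74.classInner_sub_right, inner_pt_pt h4, inner_pt_one h4]
    norm_num

theorem psiA_isIrrCharacter : IsIrrCharacter G (psiA G Ω) := by
  refine isIrrCharacter_of_norm_one_of_inner (π := permChar G (UPair Ω))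
    ⟨permChar G (UPair Ω), permChar G Ω, permChar_isCharacter, permChar_isCharacter, rfl⟩ ?_
    permChar_isCharacter ?_
  · unfold psiA
    rw [Helper74.classInner_sub_left, Helper74.classInner_sub_right, Helper74.classInner_sub_right,
      inner_upair_upair h4, inner_upair_pt h4, inner_pt_upair h4, inner_pt_pt h4]
    norm_num
  · unfold psiA
    rw [Helper74.classInner_sub_right, inner_upair_upair h4, inner_upair_pt h4]
    norm_num

theorem psiB_isIrrCharacter : IsIrrCharacter G (psiB G Ω) := by
  refine isIrrCharacter_of_norm_one_of_inner (π := permChar G (Fin 2 ↪ Ω))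
    ⟨permChar G (Fin 2 ↪ Ω) + fun _ => 1, permChar G (UPair Ω) + permChar G Ω,
      Helper74.isCharacter_add permChar_isCharacter Helper74.isCharacter_one,
      Helper74.isCharacter_add permChar_isCharacter permChar_isCharacter, ?_⟩ ?_
    permChar_isCharacter ?_
  · unfold psiB
    abel
  · unfold psiB
    simp only [Helper74.classInner_sub_left, Helper74.classInner_sub_right,
      Helper74.classInner_add_left, Helper74.classInner_add_right,
      inner_upair_upair h4, inner_upair_pt h4, inner_pt_upair h4, inner_pt_pt h4,
      inner_emb_emb h4, inner_emb_pt h4, inner_pt_emb h4, inner_emb_upair h4, inner_upair_emb h4,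
      inner_emb_one h4, inner_one_emb h4, inner_pt_one h4, inner_one_pt h4, inner_upair_one h4,
      inner_one_upair h4, classInner_triv_triv]
    norm_num
  · unfold psiB
    simp only [Helper74.classInner_sub_right, Helper74.classInner_add_right,
      inner_emb_emb h4, inner_emb_pt h4, inner_emb_upair h4, inner_emb_one h4]
    norm_num

end irr

end Cfsg.Agent.Helper76
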