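import Mathlib
import Cfsg.Agent.Helper76.SmallChars

/-!
# Values of the three small characters, and permutations with prescribed cycle type (helper76)
-/

set_option autoImplicit false

namespace Cfsg.Agent.Helper76

open Cfsg
open Cfsg.Agent.Helper12.PermCharBasics

section values

variable {G : Type*} [Group G] {Ω : Type*} [MulAction G Ω] [Fintype Ω] [DecidableEq Ω]

/-- if `g` swaps no two points, the fixed pairs are the pairs of fixed points -/
theorem card_fixedBy_upair (g : G) (hns : ∀ a : Ω, g • g • a = a → g • a = a) :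
    Nat.card (MulAction.fixedBy (UPair Ω) g) = (Nat.card (MulAction.fixedBy Ω g)).choose 2 := by
  classical
  have key : ∀ (a b : Ω) (h : a ≠ b), g • UPair.mk a b h = UPair.mk a b h →
      g • a = a ∧ g • b = b := by
    intro a b h hfix
    rw [UPair.smul_mk, UPair.mk_eq_mk_iff] at hfix
    rcases hfix with hfix | ⟨h1, h2⟩
    · exact hfix
    · exfalso
      have : g • g • a = a := by rw [h1, h2]
      have := hns a this
      exact h (this.symm.trans h1)
  let φ : UPair (MulAction.fixedBy Ω g) → MulAction.fixedBy (UPair Ω) g := fun y =>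
    ⟨UPair.map Subtype.val Subtype.val_injective y, by
      obtain ⟨a, b, h, rfl⟩ := UPair.exists_mk y
      rw [MulAction.mem_fixedBy]
      have ha := a.2
      have hb := b.2
      rw [MulAction.mem_fixedBy] at ha hb
      rw [UPair.map_mk, UPair.smul_mk, UPair.mk_eq_mk_iff]
      exact Or.inl ⟨ha, hb⟩⟩
  have hinj : Function.Injective φ := by
    intro y y' h
    have h1 : UPair.map Subtype.val Subtype.val_injective y =
        UPair.map Subtype.val Subtype.val_injective y' := congrArg Subtype.val h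
    exact UPair.map_injective _ _ h1
  have hsurj : Function.Surjective φ := by
    rintro ⟨y, hy⟩
    obtain ⟨a, b, h, rfl⟩ := UPair.exists_mk y
    rw [MulAction.mem_fixedBy] at hy
    obtain ⟨ha, hb⟩ := key a b h hy
    refine ⟨UPair.mk ⟨a, ha⟩ ⟨b, hb⟩ (fun e => h (congrArg Subtype.val e)), ?_⟩
    rfl
  rw [← Nat.card_congr (Equiv.ofBijective φ ⟨hinj, hsurj⟩), Nat.card_eq_fintype_card,
    UPair.card_eq, Nat.card_eq_fintype_card]

theorem chiStd_apply (g : G) :
    chiStd G Ω g = (Nat.card (MulAction.fixedBy Ω g) : ℂ) - 1 := rfl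

theorem psiA_apply (g : G) (hns : ∀ a : Ω, g • g • a = a → g • a = a) :
    psiA G Ω g = ((Nat.card (MulAction.fixedBy Ω g)).choose 2 : ℂ) -
      (Nat.card (MulAction.fixedBy Ω g) : ℂ) := by
  show ((Nat.card (MulAction.fixedBy (UPair Ω) g) : ℕ) : ℂ) - _ = _
  rw [card_fixedBy_upair g hns]

theorem psiB_apply (g : G) (hns : ∀ a : Ω, g • g • a = a → g • a = a) :
    psiB G Ω g = ((Nat.card (MulAction.fixedBy Ω g)).descFactorial 2 : ℂ) -
      ((Nat.card (MulAction.fixedBy Ω g)).choose 2 : ℂ) -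
      (Nat.card (MulAction.fixedBy Ω g) : ℂ) + 1 := by
  show ((Nat.card (MulAction.fixedBy (Fin 2 ↪ Ω) g) : ℕ) : ℂ) -
    ((Nat.card (MulAction.fixedBy (UPair Ω) g) : ℕ) : ℂ) - _ + 1 = _
  rw [card_fixedBy_upair g hns, card_fixedBy_embedding]

theorem psiA_eq_zero (g : G) (hns : ∀ a : Ω, g • g • a = a → g • a = a)
    (hf : Nat.card (MulAction.fixedBy Ω g) = 0 ∨ Nat.card (MulAction.fixedBy Ω g) = 3) :
    psiA G Ω g = 0 := by
  rw [psiA_apply g hns]
  rcases hf with h | h <;> rw [h] <;> norm_num [Nat.choose]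

theorem psiB_eq_zero (g : G) (hns : ∀ a : Ω, g • g • a = a → g • a = a)
    (hf : Nat.card (MulAction.fixedBy Ω g) = 1 ∨ Nat.card (MulAction.fixedBy Ω g) = 2) :
    psiB G Ω g = 0 := by
  rw [psiB_apply g hns]
  rcases hf with h | h <;> rw [h] <;> norm_num [Nat.choose, Nat.descFactorial]

theorem chiStd_eq_zero (g : G) (hf : Nat.card (MulAction.fixedBy Ω g) = 1) :
    chiStd G Ω g = 0 := by
  rw [chiStd_apply, hf]; norm_num

end values

section perm

variable {α : Type*} [Fintype α] [DecidableEq α]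

theorem card_fixedBy_perm (g : Equiv.Perm α) :
    Nat.card (MulAction.fixedBy α g) = Fintype.card α - g.cycleType.sum := by
  rw [← Equiv.Perm.card_fixedPoints, Nat.card_eq_fintype_card]
  rfl

/-- a permutation without 2-cycles swaps no two points -/
theorem no_swap_of_two_notMem_cycleType (g : Equiv.Perm α) (h2 : 2 ∉ g.cycleType) (a : α)
    (ha : g (g a) = a) : g a = a := by
  by_contra hne
  have hsupp : a ∈ g.support := Equiv.Perm.mem_support.mpr hne
  have hc : (g.cycleOf a).IsCycle := Equiv.Perm.isCycle_cycleOf g hne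
  have hmem : g.cycleOf a ∈ g.cycleFactorsFinset :=
    Equiv.Perm.cycleOf_mem_cycleFactorsFinset_iff.mpr hsupp
  have hcard : (g.cycleOf a).support.card ∈ g.cycleType := by
    rw [Equiv.Perm.cycleType_def]
    exact Multiset.mem_map.mpr ⟨g.cycleOf a, hmem, rfl⟩
  have hca : g.cycleOf a a ≠ a := by rw [Equiv.Perm.cycleOf_apply_self]; exact hne
  have hpow : (g.cycleOf a ^ 2) a = a := by
    rw [Equiv.Perm.cycleOf_pow_apply_self, pow_two, Equiv.Perm.mul_apply]; exact ha
  have h1 : g.cycleOf a ^ 2 = 1 := (hc.pow_eq_one_iff' hca).mpr hpow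
  have hdvd : orderOf (g.cycleOf a) ∣ 2 := orderOf_dvd_of_pow_eq_one h1
  rw [hc.orderOf] at hdvd
  have h2le := hc.two_le_card_support
  have : (g.cycleOf a).support.card = 2 :=
    le_antisymm (Nat.le_of_dvd (by norm_num) hdvd) h2le
  exact h2 (this ▸ hcard)

theorem exists_perm_cycleType (m : Multiset ℕ) (hsum : m.sum ≤ Fintype.card α)
    (h2 : ∀ a ∈ m, 2 ≤ a) : ∃ g : Equiv.Perm α, g.cycleType = m :=
  (Equiv.Perm.exists_with_cycleType_iff α).mpr ⟨hsum, h2⟩

end perm

end Cfsg.Agent.Helper76
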