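import Mathlib
import Cfsg.Agent.Helper76.SmallCharValues

/-!
# The small characters of `S_n` and `A_n`, and elements of order `2^j`, `3` on which they vanish
(helper76)
-/

set_option autoImplicit false

namespace Cfsg.Agent.Helper76

open Cfsg
open Cfsg.Agent.Helper12.PermCharBasics

section compat

variable {α : Type*}

theorem permChar_subgroup_pt (H : Subgroup (Equiv.Perm α)) (a : H) :
    permChar H α a = permChar (Equiv.Perm α) α (a : Equiv.Perm α) := rfl

theorem permChar_subgroup_emb (H : Subgroup (Equiv.Perm α)) (a : H) :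
    permChar H (Fin 2 ↪ α) a = permChar (Equiv.Perm α) (Fin 2 ↪ α) (a : Equiv.Perm α) := rfl

theorem permChar_subgroup_upair (H : Subgroup (Equiv.Perm α)) (a : H) :
    permChar H (UPair α) a = permChar (Equiv.Perm α) (UPair α) (a : Equiv.Perm α) := rfl

theorem chiStd_subgroup (H : Subgroup (Equiv.Perm α)) (a : H) :
    chiStd (Equiv.Perm α) α (a : Equiv.Perm α) = chiStd H α a := rfl

theorem psiA_subgroup (H : Subgroup (Equiv.Perm α)) (a : H) :
    psiA (Equiv.Perm α) α (a : Equiv.Perm α) = psiA H α a := rfl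

theorem psiB_subgroup (H : Subgroup (Equiv.Perm α)) (a : H) :
    psiB (Equiv.Perm α) α (a : Equiv.Perm α) = psiB H α a := rfl

end compat

section trans

theorem perm_four_trans (n : ℕ) :
    MulAction.IsMultiplyPretransitive (Equiv.Perm (Fin n)) (Fin n) 4 :=
  Equiv.Perm.isMultiplyPretransitive (Fin n) 4

theorem alt_four_trans (n : ℕ) (hn : 6 ≤ n) :
    MulAction.IsMultiplyPretransitive (alternatingGroup (Fin n)) (Fin n) 4 := by
  have := alternatingGroup.isMultiplyPretransitive (Fin n)
  refine MulAction.isMultiplyPretransitive_of_le (n := Nat.card (Fin n) - 2) ?_ ?_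
  · rw [Nat.card_eq_fintype_card, Fintype.card_fin]; omega
  · exact Nat.sub_le _ _

end trans

section pairs

/-- the three pairs `(χ, ψ)` of irreducible characters of `A_n`, `S_n` -/
theorem exists_irr_pair (n : ℕ) (hn : 6 ≤ n) (x : Equiv.Perm (Fin n))
    (hx : x ∈ alternatingGroup (Fin n))
    (hzero : chiStd (Equiv.Perm (Fin n)) (Fin n) x = 0 ∨ psiA (Equiv.Perm (Fin n)) (Fin n) x = 0 ∨
      psiB (Equiv.Perm (Fin n)) (Fin n) x = 0) :
    ∃ χ : IrrCharacter (alternatingGroup (Fin n)),
      (χ : alternatingGroup (Fin n) → ℂ) ⟨x, hx⟩ = 0 ∧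
      ∃ ψ : IrrCharacter (Equiv.Perm (Fin n)), ∀ a : alternatingGroup (Fin n),
        (ψ : Equiv.Perm (Fin n) → ℂ) a = (χ : alternatingGroup (Fin n) → ℂ) a := by
  have iS := perm_four_trans n
  have iA := alt_four_trans n hn
  have h4 : 4 ≤ Fintype.card (Fin n) := by rw [Fintype.card_fin]; omega
  rcases hzero with h | h | h
  · refine ⟨⟨chiStd (alternatingGroup (Fin n)) (Fin n), chiStd_isIrrCharacter h4⟩, ?_,
      ⟨chiStd (Equiv.Perm (Fin n)) (Fin n), chiStd_isIrrCharacter h4⟩, ?_⟩
    · rw [← h]; exact (chiStd_subgroup (alternatingGroup (Fin n)) ⟨x, hx⟩).symm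
    · intro a; exact chiStd_subgroup (alternatingGroup (Fin n)) a
  · refine ⟨⟨psiA (alternatingGroup (Fin n)) (Fin n), psiA_isIrrCharacter h4⟩, ?_,
      ⟨psiA (Equiv.Perm (Fin n)) (Fin n), psiA_isIrrCharacter h4⟩, ?_⟩
    · rw [← h]; exact (psiA_subgroup (alternatingGroup (Fin n)) ⟨x, hx⟩).symm
    · intro a; exact psiA_subgroup (alternatingGroup (Fin n)) a
  · refine ⟨⟨psiB (alternatingGroup (Fin n)) (Fin n), psiB_isIrrCharacter h4⟩, ?_,
      ⟨psiB (Equiv.Perm (Fin n)) (Fin n), psiB_isIrrCharacter h4⟩, ?_⟩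
    · rw [← h]; exact (psiB_subgroup (alternatingGroup (Fin n)) ⟨x, hx⟩).symm
    · intro a; exact psiB_subgroup (alternatingGroup (Fin n)) a

end pairs

section elements

theorem sign_eq_one_of_even_cycleType {α : Type*} [Fintype α] [DecidableEq α]
    (g : Equiv.Perm α) (h : Even (g.cycleType.sum + Multiset.card g.cycleType)) :
    Equiv.Perm.sign g = 1 := by
  rw [Equiv.Perm.sign_of_cycleType, h.neg_one_pow]

theorem orderOf_two_pow_of_cycleType {α : Type*} [Fintype α] [DecidableEq α]
    (g : Equiv.Perm α) (h : ∀ b ∈ g.cycleType, b ∣ 2 ^ 3) : ∃ j : ℕ, orderOf g = 2 ^ j := by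
  have : orderOf g ∣ 2 ^ 3 := by
    rw [← Equiv.Perm.lcm_cycleType]
    exact Multiset.lcm_dvd.mpr h
  obtain ⟨j, _, hj⟩ := (Nat.dvd_prime_pow Nat.prime_two).mp this
  exact ⟨j, hj⟩

/-- a 2-element of `A_n` (`n ≥ 8`) without 2-cycles and with `n % 4` fixed points -/
theorem exists_two_elt (n : ℕ) (hn : 8 ≤ n) :
    ∃ x : Equiv.Perm (Fin n), Equiv.Perm.sign x = 1 ∧ (∃ j : ℕ, orderOf x = 2 ^ j) ∧
      2 ∉ x.cycleType ∧ Nat.card (MulAction.fixedBy (Fin n) x) = n % 4 := by
  rcases Nat.even_or_odd (n / 4) with hm | hm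
  · obtain ⟨x, hx⟩ := exists_perm_cycleType (α := Fin n) (Multiset.replicate (n / 4) 4)
      (by rw [Multiset.sum_replicate, Fintype.card_fin, smul_eq_mul]; omega)
      (by intro a ha; rw [Multiset.eq_of_mem_replicate ha]; norm_num)
    refine ⟨x, ?_, ?_, ?_, ?_⟩
    · apply sign_eq_one_of_even_cycleType
      rw [hx, Multiset.sum_replicate, Multiset.card_replicate, smul_eq_mul]
      obtain ⟨r, hr⟩ := hm
      exact ⟨5 * r, by omega⟩
    · apply orderOf_two_pow_of_cycleType
      intro b hb
      rw [hx] at hb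
      rw [Multiset.eq_of_mem_replicate hb]; norm_num
    · rw [hx]
      intro h
      have := Multiset.eq_of_mem_replicate h
      omega
    · rw [card_fixedBy_perm, hx, Multiset.sum_replicate, Fintype.card_fin, smul_eq_mul]
      omega
  · have h3 : 3 ≤ n / 4 := by
      obtain ⟨r, hr⟩ := hm
      omega
    obtain ⟨x, hx⟩ := exists_perm_cycleType (α := Fin n)
      (8 ::ₘ Multiset.replicate (n / 4 - 2) 4)
      (by rw [Multiset.sum_cons, Multiset.sum_replicate, Fintype.card_fin, smul_eq_mul]; omega)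
      (by
        intro a ha
        rw [Multiset.mem_cons] at ha
        rcases ha with rfl | ha
        · norm_num
        · rw [Multiset.eq_of_mem_replicate ha]; norm_num)
    refine ⟨x, ?_, ?_, ?_, ?_⟩
    · apply sign_eq_one_of_even_cycleType
      rw [hx, Multiset.sum_cons, Multiset.sum_replicate, Multiset.card_cons,
        Multiset.card_replicate, smul_eq_mul]
      obtain ⟨r, hr⟩ := hm
      exact ⟨5 * r + 2, by omega⟩
    · apply orderOf_two_pow_of_cycleType
      intro b hb
      rw [hx, Multiset.mem_cons] at hb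
      rcases hb with rfl | hb
      · norm_num
      · rw [Multiset.eq_of_mem_replicate hb]; norm_num
    · rw [hx, Multiset.mem_cons]
      rintro (h | h)
      · omega
      · have := Multiset.eq_of_mem_replicate h
        omega
    · rw [card_fixedBy_perm, hx, Multiset.sum_cons, Multiset.sum_replicate, Fintype.card_fin,
        smul_eq_mul]
      omega

/-- a 2-element of `A_7` with exactly one fixed point -/
theorem exists_two_elt_seven :
    ∃ x : Equiv.Perm (Fin 7), Equiv.Perm.sign x = 1 ∧ (∃ j : ℕ, orderOf x = 2 ^ j) ∧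
      Nat.card (MulAction.fixedBy (Fin 7) x) = 1 := by
  obtain ⟨x, hx⟩ := exists_perm_cycleType (α := Fin 7) ({4, 2} : Multiset ℕ)
    (by simp)
    (by
      intro a ha
      simp only [Multiset.insert_eq_cons, Multiset.mem_cons, Multiset.mem_singleton] at ha
      rcases ha with rfl | rfl <;> norm_num)
  refine ⟨x, ?_, ?_, ?_⟩
  · apply sign_eq_one_of_even_cycleType
    rw [hx]
    decide
  · apply orderOf_two_pow_of_cycleType
    intro b hb
    rw [hx] at hb
    simp only [Multiset.insert_eq_cons, Multiset.mem_cons, Multiset.mem_singleton] at hb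
    rcases hb with rfl | rfl <;> norm_num
  · rw [card_fixedBy_perm, hx]
    simp

/-- an element of order 3 of `A_n` (`n ≥ 3`) with `n % 3` fixed points -/
theorem exists_three_elt (n : ℕ) (hn : 3 ≤ n) :
    ∃ y : Equiv.Perm (Fin n), Equiv.Perm.sign y = 1 ∧ orderOf y = 3 ∧
      2 ∉ y.cycleType ∧ Nat.card (MulAction.fixedBy (Fin n) y) = n % 3 := by
  obtain ⟨y, hy⟩ := exists_perm_cycleType (α := Fin n) (Multiset.replicate (n / 3) 3)
    (by rw [Multiset.sum_replicate, Fintype.card_fin, smul_eq_mul]; omega)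
    (by intro a ha; rw [Multiset.eq_of_mem_replicate ha]; norm_num)
  refine ⟨y, ?_, ?_, ?_, ?_⟩
  · apply sign_eq_one_of_even_cycleType
    rw [hy, Multiset.sum_replicate, Multiset.card_replicate, smul_eq_mul]
    exact ⟨2 * (n / 3), by omega⟩
  · have hdvd : orderOf y ∣ 3 := by
      rw [← Equiv.Perm.lcm_cycleType, hy]
      apply Multiset.lcm_dvd.mpr
      intro b hb
      rw [Multiset.eq_of_mem_replicate hb]
    have hne : orderOf y ≠ 1 := by
      intro h1
      rw [orderOf_eq_one_iff, ← Equiv.Perm.cycleType_eq_zero, hy] at h1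
      have : Multiset.card (Multiset.replicate (n / 3) 3) = 0 := by rw [h1]; rfl
      rw [Multiset.card_replicate] at this
      omega
    rcases (Nat.Prime.eq_one_or_self_of_dvd Nat.prime_three _ hdvd) with h | h
    · exact absurd h hne
    · exact h
  · rw [hy]
    intro h
    have := Multiset.eq_of_mem_replicate h
    omega
  · rw [card_fixedBy_perm, hy, Multiset.sum_replicate, Fintype.card_fin, smul_eq_mul]
    omega

end elements

end Cfsg.Agent.Helper76
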