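import Cfsg.Agent.Helper18.BNMain

/-!
helper76: piece (CONJ) of helper19's plan for S2314 (board #4669).  A monomial element `m`
all of whose conjugates `m X_{p_i} m⁻¹`, `i ∈ K`, leave `B`, sends every positive root
subgroup of the root subsystem `Φ_K` into the negative unipotent subgroup `V`.

The linearity statement (LIN) of the same board post (helper77's piece
`Cfsg.Agent.Helper77.ChevLin.rho_neg_of_simple_neg`) enters as the hypothesis `LinHyp D`;
the file `Cfsg/Agent/Helper76/BorelConjMain.lean` plugs it in.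
-/

set_option autoImplicit false

namespace Cfsg.Agent.Helper76.BorelConj

open Cfsg Cfsg.Lie Cfsg.Agent.Helper18

/-- the statement of (LIN) of board #4669 for the datum `D` -/
def LinHyp (D : ChevalleyDatum) : Prop :=
  ∀ (w : List ℕ), (∀ i ∈ w, i < D.rank) → ∀ (K : Set ℕ),
    (∀ i ∈ K, i < D.rank → D.IsNegRoot (rho D w (D.simple i))) →
    ∀ r : ℕ, D.IsPosRoot r → D.InRootSub K r → D.IsNegRoot (rho D w r)

section
variable {F : Type*} [Field F]
variable (D : ChevalleyDatum) (hD : D ∈ [chevG2, chevB2, chevD4, chevF4, chevE6, chevE7, chevE8])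
include hD

/-- conjugation by `h n_w` maps `x_s(t)` to `x_{w s}(t')` -/
theorem conj_decomp_xGL (w : List ℕ) (hw : ∀ i ∈ w, i < D.rank) (h : GL D.Idx F)
    (hh : h ∈ D.diagonalSubgroup F) (s : ℕ) (hs : s < D.nroots) (t : F) :
    ∃ t' : F, (h * nWordsGL D F w) * xGL D F s t * (h * nWordsGL D F w)⁻¹ = xGL D F (rho D w s) t' := by
  obtain ⟨χ, -, -, hc⟩ := diagonalSubgroup_char D hD h hh
  obtain ⟨hlt, η, -, hconj⟩ := nWordsGL_conj_xGL D hD (nConjHyp (F := F) D hD)
    (fun i s hi hs => reflectRoot_lt D hD i s hi hs) w hw s hs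
  refine ⟨χ (rho D w s) * ((η : F) * t), ?_⟩
  have e4 : h * xGL D F (rho D w s) ((η : F) * t) = xGL D F (rho D w s) (χ (rho D w s) * ((η : F) * t)) * h :=
    hc _ hlt _
  have e5 := hconj t
  calc h * nWordsGL D F w * xGL D F s t * (h * nWordsGL D F w)⁻¹
      = h * (nWordsGL D F w * xGL D F s t) * (nWordsGL D F w)⁻¹ * h⁻¹ := by group
    _ = (h * xGL D F (rho D w s) ((η : F) * t)) * h⁻¹ := by rw [e5]; group
    _ = xGL D F (rho D w s) (χ (rho D w s) * ((η : F) * t)) := by rw [e4]; group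

theorem xGL_mem_negUnipotent (q : ℕ) (hq : D.IsNegRoot q) (c : F) : xGL D F q c ∈ D.negUnipotent F := by
  apply Subgroup.subset_closure
  exact ⟨q, c, hq, xGL_val D _ (triOK_of_mem D hD) q c⟩

/-- (CONJ) of board #4669, with (LIN) as a hypothesis -/
theorem conj_pos_mem_neg_of_lin (hlin : LinHyp D) (m : GL D.Idx F) (hm : m ∈ D.monomialSubgroup F)
    (K : Set ℕ)
    (hdesc : ∀ i ∈ K, i < D.rank → ¬ ∀ t : F, m * xGL D F (D.simple i) t * m⁻¹ ∈ D.borelSubgroup F)
    (r : ℕ) (t : F) (hr : D.IsPosRoot r) (hrK : D.InRootSub K r) :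
    m * xGL D F r t * m⁻¹ ∈ D.negUnipotent F := by
  obtain ⟨w, hw, h, hh, rfl⟩ := mem_monomial_decomp D hD m hm
  have hpos := posOK_of_mem D hD
  have hsim := simpleOK_of_mem D hD
  have hneg : ∀ i ∈ K, i < D.rank → D.IsNegRoot (rho D w (D.simple i)) := by
    intro i hiK hi
    have hpi := simple_lt D hsim i hi
    have hlt := rho_lt D hD w hw _ hpi
    by_contra hcon
    apply hdesc i hiK hi
    intro t
    obtain ⟨t', ht'⟩ := conj_decomp_xGL D hD w hw h hh _ hpi t
    rw [ht']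
    apply posUnipotent_le_borel D hD
    apply xGL_mem_posUnipotent D hD _ ⟨?_, hlt⟩
    by_contra hlt2
    apply hcon
    exact (isNegRoot_iff D _ hpos _).mpr ⟨by omega, hlt⟩
  have h1 := hlin w hw K hneg r hr hrK
  obtain ⟨t', ht'⟩ := conj_decomp_xGL D hD w hw h hh r hr.1 t
  rw [ht']
  exact xGL_mem_negUnipotent D hD _ h1 t'

end

end Cfsg.Agent.Helper76.BorelConj
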