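import Cfsg.Agent.Helper76.BorelConj
import Cfsg.Agent.Helper77.ChevLin

/-!
helper76: piece (CONJ) of helper19's plan for S2314 (board #4669), final form: helper77's
linearity statement (LIN) plugged into `Cfsg.Agent.Helper76.BorelConj.conj_pos_mem_neg_of_lin`.
-/

set_option autoImplicit false

namespace Cfsg.Agent.Helper76.BorelConj

open Cfsg Cfsg.Lie Cfsg.Agent.Helper18

theorem linHyp (D : ChevalleyDatum)
    (hD : D ∈ [chevG2, chevB2, chevD4, chevF4, chevE6, chevE7, chevE8]) : LinHyp D :=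
  fun w hw K hneg r hr hrK =>
    Cfsg.Agent.Helper77.ChevLin.rho_neg_of_simple_neg D hD w hw K hneg r hr hrK

/-- (CONJ) of board #4669 -/
theorem conj_pos_mem_neg {F : Type*} [Field F] (D : ChevalleyDatum)
    (hD : D ∈ [chevG2, chevB2, chevD4, chevF4, chevE6, chevE7, chevE8])
    (m : GL D.Idx F) (hm : m ∈ D.monomialSubgroup F) (K : Set ℕ)
    (hdesc : ∀ i ∈ K, i < D.rank → ¬ ∀ t : F, m * xGL D F (D.simple i) t * m⁻¹ ∈ D.borelSubgroup F)
    (r : ℕ) (t : F) (hr : D.IsPosRoot r) (hrK : D.InRootSub K r) :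
    m * xGL D F r t * m⁻¹ ∈ D.negUnipotent F :=
  conj_pos_mem_neg_of_lin D hD (linHyp D hD) m hm K hdesc r t hr hrK

end Cfsg.Agent.Helper76.BorelConj
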