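import Mathlib
import Cfsg.Agent.Helper76.CentralType

/-!
# The inductive step for central type embeddings

From a nondegenerate cocycle on `K₀` with values in `ZMod m₀` we build one on
`(K₀ ≀ᵣ C) × C`, `C = Multiplicative (ZMod p)`, with values in `ZMod m₁`, for `m₀ ∣ m₁`, `p ∣ m₁`.
-/

set_option autoImplicit false

namespace Cfsg.Agent.Helper76

open Cfsg

universe u

/-- The embedding `ZMod d → ZMod n` for `d ∣ n` (multiplication by `n / d`). -/
def zmodDvdEmb {d n : ℕ} (h : d ∣ n) : ZMod d →+ ZMod n :=
  ZMod.lift d ⟨(AddMonoidHom.mulLeft (((n / d : ℕ) : ZMod n))).comp (Int.castAddHom (ZMod n)), by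
    simp only [AddMonoidHom.coe_comp, Function.comp_apply, Int.coe_castAddHom, Int.cast_natCast,
      AddMonoidHom.coe_mulLeft]
    rw [← Nat.cast_mul, Nat.div_mul_cancel h, ZMod.natCast_self]⟩

theorem zmodDvdEmb_injective {d n : ℕ} [NeZero n] (h : d ∣ n) :
    Function.Injective (zmodDvdEmb h) := by
  unfold zmodDvdEmb
  rw [ZMod.lift_injective]
  intro k hk
  simp only [AddMonoidHom.coe_comp, Function.comp_apply, Int.coe_castAddHom,
    AddMonoidHom.coe_mulLeft] at hk
  have h2 : ((((n / d : ℕ) : ℤ) * k : ℤ) : ZMod n) = 0 := by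
    rw [Int.cast_mul, Int.cast_natCast]
    exact hk
  rw [ZMod.intCast_zmod_eq_zero_iff_dvd] at h2 ⊢
  have hn : (n : ℤ) = ((n / d : ℕ) : ℤ) * (d : ℤ) := by
    rw [← Nat.cast_mul, Nat.div_mul_cancel h]
  rw [hn] at h2
  have hnd : ((n / d : ℕ) : ℤ) ≠ 0 := by
    have hn0 : n ≠ 0 := NeZero.ne n
    have : n / d ≠ 0 := by
      intro h0
      apply hn0
      have := Nat.div_mul_cancel h
      rw [h0, zero_mul] at this
      exact this.symm
    exact_mod_cast this
  exact (mul_dvd_mul_iff_left hnd).mp h2

section step

variable {K₀ : Type u} [Group K₀] {m₀ m₁ p : ℕ} [hp : Fact p.Prime]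

local notation "C" => Multiplicative (ZMod p)

/-- The tensor-induced cocycle on the wreath product. -/
def wreathCocycle (D₀ : CTData K₀ m₀) (u v : K₀ ≀ᵣ C) : ZMod m₀ :=
  ∑ x : C, D₀.α (u.left x) (v.left (u.right⁻¹ * x))

theorem wreathCocycle_cocycle (D₀ : CTData K₀ m₀) (a b c : K₀ ≀ᵣ C) :
    wreathCocycle D₀ a b + wreathCocycle D₀ (a * b) c
      = wreathCocycle D₀ b c + wreathCocycle D₀ a (b * c) := by
  unfold wreathCocycle
  have h3 : ∑ x : C, D₀.α (b.left x) (c.left (b.right⁻¹ * x))
      = ∑ x : C, D₀.α (b.left (a.right⁻¹ * x)) (c.left (b.right⁻¹ * (a.right⁻¹ * x))) :=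
    (Fintype.sum_equiv (Equiv.mulLeft a.right⁻¹) _ _ (fun x => rfl)).symm
  rw [h3, ← Finset.sum_add_distrib, ← Finset.sum_add_distrib]
  apply Finset.sum_congr rfl
  intro x _
  simp only [RegularWreathProduct.mul_left, RegularWreathProduct.mul_right, Pi.mul_apply,
    mul_inv_rev, mul_assoc]
  exact D₀.cocycle _ _ _

theorem wreathCocycle_one_left (D₀ : CTData K₀ m₀) (b : K₀ ≀ᵣ C) :
    wreathCocycle D₀ 1 b = 0 := by
  unfold wreathCocycle
  apply Finset.sum_eq_zero
  intro x _
  simp [D₀.one_left]

theorem wreathCocycle_one_right (D₀ : CTData K₀ m₀) (a : K₀ ≀ᵣ C) :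
    wreathCocycle D₀ a 1 = 0 := by
  unfold wreathCocycle
  apply Finset.sum_eq_zero
  intro x _
  simp [D₀.one_right]

/-- The Heisenberg pairing between the top group and the extra cyclic factor. -/
def heisCocycle (a b : (K₀ ≀ᵣ C) × C) : ZMod p :=
  Multiplicative.toAdd a.2 * Multiplicative.toAdd b.1.right

theorem heisCocycle_cocycle (a b c : (K₀ ≀ᵣ C) × C) :
    heisCocycle a b + heisCocycle (a * b) c = heisCocycle b c + heisCocycle a (b * c) := by
  unfold heisCocycle
  simp only [Prod.snd_mul, Prod.fst_mul, RegularWreathProduct.mul_right, toAdd_mul]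
  ring

/-- **The inductive step.** -/
noncomputable def ctStep [NeZero m₁] (h₀ : m₀ ∣ m₁) (hpm : p ∣ m₁) (D₀ : CTData K₀ m₀) :
    CTData ((K₀ ≀ᵣ C) × C) m₁ where
  α a b := zmodDvdEmb h₀ (wreathCocycle D₀ a.1 b.1) + zmodDvdEmb hpm (heisCocycle a b)
  cocycle a b c := by
    have h1 := congrArg (zmodDvdEmb h₀) (wreathCocycle_cocycle D₀ a.1 b.1 c.1)
    have h2 := congrArg (zmodDvdEmb hpm) (heisCocycle_cocycle a b c)
    rw [map_add, map_add] at h1 h2
    simp only [Prod.fst_mul]
    linear_combination h1 + h2
  one_left b := by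
    simp [wreathCocycle_one_left, heisCocycle]
  one_right a := by
    simp [wreathCocycle_one_right, heisCocycle]
  nondeg := by
    rintro ⟨w, c⟩ hne
    have hκ := zmodDvdEmb_injective (n := m₁) hpm
    have hι := zmodDvdEmb_injective (n := m₁) h₀
    by_cases hr : w.right = 1
    · by_cases hl : w.left = 1
      · -- `w = 1`, `c ≠ 1`
        have hw : w = 1 := by
          ext x
          · rw [hl]; rfl
          · exact hr
        have hc : c ≠ 1 := by
          intro hc
          apply hne
          rw [hw, hc]
          rfl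
        refine ⟨(⟨1, Multiplicative.ofAdd 1⟩, 1), ?_, ?_⟩
        · rw [hw]
          ext <;> simp
        · simp only [hw, wreathCocycle_one_left, wreathCocycle_one_right, map_zero, zero_add,
            heisCocycle, toAdd_one, zero_mul, toAdd_ofAdd, mul_one]
          intro h
          apply hc
          have := hκ (h.trans (map_zero _).symm)
          exact toAdd_eq_zero.mp this
      · -- `w.right = 1`, `w.left ≠ 1`
        have : ∃ y, w.left y ≠ 1 := by
          by_contra hcon
          push Not at hcon
          exact hl (funext hcon)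
        obtain ⟨y, hy⟩ := this
        obtain ⟨a₀, ha₀, hα⟩ := D₀.nondeg (w.left y) hy
        classical
        refine ⟨(⟨Pi.mulSingle y a₀, 1⟩, 1), ?_, ?_⟩
        · apply Prod.ext
          · apply RegularWreathProduct.ext
            · funext z
              simp only [Prod.fst_mul, RegularWreathProduct.mul_left, Pi.mul_apply, inv_one,
                one_mul, hr]
              by_cases hz : z = y
              · subst hz
                simp only [Pi.mulSingle_eq_same]
                exact ha₀
              · simp only [Pi.mulSingle_eq_of_ne hz, one_mul, mul_one]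
            · simp [hr]
          · simp
        · have e1 : wreathCocycle D₀ w ⟨Pi.mulSingle y a₀, 1⟩ = D₀.α (w.left y) a₀ := by
            unfold wreathCocycle
            rw [Finset.sum_eq_single y]
            · simp [hr]
            · intro z _ hz
              simp only [hr, inv_one, one_mul, Pi.mulSingle_eq_of_ne hz, D₀.one_right]
            · intro h; exact absurd (Finset.mem_univ y) h
          have e2 : wreathCocycle D₀ ⟨Pi.mulSingle y a₀, 1⟩ w = D₀.α a₀ (w.left y) := by
            unfold wreathCocycle
            rw [Finset.sum_eq_single y]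
            · simp
            · intro z _ hz
              simp only [inv_one, one_mul, Pi.mulSingle_eq_of_ne hz, D₀.one_left]
            · intro h; exact absurd (Finset.mem_univ y) h
          simp only [e1, e2, heisCocycle, toAdd_one, mul_zero, zero_mul, map_zero, add_zero]
          intro h
          exact hα (hι h)
    · -- `w.right ≠ 1`
      refine ⟨(1, Multiplicative.ofAdd 1), ?_, ?_⟩
      · ext <;> simp [mul_comm]
      · simp only [wreathCocycle_one_left, wreathCocycle_one_right, map_zero, zero_add,
          heisCocycle, toAdd_ofAdd, one_mul, RegularWreathProduct.one_right,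
          toAdd_one, mul_zero]
        intro h
        apply hr
        have := hκ (h.symm.trans (map_zero _).symm)
        exact toAdd_eq_zero.mp this

end step

end Cfsg.Agent.Helper76
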