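import Mathlib
import Cfsg.Prelude.Def_Characters
import Cfsg.Agent.Helper76.DadeWreath

/-!
# Dade's theorem: every finite solvable group embeds in an M-group

* `kkHom`: the Kaloujnine–Krasner embedding `G →* N ≀ᵣ (G ⧸ N)`.
* `wreathMap`: functoriality of the regular wreath product in the base group.
* `dade_embedding`: the theorem, by induction on the order.
-/

set_option autoImplicit false

namespace Cfsg.Agent.Helper76

open Cfsg

universe u

section kk

variable {G : Type u} [Group G] (N : Subgroup G) [N.Normal]

theorem kk_mem (g : G) (q : G ⧸ N) :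
    (Quotient.out q : G)⁻¹ * g * (Quotient.out ((g : G ⧸ N)⁻¹ * q) : G) ∈ N := by
  rw [← QuotientGroup.eq_one_iff]
  simp only [QuotientGroup.mk_mul, QuotientGroup.mk_inv, QuotientGroup.out_eq']
  group

/-- The Kaloujnine–Krasner map. -/
noncomputable def kkFun (g : G) : N ≀ᵣ (G ⧸ N) :=
  ⟨fun q => ⟨(Quotient.out q : G)⁻¹ * g * (Quotient.out ((g : G ⧸ N)⁻¹ * q) : G), kk_mem N g q⟩,
    (g : G ⧸ N)⟩

theorem kkFun_right (g : G) : (kkFun N g).right = (g : G ⧸ N) := rfl

theorem kkFun_left (g : G) (q : G ⧸ N) :
    ((kkFun N g).left q : G)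
      = (Quotient.out q : G)⁻¹ * g * (Quotient.out ((g : G ⧸ N)⁻¹ * q) : G) := rfl

/-- The Kaloujnine–Krasner embedding `G →* N ≀ᵣ (G ⧸ N)`. -/
noncomputable def kkHom : G →* N ≀ᵣ (G ⧸ N) :=
  MonoidHom.mk' (kkFun N) (by
    intro g h
    apply RegularWreathProduct.ext
    · funext q
      apply Subtype.ext
      rw [RegularWreathProduct.mul_left, Pi.mul_apply, Subgroup.coe_mul, kkFun_left, kkFun_left,
        kkFun_left, kkFun_right]
      have : ((g * h : G) : G ⧸ N)⁻¹ * q = (h : G ⧸ N)⁻¹ * ((g : G ⧸ N)⁻¹ * q) := by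
        rw [QuotientGroup.mk_mul, mul_inv_rev, mul_assoc]
      rw [this]
      group
    · rfl)

theorem kkHom_apply (g : G) : kkHom N g = kkFun N g := rfl

theorem kkHom_injective : Function.Injective (kkHom N) := by
  intro g h hgh
  rw [kkHom_apply, kkHom_apply] at hgh
  have hr : (g : G ⧸ N) = (h : G ⧸ N) := by
    have := congrArg RegularWreathProduct.right hgh
    rwa [kkFun_right, kkFun_right] at this
  have hl : ((kkFun N g).left 1 : G) = ((kkFun N h).left 1 : G) := by rw [hgh]
  rw [kkFun_left, kkFun_left, hr] at hl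
  exact mul_left_cancel (mul_right_cancel hl)

end kk

/-- Functoriality of the regular wreath product in the base group. -/
def wreathMap {A B : Type*} [Group A] [Group B] (Q : Type*) [Group Q] (f : A →* B) :
    A ≀ᵣ Q →* B ≀ᵣ Q where
  toFun w := ⟨fun x => f (w.left x), w.right⟩
  map_one' := by ext <;> simp
  map_mul' a b := by ext <;> simp

theorem wreathMap_injective {A B : Type*} [Group A] [Group B] (Q : Type*) [Group Q] (f : A →* B)
    (hf : Function.Injective f) : Function.Injective (wreathMap Q f) := by
  intro a b hab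
  have h1 : (wreathMap Q f a).left = (wreathMap Q f b).left := by rw [hab]
  have h2 : (wreathMap Q f a).right = (wreathMap Q f b).right := by rw [hab]
  apply RegularWreathProduct.ext
  · funext x
    exact hf (congrFun h1 x)
  · exact h2

/-- The linear characters of the cyclic group `Multiplicative (ZMod p)`. -/
noncomputable def zmodDual (p : ℕ) [NeZero p] (ψ : AddChar (ZMod p) ℂ) :
    Multiplicative (ZMod p) →* ℂˣ :=
  ψ.toMonoidHom.toHomUnits

theorem zmodDual_sum (p : ℕ) [NeZero p] (q : Multiplicative (ZMod p)) :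
    ∑ ψ : AddChar (ZMod p) ℂ, ((zmodDual p ψ q : ℂˣ) : ℂ)
      = if q = 1 then (Fintype.card (Multiplicative (ZMod p)) : ℂ) else 0 := by
  have h := AddChar.sum_apply_eq_ite (α := ZMod p) (Multiplicative.toAdd q)
  have h2 : ∀ ψ : AddChar (ZMod p) ℂ, ((zmodDual p ψ q : ℂˣ) : ℂ) = ψ (Multiplicative.toAdd q) :=
    fun ψ => rfl
  simp only [h2, h, Fintype.card_multiplicative]
  rfl

/-- A nontrivial finite solvable group has a normal subgroup of prime index. -/
theorem dade_exists_normal_prime_index {G : Type u} [Group G] [Finite G] [Nontrivial G]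
    [Group.IsSolvable G] : ∃ M : Subgroup G, M.Normal ∧ M.index.Prime := by
  have hlt : commutator G < ⊤ := Group.IsSolvable.commutator_lt_top_of_nontrivial G
  obtain ⟨M, hM, hcM⟩ := (eq_top_or_exists_le_coatom (commutator G)).resolve_left hlt.ne
  have hMn : M.Normal := by
    rw [← Subgroup.commutator_top_left_le_iff]
    refine le_trans (Subgroup.commutator_mono le_rfl le_top) ?_
    exact hcM
  refine ⟨M, hMn, ?_⟩
  have hsurj : Function.Surjective (QuotientGroup.mk' M) := QuotientGroup.mk'_surjective _
  have hnt : Nontrivial (G ⧸ M) := by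
    rw [← Finite.one_lt_card_iff_nontrivial, ← Subgroup.index_eq_card]
    have h1 : M.index ≠ 1 := fun h => hM.1 (Subgroup.index_eq_one.mp h)
    have h0 : M.index ≠ 0 := M.index_ne_zero_of_finite
    omega
  have hsimple : IsSimpleGroup (G ⧸ M) := by
    refine ⟨fun N hN => ?_⟩
    have hle : M ≤ N.comap (QuotientGroup.mk' M) := by
      intro x hx
      rw [Subgroup.mem_comap, QuotientGroup.mk'_apply, (QuotientGroup.eq_one_iff x).mpr hx]
      exact N.one_mem
    rcases eq_or_lt_of_le hle with h | h
    · left
      rw [← Subgroup.map_comap_eq_self_of_surjective hsurj N, ← h]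
      exact QuotientGroup.map_mk'_self M
    · right
      have := hM.2 _ h
      rw [← Subgroup.map_comap_eq_self_of_surjective hsurj N, this]
      exact Subgroup.map_top_of_surjective _ hsurj
  have hcomm : IsMulCommutative (G ⧸ M) :=
    Subgroup.Normal.quotient_commutative_iff_commutator_le.mpr hcM
  have := Group.is_simple_iff_prime_card.mp hsimple
  rwa [← Subgroup.index_eq_card] at this

/-- **Dade's theorem**: every finite solvable group embeds in a finite M-group. -/
theorem dade_embedding : ∀ (n : ℕ) (G : Type u) [Group G] [Finite G], Group.IsSolvable G →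
    Nat.card G = n →
    ∃ (M : Type u) (_ : Group M) (_ : Fintype M),
      (∀ χ : M → ℂ, IsIrrCharacter M χ → Helper81.IsMonomial M χ) ∧
      ∃ f : G →* M, Function.Injective f := by
  intro n
  induction n using Nat.strong_induction_on with
  | _ n ih =>
    intro G _ _ hsolv hn
    classical
    by_cases htriv : Subsingleton G
    · letI : Fintype G := Fintype.ofFinite G
      refine ⟨G, inferInstance, inferInstance, ?_, MonoidHom.id G, fun _ _ h => h⟩
      intro χ hχ
      exact Helper81.isMonomial_of_nilpotent _ G rfl χ hχ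
    · haveI : Nontrivial G := not_subsingleton_iff_nontrivial.mp htriv
      haveI := hsolv
      obtain ⟨N, hNn, hNp⟩ := dade_exists_normal_prime_index (G := G)
      haveI := hNn
      have hlt : Nat.card N < n := by
        have h1 := N.card_mul_index
        have h2 := hNp.two_le
        have h3 : 0 < Nat.card N := Nat.card_pos
        rw [← hn, ← h1]
        nlinarith
      obtain ⟨M₀, iG, iF, hM₀, f₀, hf₀⟩ := ih (Nat.card N) hlt N inferInstance rfl
      have hp : (Nat.card (G ⧸ N)).Prime := by rwa [← Subgroup.index_eq_card]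
      haveI : Fact (Nat.card (G ⧸ N)).Prime := ⟨hp⟩
      have hcyc : IsCyclic (G ⧸ N) := isCyclic_of_prime_card rfl
      let γ : G ⧸ N ≃* Multiplicative (ZMod (Nat.card (G ⧸ N))) := (zmodCyclicMulEquiv hcyc).symm
      refine ⟨M₀ ≀ᵣ Multiplicative (ZMod (Nat.card (G ⧸ N))), inferInstance,
        wreathFintype M₀ (Multiplicative (ZMod (Nat.card (G ⧸ N)))), ?_, ?_⟩
      · apply wreath_isMonomial (I := AddChar (ZMod (Nat.card (G ⧸ N))) ℂ) ?_
          (zmodDual (Nat.card (G ⧸ N))) (zmodDual_sum (Nat.card (G ⧸ N))) hM₀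
        rw [Fintype.card_multiplicative, ZMod.card]
        exact hp
      · refine ⟨(wreathMap (Multiplicative (ZMod (Nat.card (G ⧸ N)))) f₀).comp
          ((RegularWreathProduct.congr (MulEquiv.refl N) γ).toMonoidHom.comp (kkHom N)), ?_⟩
        intro a b hab
        apply kkHom_injective N
        apply (RegularWreathProduct.congr (MulEquiv.refl N) γ).injective
        exact wreathMap_injective _ f₀ hf₀ hab

end Cfsg.Agent.Helper76
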