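import Mathlib
import Cfsg.Agent.Helper76.CentralTypeStep
import Cfsg.Agent.Helper76.DadeEmbed

/-!
# Every finite solvable group embeds in a central quotient of a group of central type

`ct_embedding`: by induction on the order, a finite solvable group `G` embeds in a finite group
`K` carrying a nondegenerate normalized 2-cocycle with values in `ZMod m`, `m` squarefree with
the same prime divisors as `#G`.  `central_type_embedding` turns this into the group `CTExt D`.
-/

set_option autoImplicit false

namespace Cfsg.Agent.Helper76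

open Cfsg

universe u

/-- The trivial cocycle datum on a trivial group. -/
def ctTrivial (G : Type u) [Group G] [Subsingleton G] : CTData G 1 where
  α _ _ := 0
  cocycle _ _ _ := rfl
  one_left _ := rfl
  one_right _ := rfl
  nondeg g hg := absurd (Subsingleton.elim g 1) hg

theorem ct_embedding : ∀ (n : ℕ) (G : Type u) [Group G] [Finite G], Group.IsSolvable G →
    Nat.card G = n →
    ∃ (K : Type u) (_ : Group K) (_ : Finite K) (m : ℕ), Squarefree m ∧
      (∀ q : ℕ, q.Prime → (q ∣ m ↔ q ∣ Nat.card G)) ∧
      (∀ q : ℕ, q.Prime → q ∣ Nat.card K → q ∣ Nat.card G) ∧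
      Nonempty (CTData K m) ∧ ∃ f : G →* K, Function.Injective f := by
  intro n
  induction n using Nat.strong_induction_on with
  | _ n ih =>
    intro G _ _ hsolv hn
    classical
    by_cases htriv : Subsingleton G
    · have hcard : Nat.card G = 1 := Nat.card_of_subsingleton (1 : G)
      refine ⟨G, inferInstance, inferInstance, 1, squarefree_one, ?_, ?_, ⟨ctTrivial G⟩,
        MonoidHom.id G, fun _ _ h => h⟩
      · intro q hq
        rw [hcard]
      · intro q _ h
        exact h
    · have hnt : Nontrivial G := not_subsingleton_iff_nontrivial.mp htriv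
      have := hsolv
      obtain ⟨N, hNn, hNp⟩ := dade_exists_normal_prime_index (G := G)
      have := hNn
      have hcardG : Nat.card G = Nat.card N * N.index := N.card_mul_index.symm
      have hlt : Nat.card N < n := by
        have h2 := hNp.two_le
        have h3 : 0 < Nat.card N := Nat.card_pos
        rw [← hn, hcardG]
        nlinarith
      obtain ⟨K₀, iG, iF, m₀, hsq₀, hpr₀, hK₀, ⟨D₀⟩, f₀, hf₀⟩ :=
        ih (Nat.card N) hlt N inferInstance rfl
      have hp : (Nat.card (G ⧸ N)).Prime := by rwa [← Subgroup.index_eq_card]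
      haveI : Fact (Nat.card (G ⧸ N)).Prime := ⟨hp⟩
      set p := Nat.card (G ⧸ N) with hpdef
      have hidx : N.index = p := Subgroup.index_eq_card N
      have hcyc : IsCyclic (G ⧸ N) := isCyclic_of_prime_card rfl
      let γ : G ⧸ N ≃* Multiplicative (ZMod p) := (zmodCyclicMulEquiv hcyc).symm
      -- the embedding
      let F : G →* (K₀ ≀ᵣ Multiplicative (ZMod p)) × Multiplicative (ZMod p) :=
        (MonoidHom.inl _ _).comp ((wreathMap (Multiplicative (ZMod p)) f₀).comp
          ((RegularWreathProduct.congr (MulEquiv.refl N) γ).toMonoidHom.comp (kkHom N)))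
      have hF : Function.Injective F := by
        intro a b hab
        apply kkHom_injective N
        apply (RegularWreathProduct.congr (MulEquiv.refl N) γ).injective
        apply wreathMap_injective _ f₀ hf₀
        have := congrArg Prod.fst hab
        exact this
      -- prime divisors of `#G`
      have hprG : ∀ q : ℕ, q.Prime → (q ∣ Nat.card G ↔ (q ∣ Nat.card N ∨ q = p)) := by
        intro q hq
        rw [hcardG, hidx, hq.dvd_mul, Nat.prime_dvd_prime_iff_eq hq hp]
      have hcardK : Nat.card ((K₀ ≀ᵣ Multiplicative (ZMod p)) × Multiplicative (ZMod p))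
          = Nat.card K₀ ^ p * p * p := by
        rw [Nat.card_prod, RegularWreathProduct.card]
        simp [Nat.card_eq_fintype_card, ZMod.card]
      have hKpr : ∀ q : ℕ, q.Prime →
          q ∣ Nat.card ((K₀ ≀ᵣ Multiplicative (ZMod p)) × Multiplicative (ZMod p)) →
          q ∣ Nat.card G := by
        intro q hq hdiv
        rw [hcardK, hq.dvd_mul, hq.dvd_mul] at hdiv
        rw [hprG q hq]
        rcases hdiv with (h | h) | h
        · left
          exact hK₀ q hq (hq.dvd_of_dvd_pow h)
        · right
          exact (Nat.prime_dvd_prime_iff_eq hq hp).mp h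
        · right
          exact (Nat.prime_dvd_prime_iff_eq hq hp).mp h
      by_cases hpm : p ∣ m₀
      · haveI : NeZero m₀ := ⟨hsq₀.ne_zero⟩
        refine ⟨_, inferInstance, inferInstance, m₀, hsq₀, ?_, hKpr,
          ⟨ctStep (dvd_refl m₀) hpm D₀⟩, F, hF⟩
        intro q hq
        rw [hprG q hq, hpr₀ q hq]
        constructor
        · intro h; exact Or.inl h
        · rintro (h | h)
          · exact h
          · rw [h, ← hpr₀ p hp]
            exact hpm
      · have hcop : Nat.Coprime m₀ p := ((Nat.Prime.coprime_iff_not_dvd hp).2 hpm).symm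
        have hsq₁ : Squarefree (m₀ * p) :=
          (Nat.squarefree_mul hcop).2 ⟨hsq₀, hp.prime.squarefree⟩
        haveI : NeZero (m₀ * p) := ⟨hsq₁.ne_zero⟩
        refine ⟨_, inferInstance, inferInstance, m₀ * p, hsq₁, ?_, hKpr,
          ⟨ctStep (dvd_mul_right m₀ p) (dvd_mul_left p m₀) D₀⟩, F, hF⟩
        intro q hq
        rw [hprG q hq, hq.dvd_mul, hpr₀ q hq, Nat.prime_dvd_prime_iff_eq hq hp]

/-- **Gagola's embedding theorem**: every finite solvable group `G` embeds in `H ⧸ Z(H)` for a
group `H` with a faithful irreducible character fully ramified over the centre, with `#Z(H)`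
squarefree and `π(H) = π(Z(H)) = π(G)`. -/
theorem central_type_embedding {G : Type u} [Group G] [Finite G] (hsolv : Group.IsSolvable G) :
    ∃ (H : Type u) (_ : Group H) (_ : Finite H) (χ : IrrCharacter H),
      (∀ h : H, (χ : H → ℂ) h = (χ : H → ℂ) 1 → h = 1) ∧
      (charDegree (χ : H → ℂ)) ^ 2 = (Subgroup.center H).index ∧
      (∃ f : G →* H ⧸ Subgroup.center H, Function.Injective f) ∧
      (∀ p : ℕ, p.Prime → ((p ∣ Nat.card H ↔ p ∣ Nat.card G) ∧
        (p ∣ Nat.card (Subgroup.center H) ↔ p ∣ Nat.card G))) ∧
      Squarefree (Nat.card (Subgroup.center H)) := by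
  obtain ⟨K, iG, iF, m, hsq, hpr, hK, ⟨D⟩, f, hf⟩ := ct_embedding (Nat.card G) G hsolv rfl
  haveI : NeZero m := ⟨hsq.ne_zero⟩
  obtain ⟨χ, hfaith, hdeg⟩ := exists_faithful_fully_ramified D
  refine ⟨CTExt D, inferInstance, inferInstance, χ, hfaith, hdeg, ?_, ?_, ?_⟩
  · refine ⟨(CTExt.quotientCenterEquiv D).symm.toMonoidHom.comp f, ?_⟩
    intro a b hab
    exact hf ((CTExt.quotientCenterEquiv D).symm.injective hab)
  · intro q hq
    rw [CTExt.card_eq, CTExt.card_center, hq.dvd_mul, hpr q hq]
    refine ⟨⟨?_, fun h => Or.inr h⟩, Iff.rfl⟩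
    rintro (h | h)
    · exact hK q hq h
    · exact h
  · rw [CTExt.card_center]
    exact hsq

end Cfsg.Agent.Helper76
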