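import Mathlib
import Cfsg.Agent.Helper43.Cov2.P7Defs

/-!
# (C) of helper24's sub-farm #12447 (S2500 part 7, piece A1): an irreducible cubic minimal polynomial
of a self-adjoint matrix commuting with `g` gives a self-adjoint cubic field normalised by `g`
-/

set_option autoImplicit false

namespace Cfsg.Agent.Helper76.Cov2.P7

open Matrix Polynomial Cfsg.Agent.Helper43.Cov2.P7

variable {F : Type*} [Field F]

/-- powers of a self-adjoint matrix are self-adjoint -/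
theorem cubic_sa_pow (ℓ : M6 F)
    (hsa : ∀ u v : V6 F, Cfsg.sympForm 3 F (ℓ *ᵥ u) v = Cfsg.sympForm 3 F u (ℓ *ᵥ v)) (n : ℕ)
    (u v : V6 F) : Cfsg.sympForm 3 F ((ℓ ^ n) *ᵥ u) v = Cfsg.sympForm 3 F u ((ℓ ^ n) *ᵥ v) := by
  induction n generalizing u v with
  | zero => rw [pow_zero, Matrix.one_mulVec, Matrix.one_mulVec]
  | succ n ih =>
    rw [pow_succ, ← Matrix.mulVec_mulVec, ih, hsa, Matrix.mulVec_mulVec, ← pow_succ', pow_succ]

/-- polynomials in a self-adjoint matrix are self-adjoint -/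
theorem cubic_sa_aeval (ℓ : M6 F)
    (hsa : ∀ u v : V6 F, Cfsg.sympForm 3 F (ℓ *ᵥ u) v = Cfsg.sympForm 3 F u (ℓ *ᵥ v)) (p : F[X])
    (u v : V6 F) :
    Cfsg.sympForm 3 F ((aeval ℓ p) *ᵥ u) v = Cfsg.sympForm 3 F u ((aeval ℓ p) *ᵥ v) := by
  induction p using Polynomial.induction_on' with
  | add p q hp hq =>
    rw [map_add, Matrix.add_mulVec, Matrix.add_mulVec, Cfsg.Agent.Helper13.sympForm_add_left,
      Cfsg.Agent.Helper13.sympForm_add_right, hp, hq]
  | monomial n a =>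
    rw [aeval_monomial, Algebra.algebraMap_eq_smul_one, smul_mul_assoc, one_mul, Matrix.smul_mulVec,
      Matrix.smul_mulVec, Cfsg.Agent.Helper13.sympForm_smul_left, Cfsg.Agent.Helper13.sympForm_smul_right,
      cubic_sa_pow ℓ hsa]

/-- polynomials in `ℓ` commute with everything commuting with `ℓ` -/
theorem cubic_comm_aeval (ℓ g : M6 F) (hcomm : g * ℓ = ℓ * g) (p : F[X]) :
    g * aeval ℓ p = aeval ℓ p * g := by
  have h1 : ℓ ∈ Subalgebra.centralizer F ({g} : Set (M6 F)) := by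
    rw [Subalgebra.mem_centralizer_iff]
    intro x hx
    rw [Set.mem_singleton_iff] at hx
    rw [hx, hcomm]
  have h2 : aeval ℓ p ∈ Subalgebra.centralizer F ({g} : Set (M6 F)) := by
    rw [← Polynomial.aeval_subalgebra_coe p _ ⟨ℓ, h1⟩]
    exact SetLike.coe_mem _
  rw [Subalgebra.mem_centralizer_iff] at h2
  exact h2 g rfl

/-- (C) -/
theorem cubic_piece (ℓ g : M6 F) (hirr : Irreducible (minpoly F ℓ)) (hdeg : (minpoly F ℓ).natDegree = 3)
    (hsa : ∀ u v : V6 F, Cfsg.sympForm 3 F (ℓ *ᵥ u) v = Cfsg.sympForm 3 F u (ℓ *ᵥ v))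
    (hcomm : g * ℓ = ℓ * g) : NormCubic g := by
  classical
  refine ⟨(aeval ℓ : F[X] →ₐ[F] M6 F).range, ⟨⟨?_, ?_, ?_⟩, ?_⟩, ?_⟩
  · -- commutative
    rintro x ⟨p, rfl⟩ y ⟨q, rfl⟩
    rw [← map_mul, ← map_mul, mul_comm]
  · -- inverses
    rintro x ⟨p, rfl⟩ hx0
    have hnd : ¬ minpoly F ℓ ∣ p := fun h => hx0 ((minpoly.dvd_iff).mp h)
    obtain ⟨a, b, hab⟩ := (hirr.isCoprime_or_dvd p).resolve_right hnd
    refine ⟨aeval ℓ b, ⟨b, rfl⟩, ?_⟩
    have h1 := congrArg (aeval ℓ) hab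
    rw [map_add, map_mul, map_mul, minpoly.aeval, mul_zero, zero_add, map_one] at h1
    have h2 : (aeval ℓ : F[X] →ₐ[F] M6 F) p * aeval ℓ b = aeval ℓ b * aeval ℓ p := by
      rw [← map_mul, ← map_mul, mul_comm]
    exact h2.trans h1
  · -- degree
    have hsurj : Function.Surjective (aeval ℓ : F[X] →ₐ[F] M6 F).rangeRestrict :=
      AlgHom.rangeRestrict_surjective _
    have hker : RingHom.ker (aeval ℓ : F[X] →ₐ[F] M6 F).rangeRestrict = Ideal.span {minpoly F ℓ} := by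
      rw [AlgHom.ker_rangeRestrict, minpoly.ker_aeval_eq_span_minpoly]
    have e1 := (Ideal.quotientKerAlgEquivOfSurjective hsurj).toLinearEquiv.finrank_eq
    have e2 := (Ideal.quotientEquivAlgOfEq F hker).toLinearEquiv.finrank_eq
    rw [← e1, e2, finrank_quotient_span_eq_natDegree, hdeg]
  · -- self-adjoint
    rintro k ⟨p, rfl⟩ u v
    exact cubic_sa_aeval ℓ hsa p u v
  · -- normalised
    rintro k ⟨p, rfl⟩
    exact ⟨aeval ℓ p, ⟨p, rfl⟩, cubic_comm_aeval ℓ g hcomm p⟩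

end Cfsg.Agent.Helper76.Cov2.P7
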