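import Mathlib
import Cfsg.Agent.Helper79.DihLocal
import Cfsg.Agent.Helper76.KleinFourLocal
import Cfsg.Agent.Helper76.FourCentralizer
import Cfsg.Agent.Helper48.PCore

/-!
# Involutions in the centralizer of the central involution (dihedral Sylow 2-subgroups)

For helper79's `S4482`: with dihedral data `DihData P σ n`, `J = σ ^ 2^(n-2)` and `τ ∈ P` outside
`⟨σ⟩`, the involutions `u ≠ J` of `C(J)` fall into exactly two `C(J)`-classes, those of `τ` and of
`σ τ`, so their number is `c(J)/c(J,τ) + c(J)/c(J,στ)`.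
-/

set_option autoImplicit false

namespace Cfsg.Agent.Helper76

open Cfsg Cfsg.Agent.Helper79.DihLocal

section DihInvol

variable {G : Type*} [Group G] [Finite G] {P : Sylow 2 G} {σ : G} {n : ℕ}

/-- The only involution of `⟨σ⟩` is `J`. -/
theorem dih_involution_of_mem_A (hd : DihData P σ n) {a : G} (ha : a ∈ Subgroup.zpowers σ)
    (ha2 : a * a = 1) (ha1 : a ≠ 1) : a = σ ^ (2 ^ (n - 2)) := by
  classical
  have hfin : IsOfFinOrder σ := isOfFinOrder_of_finite σ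
  rw [hfin.mem_zpowers_iff_mem_range_orderOf] at ha
  obtain ⟨l, hl, rfl⟩ := Finset.mem_image.1 ha
  rw [Finset.mem_range, hd.order] at hl
  have hl1 : 1 ≤ l := by
    rcases Nat.eq_zero_or_pos l with h | h
    · exfalso; apply ha1; rw [h, pow_zero]
    · exact h
  have := (hd.pow_sq_eq_one_iff hl1 hl).1 ha2
  rw [this]

/-- Conjugating a non-central involution of `P` by an element of `⟨σ⟩`. -/
theorem dih_conj_by_A (hd : DihData P σ n) {p x : G} (hp : p ∈ Subgroup.zpowers σ)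
    (hx : x ∈ (P : Subgroup G)) (hxA : x ∉ Subgroup.zpowers σ) : p * x * p⁻¹ = p * p * x := by
  have h := hd.conj_inv hx hxA (Subgroup.inv_mem _ hp)
  rw [inv_inv] at h
  calc p * x * p⁻¹ = p * (x * p⁻¹ * x⁻¹) * x := by group
    _ = p * p * x := by rw [h]

/-- `σ` is not a square in `⟨σ⟩`. -/
theorem dih_sigma_not_sq (hd : DihData P σ n) {q : G} (hq : q ∈ Subgroup.zpowers σ) :
    q * q ≠ σ := by
  intro h
  obtain ⟨i, rfl⟩ := Subgroup.mem_zpowers_iff.1 hq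
  have h1 : σ ^ (2 * i - 1) = 1 := by
    rw [zpow_sub, zpow_one, two_mul, zpow_add, h, mul_inv_cancel]
  have h2 := (orderOf_dvd_iff_zpow_eq_one).2 h1
  rw [hd.order] at h2
  have h3 : (2 : ℤ) ∣ ((2 ^ (n - 1) : ℕ) : ℤ) := by
    have := hd.two_pow_eq
    rw [this]; push_cast
    exact Dvd.intro _ rfl
  have h4 := h3.trans h2
  omega

/-- Every non-central involution of `P` is conjugate, by an element of `⟨σ⟩`, to `τ` or to
`σ τ`. -/
theorem dih_noncentral_conj (hd : DihData P σ n) {τ : G} (hτ : τ ∈ (P : Subgroup G))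
    (hτA : τ ∉ Subgroup.zpowers σ) {w : G} (hw : w ∈ (P : Subgroup G))
    (hwA : w ∉ Subgroup.zpowers σ) :
    ∃ d ∈ Subgroup.zpowers σ, d * τ * d⁻¹ = w ∨ d * (σ * τ) * d⁻¹ = w := by
  have hq := hd.mul_mem_A hw hτ hwA hτA
  have hττ : τ * τ = 1 := (hd.inv τ hτ hτA).1
  have hwq : w = (w * τ) * τ := by rw [mul_assoc, hττ, mul_one]
  obtain ⟨i, hi⟩ := Subgroup.mem_zpowers_iff.1 hq
  have hσA : σ ∈ Subgroup.zpowers σ := Subgroup.mem_zpowers σ
  have hστP : σ * τ ∈ (P : Subgroup G) := Subgroup.mul_mem _ hd.mem hτ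
  have hστA : σ * τ ∉ Subgroup.zpowers σ := by
    intro h
    apply hτA
    have := Subgroup.mul_mem _ (Subgroup.inv_mem _ hσA) h
    rwa [inv_mul_cancel_left] at this
  rcases Int.even_or_odd' i with ⟨k, hk | hk⟩
  · refine ⟨σ ^ k, Subgroup.zpow_mem _ hσA k, Or.inl ?_⟩
    rw [dih_conj_by_A hd (Subgroup.zpow_mem _ hσA k) hτ hτA, ← zpow_add, ← two_mul, ← hk, hi]
    exact hwq.symm
  · refine ⟨σ ^ k, Subgroup.zpow_mem _ hσA k, Or.inr ?_⟩
    rw [dih_conj_by_A hd (Subgroup.zpow_mem _ hσA k) hστP hστA, ← zpow_add, ← two_mul,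
      ← mul_assoc, ← zpow_add_one, ← hk, hi]
    exact hwq.symm

/-- `τ` and `σ τ` are not conjugate in `P`. -/
theorem dih_not_conj_in_P (hd : DihData P σ n) {τ : G} (hτ : τ ∈ (P : Subgroup G))
    (hτA : τ ∉ Subgroup.zpowers σ) {p : G} (hp : p ∈ (P : Subgroup G)) :
    p * τ * p⁻¹ ≠ σ * τ := by
  intro h
  have hττ : τ * τ = 1 := (hd.inv τ hτ hτA).1
  by_cases hpA : p ∈ Subgroup.zpowers σ
  · rw [dih_conj_by_A hd hpA hτ hτA] at h
    exact dih_sigma_not_sq hd hpA (mul_right_cancel h)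
  · have hq := hd.mul_mem_A hp hτ hpA hτA
    have hpq : p = (p * τ) * τ := by rw [mul_assoc, hττ, mul_one]
    have h1 : p * τ * p⁻¹ = (p * τ) * τ * (p * τ)⁻¹ := by
      have hτinv : τ⁻¹ = τ := inv_eq_of_mul_eq_one_right hττ
      calc p * τ * p⁻¹ = (p * τ) * τ * (τ⁻¹ * p⁻¹) := by
            rw [hτinv]
            calc p * τ * p⁻¹ = p * (τ * τ) * τ * p⁻¹ := by rw [hττ, mul_one]
              _ = p * τ * τ * (τ * p⁻¹) := by group
        _ = (p * τ) * τ * (p * τ)⁻¹ := by rw [mul_inv_rev]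
    rw [h1, dih_conj_by_A hd hq hτ hτA] at h
    exact dih_sigma_not_sq hd hq (mul_right_cancel h)

end DihInvol

section DihCentralizer

variable {G : Type*} [Group G] [Finite G] {P : Sylow 2 G} {σ : G} {n : ℕ}

/-- `τ` and `σ τ` are not conjugate in `C(J)`. -/
theorem dih_not_conj_in_centralizer (hd : DihData P σ n) {τ : G} (hτ : τ ∈ (P : Subgroup G))
    (hτA : τ ∉ Subgroup.zpowers σ) {c : G}
    (hc : c ∈ Subgroup.centralizer ({σ ^ (2 ^ (n - 2))} : Set G)) :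
    c * τ * c⁻¹ ≠ σ * τ := by
  classical
  haveI : Fact (Nat.Prime 2) := ⟨Nat.prime_two⟩
  intro hconj
  set C := Subgroup.centralizer ({σ ^ (2 ^ (n - 2))} : Set G) with hC
  have hPle : (P : Subgroup G) ≤ C := hd.P_le_centralizer_J
  set O' := Cfsg.pPrimeCore 2 ↥C with hO'
  have hOn : O'.Normal := Helper48.pPrimeCore_normal 2 ↥C
  have hOodd : (Nat.card O').Coprime 2 := Cfsg.Agent.Lib.card_pPrimeCore_coprime 2
  obtain ⟨k, hk⟩ := hd.pPrimeCore_centralizer_J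
  set PH := (P : Subgroup G).subgroupOf C with hPH
  have hPHcard : Nat.card PH = 2 ^ n := by
    rw [← hd.card]
    exact Nat.card_congr (Subgroup.subgroupOfEquivOfLe hPle).toEquiv
  have hCcard : Nat.card O' * 2 ^ k = Nat.card ↥C := by
    rw [← hk]; exact O'.card_mul_index
  have hCne : Nat.card ↥C ≠ 0 := Nat.card_pos.ne'
  have hkn : k = n := by
    have hfac := hd.factorization_card_centralizer_J
    apply le_antisymm
    · have h1 : 2 ^ k ∣ Nat.card ↥C := ⟨Nat.card O', by rw [← hCcard, mul_comm]⟩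
      have := (Nat.Prime.pow_dvd_iff_le_factorization Nat.prime_two hCne).1 h1
      rwa [hfac] at this
    · have h1 : 2 ^ n ∣ Nat.card ↥C := by
        rw [← hPHcard]; exact Subgroup.card_subgroup_dvd_card PH
      rw [← hCcard] at h1
      have h2 : 2 ^ n ∣ 2 ^ k :=
        (Nat.Coprime.dvd_of_dvd_mul_left ((hOodd.pow_right n).symm) h1)
      exact (Nat.pow_dvd_pow_iff_le_right (by norm_num)).1 h2
  have hcompl : PH.IsComplement' O' := by
    apply Subgroup.isComplement'_of_coprime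
    · rw [hPHcard, ← hCcard, hkn, mul_comm]
    · rw [hPHcard]; exact (hOodd.pow_right n).symm
  obtain ⟨⟨p, o⟩, hpo⟩ := hcompl.2 (⟨c, hc⟩ : ↥C)
  have hpo' : ((p : ↥C) : G) * ((o : ↥C) : G) = c := congrArg Subtype.val hpo
  have hpP : ((p : ↥C) : G) ∈ (P : Subgroup G) := Subgroup.mem_subgroupOf.1 p.2
  have hoO : (o : ↥C) ∈ O' := o.2
  have hτC : τ ∈ C := hPle hτ
  -- the commutator `o τ o⁻¹ τ⁻¹`
  set e : ↥C := (o : ↥C) * ⟨τ, hτC⟩ * (o : ↥C)⁻¹ * (⟨τ, hτC⟩ : ↥C)⁻¹ with he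
  have heO : e ∈ O' := by
    have h1 : (⟨τ, hτC⟩ : ↥C) * (o : ↥C)⁻¹ * (⟨τ, hτC⟩ : ↥C)⁻¹ ∈ O' :=
      hOn.conj_mem _ (O'.inv_mem hoO) _
    have h2 : e = (o : ↥C) * ((⟨τ, hτC⟩ : ↥C) * (o : ↥C)⁻¹ * (⟨τ, hτC⟩ : ↥C)⁻¹) := by
      rw [he]; group
    rw [h2]
    exact O'.mul_mem hoO h1
  have heval : (e : G) = ((o : ↥C) : G) * τ * ((o : ↥C) : G)⁻¹ * τ⁻¹ := by
    rw [he]; simp
  have hoconj : ((o : ↥C) : G) * τ * ((o : ↥C) : G)⁻¹ =
      ((p : ↥C) : G)⁻¹ * (σ * τ) * ((p : ↥C) : G) := by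
    rw [← hconj, ← hpo']; group
  have heP : e ∈ PH := by
    rw [hPH, Subgroup.mem_subgroupOf, heval, hoconj]
    exact Subgroup.mul_mem _ (Subgroup.mul_mem _ (Subgroup.mul_mem _ (Subgroup.inv_mem _ hpP)
      (Subgroup.mul_mem _ hd.mem hτ)) hpP) (Subgroup.inv_mem _ hτ)
  have hbot : PH ⊓ O' = ⊥ := by
    apply Subgroup.inf_eq_bot_of_coprime
    rw [hPHcard]; exact (hOodd.pow_right n).symm
  have he1 : e = 1 := by
    have : e ∈ PH ⊓ O' := Subgroup.mem_inf.2 ⟨heP, heO⟩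
    rw [hbot, Subgroup.mem_bot] at this
    exact this
  have he1' : ((o : ↥C) : G) * τ * ((o : ↥C) : G)⁻¹ * τ⁻¹ = 1 := by
    rw [← heval, he1]; rfl
  have h3 : ((p : ↥C) : G)⁻¹ * (σ * τ) * ((p : ↥C) : G) = τ := by
    rw [← hoconj]
    exact mul_inv_eq_one.1 he1'
  apply dih_not_conj_in_P hd hτ hτA hpP
  calc ((p : ↥C) : G) * τ * ((p : ↥C) : G)⁻¹
      = ((p : ↥C) : G) * (((p : ↥C) : G)⁻¹ * (σ * τ) * ((p : ↥C) : G)) * ((p : ↥C) : G)⁻¹ := by
        rw [h3]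
    _ = σ * τ := by group

/-- Every involution `u ≠ J` of `C(J)` is `C(J)`-conjugate to `τ` or to `σ τ`. -/
theorem dih_involution_conj (hd : DihData P σ n) {τ : G} (hτ : τ ∈ (P : Subgroup G))
    (hτA : τ ∉ Subgroup.zpowers σ) {u : G}
    (huC : u ∈ Subgroup.centralizer ({σ ^ (2 ^ (n - 2))} : Set G)) (hu2 : orderOf u = 2)
    (huJ : u ≠ σ ^ (2 ^ (n - 2))) :
    ∃ c ∈ Subgroup.centralizer ({σ ^ (2 ^ (n - 2))} : Set G),
      c * τ * c⁻¹ = u ∨ c * (σ * τ) * c⁻¹ = u := by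
  classical
  have : Fact (Nat.Prime 2) := ⟨Nat.prime_two⟩
  set C := Subgroup.centralizer ({σ ^ (2 ^ (n - 2))} : Set G) with hC
  have hPle : (P : Subgroup G) ≤ C := hd.P_le_centralizer_J
  have huI : Cfsg.Agent.S3279.IsInvo (⟨u, huC⟩ : ↥C) := by
    rw [← Cfsg.Agent.S3279.isInvo_iff, Subgroup.orderOf_mk]; exact hu2
  obtain ⟨g, hg⟩ := Cfsg.Agent.S3279.exists_conj_mem_sylow (P.subtype hPle) huI
  rw [Sylow.coe_subtype, Subgroup.mem_subgroupOf] at hg
  have hg' : (g : G) * u * (g : G)⁻¹ ∈ (P : Subgroup G) := by simpa using hg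
  set w := (g : G) * u * (g : G)⁻¹ with hw
  have hgJ : (g : G) * σ ^ (2 ^ (n - 2)) = σ ^ (2 ^ (n - 2)) * (g : G) :=
    (Subgroup.mem_centralizer_singleton_iff.1 g.2)
  have huu : u * u = 1 := by
    have := pow_orderOf_eq_one u
    rwa [hu2, pow_two] at this
  have hu1 : u ≠ 1 := by
    intro h; rw [h, orderOf_one] at hu2; omega
  have hww : w * w = 1 := by
    rw [hw]
    calc (g : G) * u * (g : G)⁻¹ * ((g : G) * u * (g : G)⁻¹) = (g : G) * (u * u) * (g : G)⁻¹ := by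
          group
      _ = 1 := by rw [huu]; group
  have hw1 : w ≠ 1 := by
    intro h
    apply hu1
    calc u = (g : G)⁻¹ * w * (g : G) := by rw [hw]; group
      _ = 1 := by rw [h]; group
  have hwJ : w ≠ σ ^ (2 ^ (n - 2)) := by
    intro h
    apply huJ
    calc u = (g : G)⁻¹ * w * (g : G) := by rw [hw]; group
      _ = (g : G)⁻¹ * (σ ^ (2 ^ (n - 2)) * (g : G)) := by rw [h, mul_assoc]
      _ = (g : G)⁻¹ * ((g : G) * σ ^ (2 ^ (n - 2))) := by rw [hgJ]
      _ = σ ^ (2 ^ (n - 2)) := by group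
  have hwA : w ∉ Subgroup.zpowers σ := fun h => hwJ (dih_involution_of_mem_A hd h hww hw1)
  obtain ⟨d, hdA, hdw⟩ := dih_noncentral_conj hd hτ hτA hg' hwA
  have hdC : d ∈ C := hPle (hd.A_le hdA)
  refine ⟨(g : G)⁻¹ * d, C.mul_mem (C.inv_mem g.2) hdC, ?_⟩
  rcases hdw with h | h
  · left
    calc (g : G)⁻¹ * d * τ * ((g : G)⁻¹ * d)⁻¹ = (g : G)⁻¹ * (d * τ * d⁻¹) * (g : G) := by group
      _ = u := by rw [h, hw]; group
  · right
    calc (g : G)⁻¹ * d * (σ * τ) * ((g : G)⁻¹ * d)⁻¹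
        = (g : G)⁻¹ * (d * (σ * τ) * d⁻¹) * (g : G) := by group
      _ = u := by rw [h, hw]; group

end DihCentralizer

section DihCount

/-- The `C(b)`-class of `x ∈ C(b)` has `|C(b)| / |C(b, x)|` elements. -/
theorem card_class_in_centralizer {G : Type*} [Group G] [Finite G] (b x : G)
    (hx : x ∈ Subgroup.centralizer ({b} : Set G)) :
    Nat.card {t : G // ∃ c ∈ Subgroup.centralizer ({b} : Set G), c * x * c⁻¹ = t} *
      Nat.card (Subgroup.centralizer ({b, x} : Set G)) =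
    Nat.card (Subgroup.centralizer ({b} : Set G)) := by
  classical
  set C := Subgroup.centralizer ({b} : Set G) with hC
  have e : {t : ↥C // IsConj (⟨x, hx⟩ : ↥C) t} ≃ {t : G // ∃ c ∈ C, c * x * c⁻¹ = t} :=
    { toFun := fun t => ⟨t.1.1, by
        obtain ⟨c, hc⟩ := isConj_iff.1 t.2
        exact ⟨c.1, c.2, by have := congrArg Subtype.val hc; simpa using this⟩⟩
      invFun := fun t => ⟨⟨t.1, by
        obtain ⟨c, hc, h⟩ := t.2
        rw [← h]; exact C.mul_mem (C.mul_mem hc hx) (C.inv_mem hc)⟩, by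
        obtain ⟨c, hc, h⟩ := t.2
        exact isConj_iff.2 ⟨⟨c, hc⟩, Subtype.ext (by simpa using h)⟩⟩
      left_inv := fun t => rfl
      right_inv := fun t => rfl }
  have hcent : Subgroup.centralizer ({b, x} : Set G) =
      C ⊓ Subgroup.centralizer ({x} : Set G) := by
    ext g
    rw [Subgroup.mem_inf, hC, Subgroup.mem_centralizer_iff, Subgroup.mem_centralizer_iff,
      Subgroup.mem_centralizer_iff]
    constructor
    · intro h
      exact ⟨fun y hy => h y (by rw [Set.mem_singleton_iff.1 hy]; exact Set.mem_insert _ _),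
        fun y hy => h y (by rw [Set.mem_singleton_iff.1 hy]; exact Set.mem_insert_of_mem _ rfl)⟩
    · rintro ⟨h1, h2⟩ y hy
      rcases hy with rfl | hy
      · exact h1 _ rfl
      · exact h2 _ hy
  rw [← Nat.card_congr e, card_isConj_eq_index, hcent, ← card_centralizer_in_centralizer b x hx]
  exact Subgroup.index_mul_card _

variable {G : Type*} [Group G] [Fintype G] [DecidableEq G] {P : Sylow 2 G} {σ : G} {n : ℕ}

/-- A `C(J)`-conjugate of a non-central involution of `P` is an involution of `C(J)` other than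
`J`. -/
theorem dih_conj_mem_filter (hd : DihData P σ n) {x : G} (hx : x ∈ (P : Subgroup G))
    (hxA : x ∉ Subgroup.zpowers σ) {c : G}
    (hc : c ∈ Subgroup.centralizer ({σ ^ (2 ^ (n - 2))} : Set G)) :
    orderOf (c * x * c⁻¹) = 2 ∧
      (c * x * c⁻¹) * σ ^ (2 ^ (n - 2)) = σ ^ (2 ^ (n - 2)) * (c * x * c⁻¹) ∧
      c * x * c⁻¹ ≠ σ ^ (2 ^ (n - 2)) := by
  haveI : Fact (Nat.Prime 2) := ⟨Nat.prime_two⟩
  have hxx : x * x = 1 := (hd.inv x hx hxA).1
  have hx1 : x ≠ 1 := fun h => hxA (h ▸ Subgroup.one_mem _)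
  have hcJ : c * σ ^ (2 ^ (n - 2)) = σ ^ (2 ^ (n - 2)) * c :=
    Subgroup.mem_centralizer_singleton_iff.1 hc
  have hxC : x ∈ Subgroup.centralizer ({σ ^ (2 ^ (n - 2))} : Set G) := hd.P_le_centralizer_J hx
  have hxJ : x * σ ^ (2 ^ (n - 2)) = σ ^ (2 ^ (n - 2)) * x :=
    Subgroup.mem_centralizer_singleton_iff.1 hxC
  have hmem : c * x * c⁻¹ ∈ Subgroup.centralizer ({σ ^ (2 ^ (n - 2))} : Set G) :=
    Subgroup.mul_mem _ (Subgroup.mul_mem _ hc hxC) (Subgroup.inv_mem _ hc)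
  refine ⟨?_, Subgroup.mem_centralizer_singleton_iff.1 hmem, ?_⟩
  · apply orderOf_eq_prime
    · rw [pow_two]
      calc c * x * c⁻¹ * (c * x * c⁻¹) = c * (x * x) * c⁻¹ := by group
        _ = 1 := by rw [hxx]; group
    · intro h
      apply hx1
      calc x = c⁻¹ * (c * x * c⁻¹) * c := by group
        _ = 1 := by rw [h]; group
  · intro h
    apply hxA
    have : x = σ ^ (2 ^ (n - 2)) := by
      calc x = c⁻¹ * (c * x * c⁻¹) * c := by group
        _ = c⁻¹ * (σ ^ (2 ^ (n - 2)) * c) := by rw [h, mul_assoc]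
        _ = c⁻¹ * (c * σ ^ (2 ^ (n - 2))) := by rw [hcJ]
        _ = σ ^ (2 ^ (n - 2)) := by group
    rw [this]
    exact Subgroup.pow_mem _ (Subgroup.mem_zpowers σ) _

/-- **P3 for `S4482`.** The number of involutions `u ≠ J` of `C(J)` is
`c(J)/c(J,τ) + c(J)/c(J,στ)`. -/
theorem card_involutions_centralizer_J (hd : DihData P σ n) (τ : G) (hτ : τ ∈ P)
    (hτA : τ ∉ Subgroup.zpowers σ) :
    (((Finset.univ.filter (fun u : G => orderOf u = 2 ∧
        u * σ ^ (2 ^ (n - 2)) = σ ^ (2 ^ (n - 2)) * u ∧ u ≠ σ ^ (2 ^ (n - 2)))).card : ℚ) =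
      (Nat.card (Subgroup.centralizer ({σ ^ (2 ^ (n - 2))} : Set G)) : ℚ) /
        Nat.card (Subgroup.centralizer ({σ ^ (2 ^ (n - 2)), τ} : Set G)) +
      (Nat.card (Subgroup.centralizer ({σ ^ (2 ^ (n - 2))} : Set G)) : ℚ) /
        Nat.card (Subgroup.centralizer ({σ ^ (2 ^ (n - 2)), σ * τ} : Set G))) := by
  classical
  have hτP : τ ∈ (P : Subgroup G) := hτ
  set J := σ ^ (2 ^ (n - 2)) with hJ
  set C := Subgroup.centralizer ({J} : Set G) with hC
  have hPle : (P : Subgroup G) ≤ C := hd.P_le_centralizer_J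
  have hσA : σ ∈ Subgroup.zpowers σ := Subgroup.mem_zpowers σ
  have hστP : σ * τ ∈ (P : Subgroup G) := Subgroup.mul_mem _ hd.mem hτP
  have hστA : σ * τ ∉ Subgroup.zpowers σ := by
    intro h
    apply hτA
    have := Subgroup.mul_mem _ (Subgroup.inv_mem _ hσA) h
    rwa [inv_mul_cancel_left] at this
  set T₁ : Finset G := Finset.univ.filter (fun t : G => ∃ c ∈ C, c * τ * c⁻¹ = t) with hT₁
  set T₂ : Finset G := Finset.univ.filter (fun t : G => ∃ c ∈ C, c * (σ * τ) * c⁻¹ = t) with hT₂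
  have hI : Finset.univ.filter (fun u : G => orderOf u = 2 ∧ u * J = J * u ∧ u ≠ J) = T₁ ∪ T₂ := by
    ext u
    rw [Finset.mem_union, hT₁, hT₂, Finset.mem_filter, Finset.mem_filter, Finset.mem_filter]
    simp only [Finset.mem_univ, true_and]
    constructor
    · rintro ⟨h2, hcomm, hne⟩
      have huC : u ∈ C := Subgroup.mem_centralizer_singleton_iff.2 hcomm
      obtain ⟨c, hc, h | h⟩ := dih_involution_conj hd hτP hτA huC h2 hne
      · exact Or.inl ⟨c, hc, h⟩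
      · exact Or.inr ⟨c, hc, h⟩
    · rintro (⟨c, hc, rfl⟩ | ⟨c, hc, rfl⟩)
      · exact dih_conj_mem_filter hd hτP hτA hc
      · exact dih_conj_mem_filter hd hστP hστA hc
  have hdisj : Disjoint T₁ T₂ := by
    rw [Finset.disjoint_left]
    intro u h1 h2
    rw [hT₁, Finset.mem_filter] at h1
    rw [hT₂, Finset.mem_filter] at h2
    obtain ⟨c₁, hc₁, h1⟩ := h1.2
    obtain ⟨c₂, hc₂, h2⟩ := h2.2
    apply dih_not_conj_in_centralizer hd hτP hτA (C.mul_mem (C.inv_mem hc₂) hc₁)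
    calc c₂⁻¹ * c₁ * τ * (c₂⁻¹ * c₁)⁻¹ = c₂⁻¹ * (c₁ * τ * c₁⁻¹) * c₂ := by group
      _ = c₂⁻¹ * (c₂ * (σ * τ) * c₂⁻¹) * c₂ := by rw [h1, h2]
      _ = σ * τ := by group
  have hcard₁ : T₁.card = Nat.card {t : G // ∃ c ∈ C, c * τ * c⁻¹ = t} := by
    rw [Nat.card_eq_fintype_card, Fintype.card_subtype]
  have hcard₂ : T₂.card = Nat.card {t : G // ∃ c ∈ C, c * (σ * τ) * c⁻¹ = t} := by
    rw [Nat.card_eq_fintype_card, Fintype.card_subtype]
  have h₁ := card_class_in_centralizer J τ (hPle hτP)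
  have h₂ := card_class_in_centralizer J (σ * τ) (hPle hστP)
  have hpos₁ : (Nat.card (Subgroup.centralizer ({J, τ} : Set G)) : ℚ) ≠ 0 := by
    exact_mod_cast Nat.card_pos.ne'
  have hpos₂ : (Nat.card (Subgroup.centralizer ({J, σ * τ} : Set G)) : ℚ) ≠ 0 := by
    exact_mod_cast Nat.card_pos.ne'
  have e₁ : (Nat.card {t : G // ∃ c ∈ C, c * τ * c⁻¹ = t} : ℚ) =
      (Nat.card C : ℚ) / Nat.card (Subgroup.centralizer ({J, τ} : Set G)) := by
    rw [eq_div_iff hpos₁]; exact_mod_cast h₁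
  have e₂ : (Nat.card {t : G // ∃ c ∈ C, c * (σ * τ) * c⁻¹ = t} : ℚ) =
      (Nat.card C : ℚ) / Nat.card (Subgroup.centralizer ({J, σ * τ} : Set G)) := by
    rw [eq_div_iff hpos₂]; exact_mod_cast h₂
  rw [hI, Finset.card_union_of_disjoint hdisj, hcard₁, hcard₂, Nat.cast_add, e₁, e₂]

end DihCount

end Cfsg.Agent.Helper76
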