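import Mathlib
import Cfsg.Prelude.Def_GeometricClasses
import Cfsg.Agent.Helper43.EB.Defs

/-!
# (B2) for S5877 (helper43): exponent `r` gives `HasPow` for the concrete group

`concGroupB2 R` below is literally the expression of `concGroup R` of the skeleton, so the
statement is definitionally the skeleton's one.
-/

set_option autoImplicit false

namespace Cfsg.Agent.Helper76.EBB2

open Cfsg.Agent.Helper43.EB Module

variable {F : Type*} [Field F] {n : ℕ}

/-- a scalar matrix times `sc` of the inverse scalar -/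
theorem sc_mul_toLin_mul {x s : Matrix.GeneralLinearGroup (Fin n) F} {c : Fˣ}
    (hs : (s : Matrix (Fin n) (Fin n) F) = (c : F) • (1 : Matrix (Fin n) (Fin n) F)) :
    (sc c⁻¹ : (Module.End F (Fin n → F))ˣ) * Matrix.GeneralLinearGroup.toLin (x * s) =
      Matrix.GeneralLinearGroup.toLin x := by
  apply Units.ext
  apply LinearMap.ext
  intro v
  rw [Units.val_mul, Module.End.mul_apply, sc_apply]
  simp only [Matrix.GeneralLinearGroup.coe_toLin, Units.val_mul, hs, Matrix.mul_smul, Matrix.mul_one,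
    Matrix.mulVecLin_apply, Matrix.smul_mulVec]
  rw [smul_smul]
  simp

/-- (B2) exponent `r` gives `HasPow`; the subgroup is the skeleton's `concGroup R` unfolded -/
theorem hasPow_concGroup {r : ℕ} (R : Subgroup (Matrix.GeneralLinearGroup (Fin n) F))
    (hexp : Monoid.exponent R = r) :
    HasPow r ((R ⊔ Cfsg.Geo.scalars (Fin n) F).map
      (Matrix.GeneralLinearGroup.toLin (n := Fin n) (R := F)).toMonoidHom) := by
  intro a ha
  obtain ⟨g, hg, rfl⟩ := ha
  have hg' : g ∈ ((R ⊔ Cfsg.Geo.scalars (Fin n) F : Subgroup _) : Set _) := hg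
  rw [Subgroup.mul_normal] at hg'
  obtain ⟨x, hx, s, hs, rfl⟩ := hg'
  obtain ⟨c, hc⟩ := (Cfsg.Geo.mem_scalars_iff s).1 hs
  refine ⟨c⁻¹, ?_⟩
  have h1 : (sc c⁻¹ : (Module.End F (Fin n → F))ˣ) *
      (Matrix.GeneralLinearGroup.toLin (n := Fin n) (R := F)).toMonoidHom (x * s) =
      Matrix.GeneralLinearGroup.toLin x := sc_mul_toLin_mul hc
  rw [h1]
  have h2 : (⟨x, hx⟩ : R) ^ r = 1 := by
    rw [← hexp]; exact Monoid.pow_exponent_eq_one _
  have h3 : x ^ r = 1 := by
    have := congrArg Subtype.val h2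
    simpa using this
  rw [← map_pow, h3, map_one]

end Cfsg.Agent.Helper76.EBB2
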