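import Mathlib
import Cfsg.Prelude.Def_GeometricClasses
import Cfsg.Agent.Helper43.EB.Defs

/-!
Piece (B6) for helper43's S5877 (WANTED #9543): `r ∣ n` for an absolutely irreducible `R ≤ GL_n(F)`
with `R' = Z(R)` of prime order `r`; and an `r`-group of exponent `4` has `r = 2`.
-/

set_option autoImplicit false

namespace Cfsg.Agent.Helper76.EBB6

open Cfsg.Agent.Helper43.EB Module

variable {F : Type*} [Field F] {n : ℕ}

/-- (B6) `r` divides `n` -/
theorem prime_dvd_dim {r : ℕ} (R : Subgroup (Matrix.GeneralLinearGroup (Fin n) F)) (hr : r.Prime)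
    (hZ : Nat.card (Subgroup.center R) = r) (hext : commutator R = Subgroup.center R)
    (hirr : Cfsg.Geo.ActsAbsolutelyIrreducibly (Cfsg.Geo.matrixSet R)) : r ∣ n := by
  -- a nontrivial commutator
  have hex : ∃ x y : R, x * y * x⁻¹ * y⁻¹ ≠ 1 := by
    by_contra hcon
    push Not at hcon
    have h1 : commutator R = ⊥ := by
      rw [eq_bot_iff, commutator_def, Subgroup.commutator_le]
      intro x _ y _
      rw [commutatorElement_def, hcon x y]
      exact Subgroup.one_mem _
    rw [hext] at h1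
    rw [h1, Subgroup.card_bot] at hZ
    exact hr.one_lt.ne hZ
  obtain ⟨x, y, hxy⟩ := hex
  set w : R := x * y * x⁻¹ * y⁻¹ with hw
  have hwZ : w ∈ Subgroup.center R := by
    rw [← hext, commutator_def]
    have h1 := Subgroup.commutator_mem_commutator (Subgroup.mem_top x) (Subgroup.mem_top y)
    rw [commutatorElement_def] at h1
    exact h1
  -- `w` is a scalar matrix
  obtain ⟨ζ, hζ⟩ : ∃ ζ : F, ((w : Matrix.GeneralLinearGroup (Fin n) F) : Matrix (Fin n) (Fin n) F) =
      ζ • (1 : Matrix (Fin n) (Fin n) F) := by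
    apply hirr.2
    rintro s ⟨g, hg, rfl⟩
    have h1 := Subgroup.mem_center_iff.mp hwZ ⟨g, hg⟩
    have h3 : g * (w : Matrix.GeneralLinearGroup (Fin n) F) =
        (w : Matrix.GeneralLinearGroup (Fin n) F) * g := congrArg Subtype.val h1
    have h4 := congrArg (fun z : Matrix.GeneralLinearGroup (Fin n) F =>
      (z : Matrix (Fin n) (Fin n) F)) h3
    simp only [Units.val_mul] at h4
    exact h4.symm
  -- `w ^ r = 1`
  have hwr : w ^ r = 1 := by
    have h1 : (⟨w, hwZ⟩ : Subgroup.center R) ^ r = 1 := by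
      rw [← hZ]
      exact pow_card_eq_one'
    have h2 := congrArg Subtype.val h1
    simpa using h2
  have hwmat : ∀ k : ℕ, (((w ^ k : R) : Matrix.GeneralLinearGroup (Fin n) F) :
      Matrix (Fin n) (Fin n) F) = ζ ^ k • (1 : Matrix (Fin n) (Fin n) F) := by
    intro k
    rw [Subgroup.coe_pow, Units.val_pow_eq_pow_val, hζ, smul_pow, one_pow]
  have hζr : ζ ^ r = 1 := by
    have h1 := hwmat r
    rw [hwr] at h1
    by_cases hn : n = 0
    · subst hn
      exfalso
      apply hxy
      apply Subtype.ext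
      apply Units.ext
      ext i
      exact Fin.elim0 i
    · have h2 := congrFun (congrFun h1 ⟨0, Nat.pos_of_ne_zero hn⟩) ⟨0, Nat.pos_of_ne_zero hn⟩
      simpa using h2.symm
  have hζ1 : ζ ≠ 1 := by
    intro h1
    apply hxy
    apply Subtype.ext
    apply Units.ext
    rw [hζ, h1, one_smul]
    rfl
  -- determinant
  have hdet : ζ ^ n = 1 := by
    have h1 : Matrix.det ((w : Matrix.GeneralLinearGroup (Fin n) F) : Matrix (Fin n) (Fin n) F) = 1 := by
      have h2 : (w : Matrix.GeneralLinearGroup (Fin n) F) =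
          (x : Matrix.GeneralLinearGroup (Fin n) F) * y * (x : Matrix.GeneralLinearGroup (Fin n) F)⁻¹ *
            (y : Matrix.GeneralLinearGroup (Fin n) F)⁻¹ := by
        rw [hw]
        rfl
      have h3 : Matrix.GeneralLinearGroup.det (w : Matrix.GeneralLinearGroup (Fin n) F) = 1 := by
        rw [h2, map_mul, map_mul, map_mul, map_inv, map_inv]
        rw [mul_comm (Matrix.GeneralLinearGroup.det (x : Matrix.GeneralLinearGroup (Fin n) F))
          (Matrix.GeneralLinearGroup.det (y : Matrix.GeneralLinearGroup (Fin n) F))]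
        rw [mul_assoc, mul_assoc, mul_inv_cancel_left, mul_inv_cancel]
      have h4 := congrArg Units.val h3
      simpa using h4
    rw [hζ, Matrix.det_smul, Matrix.det_one, mul_one, Fintype.card_fin] at h1
    exact h1
  have ho : orderOf ζ = r := by
    have h1 : orderOf ζ ∣ r := orderOf_dvd_of_pow_eq_one hζr
    rcases (Nat.dvd_prime hr).1 h1 with h | h
    · exact absurd (orderOf_eq_one_iff.1 h) hζ1
    · exact h
  rw [← ho]
  exact orderOf_dvd_of_pow_eq_one hdet

/-- (B7) an `r`-group of exponent `4` has `r = 2` -/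
theorem eq_two_of_exponent_four {r : ℕ} (R : Subgroup (Matrix.GeneralLinearGroup (Fin n) F)) (hr : r.Prime)
    (hR : IsPGroup r R) (hexp : Monoid.exponent R = 4) : r = 2 := by
  have hex : ∃ g : R, g ^ 2 ≠ 1 := by
    by_contra hcon
    push Not at hcon
    have h1 : Monoid.exponent R ∣ 2 := Monoid.exponent_dvd_of_forall_pow_eq_one hcon
    rw [hexp] at h1
    omega
  obtain ⟨g, hg⟩ := hex
  obtain ⟨k, hk⟩ := hR g
  have h4 : g ^ 4 = 1 := by
    rw [← hexp]
    exact Monoid.pow_exponent_eq_one g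
  have ho4 : orderOf g ∣ 4 := orderOf_dvd_of_pow_eq_one h4
  have ho2 : ¬ orderOf g ∣ 2 := fun h => hg (orderOf_dvd_iff_pow_eq_one.1 h)
  have hork : orderOf g ∣ r ^ k := orderOf_dvd_of_pow_eq_one hk
  have ho : orderOf g = 4 := by
    have h5 : orderOf g ∈ Nat.divisors 4 := Nat.mem_divisors.2 ⟨ho4, by norm_num⟩
    have h6 : Nat.divisors 4 = {1, 2, 4} := by decide
    rw [h6] at h5
    simp only [Finset.mem_insert, Finset.mem_singleton] at h5
    rcases h5 with h | h | h
    · exact absurd (by rw [h]; exact one_dvd 2) ho2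
    · exact absurd (by rw [h]) ho2
    · exact h
  rw [ho] at hork
  have h2 : (2 : ℕ) ∣ r ^ k := dvd_trans (by norm_num) hork
  have h3 : (2 : ℕ) ∣ r := Nat.Prime.dvd_of_dvd_pow Nat.prime_two h2
  exact ((Nat.prime_dvd_prime_iff_eq Nat.prime_two hr).1 h3).symm

end Cfsg.Agent.Helper76.EBB6
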