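import Cfsg.Agent.Helper25.FSwan.Defs2
import Cfsg.Agent.Helper65.FS_CON
import Cfsg.Agent.Helper75.FS_PERM

/-!
# (PP) of helper25's Fong–Swan farm (#15059, S4440): groups of order prime to `p` — core, with (PPI)
as an explicit hypothesis
-/

set_option autoImplicit false
set_option linter.unusedSectionVars false
set_option linter.unusedVariables false

namespace Cfsg.Agent.Helper76.FS

open Cfsg Cfsg.Agent.Helper16 Cfsg.Agent.Helper16.DT Cfsg.Agent.Helper25.FS

universe u

variable {p : ℕ} [Fact p.Prime] {M : Ideal AlgInt} [M.IsMaximal] {G : Type u} [Group G]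

omit [Fact p.Prime] [M.IsMaximal] in
/-- in a finite group of order prime to `p` every element is `p`-regular -/
theorem PP_pRegularPart_eq [Finite G] (hG : ¬ p ∣ Nat.card G) (χ : G → ℂ) :
    pRegularPart p χ = χ := by
  classical
  funext g
  have hg : IsPRegular p g := fun h => hG (h.trans (orderOf_dvd_natCard g))
  simp only [pRegularPart]
  rw [if_pos hg]

/-- (PP) with (PPI) `irr_mem_IBr_of_pPrime` as an explicit hypothesis. -/
theorem fswan_of_pPrime_of
    (hPPI : ∀ χ : IrrCharacter G, (χ : G → ℂ) ∈ IBr p M G)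
    (hpM : (p : AlgInt) ∈ M) [Finite G] (hG : ¬ p ∣ Nat.card G) :
    FSwan p M G := by
  intro φ hφ
  obtain ⟨χ, l, hl, hφl, hsum⟩ := Cfsg.Agent.Helper65.FS.exists_brConst hpM hφ
  have hreg : pRegularPart p (χ : G → ℂ) = (χ : G → ℂ) := PP_pRegularPart_eq hG _
  have hl1 : l = [(χ : G → ℂ)] :=
    Cfsg.Agent.Helper75.FS.eq_singleton_of_sum_eq hpM (hPPI χ) l hl (hsum.symm.trans hreg)
  rw [hl1, List.mem_singleton] at hφl
  exact ⟨χ, hreg.trans hφl.symm⟩

end Cfsg.Agent.Helper76.FS
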