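import Mathlib
import Cfsg.Prelude.Def_Blocks
import Cfsg.Prelude.Def_Transfer
import Cfsg.Agent.Helper76.PRegularBlock
import Cfsg.Agent.S4426
import Cfsg.Agent.Helper74.ThompsonDeg
import Cfsg.Agent.Helper78.IrrTransport
import Cfsg.Agent.Helper79.PrincipalQuot
import Cfsg.Agent.Helper64.PNilp
import Cfsg.Agent.Helper34.Basic
import Cfsg.Agent.Helper16.Height
import Cfsg.Agent.Helper80.Degree
import Cfsg.Agent.Helper80.Pullback

/-!
# Principal blocks and normal `p`-complements (helper76)

If every nonlinear character of the principal `p`-block has degree divisible by `p`, then every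
linear character of a Sylow `p`-subgroup `P` extends to `G` (the class function `p ^ a · 1⁰` is an
integer combination of the principal block, its restriction to `P` is the regular character, and
the coefficients of the characters of degree divisible by `p` are divisible by `p`).  With Tate's
theorem (helper34) `G` has a normal `p`-complement.
-/

set_option autoImplicit false

namespace Cfsg.Agent.Helper76

open Cfsg
open scoped ComplexConjugate

universe u

/-- If `p` divides the degree of every nonlinear character of the principal block, every linear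
character of a Sylow `p`-subgroup extends to `G`. -/
theorem exists_linear_extension_of_principalBlock {G : Type u} [Group G] [Fintype G] (p : ℕ)
    [hp : Fact p.Prime] {M : Ideal AlgInt} (hM : IsPModular p M)
    (hdeg : ∀ χ : IrrCharacter G, χ ∈ principalBlock M G → charDegree (χ : G → ℂ) ≠ 1 →
      p ∣ charDegree (χ : G → ℂ))
    (P : Sylow p G) (μ : (P : Subgroup G) →* ℂˣ) :
    ∃ φ : G →* ℂˣ, φ.comp (P : Subgroup G).subtype = μ := by
  classical
  by_contra hcon
  push Not at hcon
  let _ := Helper74.irrFintype G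
  let _ : Fintype (P : Subgroup G) := Fintype.ofFinite _
  have hMp : M.IsPrime := Helper78.isPrime_of_isPModular hM
  set a := (Nat.card G).factorization p with ha
  set χ₀ : IrrCharacter G := Helper79.principalIrr G with hχ₀
  have hχ₀B : χ₀ ∈ principalBlock M G := Helper78.principalIrr_mem_principalBlock M hMp G
  have hB : IsPBlock M (principalBlock M G) := Helper78.isPBlock_principalBlock M G
  set B : Set (IrrCharacter G) := principalBlock M G with hBdef
  set Bf : Finset (IrrCharacter G) := (Set.toFinite B).toFinset with hBf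
  -- integer coefficients
  have hn : ∀ ψ : IrrCharacter G, ∃ n : ℤ,
      classInner (S4426.cut p ((p ^ a : ℕ) : ℂ) (χ₀ : G → ℂ)) (ψ : G → ℂ) = (n : ℂ) :=
    fun ψ => S4426.exists_int_inner p χ₀ ψ
  choose n hn using hn
  have hm : ∀ ψ : IrrCharacter G, ∃ m : ℕ,
      classInner (fun y : (P : Subgroup G) => (ψ : G → ℂ) y)
        ((Helper74.linIrr μ : IrrCharacter _) : _ → ℂ) = m :=
    fun ψ => Helper74.isCharacter_inner_irr_nat
      (Helper74.isCharacter_restrict (P : Subgroup G) (Helper74.irr_isCharacter ψ))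
      (Helper74.linIrr μ)
  choose m hm using hm
  -- the expansion of the cut-off of the principal character
  have h1 : ∀ x : G, ∑ ψ ∈ Bf, (n ψ : ℂ) * (ψ : G → ℂ) x
      = if p ∣ orderOf x then (0 : ℂ) else ((p ^ a : ℕ) : ℂ) := by
    intro x
    have h := blockPart_pRegular_cutoff p M hM B hB χ₀ hχ₀B ((p ^ a : ℕ) : ℂ) x
    rw [finsum_mem_eq_finite_toFinset_sum _ (Set.toFinite B)] at h
    have e : (χ₀ : G → ℂ) x = 1 := rfl
    rw [e, mul_one] at h
    rw [← h]
    refine Finset.sum_congr rfl fun ψ _ => ?_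
    rw [← hn ψ]
    rfl
  have hPcard : Nat.card (P : Subgroup G) = p ^ a := P.card_eq_multiplicity
  have hP0 : (Nat.card (P : Subgroup G) : ℂ) ≠ 0 := by exact_mod_cast Nat.card_pos.ne'
  -- order of a nontrivial element of `P`
  have hord : ∀ y : (P : Subgroup G), y ≠ 1 → p ∣ orderOf (y : G) := by
    intro y hy
    obtain ⟨k, hk⟩ := (IsPGroup.iff_orderOf.mp P.2) y
    rw [Subgroup.orderOf_coe, hk]
    rcases Nat.eq_zero_or_pos k with h0 | hpos
    · exfalso
      rw [h0, pow_zero, orderOf_eq_one_iff] at hk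
      exact hy hk
    · exact dvd_pow_self p hpos.ne'
  -- the key identity
  have hkey : ∑ ψ ∈ Bf, (n ψ : ℂ) * (m ψ : ℂ) = 1 := by
    have hA : ∑ y : (P : Subgroup G), (∑ ψ ∈ Bf, (n ψ : ℂ) * (ψ : G → ℂ) y) *
        conj ((Helper74.linIrr μ : _ → ℂ) y) = ((p ^ a : ℕ) : ℂ) := by
      rw [Finset.sum_eq_single (1 : (P : Subgroup G))]
      · rw [h1, Subgroup.coe_one, orderOf_one, if_neg (by
          intro h; exact hp.out.one_lt.ne' (Nat.dvd_one.mp h))]
        simp
      · intro y _ hy
        rw [h1, if_pos (hord y hy), zero_mul]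
      · intro h; exact absurd (Finset.mem_univ _) h
    have hB' : ∑ y : (P : Subgroup G), (∑ ψ ∈ Bf, (n ψ : ℂ) * (ψ : G → ℂ) y) *
        conj ((Helper74.linIrr μ : _ → ℂ) y)
        = (Nat.card (P : Subgroup G) : ℂ) * ∑ ψ ∈ Bf, (n ψ : ℂ) * (m ψ : ℂ) := by
      simp only [Finset.sum_mul]
      rw [Finset.sum_comm, Finset.mul_sum]
      refine Finset.sum_congr rfl (fun ψ _ => ?_)
      rw [← hm ψ, Helper74.classInner_def]
      simp only [mul_assoc]
      rw [← Finset.mul_sum, ← mul_assoc (Nat.card (P : Subgroup G) : ℂ), ← mul_assoc,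
        mul_comm (Nat.card (P : Subgroup G) : ℂ), mul_assoc ((n ψ : ℂ)),
        mul_inv_cancel₀ hP0, mul_one]
    rw [hB', hPcard] at hA
    have hpa : ((p ^ a : ℕ) : ℂ) ≠ 0 := by
      exact_mod_cast (pow_pos hp.out.pos a).ne'
    exact mul_left_cancel₀ hpa (by rw [hA, mul_one])
  have hkeyZ : ∑ ψ ∈ Bf, n ψ * (m ψ : ℤ) = 1 := by
    have : ((∑ ψ ∈ Bf, n ψ * (m ψ : ℤ) : ℤ) : ℂ) = ((1 : ℤ) : ℂ) := by
      push_cast
      exact hkey
    exact_mod_cast this
  -- every term is divisible by `p`
  have hterm : ∀ ψ ∈ Bf, (p : ℤ) ∣ n ψ * (m ψ : ℤ) := by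
    intro ψ hψ
    have hψB : ψ ∈ principalBlock M G := (Set.Finite.mem_toFinset _).mp hψ
    have hd : (ψ : G → ℂ) 1 = (charDegree (ψ : G → ℂ) : ℂ) :=
      (Helper74.charDegree_cast (Helper74.irr_isCharacter ψ)).symm
    by_cases hlin : charDegree (ψ : G → ℂ) = 1
    · have hm0 : m ψ = 0 := by
        by_contra hne
        have hψ1 : (ψ : G → ℂ) 1 = 1 := by rw [hd, hlin]; simp
        obtain ⟨φ, hφ⟩ := Helper80.IsCharacter.exists_monoidHom (Helper74.irr_isCharacter ψ) hψ1
        let φP : (P : Subgroup G) →* ℂˣ := φ.comp (P : Subgroup G).subtype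
        have hres : (fun y : (P : Subgroup G) => (ψ : G → ℂ) y) = (Helper74.linIrr φP : _ → ℂ) := by
          funext y; rw [hφ]; rfl
        have h2 := hm ψ
        rw [hres, Helper74.irr_orthonormal] at h2
        have heq : Helper74.linIrr φP = Helper74.linIrr μ := by
          by_contra hne'
          rw [if_neg hne'] at h2
          exact hne (by exact_mod_cast h2.symm)
        exact hcon φ (Helper74.linIrr_injective heq)
      rw [hm0]; simp
    · have hdvd : p ∣ charDegree (ψ : G → ℂ) := hdeg ψ hψB hlin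
      have hU := S4426.memLocalRing_U hM χ₀.2 ψ.2 (p := p)
      rw [hn ψ, hd] at hU
      have hdpos : charDegree (ψ : G → ℂ) ≠ 0 :=
        (Helper78.charDegree_pos_of_isIrrCharacter ψ.2).ne'
      have h3 := S4426.pow_dvd_int_of_memLocalRing_div hM hdpos hU
      have h4 : 1 ≤ (charDegree (ψ : G → ℂ)).factorization p :=
        (hp.out.dvd_iff_one_le_factorization hdpos).mp hdvd
      have h5 : (p : ℤ) ∣ n ψ := dvd_trans (dvd_pow_self (p : ℤ) (by omega)) h3
      exact Dvd.dvd.mul_right h5 _
  have hdvd1 : (p : ℤ) ∣ 1 := hkeyZ ▸ Finset.dvd_sum hterm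
  have : (p : ℤ) = 1 ∨ (p : ℤ) = -1 := Int.isUnit_iff.mp (isUnit_of_dvd_one hdvd1)
  have hp1 := hp.out.one_lt
  omega

/-- If `p` divides the degree of every nonlinear character of the principal block, then `O^p(G)`
is a `p'`-group (Tate's theorem, via helper34). -/
theorem coprime_card_pResidual_of_principalBlock {G : Type u} [Group G] [Finite G] (p : ℕ)
    [hp : Fact p.Prime] {M : Ideal AlgInt} (hM : IsPModular p M)
    (hdeg : ∀ χ : IrrCharacter G, χ ∈ principalBlock M G → charDegree (χ : G → ℂ) ≠ 1 →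
      p ∣ charDegree (χ : G → ℂ)) :
    (Nat.card (Cfsg.pResidual p G)).Coprime p := by
  classical
  let _ : Fintype G := Fintype.ofFinite G
  obtain ⟨P⟩ : Nonempty (Sylow p G) := inferInstance
  have hfr : ∀ x : ↥(P : Subgroup G), x ∈ Helper34.tateD P → x ∈ frattini ↥(P : Subgroup G) := by
    intro x hx
    rw [Helper34.mem_tateD] at hx
    obtain ⟨k, hk⟩ := P.2 x
    have hk' : (x : G) ^ (p ^ k) = 1 := by
      have := congrArg Subtype.val hk
      simpa using this
    have h1 := Helper74.mem_commutator_of_mem_pResidual p (x : G) k hk' hx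
    have h2 : x ∈ commutator (P : Subgroup G) := by
      by_contra hxc
      obtain ⟨μ, hμ⟩ := Helper80.exists_hom_ne_one_of_not_mem_commutator x hxc
      obtain ⟨φ, hφ⟩ := exists_linear_extension_of_principalBlock p hM hdeg P μ
      apply hμ
      rw [← hφ]
      show φ (x : G) = 1
      exact MonoidHom.mem_ker.mp (Abelianization.commutator_subset_ker φ h1)
    unfold frattini Order.radical
    rw [Subgroup.mem_iInf]
    intro K
    rw [Subgroup.mem_iInf]
    intro hK
    exact Helper1.commutator_le_coatom P.2 K hK h2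
  have hcore := Helper34.tate_core P
    (fun E _ _ K U _ _ h1 h2 A h3 h4 h5 => Helper34.gaschutz_exists K U h1 h2 A h3 h4 h5) hfr
  rw [Nat.coprime_comm, Nat.Prime.coprime_iff_not_dvd hp.out]
  intro hdvd
  obtain ⟨z, hz⟩ := exists_prime_orderOf_dvd_card' p hdvd
  have hzo : orderOf (z : G) = p := by rw [Subgroup.orderOf_coe]; exact hz
  have hzp : IsPGroup p (Subgroup.zpowers (z : G)) := by
    apply IsPGroup.of_card (n := 1)
    rw [Nat.card_zpowers, hzo, pow_one]
  obtain ⟨Q, hQ⟩ := hzp.exists_le_sylow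
  obtain ⟨g, hg⟩ := MulAction.exists_smul_eq G Q P
  have hzQ : (z : G) ∈ (Q : Subgroup G) := hQ (Subgroup.mem_zpowers _)
  have hgz : g * (z : G) * g⁻¹ ∈ (P : Subgroup G) := by
    rw [← hg, Sylow.coe_subgroup_smul, Subgroup.mem_pointwise_smul_iff_inv_smul_mem]
    simpa [MulAut.smul_def, mul_assoc] using hzQ
  have hgzR : g * (z : G) * g⁻¹ ∈ Cfsg.pResidual p G :=
    (Helper34.pResidual_normal p G).conj_mem _ z.2 g
  have hmem : (⟨g * (z : G) * g⁻¹, hgz⟩ : ↥(P : Subgroup G)) ∈ Helper34.tateD P :=
    (Helper34.mem_tateD P _).mpr hgzR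
  rw [hcore, Subgroup.mem_bot] at hmem
  have h1 : g * (z : G) * g⁻¹ = 1 := congrArg Subtype.val hmem
  have h2 : (z : G) = 1 := by
    have := congrArg (fun t => g⁻¹ * t * g) h1
    simpa [mul_assoc] using this
  rw [h2, orderOf_one] at hzo
  exact hp.out.one_lt.ne hzo

/-- If `p` divides the degree of every nonlinear character of the principal block, then `G` has a
normal `p`-complement. -/
theorem hasNormalPComplement_of_principalBlock {G : Type u} [Group G] [Finite G] (p : ℕ)
    [hp : Fact p.Prime] {M : Ideal AlgInt} (hM : IsPModular p M)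
    (hdeg : ∀ χ : IrrCharacter G, χ ∈ principalBlock M G → charDegree (χ : G → ℂ) ≠ 1 →
      p ∣ charDegree (χ : G → ℂ)) :
    Cfsg.HasNormalPComplement p G := by
  rw [Helper64.hasNormalPComplement_iff_exists]
  have hn : (Cfsg.pResidual p G).Normal := Helper34.pResidual_normal p G
  refine ⟨Cfsg.pResidual p G, hn, coprime_card_pResidual_of_principalBlock p hM hdeg, ?_⟩
  have h1 : IsPGroup p (G ⧸ Cfsg.pResidual p G) := Helper34.pResidual_quotient_isPGroup p G
  obtain ⟨k, hk⟩ := IsPGroup.iff_card.mp h1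
  exact ⟨k, by rw [Subgroup.index_eq_card, hk]⟩

/-- The least `p`-exponent of a degree in the principal block is zero. -/
theorem minExp_principalBlock {G : Type u} [Group G] [Fintype G] (p : ℕ) {M : Ideal AlgInt}
    (hMp : M.IsPrime) : Helper16.minExp p (principalBlock M G) = 0 := by
  have h := Helper16.minExp_le_of_mem p (Helper78.principalIrr_mem_principalBlock M hMp G)
  have h1 : charDegree ((Helper79.principalIrr G : IrrCharacter G) : G → ℂ) = 1 := by
    have : ((Helper79.principalIrr G : IrrCharacter G) : G → ℂ) 1 = 1 := rfl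
    unfold charDegree
    rw [this]
    simp
  rw [h1] at h
  simpa using h

/-- In a group with a normal `p`-complement, the characters of the principal block of degree
prime to `p` are linear. -/
theorem charDegree_eq_one_of_hasNormalPComplement {G : Type u} [Group G] [Finite G] (p : ℕ)
    [hp : Fact p.Prime] {M : Ideal AlgInt} (hM : IsPModular p M)
    (hG : Cfsg.HasNormalPComplement p G) (χ : IrrCharacter G) (hχ : χ ∈ principalBlock M G)
    (hpχ : ¬ p ∣ charDegree (χ : G → ℂ)) : charDegree (χ : G → ℂ) = 1 := by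
  classical
  rw [Helper64.hasNormalPComplement_iff_exists] at hG
  obtain ⟨N, hN, hcop, k, hk⟩ := hG
  have hker := Helper79.principalBlock_ker hM N hcop χ hχ
  set ψ : IrrCharacter (G ⧸ N) := (Helper80.irrQuotientEquiv N).symm ⟨χ, hker⟩ with hψ
  have hval : ((ψ : IrrCharacter (G ⧸ N)) : G ⧸ N → ℂ) 1 = (χ : G → ℂ) 1 := by
    have := Helper80.irrQuotientEquiv_symm_apply N ⟨χ, hker⟩ 1
    simpa using this
  have hdegeq : charDegree ((ψ : IrrCharacter (G ⧸ N)) : G ⧸ N → ℂ) = charDegree (χ : G → ℂ) := by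
    unfold charDegree
    rw [hval]
  have hdvd : charDegree (χ : G → ℂ) ∣ p ^ k := by
    rw [← hdegeq, ← hk, Subgroup.index_eq_card]
    exact Helper80.IsIrrCharacter.charDegree_dvd_card ψ.2
  obtain ⟨j, hj, hjeq⟩ := (Nat.dvd_prime_pow hp.out).mp hdvd
  rcases Nat.eq_zero_or_pos j with h0 | hpos
  · rw [hjeq, h0, pow_zero]
  · exfalso
    apply hpχ
    rw [hjeq]
    exact dvd_pow_self p hpos.ne'

end Cfsg.Agent.Helper76
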