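import Mathlib
import Cfsg.Agent.Helper76.PrincipalNilpotent

/-!
# Galois-fixed characters of the principal 2-block (helper76)

`σ` is the Galois automorphism cubing the 2-power roots of unity and fixing the roots of unity of
odd order, realised on characters by `χ ↦ χ (· ^ k)`.  It has 2-power order, so non-fixed orbits
cancel modulo 2 in every `σ`-invariant sum over the principal block.
-/

set_option autoImplicit false

namespace Cfsg.Agent.Helper76

open Cfsg
open scoped ComplexConjugate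

universe u

/-- A power map that cubes the `2`-elements and fixes the elements of odd order has exponent prime
to the group order. -/
theorem coprime_card_of_pow_eq {G : Type u} [Group G] [Finite G] (k : ℕ)
    (hk₁ : ∀ g : G, (∃ j : ℕ, orderOf g = 2 ^ j) → g ^ k = g ^ 3)
    (hk₂ : ∀ g : G, Odd (orderOf g) → g ^ k = g) : k.Coprime (Nat.card G) := by
  by_contra h
  obtain ⟨q, hq, hqk, hqG⟩ := Nat.Prime.not_coprime_iff_dvd.mp h
  haveI : Fact q.Prime := ⟨hq⟩
  obtain ⟨g, hg⟩ := exists_prime_orderOf_dvd_card' q hqG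
  have hgk : g ^ k = 1 := by
    rw [← orderOf_dvd_iff_pow_eq_one, hg]; exact hqk
  have hg1 : g ≠ 1 := by
    intro h1
    rw [h1, orderOf_one] at hg
    exact hq.one_lt.ne hg
  rcases hq.eq_two_or_odd' with h2 | hodd
  · have h3 := hk₁ g ⟨1, by rw [hg, h2, pow_one]⟩
    rw [hgk] at h3
    have h4 : g ^ 2 = 1 := by
      rw [← orderOf_dvd_iff_pow_eq_one, hg, h2]
    have h5 : g ^ 3 = g := by
      rw [pow_succ, h4, one_mul]
    exact hg1 (by rw [← h5, ← h3])
  · have h3 := hk₂ g (by rw [hg]; exact hodd)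
    rw [hgk] at h3
    exact hg1 h3.symm

/-- `3 ^ (2 ^ a) ≡ 1` modulo `2 ^ a`. -/
theorem three_pow_two_pow_modEq (a : ℕ) : 3 ^ (2 ^ a) ≡ 1 [MOD 2 ^ a] := by
  rcases Nat.eq_zero_or_pos a with h0 | hpos
  · rw [h0, pow_zero]
    exact Nat.modEq_one
  · obtain ⟨b, rfl⟩ := Nat.exists_eq_succ_of_ne_zero hpos.ne'
    have hcop : Nat.Coprime 3 (2 ^ (b + 1)) := Nat.Coprime.pow_right _ (by norm_num)
    have h := Nat.ModEq.pow_totient hcop
    rw [Nat.totient_prime_pow_succ Nat.prime_two] at h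
    have h2 : (3 : ℕ) ^ (2 ^ (b + 1)) = (3 ^ (2 ^ b * (2 - 1))) ^ 2 := by
      rw [← pow_mul]
      congr 1
      rw [pow_succ]
      norm_num
    rw [h2]
    have := h.pow 2
    rwa [one_pow] at this

/-- The power map of `coprime_card_of_pow_eq` has `2`-power order. -/
theorem pow_pow_two_pow_eq_self {G : Type u} [Group G] [Finite G] (k : ℕ)
    (hk₁ : ∀ g : G, (∃ j : ℕ, orderOf g = 2 ^ j) → g ^ k = g ^ 3)
    (hk₂ : ∀ g : G, Odd (orderOf g) → g ^ k = g) (g : G) :
    g ^ (k ^ (2 ^ (Nat.card G).factorization 2)) = g := by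
  set a := (Nat.card G).factorization 2 with ha
  have hpos : orderOf g ≠ 0 := (orderOf_pos g).ne'
  set i := (orderOf g).factorization 2 with hi
  set d := ordCompl[2] (orderOf g) with hd
  have hid : 2 ^ i * d = orderOf g := Nat.ordProj_mul_ordCompl_eq_self (orderOf g) 2
  have hdodd : Odd d := by
    rw [← Nat.not_even_iff_odd, even_iff_two_dvd]
    exact Nat.not_dvd_ordCompl Nat.prime_two hpos
  have hd0 : d ≠ 0 := fun h => by
    rw [h] at hdodd
    exact (Nat.not_odd_iff_even.mpr (by decide)) hdodd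
  have hia : i ≤ a := by
    have h1 : 2 ^ i ∣ Nat.card G := dvd_trans (Nat.ordProj_dvd _ _) (orderOf_dvd_natCard g)
    exact (Nat.Prime.pow_dvd_iff_le_factorization Nat.prime_two Nat.card_pos.ne').mp h1
  -- modulo `2 ^ i`
  have h1 : k ^ (2 ^ a) ≡ 1 [MOD 2 ^ i] := by
    have ho : orderOf (g ^ d) = 2 ^ i := by
      rw [orderOf_pow_of_dvd hd0 (Dvd.intro_left _ hid), ← hid]
      exact Nat.mul_div_cancel _ (Nat.pos_of_ne_zero hd0)
    have h2 := hk₁ (g ^ d) ⟨i, ho⟩
    rw [pow_eq_pow_iff_modEq, ho] at h2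
    have h3 : (3 : ℕ) ^ (2 ^ a) ≡ 1 [MOD 2 ^ i] :=
      (three_pow_two_pow_modEq a).of_dvd (pow_dvd_pow 2 hia)
    exact (h2.pow _).trans h3
  -- modulo `d`
  have h2 : k ^ (2 ^ a) ≡ 1 [MOD d] := by
    have h2i : (2 : ℕ) ^ i ≠ 0 := pow_ne_zero _ (by norm_num)
    have ho : orderOf (g ^ (2 ^ i)) = d := by
      rw [orderOf_pow_of_dvd h2i (Dvd.intro _ hid), ← hid]
      exact Nat.mul_div_cancel_left _ (Nat.pos_of_ne_zero h2i)
    have h3 := hk₂ (g ^ (2 ^ i)) (by rw [ho]; exact hdodd)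
    have h4 : (g ^ (2 ^ i)) ^ k = (g ^ (2 ^ i)) ^ 1 := by rw [h3, pow_one]
    rw [pow_eq_pow_iff_modEq, ho] at h4
    have := h4.pow (2 ^ a)
    rwa [one_pow] at this
  have hcop : Nat.Coprime (2 ^ i) d :=
    Nat.Coprime.pow_left _ ((Nat.Prime.coprime_iff_not_dvd Nat.prime_two).mpr
      (by rw [← even_iff_two_dvd, Nat.not_even_iff_odd]; exact hdodd))
  have h3 : k ^ (2 ^ a) ≡ 1 [MOD orderOf g] := by
    rw [← hid]
    exact (Nat.modEq_and_modEq_iff_modEq_mul hcop).mp ⟨h1, h2⟩
  have h4 : g ^ (k ^ (2 ^ a)) = g ^ 1 := pow_eq_pow_iff_modEq.mpr h3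
  rw [h4, pow_one]

/-- Parity lemma: for a self-map `σ` of `2`-power order preserving the finite set `s` and a
`σ`-invariant function with values in `ZMod 2`, the sum over `s` is the sum over the fixed points
in `s`. -/
theorem sum_eq_sum_filter_fixed_zmod_two {X : Type*} [DecidableEq X] (r : ℕ) :
    ∀ (σ : X → X), (∀ x, σ^[2 ^ r] x = x) → ∀ (f : X → ZMod 2), (∀ x, f (σ x) = f x) →
    ∀ (s : Finset X), (∀ x ∈ s, σ x ∈ s) →
    ∑ x ∈ s, f x = ∑ x ∈ s.filter (fun x => σ x = x), f x := by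
  induction r with
  | zero =>
    intro σ hσ f _ s _
    have : ∀ x, σ x = x := fun x => by simpa using hσ x
    rw [Finset.filter_true_of_mem (fun x _ => this x)]
  | succ r ih =>
    intro σ hσ f hf s hs
    set τ : X → X := σ ∘ σ with hτ
    have hτ2 : ∀ x, τ^[2 ^ r] x = x := by
      intro x
      have : τ^[2 ^ r] = σ^[2 ^ (r + 1)] := by
        rw [hτ, pow_succ, mul_comm, Function.iterate_mul]
        rfl
      rw [this]; exact hσ x
    have hfτ : ∀ x, f (τ x) = f x := fun x => by rw [hτ, Function.comp_apply, hf, hf]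
    have hsτ : ∀ x ∈ s, τ x ∈ s := fun x hx => hs _ (hs x hx)
    rw [ih τ hτ2 f hfτ s hsτ]
    set Y := s.filter (fun x => τ x = x) with hY
    rw [← Finset.sum_filter_add_sum_filter_not Y (fun x => σ x = x)]
    have e1 : Y.filter (fun x => σ x = x) = s.filter (fun x => σ x = x) := by
      ext x
      simp only [hY, Finset.mem_filter]
      constructor
      · rintro ⟨⟨hx, -⟩, h2⟩; exact ⟨hx, h2⟩
      · rintro ⟨hx, h2⟩
        exact ⟨⟨hx, by rw [hτ, Function.comp_apply, h2, h2]⟩, h2⟩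
    have e2 : ∑ x ∈ Y.filter (fun x => ¬ σ x = x), f x = 0 := by
      apply Finset.sum_involution (fun a _ => σ a)
      · intro a _
        rw [hf a]
        have : (2 : ZMod 2) = 0 := rfl
        calc f a + f a = 2 * f a := by ring
          _ = 0 := by rw [this, zero_mul]
      · intro a ha _
        exact (Finset.mem_filter.mp ha).2
      · intro a ha
        simp only [hY, Finset.mem_filter] at ha ⊢
        obtain ⟨⟨has, hτa⟩, hne⟩ := ha
        have hσσ : σ (σ a) = a := hτa
        refine ⟨⟨hs a has, ?_⟩, ?_⟩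
        · show σ (σ (σ a)) = σ a
          rw [hσσ]
        · rw [hσσ]
          exact fun h => hne h.symm
      · intro a ha
        simp only [hY, Finset.mem_filter] at ha
        exact ha.1.2
    rw [e1, e2, add_zero]

/-- Iterates of the Galois conjugation `irrPow`. -/
theorem iterate_irrPow_apply {G : Type u} [Group G] [Finite G] (k : ℕ)
    (hk : k.Coprime (Nat.card G)) (j : ℕ) (χ : IrrCharacter G) (g : G) :
    (((Helper79.irrPow k hk)^[j] χ : IrrCharacter G) : G → ℂ) g = (χ : G → ℂ) (g ^ (k ^ j)) := by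
  induction j generalizing χ with
  | zero => simp
  | succ j ih =>
    rw [Function.iterate_succ_apply, ih, Helper79.irrPow_apply, ← pow_mul, ← pow_succ]

/-- The Galois conjugation attached to the power map of `coprime_card_of_pow_eq` has `2`-power
order. -/
theorem iterate_irrPow_two_pow {G : Type u} [Group G] [Finite G] (k : ℕ)
    (hk : k.Coprime (Nat.card G))
    (hk₁ : ∀ g : G, (∃ j : ℕ, orderOf g = 2 ^ j) → g ^ k = g ^ 3)
    (hk₂ : ∀ g : G, Odd (orderOf g) → g ^ k = g) (χ : IrrCharacter G) :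
    (Helper79.irrPow k hk)^[2 ^ (Nat.card G).factorization 2] χ = χ := by
  apply Subtype.ext
  funext g
  rw [iterate_irrPow_apply, pow_pow_two_pow_eq_self k hk₁ hk₂]

/-- The key identity: the restriction to a Sylow `p`-subgroup `P` of `p ^ a · 1⁰`, an integer
combination of the principal block, is the regular character of `P`. -/
theorem principalBlock_sylow_identity {G : Type u} [Group G] [Fintype G] (p : ℕ)
    [hp : Fact p.Prime] {M : Ideal AlgInt} (hM : IsPModular p M)
    (P : Sylow p G) [Fintype (P : Subgroup G)] (μ : (P : Subgroup G) →* ℂˣ) :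
    ∃ (n : IrrCharacter G → ℤ) (m : IrrCharacter G → ℕ),
      (∀ ψ : IrrCharacter G, classInner (S4426.cut p ((p ^ (Nat.card G).factorization p : ℕ) : ℂ)
        (fun _ : G => (1 : ℂ))) (ψ : G → ℂ) = (n ψ : ℂ)) ∧
      (∀ ψ : IrrCharacter G, classInner (fun y : (P : Subgroup G) => (ψ : G → ℂ) y)
        ((Helper74.linIrr μ : IrrCharacter _) : _ → ℂ) = (m ψ : ℂ)) ∧
      (∀ ψ : IrrCharacter G, p ∣ charDegree (ψ : G → ℂ) → (p : ℤ) ∣ n ψ) ∧
      (∀ ψ : IrrCharacter G, charDegree (ψ : G → ℂ) = 1 → m ψ ≠ 0 →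
        ∃ φ : G →* ℂˣ, φ.comp (P : Subgroup G).subtype = μ) ∧
      ∑ ψ ∈ (Set.toFinite (principalBlock M G)).toFinset, n ψ * (m ψ : ℤ) = 1 := by
  classical
  let _ := Helper74.irrFintype G
  have hMp : M.IsPrime := Helper78.isPrime_of_isPModular hM
  set a := (Nat.card G).factorization p with ha
  set χ₀ : IrrCharacter G := Helper79.principalIrr G with hχ₀
  have hχ₀B : χ₀ ∈ principalBlock M G := Helper78.principalIrr_mem_principalBlock M hMp G
  have hB : IsPBlock M (principalBlock M G) := Helper78.isPBlock_principalBlock M G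
  set B : Set (IrrCharacter G) := principalBlock M G with hBdef
  set Bf : Finset (IrrCharacter G) := (Set.toFinite B).toFinset with hBf
  have hn : ∀ ψ : IrrCharacter G, ∃ n : ℤ,
      classInner (S4426.cut p ((p ^ a : ℕ) : ℂ) (χ₀ : G → ℂ)) (ψ : G → ℂ) = (n : ℂ) :=
    fun ψ => S4426.exists_int_inner p χ₀ ψ
  choose n hn using hn
  have hm : ∀ ψ : IrrCharacter G, ∃ m : ℕ,
      classInner (fun y : (P : Subgroup G) => (ψ : G → ℂ) y)
        ((Helper74.linIrr μ : IrrCharacter _) : _ → ℂ) = m :=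
    fun ψ => Helper74.isCharacter_inner_irr_nat
      (Helper74.isCharacter_restrict (P : Subgroup G) (Helper74.irr_isCharacter ψ))
      (Helper74.linIrr μ)
  choose m hm using hm
  have hd : ∀ ψ : IrrCharacter G, (ψ : G → ℂ) 1 = (charDegree (ψ : G → ℂ) : ℂ) :=
    fun ψ => (Helper74.charDegree_cast (Helper74.irr_isCharacter ψ)).symm
  refine ⟨n, m, hn, hm, ?_, ?_, ?_⟩
  · intro ψ hdvd
    have hU := S4426.memLocalRing_U hM χ₀.2 ψ.2 (p := p)
    rw [hn ψ, hd] at hU
    have hdpos : charDegree (ψ : G → ℂ) ≠ 0 :=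
      (Helper78.charDegree_pos_of_isIrrCharacter ψ.2).ne'
    have h3 := S4426.pow_dvd_int_of_memLocalRing_div hM hdpos hU
    have h4 : 1 ≤ (charDegree (ψ : G → ℂ)).factorization p :=
      (hp.out.dvd_iff_one_le_factorization hdpos).mp hdvd
    exact dvd_trans (dvd_pow_self (p : ℤ) (by omega)) h3
  · intro ψ hlin hne
    have hψ1 : (ψ : G → ℂ) 1 = 1 := by rw [hd, hlin]; simp
    obtain ⟨φ, hφ⟩ := Helper80.IsCharacter.exists_monoidHom (Helper74.irr_isCharacter ψ) hψ1
    let φP : (P : Subgroup G) →* ℂˣ := φ.comp (P : Subgroup G).subtype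
    have hres : (fun y : (P : Subgroup G) => (ψ : G → ℂ) y) = (Helper74.linIrr φP : _ → ℂ) := by
      funext y; rw [hφ]; rfl
    have h2 := hm ψ
    rw [hres, Helper74.irr_orthonormal] at h2
    have heq : Helper74.linIrr φP = Helper74.linIrr μ := by
      by_contra hne'
      rw [if_neg hne'] at h2
      exact hne (by exact_mod_cast h2.symm)
    exact ⟨φ, Helper74.linIrr_injective heq⟩
  · have h1 : ∀ x : G, ∑ ψ ∈ Bf, (n ψ : ℂ) * (ψ : G → ℂ) x
        = if p ∣ orderOf x then (0 : ℂ) else ((p ^ a : ℕ) : ℂ) := by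
      intro x
      have h := blockPart_pRegular_cutoff p M hM B hB χ₀ hχ₀B ((p ^ a : ℕ) : ℂ) x
      rw [finsum_mem_eq_finite_toFinset_sum _ (Set.toFinite B)] at h
      have e : (χ₀ : G → ℂ) x = 1 := rfl
      rw [e, mul_one] at h
      rw [← h]
      refine Finset.sum_congr rfl fun ψ _ => ?_
      rw [← hn ψ]
      rfl
    have hPcard : Nat.card (P : Subgroup G) = p ^ a := P.card_eq_multiplicity
    have hP0 : (Nat.card (P : Subgroup G) : ℂ) ≠ 0 := by exact_mod_cast Nat.card_pos.ne'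
    have hord : ∀ y : (P : Subgroup G), y ≠ 1 → p ∣ orderOf (y : G) := by
      intro y hy
      obtain ⟨k, hk⟩ := (IsPGroup.iff_orderOf.mp P.2) y
      rw [Subgroup.orderOf_coe, hk]
      rcases Nat.eq_zero_or_pos k with h0 | hpos
      · exfalso
        rw [h0, pow_zero, orderOf_eq_one_iff] at hk
        exact hy hk
      · exact dvd_pow_self p hpos.ne'
    have hkey : ∑ ψ ∈ Bf, (n ψ : ℂ) * (m ψ : ℂ) = 1 := by
      have hA : ∑ y : (P : Subgroup G), (∑ ψ ∈ Bf, (n ψ : ℂ) * (ψ : G → ℂ) y) *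
          conj ((Helper74.linIrr μ : _ → ℂ) y) = ((p ^ a : ℕ) : ℂ) := by
        rw [Finset.sum_eq_single (1 : (P : Subgroup G))]
        · rw [h1, Subgroup.coe_one, orderOf_one, if_neg (by
            intro h; exact hp.out.one_lt.ne' (Nat.dvd_one.mp h))]
          simp
        · intro y _ hy
          rw [h1, if_pos (hord y hy), zero_mul]
        · intro h; exact absurd (Finset.mem_univ _) h
      have hB' : ∑ y : (P : Subgroup G), (∑ ψ ∈ Bf, (n ψ : ℂ) * (ψ : G → ℂ) y) *
          conj ((Helper74.linIrr μ : _ → ℂ) y)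
          = (Nat.card (P : Subgroup G) : ℂ) * ∑ ψ ∈ Bf, (n ψ : ℂ) * (m ψ : ℂ) := by
        simp only [Finset.sum_mul]
        rw [Finset.sum_comm, Finset.mul_sum]
        refine Finset.sum_congr rfl (fun ψ _ => ?_)
        rw [← hm ψ, Helper74.classInner_def]
        simp only [mul_assoc]
        rw [← Finset.mul_sum, ← mul_assoc (Nat.card (P : Subgroup G) : ℂ), ← mul_assoc,
          mul_comm (Nat.card (P : Subgroup G) : ℂ), mul_assoc ((n ψ : ℂ)),
          mul_inv_cancel₀ hP0, mul_one]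
      rw [hB', hPcard] at hA
      have hpa : ((p ^ a : ℕ) : ℂ) ≠ 0 := by
        exact_mod_cast (pow_pos hp.out.pos a).ne'
      exact mul_left_cancel₀ hpa (by rw [hA, mul_one])
    have : ((∑ ψ ∈ Bf, n ψ * (m ψ : ℤ) : ℤ) : ℂ) = ((1 : ℤ) : ℂ) := by
      push_cast
      exact hkey
    exact_mod_cast this

/-- If every odd-degree `σ`-fixed character of the principal `2`-block is linear, then every
linear character of order at most `2` of a Sylow `2`-subgroup extends to `G`. -/
theorem exists_linear_extension_of_fixed_two {G : Type u} [Group G] [Fintype G]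
    {M : Ideal AlgInt} (hM : IsPModular 2 M) (k : ℕ)
    (hk₁ : ∀ g : G, (∃ j : ℕ, orderOf g = 2 ^ j) → g ^ k = g ^ 3)
    (hk₂ : ∀ g : G, Odd (orderOf g) → g ^ k = g)
    (hdeg : ∀ χ : IrrCharacter G, χ ∈ principalBlock M G → Odd (charDegree (χ : G → ℂ)) →
      (∀ g : G, (χ : G → ℂ) (g ^ k) = (χ : G → ℂ) g) → charDegree (χ : G → ℂ) = 1)
    (P : Sylow 2 G) (μ : (P : Subgroup G) →* ℂˣ) (hμ : ∀ y, μ y ^ 2 = 1) :
    ∃ φ : G →* ℂˣ, φ.comp (P : Subgroup G).subtype = μ := by
  classical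
  haveI : Fact (Nat.Prime 2) := ⟨Nat.prime_two⟩
  let _ : Fintype (P : Subgroup G) := Fintype.ofFinite _
  let _ := Helper74.irrFintype G
  have hk := coprime_card_of_pow_eq k hk₁ hk₂
  obtain ⟨n, m, hn, hm, hndvd, hlin, hsum⟩ := principalBlock_sylow_identity 2 hM P μ
  set σ : IrrCharacter G → IrrCharacter G := Helper79.irrPow k hk with hσ
  set Bf := (Set.toFinite (principalBlock M G)).toFinset with hBf
  have hnσ : ∀ ψ, n (σ ψ) = n ψ := by
    intro ψ
    have : ((n (σ ψ) : ℤ) : ℂ) = (n ψ : ℂ) := by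
      rw [← hn, ← hn, Helper74.classInner_def, Helper74.classInner_def]
      congr 1
      refine Finset.sum_congr rfl fun x _ => ?_
      unfold S4426.cut
      by_cases hx : 2 ∣ orderOf x
      · rw [if_pos hx, zero_mul, zero_mul]
      · have hodd : Odd (orderOf x) := by
          rw [← Nat.not_even_iff_odd, even_iff_two_dvd]; exact hx
        rw [hσ, Helper79.irrPow_apply, hk₂ x hodd]
    exact_mod_cast this
  have hmσ : ∀ ψ, m (σ ψ) = m ψ := by
    intro ψ
    have : ((m (σ ψ) : ℕ) : ℂ) = (m ψ : ℂ) := by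
      rw [← hm, ← hm, Helper74.classInner_def, Helper74.classInner_def]
      congr 1
      have hcop : (Nat.card (P : Subgroup G)).Coprime 3 := by
        obtain ⟨j, hj⟩ := IsPGroup.iff_card.mp P.2
        rw [hj]
        exact Nat.Coprime.pow_left _ (by norm_num)
      rw [← Equiv.sum_comp (powCoprime hcop)
        (fun y => (ψ : G → ℂ) y * conj ((Helper74.linIrr μ : _ → ℂ) y))]
      refine Finset.sum_congr rfl fun y _ => ?_
      have e1 : powCoprime hcop y = y ^ 3 := rfl
      have e2 : ((y ^ 3 : (P : Subgroup G)) : G) = (y : G) ^ 3 := by simp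
      have e3 : (y : G) ^ k = (y : G) ^ 3 := by
        apply hk₁
        obtain ⟨j, hj⟩ := (IsPGroup.iff_orderOf.mp P.2) y
        exact ⟨j, by rw [Subgroup.orderOf_coe, hj]⟩
      have e4 : μ (y ^ 3) = μ y := by
        rw [map_pow, pow_succ, hμ y, one_mul]
      rw [e1, Helper74.linIrr_apply, Helper74.linIrr_apply, e4, e2, hσ, Helper79.irrPow_apply, e3]
    exact_mod_cast this
  set f : IrrCharacter G → ZMod 2 := fun ψ => ((n ψ * (m ψ : ℤ) : ℤ) : ZMod 2) with hf
  have hfσ : ∀ ψ, f (σ ψ) = f ψ := fun ψ => by simp only [hf, hnσ, hmσ]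
  have hsσ : ∀ ψ ∈ Bf, σ ψ ∈ Bf := by
    intro ψ hψ
    rw [hBf, Set.Finite.mem_toFinset] at hψ ⊢
    exact Helper79.irrPow_mem_principalBlock k hk ψ hψ
  have hord : ∀ ψ, σ^[2 ^ (Nat.card G).factorization 2] ψ = ψ :=
    fun ψ => iterate_irrPow_two_pow k hk hk₁ hk₂ ψ
  have hpar := sum_eq_sum_filter_fixed_zmod_two _ σ hord f hfσ Bf hsσ
  have hsum2 : ∑ ψ ∈ Bf, f ψ = 1 := by
    have := congrArg (Int.cast : ℤ → ZMod 2) hsum
    simp only [Int.cast_sum, Int.cast_one] at this
    exact this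
  rw [hsum2] at hpar
  have hne : ∑ ψ ∈ Bf.filter (fun ψ => σ ψ = ψ), f ψ ≠ 0 := by
    rw [← hpar]; exact one_ne_zero
  obtain ⟨ψ, hψmem, hψf⟩ := Finset.exists_ne_zero_of_sum_ne_zero hne
  rw [Finset.mem_filter] at hψmem
  obtain ⟨hψB, hψfix⟩ := hψmem
  rw [hBf, Set.Finite.mem_toFinset] at hψB
  have hnd : ¬ (2 : ℤ) ∣ n ψ * (m ψ : ℤ) := by
    intro h
    apply hψf
    simp only [hf]
    exact (ZMod.intCast_zmod_eq_zero_iff_dvd _ 2).mpr (by exact_mod_cast h)
  have hn2 : ¬ (2 : ℤ) ∣ n ψ := fun h => hnd (Dvd.dvd.mul_right h _)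
  have hm0 : m ψ ≠ 0 := by
    intro h
    apply hnd
    rw [h]; simp
  have hodd : Odd (charDegree (ψ : G → ℂ)) := by
    rw [← Nat.not_even_iff_odd, even_iff_two_dvd]
    intro h
    exact hn2 (by exact_mod_cast hndvd ψ h)
  have hfix : ∀ g : G, (ψ : G → ℂ) (g ^ k) = (ψ : G → ℂ) g := by
    intro g
    have := congrFun (congrArg Subtype.val hψfix) g
    exact this
  exact hlin ψ (hdeg ψ hψB hodd hfix) hm0

/-- Tate's criterion in character form: if every linear character of order dividing `p` of a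
Sylow `p`-subgroup extends to `G`, then `G` has a normal `p`-complement. -/
theorem hasNormalPComplement_of_forall_extension {G : Type u} [Group G] [Finite G] (p : ℕ)
    [hp : Fact p.Prime] (P : Sylow p G)
    (h : ∀ μ : (P : Subgroup G) →* ℂˣ, (∀ y, μ y ^ p = 1) →
      ∃ φ : G →* ℂˣ, φ.comp (P : Subgroup G).subtype = μ) :
    Cfsg.HasNormalPComplement p G := by
  classical
  have hfr : ∀ x : ↥(P : Subgroup G), x ∈ Helper34.tateD P → x ∈ frattini ↥(P : Subgroup G) := by
    intro x hx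
    rw [Helper34.mem_tateD] at hx
    unfold frattini Order.radical
    rw [Subgroup.mem_iInf]
    intro K
    rw [Subgroup.mem_iInf]
    intro hK
    by_contra hxK
    obtain ⟨hKn, hidx⟩ := Helper1.coatom_normal_index P.2 K hK
    haveI := hKn
    have hcard : Nat.card (↥(P : Subgroup G) ⧸ K) = p := by rw [← Subgroup.index_eq_card, hidx]
    have hcyc : IsCyclic (↥(P : Subgroup G) ⧸ K) := isCyclic_of_prime_card hcard
    have hcomm : ∀ a b : ↥(P : Subgroup G) ⧸ K, a * b = b * a := by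
      intro a b
      haveI : IsMulCommutative (↥(P : Subgroup G) ⧸ K) := IsCyclic.isMulCommutative
      exact mul_comm' a b
    obtain ⟨μ, hμK, hμx⟩ := Helper80.exists_hom_ne_one_of_not_mem K hcomm x hxK
    have hμp : ∀ y, μ y ^ p = 1 := fun y => by
      rw [← map_pow]; exact hμK _ (Helper1.pow_mem_coatom P.2 K hK y)
    obtain ⟨φ, hφ⟩ := h μ hμp
    set m := ordCompl[p] (Nat.card G) with hm
    have hcardG : Nat.card G = p ^ (Nat.card G).factorization p * m :=
      (Nat.ordProj_mul_ordCompl_eq_self _ _).symm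
    have hle : Cfsg.pResidual p G ≤ ((powMonoidHom m : ℂˣ →* ℂˣ).comp φ).ker := by
      unfold Cfsg.pResidual
      rw [Subgroup.closure_le]
      intro g hg
      have hg' : (orderOf g).Coprime p := hg
      show (φ g) ^ m = 1
      rw [← map_pow]
      have h2 : orderOf g ∣ Nat.card G := orderOf_dvd_natCard _
      have h3 : (orderOf g).Coprime (p ^ (Nat.card G).factorization p) :=
        Nat.Coprime.pow_right _ hg'
      rw [hcardG] at h2
      rw [orderOf_dvd_iff_pow_eq_one.mp (h3.dvd_of_dvd_mul_left h2), map_one]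
    have h1 : (φ (x : G)) ^ m = 1 := hle hx
    have h2 : (φ (x : G)) ^ p = 1 := by
      have := hμp x
      rw [← hφ] at this
      exact this
    have hcop : p.Coprime m := Nat.coprime_ordCompl hp.out Nat.card_pos.ne'
    have h3 : orderOf (φ (x : G)) = 1 :=
      Nat.eq_one_of_dvd_coprimes hcop (orderOf_dvd_of_pow_eq_one h2) (orderOf_dvd_of_pow_eq_one h1)
    apply hμx
    rw [← hφ]
    exact orderOf_eq_one_iff.mp h3
  have hcore := Helper34.tate_core P
    (fun E _ _ K U _ _ h1 h2 A h3 h4 h5 => Helper34.gaschutz_exists K U h1 h2 A h3 h4 h5) hfr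
  have hcopR : (Nat.card (Cfsg.pResidual p G)).Coprime p := by
    rw [Nat.coprime_comm, Nat.Prime.coprime_iff_not_dvd hp.out]
    intro hdvd
    obtain ⟨z, hz⟩ := exists_prime_orderOf_dvd_card' p hdvd
    have hzo : orderOf (z : G) = p := by rw [Subgroup.orderOf_coe]; exact hz
    have hzp : IsPGroup p (Subgroup.zpowers (z : G)) := by
      apply IsPGroup.of_card (n := 1)
      rw [Nat.card_zpowers, hzo, pow_one]
    obtain ⟨Q, hQ⟩ := hzp.exists_le_sylow
    obtain ⟨g, hg⟩ := MulAction.exists_smul_eq G Q P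
    have hzQ : (z : G) ∈ (Q : Subgroup G) := hQ (Subgroup.mem_zpowers _)
    have hgz : g * (z : G) * g⁻¹ ∈ (P : Subgroup G) := by
      rw [← hg, Sylow.coe_subgroup_smul, Subgroup.mem_pointwise_smul_iff_inv_smul_mem]
      simpa [MulAut.smul_def, mul_assoc] using hzQ
    have hgzR : g * (z : G) * g⁻¹ ∈ Cfsg.pResidual p G :=
      (Helper34.pResidual_normal p G).conj_mem _ z.2 g
    have hmem : (⟨g * (z : G) * g⁻¹, hgz⟩ : ↥(P : Subgroup G)) ∈ Helper34.tateD P :=
      (Helper34.mem_tateD P _).mpr hgzR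
    rw [hcore, Subgroup.mem_bot] at hmem
    have h1 : g * (z : G) * g⁻¹ = 1 := congrArg Subtype.val hmem
    have h2 : (z : G) = 1 := by
      have := congrArg (fun t => g⁻¹ * t * g) h1
      simpa [mul_assoc] using this
    rw [h2, orderOf_one] at hzo
    exact hp.out.one_lt.ne hzo
  rw [Helper64.hasNormalPComplement_iff_exists]
  have hn : (Cfsg.pResidual p G).Normal := Helper34.pResidual_normal p G
  refine ⟨Cfsg.pResidual p G, hn, hcopR, ?_⟩
  have h1 : IsPGroup p (G ⧸ Cfsg.pResidual p G) := Helper34.pResidual_quotient_isPGroup p G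
  obtain ⟨k, hk⟩ := IsPGroup.iff_card.mp h1
  exact ⟨k, by rw [Subgroup.index_eq_card, hk]⟩

end Cfsg.Agent.Helper76
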