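import Mathlib
import Cfsg.Agent.Helper76.GaloisTwoPrincipal

/-!
# Counting Galois-fixed odd-degree characters of the principal 2-block (helper76)
-/

set_option autoImplicit false

namespace Cfsg.Agent.Helper76

open Cfsg
open scoped ComplexConjugate

universe u

/-- The sum of the squares of the degrees over the principal `p`-block is divisible by the order
of a Sylow `p`-subgroup. -/
theorem sylow_card_dvd_sum_sq_principalBlock {G : Type u} [Group G] [Fintype G] (p : ℕ)
    [hp : Fact p.Prime] {M : Ideal AlgInt} (hM : IsPModular p M) :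
    p ^ (Nat.card G).factorization p ∣
      ∑ ψ ∈ (Set.toFinite (principalBlock M G)).toFinset, (charDegree (ψ : G → ℂ)) ^ 2 := by
  classical
  obtain ⟨P⟩ : Nonempty (Sylow p G) := inferInstance
  let _ : Fintype (P : Subgroup G) := Fintype.ofFinite _
  let _ := Helper74.irrFintype G
  set a := (Nat.card G).factorization p with ha
  have hB : IsPBlock M (principalBlock M G) := Helper78.isPBlock_principalBlock M G
  set B : Set (IrrCharacter G) := principalBlock M G with hBdef
  set Bf : Finset (IrrCharacter G) := (Set.toFinite B).toFinset with hBf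
  set μ : (P : Subgroup G) →* ℂˣ := 1 with hμ
  have hm : ∀ ψ : IrrCharacter G, ∃ m : ℕ,
      classInner (fun y : (P : Subgroup G) => (ψ : G → ℂ) y)
        ((Helper74.linIrr μ : IrrCharacter _) : _ → ℂ) = m :=
    fun ψ => Helper74.isCharacter_inner_irr_nat
      (Helper74.isCharacter_restrict (P : Subgroup G) (Helper74.irr_isCharacter ψ))
      (Helper74.linIrr μ)
  choose m hm using hm
  have hd : ∀ ψ : IrrCharacter G, (ψ : G → ℂ) 1 = (charDegree (ψ : G → ℂ) : ℂ) :=
    fun ψ => (Helper74.charDegree_cast (Helper74.irr_isCharacter ψ)).symm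
  have hPcard : Nat.card (P : Subgroup G) = p ^ a := P.card_eq_multiplicity
  have hP0 : (Nat.card (P : Subgroup G) : ℂ) ≠ 0 := by exact_mod_cast Nat.card_pos.ne'
  have hord : ∀ y : (P : Subgroup G), y ≠ 1 → p ∣ orderOf (y : G) := by
    intro y hy
    obtain ⟨k, hk⟩ := (IsPGroup.iff_orderOf.mp P.2) y
    rw [Subgroup.orderOf_coe, hk]
    rcases Nat.eq_zero_or_pos k with h0 | hpos
    · exfalso
      rw [h0, pow_zero, orderOf_eq_one_iff] at hk
      exact hy hk
    · exact dvd_pow_self p hpos.ne'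
  have h1 : ∀ y : (P : Subgroup G), y ≠ 1 →
      ∑ ψ ∈ Bf, (ψ : G → ℂ) 1 * (ψ : G → ℂ) y = 0 := by
    intro y hy
    have h := Helper77.weak_block_orthogonality hM hB (1 : G) (y : G)
      (by rw [orderOf_one]; intro h; exact hp.out.one_lt.ne' (Nat.dvd_one.mp h)) (hord y hy)
    rw [finsum_mem_eq_finite_toFinset_sum _ (Set.toFinite B)] at h
    rw [← h]
    exact Finset.sum_congr rfl fun ψ _ => mul_comm _ _
  have hA : ∑ y : (P : Subgroup G), (∑ ψ ∈ Bf, (ψ : G → ℂ) 1 * (ψ : G → ℂ) y) *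
      conj ((Helper74.linIrr μ : _ → ℂ) y) = ∑ ψ ∈ Bf, ((charDegree (ψ : G → ℂ) : ℂ)) ^ 2 := by
    rw [Finset.sum_eq_single (1 : (P : Subgroup G))]
    · rw [Helper74.linIrr_apply, map_one, Units.val_one, map_one, mul_one]
      refine Finset.sum_congr rfl fun ψ _ => ?_
      rw [Subgroup.coe_one, hd ψ, sq]
    · intro y _ hy
      rw [h1 y hy, zero_mul]
    · intro h; exact absurd (Finset.mem_univ _) h
  have hB' : ∑ y : (P : Subgroup G), (∑ ψ ∈ Bf, (ψ : G → ℂ) 1 * (ψ : G → ℂ) y) *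
      conj ((Helper74.linIrr μ : _ → ℂ) y)
      = (Nat.card (P : Subgroup G) : ℂ) *
        ∑ ψ ∈ Bf, (charDegree (ψ : G → ℂ) : ℂ) * (m ψ : ℂ) := by
    simp only [Finset.sum_mul]
    rw [Finset.sum_comm, Finset.mul_sum]
    refine Finset.sum_congr rfl (fun ψ _ => ?_)
    rw [← hm ψ, Helper74.classInner_def, ← hd ψ]
    simp only [mul_assoc]
    rw [← Finset.mul_sum, ← mul_assoc (Nat.card (P : Subgroup G) : ℂ), ← mul_assoc,
      mul_comm (Nat.card (P : Subgroup G) : ℂ), mul_assoc ((ψ : G → ℂ) 1),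
      mul_inv_cancel₀ hP0, mul_one]
  rw [hB', hPcard] at hA
  have hN : p ^ a * ∑ ψ ∈ Bf, charDegree (ψ : G → ℂ) * m ψ
      = ∑ ψ ∈ Bf, (charDegree (ψ : G → ℂ)) ^ 2 := by
    have : ((p ^ a * ∑ ψ ∈ Bf, charDegree (ψ : G → ℂ) * m ψ : ℕ) : ℂ)
        = ((∑ ψ ∈ Bf, (charDegree (ψ : G → ℂ)) ^ 2 : ℕ) : ℂ) := by
      push_cast
      push_cast at hA
      exact hA
    exact_mod_cast this
  exact Dvd.intro _ hN

/-- For a group of even order, the number of odd-degree characters of the principal `2`-block fixed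
by the Galois automorphism `σ` (cubing `2`-power roots of unity, fixing odd-order ones) is even. -/
theorem even_card_fixed_odd_principalBlock {G : Type u} [Group G] [Fintype G]
    [Fintype (IrrCharacter G)] [DecidableEq (IrrCharacter G)]
    {M : Ideal AlgInt} (hM : IsPModular 2 M) (hev : Even (Nat.card G)) (k : ℕ)
    (hk₁ : ∀ g : G, (∃ j : ℕ, orderOf g = 2 ^ j) → g ^ k = g ^ 3)
    (hk₂ : ∀ g : G, Odd (orderOf g) → g ^ k = g)
    (hk : k.Coprime (Nat.card G)) :
    Even (((Set.toFinite (principalBlock M G)).toFinset.filter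
      (fun ψ : IrrCharacter G => Helper79.irrPow k hk ψ = ψ)).filter
        (fun ψ : IrrCharacter G => Odd (charDegree (ψ : G → ℂ)))).card := by
  classical
  haveI : Fact (Nat.Prime 2) := ⟨Nat.prime_two⟩
  set σ : IrrCharacter G → IrrCharacter G := Helper79.irrPow k hk with hσ
  set Bf := (Set.toFinite (principalBlock M G)).toFinset with hBf
  set f : IrrCharacter G → ZMod 2 := fun ψ => ((charDegree (ψ : G → ℂ)) ^ 2 : ℕ) with hf
  have hdegσ : ∀ ψ, charDegree ((σ ψ : IrrCharacter G) : G → ℂ) = charDegree (ψ : G → ℂ) := by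
    intro ψ
    unfold charDegree
    rw [hσ, Helper79.irrPow_apply, one_pow]
  have hfσ : ∀ ψ, f (σ ψ) = f ψ := fun ψ => by simp only [hf, hdegσ]
  have hsσ : ∀ ψ ∈ Bf, σ ψ ∈ Bf := by
    intro ψ hψ
    rw [hBf, Set.Finite.mem_toFinset] at hψ ⊢
    exact Helper79.irrPow_mem_principalBlock k hk ψ hψ
  have hord : ∀ ψ, σ^[2 ^ (Nat.card G).factorization 2] ψ = ψ :=
    fun ψ => iterate_irrPow_two_pow k hk hk₁ hk₂ ψ
  have hpar := sum_eq_sum_filter_fixed_zmod_two _ σ hord f hfσ Bf hsσ
  have hsum0 : ∑ ψ ∈ Bf, f ψ = 0 := by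
    have h1 := sylow_card_dvd_sum_sq_principalBlock 2 hM (G := G)
    have h2 : 2 ∣ 2 ^ (Nat.card G).factorization 2 := by
      apply dvd_pow_self
      have : 2 ∣ Nat.card G := even_iff_two_dvd.mp hev
      have := (Nat.prime_two.dvd_iff_one_le_factorization Nat.card_pos.ne').mp this
      omega
    have h3 := dvd_trans h2 h1
    have h4 : ((∑ ψ ∈ Bf, (charDegree (ψ : G → ℂ)) ^ 2 : ℕ) : ZMod 2) = 0 :=
      (ZMod.natCast_eq_zero_iff _ 2).mpr h3
    rw [← h4]
    push_cast
    refine Finset.sum_congr rfl fun ψ _ => ?_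
    simp only [hf]
    push_cast
    rfl
  rw [hsum0] at hpar
  have hval : ∀ ψ : IrrCharacter G, f ψ = if Odd (charDegree (ψ : G → ℂ)) then 1 else 0 := by
    intro ψ
    simp only [hf]
    split_ifs with h
    · have : ((charDegree (ψ : G → ℂ) : ℕ) : ZMod 2) = 1 := ZMod.natCast_eq_one_iff_odd.mpr h
      push_cast
      rw [this, one_pow]
    · have : ((charDegree (ψ : G → ℂ) : ℕ) : ZMod 2) = 0 :=
        ZMod.natCast_eq_zero_iff_even.mpr (Nat.not_odd_iff_even.mp h)
      push_cast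
      rw [this]
      simp
  have hcount : ∑ ψ ∈ Bf.filter (fun ψ : IrrCharacter G => σ ψ = ψ), f ψ
      = ((((Bf.filter (fun ψ : IrrCharacter G => σ ψ = ψ)).filter
        (fun ψ : IrrCharacter G => Odd (charDegree (ψ : G → ℂ)))).card : ℕ) : ZMod 2) := by
    rw [Finset.card_filter]
    push_cast
    exact Finset.sum_congr rfl fun ψ _ => hval ψ
  rw [hcount] at hpar
  exact ZMod.natCast_eq_zero_iff_even.mp hpar.symm

end Cfsg.Agent.Helper76
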