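import Cfsg.Agent.Helper95.Hig.Basic

/-!
# (MOD) `exists_model` of helper95's HIG farm (#14680, S3050): the characteristic-2 model from a `Split`
-/

set_option autoImplicit false

namespace Cfsg.Agent.Helper76.Hig

open Cfsg.Agent.Helper40.SL2Hom Cfsg.Agent.Helper95.Hig

universe u v w

section mod
variable {K : Type u} [Field K] [CharP K 2] {V : Type v} [AddCommGroup V] [Module (ZG K) V]

/-- `U γ` preserves `Fix1` -/
theorem MOD_act_U_mem (γ : K) (c : Fix1 K V) : act (U γ) (c : V) ∈ Fix1 K V := by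
  rw [mem_Fix1, ← act_mul, U_comm, act_mul, (mem_Fix1 (K := K) (c : V)).mp c.2]

/-- the image of `U γ c` under `φ` -/
theorem MOD_phi_U_fix (s : Split K V) (γ : K) (c : Fix1 K V) :
    s.φ (act (U γ) (c : V)) = (s.Ap γ c, 0) := by
  have h := s.hfix ⟨act (U γ) (c : V), MOD_act_U_mem γ c⟩
  have h' : s.φ (act (U γ) (c : V)) = (⟨act (U γ) (c : V), MOD_act_U_mem γ c⟩, 0) := h
  rw [Split.Ap_apply, h']

/-- block form of `U γ` (first fact of (ZRL)) -/
theorem MOD_block (s : Split K V) (γ : K) (c d : Fix1 K V) :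
    s.φ (act (U γ) (s.φ.symm (c, d))) = (s.Ap γ c + s.Bt γ d, s.Dt γ d) := by
  rw [s.symm_eq, map_add, map_add, MOD_phi_U_fix, Split.Bt_apply, Split.Dt_apply]
  ext <;> simp

/-- `2 β = D - A'` (third fact of (ZRL)) -/
theorem MOD_two_beta (s : Split K V) (γ : K) (d : Fix1 K V) :
    s.Bt γ d + s.Bt γ d = s.Dt γ d - s.Ap γ d := by
  -- `U 1 (U γ (W d)) = U γ (U 1 (W d))`
  have hcomm : act (U (1 : K)) (act (U γ) (s.φ.symm (0, d))) =
      act (U γ) (act (U (1 : K)) (s.φ.symm (0, d))) := by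
    rw [← act_mul, ← act_mul, U_comm]
  have h1 : s.φ (act (U (1 : K)) (act (U γ) (s.φ.symm (0, d)))) =
      (s.Bt γ d - s.Dt γ d, - s.Dt γ d) := by
    have e : act (U γ) (s.φ.symm (0, d)) = s.φ.symm (s.Ap γ 0 + s.Bt γ d, s.Dt γ d) := by
      rw [ ← MOD_block, AddEquiv.symm_apply_apply]
    rw [e, s.hU1, map_zero, zero_add]
  have h2 : s.φ (act (U γ) (act (U (1 : K)) (s.φ.symm (0, d)))) =
      (s.Ap γ (-d) + s.Bt γ (-d), s.Dt γ (-d)) := by
    have e : act (U (1 : K)) (s.φ.symm (0, d)) = s.φ.symm (0 - d, -d) := by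
      rw [← s.hU1, AddEquiv.symm_apply_apply]
    rw [e, zero_sub, MOD_block]
  rw [hcomm, h2] at h1
  have h3 := congrArg Prod.fst h1
  simp only [map_neg] at h3
  -- `-A' d - β d = β d - D d`
  have h4 : s.Bt γ d + s.Bt γ d = s.Dt γ d - s.Ap γ d := by
    have : -s.Ap γ d + -s.Bt γ d = s.Bt γ d - s.Dt γ d := h3
    calc s.Bt γ d + s.Bt γ d = (s.Bt γ d - s.Dt γ d) + s.Dt γ d + s.Bt γ d := by abel
      _ = (-s.Ap γ d + -s.Bt γ d) + s.Dt γ d + s.Bt γ d := by rw [this]
      _ = s.Dt γ d - s.Ap γ d := by abel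
  exact h4

/-- (MOD) -/
theorem exists_model (h2 : ∀ x : V, x + x = 0) (s : Split K V) :
    ∃ m : Model K V (Fix1 K V), m.φ = s.φ := by
  have h2' : ∀ c : Fix1 K V, c + c = 0 := fun c => Subtype.ext (h2 (c : V))
  have hneg : ∀ c : Fix1 K V, -c = c := fun c => neg_eq_of_add_eq_zero_left (h2' c)
  have hDA : ∀ (γ : K) (d : Fix1 K V), s.Dt γ d = s.Ap γ d := by
    intro γ d
    have := MOD_two_beta s γ d
    rw [h2'] at this
    exact (sub_eq_zero.mp this.symm)
  refine ⟨{ φ := s.φ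
            A := fun γ => s.Ap γ + AddMonoidHom.id _
            B := fun γ => s.Bt γ
            hU := ?_
            hW := s.hW
            hU1 := ?_ }, rfl⟩
  · intro γ c d
    rw [ MOD_block, hDA]
    simp only [AddMonoidHom.add_apply, AddMonoidHom.id_apply]
    have e1 : c + (s.Ap γ c + c) = s.Ap γ c := by
      calc c + (s.Ap γ c + c) = s.Ap γ c + (c + c) := by abel
        _ = s.Ap γ c := by rw [h2', add_zero]
    have e2 : d + (s.Ap γ d + d) = s.Ap γ d := by
      calc d + (s.Ap γ d + d) = s.Ap γ d + (d + d) := by abel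
        _ = s.Ap γ d := by rw [h2', add_zero]
    rw [e1, e2]
  · intro c d
    rw [s.hU1, sub_eq_add_neg, hneg]

end mod

end Cfsg.Agent.Helper76.Hig
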