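import Cfsg.Agent.Helper95.Hig.Basic

/-!
# (SPL) `exists_split` of helper95's HIG farm (#14680, S3050): the `S₃`-decomposition `V = Fix1 ⊕ W·Fix1`
-/

set_option autoImplicit false

namespace Cfsg.Agent.Helper76.Hig

open Cfsg.Agent.Helper40.SL2Hom Cfsg.Agent.Helper95.Hig

universe u v w

section SLA
variable {K : Type u} [Field K] [CharP K 2]

/-- `W = L 1 * U 1 * L 1` -/
theorem SPL_W_eq : (W : SL2 K) = L 1 * U 1 * L 1 := by
  apply sl2_ext <;>
  · simp only [Matrix.SpecialLinearGroup.coe_mul, W_coe, U_coe, L_coe]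
    simp [Matrix.mul_apply, Fin.sum_univ_two, CharTwo.neg_eq, CharTwo.add_self_eq_zero]

/-- `L 1 * L 1 = 1` -/
theorem SPL_L_sq : (L (1 : K) : SL2 K) * L 1 = 1 := by
  apply sl2_ext <;>
  · simp only [Matrix.SpecialLinearGroup.coe_mul, L_coe, Matrix.SpecialLinearGroup.coe_one]
    simp [Matrix.mul_apply, Fin.sum_univ_two, CharTwo.add_self_eq_zero]

end SLA

/-- torsion: `3 x ∈ R` and `2^k x = 0` give `x ∈ R` -/
theorem SPL_three_torsion {V : Type*} [AddCommGroup V] (R : AddSubgroup V) (x : V) (k : ℕ)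
    (h3 : (3 : ℕ) • x ∈ R) (h2 : (2 ^ k : ℕ) • x = 0) : x ∈ R := by
  have hcop : Nat.Coprime 3 (2 ^ k) := Nat.Coprime.pow_right k (by norm_num)
  have hco : IsCoprime ((3 : ℕ) : ℤ) ((2 ^ k : ℕ) : ℤ) := Nat.isCoprime_iff_coprime.mpr hcop
  obtain ⟨a, b, hab⟩ := hco
  have hx : x = a • ((3 : ℕ) • x) + b • ((2 ^ k : ℕ) • x) := by
    rw [← natCast_zsmul x 3, ← natCast_zsmul x (2 ^ k), smul_smul, smul_smul, ← add_smul, hab,
      one_smul]
  rw [hx, h2, smul_zero, add_zero]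
  exact R.zsmul_mem h3 a

section mod
variable {K : Type u} [Field K] [CharP K 2] {V : Type v} [AddCommGroup V] [Module (ZG K) V]

theorem SPL_ss (x : V) : act (U (1 : K)) (act (U (1 : K)) x) = x := by
  rw [← act_mul, U_sq, act_one]

theorem SPL_ww (x : V) : act (W : SL2 K) (act (W : SL2 K) x) = x := by
  rw [← act_mul, W_sq, act_one]

theorem SPL_tt (x : V) : act (L (1 : K)) (act (L (1 : K)) x) = x := by
  rw [← act_mul, SPL_L_sq, act_one]

/-- `t = w s w` -/
theorem SPL_t_eq (x : V) :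
    act (L (1 : K)) x = act (W : SL2 K) (act (U (1 : K)) (act (W : SL2 K) x)) := by
  rw [L_eq, act_mul, act_mul]

/-- `w = s t s` -/
theorem SPL_w_sts (x : V) :
    act (W : SL2 K) x = act (U (1 : K)) (act (L (1 : K)) (act (U (1 : K)) x)) := by
  conv_lhs => rw [W_eq (K := K)]
  rw [act_mul, act_mul]

/-- `w = t s t` -/
theorem SPL_w_tst (x : V) :
    act (W : SL2 K) x = act (L (1 : K)) (act (U (1 : K)) (act (L (1 : K)) x)) := by
  conv_lhs => rw [SPL_W_eq (K := K)]
  rw [act_mul, act_mul]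

/-- the two `S₃`-relations for `γ = 1` -/
theorem SPL_rel (hH : IsHig K V) (x : V) :
    x + act (U (1 : K)) (act (L (1 : K)) x) + act (L (1 : K)) (act (U (1 : K)) x) = 0 ∧
    act (U (1 : K)) x + act (L (1 : K)) x + act (W : SL2 K) x = 0 := by
  have h := s3r hH (1 : K) one_ne_zero x
  rw [inv_one, ← W_eq] at h
  exact h

/-- `W` maps `Fix1` into `Fix(t)` -/
theorem SPL_t_w_fix (d : V) (hd : act (U (1 : K)) d = d) :
    act (L (1 : K)) (act (W : SL2 K) d) = act (W : SL2 K) d := by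
  rw [SPL_t_eq, SPL_ww, hd]

/-- `W` maps `Fix(t)` into `Fix1` -/
theorem SPL_s_w_fix (z : V) (hz : act (L (1 : K)) z = z) :
    act (U (1 : K)) (act (W : SL2 K) z) = act (W : SL2 K) z := by
  have h := SPL_t_eq (K := K) z
  rw [hz] at h
  -- `z = w s w z`, so `w z = s w z`
  have h2 := congrArg (act (W : SL2 K)) h
  rw [SPL_ww] at h2
  exact h2.symm

/-- the map `(c, d) ↦ c + W d` -/
noncomputable def SPL_psi (K : Type u) [Field K] [CharP K 2] (V : Type v) [AddCommGroup V]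
    [Module (ZG K) V] : Fix1 K V × Fix1 K V →+ V :=
  AddMonoidHom.coprod (Fix1 K V).subtype ((act (W : SL2 K)).comp (Fix1 K V).subtype)

theorem SPL_psi_apply (c d : Fix1 K V) :
    SPL_psi K V (c, d) = (c : V) + act (W : SL2 K) (d : V) := rfl

theorem SPL_mem_of_s_fix (z : V) (hz : act (U (1 : K)) z = z) : z ∈ (SPL_psi K V).range := by
  refine ⟨(⟨z, hz⟩, 0), ?_⟩
  rw [SPL_psi_apply]
  simp

theorem SPL_mem_of_t_fix (z : V) (hz : act (L (1 : K)) z = z) : z ∈ (SPL_psi K V).range := by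
  refine ⟨(0, ⟨act (W : SL2 K) z, SPL_s_w_fix z hz⟩), ?_⟩
  rw [SPL_psi_apply]
  simp [SPL_ww]

theorem SPL_three_mem (hH : IsHig K V) (x : V) : (3 : ℕ) • x ∈ (SPL_psi K V).range := by
  obtain ⟨-, r2⟩ := SPL_rel hH x
  -- the three summands
  have h1 : x + act (U (1 : K)) x ∈ (SPL_psi K V).range := by
    apply SPL_mem_of_s_fix
    rw [map_add, SPL_ss, add_comm]
  have h2 : x + act (L (1 : K)) x ∈ (SPL_psi K V).range := by
    apply SPL_mem_of_t_fix
    rw [map_add, SPL_tt, add_comm]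
  have h3 : x + act (W : SL2 K) x ∈ (SPL_psi K V).range := by
    obtain ⟨y, hy⟩ : ∃ y : V, y = x + act (W : SL2 K) x := ⟨_, rfl⟩
    rw [← hy]
    have hwy : act (W : SL2 K) y = y := by
      rw [hy, map_add, SPL_ww, add_comm]
    obtain ⟨-, r2y⟩ := SPL_rel hH y
    rw [hwy] at r2y
    -- `y = -(s y) - (t y)`
    have hy2 : y = -(act (U (1 : K)) y) + -(act (L (1 : K)) y) := by
      have : y = (act (U (1 : K)) y + act (L (1 : K)) y + y) + (-(act (U (1 : K)) y) + -(act (L (1 : K)) y)) := by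
        abel
      rw [r2y, zero_add] at this
      exact this
    -- `t y ∈ Fix(s)`
    have hty : act (U (1 : K)) (act (L (1 : K)) y) = act (L (1 : K)) y := by
      conv_lhs => rw [← hwy]
      rw [SPL_w_tst, SPL_tt, SPL_ss]
    -- `s y ∈ Fix(t)`
    have hsy : act (L (1 : K)) (act (U (1 : K)) y) = act (U (1 : K)) y := by
      conv_lhs => rw [← hwy]
      rw [SPL_w_sts, SPL_ss, SPL_tt]
    rw [hy2]
    exact (SPL_psi K V).range.add_mem
      ((SPL_psi K V).range.neg_mem (SPL_mem_of_t_fix _ hsy))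
      ((SPL_psi K V).range.neg_mem (SPL_mem_of_s_fix _ hty))
  have hsum : (3 : ℕ) • x = (x + act (U (1 : K)) x) + (x + act (L (1 : K)) x) + (x + act (W : SL2 K) x) := by
    have : (x + act (U (1 : K)) x) + (x + act (L (1 : K)) x) + (x + act (W : SL2 K) x)
        = (3 : ℕ) • x + (act (U (1 : K)) x + act (L (1 : K)) x + act (W : SL2 K) x) := by
      rw [show (3 : ℕ) • x = x + x + x by rw [succ_nsmul, succ_nsmul, one_nsmul]]
      abel
    rw [this, r2, add_zero]
  rw [hsum]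
  exact (SPL_psi K V).range.add_mem ((SPL_psi K V).range.add_mem h1 h2) h3

theorem SPL_psi_surjective (hp : ∀ x : V, ∃ k : ℕ, (2 ^ k : ℕ) • x = 0) (hH : IsHig K V) :
    Function.Surjective (SPL_psi K V) := by
  intro x
  obtain ⟨k, hk⟩ := hp x
  exact SPL_three_torsion (SPL_psi K V).range x k (SPL_three_mem hH x) hk

theorem SPL_psi_injective (hp : ∀ x : V, ∃ k : ℕ, (2 ^ k : ℕ) • x = 0) (hH : IsHig K V) :
    Function.Injective (SPL_psi K V) := by
  rw [injective_iff_map_eq_zero]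
  rintro ⟨c, d⟩ hcd
  rw [SPL_psi_apply] at hcd
  have hc : (c : V) = -(act (W : SL2 K) (d : V)) := eq_neg_of_add_eq_zero_left hcd
  have hs : act (U (1 : K)) (c : V) = (c : V) := c.2
  have ht : act (L (1 : K)) (c : V) = (c : V) := by
    rw [hc, map_neg, SPL_t_w_fix (d : V) d.2]
  obtain ⟨r1, -⟩ := SPL_rel hH (c : V)
  rw [ht, hs, ht] at r1
  have h3 : (3 : ℕ) • (c : V) ∈ (⊥ : AddSubgroup V) := by
    rw [AddSubgroup.mem_bot, succ_nsmul, succ_nsmul, one_nsmul]
    exact r1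
  obtain ⟨k, hk⟩ := hp (c : V)
  have hc0 : (c : V) = 0 := (AddSubgroup.mem_bot).mp (SPL_three_torsion ⊥ (c : V) k h3 hk)
  have hd0 : act (W : SL2 K) (d : V) = 0 := by
    rw [hc0] at hc
    exact neg_eq_zero.mp hc.symm
  have hd0' : (d : V) = 0 := by
    have := act_injective (W : SL2 K) (hd0.trans (map_zero (act (W : SL2 K))).symm)
    exact this
  exact Prod.ext (Subtype.ext hc0) (Subtype.ext hd0')

/-- (SPL) -/
theorem exists_split [Finite V] (hp : ∀ x : V, ∃ k : ℕ, (2 ^ k : ℕ) • x = 0) (hH : IsHig K V) :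
    Nonempty (Split K V) := by
  obtain ⟨e, he⟩ : ∃ e : (Fix1 K V × Fix1 K V) ≃+ V, ∀ p, e p = SPL_psi K V p :=
    ⟨AddEquiv.ofBijective (SPL_psi K V) ⟨SPL_psi_injective hp hH, SPL_psi_surjective hp hH⟩,
      fun _ => rfl⟩
  have hsymm : ∀ c d : Fix1 K V, e.symm.symm (c, d) = (c : V) + act (W : SL2 K) (d : V) := by
    intro c d
    rw [AddEquiv.symm_symm, he, SPL_psi_apply]
  refine ⟨{ φ := e.symm, hfix := ?_, hW := ?_, hU1 := ?_ }⟩
  · intro c
    rw [AddEquiv.symm_apply_eq, he, SPL_psi_apply]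
    simp
  · intro c d
    rw [AddEquiv.symm_apply_eq, hsymm, he, SPL_psi_apply, map_add, SPL_ww, add_comm]
  · intro c d
    rw [AddEquiv.symm_apply_eq, hsymm, he, SPL_psi_apply, map_add]
    have hsc : act (U (1 : K)) (c : V) = (c : V) := c.2
    -- `s (w d) = -(w d) - d`
    obtain ⟨-, r2⟩ := SPL_rel hH (act (W : SL2 K) (d : V))
    rw [SPL_t_w_fix (d : V) d.2, SPL_ww] at r2
    have hsw : act (U (1 : K)) (act (W : SL2 K) (d : V)) = -(act (W : SL2 K) (d : V)) - (d : V) := by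
      have : act (U (1 : K)) (act (W : SL2 K) (d : V)) =
          (act (U (1 : K)) (act (W : SL2 K) (d : V)) + act (W : SL2 K) (d : V) + (d : V))
            + (-(act (W : SL2 K) (d : V)) - (d : V)) := by abel
      rw [r2, zero_add] at this
      exact this
    rw [hsc, hsw]
    simp only [AddSubgroup.coe_sub, AddSubgroup.coe_neg, map_neg]
    abel

end mod

end Cfsg.Agent.Helper76.Hig
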