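import Mathlib

/-! Transfer evaluation modulo a subgroup, and a criterion for `P/P'` to be elementary abelian
(helper76). -/

set_option autoImplicit false

namespace Cfsg.Agent.Helper76

open MulAction Subgroup

/-- Evaluation of the transfer into the abelianization of `P`, modulo a subgroup `E` of the
target: if every "conjugate inside `P`" differs from the original by an element of `E`, then
the transfer of `x ∈ P` is `φ x ^ index` times an element of `E`. -/
theorem transfer_mem_pow_mul {K : Type*} [Group K] [Finite K] (P : Subgroup K)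
    {A : Type*} [CommGroup A] (φ : P →* A) (E : Subgroup A)
    (hconj : ∀ (g y : K) (hy : y ∈ P) (hw : g⁻¹ * y * g ∈ P),
      ∃ e ∈ E, φ ⟨g⁻¹ * y * g, hw⟩ = φ ⟨y, hy⟩ * e)
    (x : K) (hx : x ∈ P) :
    ∃ e ∈ E, MonoidHom.transfer φ x = φ ⟨x, hx⟩ ^ P.index * e := by
  classical
  let _ : Fintype (Quotient (orbitRel (zpowers x) (K ⧸ P))) := Fintype.ofFinite _
  rw [MonoidHom.transfer_eq_prod_quotient_orbitRel_zpowers_quot]
  have hfac : ∀ q : Quotient (orbitRel (zpowers x) (K ⧸ P)),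
      ∃ e ∈ E, φ ⟨q.out.out⁻¹ * x ^ Function.minimalPeriod (x • ·) q.out * q.out.out,
            QuotientGroup.out_conj_pow_minimalPeriod_mem P x q.out⟩ =
        φ ⟨x, hx⟩ ^ Function.minimalPeriod (x • ·) q.out * e := by
    intro q
    obtain ⟨e, he, h⟩ := hconj q.out.out (x ^ Function.minimalPeriod (x • ·) q.out)
      (P.pow_mem hx _) (QuotientGroup.out_conj_pow_minimalPeriod_mem P x q.out)
    refine ⟨e, he, ?_⟩
    rw [h, ← map_pow]
    rfl
  choose e he hfe using hfac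
  refine ⟨∏ q, e q, Subgroup.prod_mem _ (fun q _ => he q), ?_⟩
  rw [Finset.prod_congr rfl (fun q _ => hfe q), Finset.prod_mul_distrib,
    Finset.prod_pow_eq_pow_sum, ← Subgroup.index_eq_sum_minimalPeriod]

theorem map_subtype_commutator' {K : Type*} [Group K] (P : Subgroup K) :
    (_root_.commutator P).map P.subtype = ⁅P, P⁆ := by
  rw [_root_.commutator_def, Subgroup.map_commutator, ← MonoidHom.range_eq_map,
    Subgroup.range_subtype]

/-- A homomorphism from a group with odd abelianization to a commutative 2-group is trivial. -/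
theorem hom_eq_one_of_odd_abelianization {N A : Type*} [Group N] [Finite N] [CommGroup A]
    (hA : IsPGroup 2 A) (hodd : Odd (Nat.card (Abelianization N))) (f : N →* A) (n : N) :
    f n = 1 := by
  have h1 : f n = Abelianization.lift f (Abelianization.of n) := by simp
  have h2 : (Abelianization.of n) ^ Nat.card (Abelianization N) = 1 := pow_card_eq_one'
  have h3 : f n ^ Nat.card (Abelianization N) = 1 := by
    rw [h1, ← map_pow, h2, map_one]
  obtain ⟨k, hk⟩ := hA (f n)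
  have hcop : Nat.Coprime (2 ^ k) (Nat.card (Abelianization N)) :=
    Nat.Coprime.pow_left k (Nat.coprime_two_left.mpr hodd)
  have := orderOf_dvd_of_pow_eq_one hk
  have h4 := orderOf_dvd_of_pow_eq_one h3
  have : orderOf (f n) = 1 := Nat.eq_one_of_dvd_coprimes hcop this h4
  exact orderOf_eq_one_iff.mp this

/-- The abstract form of the statement, in a group `K = N P`. -/
theorem sq_mem_commutator_of_sup_eq_top {K : Type*} [Group K] [Finite K] (N P : Subgroup K)
    [N.Normal] (hP2 : IsPGroup 2 P) (hidx : Odd P.index) (hsup : N ⊔ P = ⊤)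
    (hP : ∀ x ∈ P, x ^ 2 ∈ (P ⊓ N) ⊔ ⁅P, P⁆)
    (hQ : ∀ x ∈ P ⊓ N, x ^ 2 ∈ ⁅P, P⁆)
    (hodd : Odd (Nat.card (Abelianization N))) :
    ∀ x ∈ P, x ^ 2 ∈ ⁅P, P⁆ := by
  classical
  set φ : P →* Abelianization P := Abelianization.of with hφ
  -- membership in the derived subgroup via φ
  have hker : ∀ (y : K) (hy : y ∈ P), φ ⟨y, hy⟩ = 1 → y ∈ ⁅P, P⁆ := by
    intro y hy h
    have h1 : (⟨y, hy⟩ : P) ∈ _root_.commutator P := by
      rw [← Abelianization.ker_of]; exact h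
    rw [← map_subtype_commutator']
    exact ⟨⟨y, hy⟩, h1, rfl⟩
  have hker' : ∀ (y : K) (hy : y ∈ P), y ∈ ⁅P, P⁆ → φ ⟨y, hy⟩ = 1 := by
    intro y hy h
    rw [← map_subtype_commutator'] at h
    obtain ⟨z, hz, hzy⟩ := h
    have : z = ⟨y, hy⟩ := Subtype.ext hzy
    subst this
    rw [← Abelianization.ker_of] at hz
    exact hz
  -- E = 2-torsion of the abelianization
  set E : Subgroup (Abelianization P) := (powMonoidHom 2 : Abelianization P →* Abelianization P).ker
    with hE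
  have hEmem : ∀ a : Abelianization P, a ∈ E ↔ a ^ 2 = 1 := by
    intro a; rw [hE, MonoidHom.mem_ker]; rfl
  have hQE : ∀ (y : K) (hy : y ∈ P), y ∈ N → φ ⟨y, hy⟩ ∈ E := by
    intro y hy hyN
    rw [hEmem, ← map_pow]
    exact hker' _ _ (hQ y ⟨hy, hyN⟩)
  -- the sup lands in E
  have hsupE : ∀ (y : K) (hy : y ∈ P), y ∈ (P ⊓ N) ⊔ ⁅P, P⁆ → φ ⟨y, hy⟩ ∈ E := by
    intro y hy hmem
    have hle : (P ⊓ N) ⊔ ⁅P, P⁆ ≤ (E.comap φ).map P.subtype := by
      apply sup_le
      · intro z hz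
        exact ⟨⟨z, hz.1⟩, hQE z hz.1 hz.2, rfl⟩
      · intro z hz
        have hzP : z ∈ P := (Subgroup.commutator_le_self P) hz
        refine ⟨⟨z, hzP⟩, ?_, rfl⟩
        show φ ⟨z, hzP⟩ ∈ E
        rw [hker' z hzP hz]
        exact E.one_mem
    obtain ⟨z, hz, hzy⟩ := hle hmem
    have : z = ⟨y, hy⟩ := Subtype.ext hzy
    subst this
    exact hz
  -- the transfer
  set V : K →* Abelianization P := MonoidHom.transfer φ with hV
  have hA2 : IsPGroup 2 (Abelianization P) := hP2.to_quotient _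
  have hVN : ∀ n ∈ N, V n = 1 := by
    intro n hn
    exact hom_eq_one_of_odd_abelianization hA2 hodd (V.comp N.subtype) ⟨n, hn⟩
  have hVc : ∀ y ∈ ⁅P, P⁆, V y = 1 := by
    intro y hy
    have h1 : ⁅P, P⁆ ≤ _root_.commutator K := by
      rw [_root_.commutator_def]
      exact Subgroup.commutator_mono le_top le_top
    exact (Abelianization.commutator_subset_ker V) (h1 hy)
  have hVsup : ∀ y ∈ (P ⊓ N) ⊔ ⁅P, P⁆, V y = 1 := by
    intro y hy
    have hle : (P ⊓ N) ⊔ ⁅P, P⁆ ≤ V.ker := by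
      apply sup_le
      · intro z hz; exact hVN z hz.2
      · intro z hz; exact hVc z hz
    exact hle hy
  -- conjugation changes φ by an element of E
  have hconj : ∀ (g y : K) (hy : y ∈ P) (hw : g⁻¹ * y * g ∈ P),
      ∃ e ∈ E, φ ⟨g⁻¹ * y * g, hw⟩ = φ ⟨y, hy⟩ * e := by
    intro g y hy hw
    have hg : g ∈ N ⊔ P := by rw [hsup]; trivial
    rw [← SetLike.mem_coe, Subgroup.normal_mul] at hg
    obtain ⟨n, hn, u, hu, rfl⟩ := Set.mem_mul.mp hg
    have hy' : u⁻¹ * y * u ∈ P := P.mul_mem (P.mul_mem (P.inv_mem hu) hy) hu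
    have hqP : (n * u)⁻¹ * y * (n * u) * (u⁻¹ * y * u)⁻¹ ∈ P := P.mul_mem hw (P.inv_mem hy')
    have hqN : (n * u)⁻¹ * y * (n * u) * (u⁻¹ * y * u)⁻¹ ∈ N := by
      have h1 : (n * u)⁻¹ * y * (n * u) * (u⁻¹ * y * u)⁻¹ = u⁻¹ * (n⁻¹ * (y * n * y⁻¹)) * u⁻¹⁻¹ := by
        group
      rw [h1]
      apply Subgroup.Normal.conj_mem inferInstance
      exact N.mul_mem (N.inv_mem hn) (Subgroup.Normal.conj_mem inferInstance n hn y)
    refine ⟨φ ⟨_, hqP⟩, hQE _ hqP hqN, ?_⟩
    have h2 : φ ⟨u⁻¹ * y * u, hy'⟩ = φ ⟨y, hy⟩ := by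
      have : (⟨u⁻¹ * y * u, hy'⟩ : P) = (⟨u, hu⟩ : P)⁻¹ * ⟨y, hy⟩ * ⟨u, hu⟩ := rfl
      rw [this, map_mul, map_mul, map_inv]
      exact inv_mul_cancel_comm _ _
    rw [← h2, mul_comm, ← map_mul]
    congr 1
    apply Subtype.ext
    show (n * u)⁻¹ * y * (n * u) = (n * u)⁻¹ * y * (n * u) * (u⁻¹ * y * u)⁻¹ * (u⁻¹ * y * u)
    group
  intro x hx
  obtain ⟨e, heE, hVx⟩ := transfer_mem_pow_mul P φ E hconj x hx
  apply hker _ (P.pow_mem hx 2)
  -- V(x^2) = 1
  have h1 : V (x ^ 2) = 1 := hVsup _ (hP x hx)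
  rw [map_pow, hVx, mul_pow, (hEmem e).mp heE, mul_one, ← pow_mul, mul_comm, pow_mul, ← map_pow] at h1
  have h2 : φ (⟨x, hx⟩ ^ 2) ^ 2 = 1 := (hEmem _).mp (hsupE _ (P.pow_mem hx 2) (hP x hx))
  obtain ⟨m, hm⟩ := hidx
  rw [hm, pow_succ, pow_mul, h2, one_pow, one_mul] at h1
  exact h1

end Cfsg.Agent.Helper76
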