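import Mathlib
import Cfsg.Agent.Helper76.TransferSq

/-! A normal subgroup of prime index: the derived subgroup of the whole group (helper76). -/

set_option autoImplicit false

namespace Cfsg.Agent.Helper76

open Subgroup
open scoped commutatorElement

/-- If `N` has prime index and `x ∉ N` then `N ⊔ zpowers x = ⊤`. -/
theorem sup_zpowers_eq_top_of_index_prime {P : Type*} [Group P] [Finite P] {p : ℕ}
    (hp : p.Prime) (N : Subgroup P) (hN : N.index = p) (x : P) (hx : x ∉ N) :
    N ⊔ zpowers x = ⊤ := by
  have hlt : N < N ⊔ zpowers x := by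
    refine lt_of_le_of_ne le_sup_left (fun h => hx ?_)
    rw [h]
    exact (le_sup_right : zpowers x ≤ N ⊔ zpowers x) (Subgroup.mem_zpowers x)
  have h1 : (N ⊔ zpowers x).index ∣ p := hN ▸ Subgroup.index_dvd_of_le le_sup_left
  have h2 : (N ⊔ zpowers x).index < p := hN ▸ Subgroup.index_strictAnti hlt
  rcases (Nat.dvd_prime hp).mp h1 with h | h
  · exact Subgroup.index_eq_one.mp h
  · omega

/-- A normal subgroup `D'` such that the images of `N` and `x` in `P ⧸ D'` commute pairwise,
where `N ⊔ zpowers x = ⊤`, contains the derived subgroup. -/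
theorem commutator_le_of_generators_commute {P : Type*} [Group P] (N D' : Subgroup P)
    [D'.Normal] (x : P) (hsup : N ⊔ zpowers x = ⊤)
    (hNN : ∀ a ∈ N, ∀ b ∈ N, a * b * a⁻¹ * b⁻¹ ∈ D')
    (hxN : ∀ b ∈ N, x * b * x⁻¹ * b⁻¹ ∈ D') :
    _root_.commutator P ≤ D' := by
  set π := QuotientGroup.mk' D' with hπ
  have hcomm_iff : ∀ a b : P, π a * π b = π b * π a ↔ a * b * a⁻¹ * b⁻¹ ∈ D' := by
    intro a b
    rw [← QuotientGroup.eq_one_iff, ← commutatorElement_def]
    have : ((⁅a, b⁆ : P) : P ⧸ D') = ⁅π a, π b⁆ := by
      rw [commutatorElement_def, commutatorElement_def]; simp [hπ]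
    rw [this, commutatorElement_eq_one_iff_mul_comm]
  -- x̄ is central
  have hxc : π x ∈ center (P ⧸ D') := by
    have hle : N ⊔ zpowers x ≤ (centralizer ({π x} : Set (P ⧸ D'))).comap π := by
      apply sup_le
      · intro b hb
        rw [Subgroup.mem_comap, Subgroup.mem_centralizer_iff]
        intro h hh
        rw [Set.mem_singleton_iff] at hh
        subst hh
        exact (hcomm_iff x b).mpr (hxN b hb)
      · rw [Subgroup.zpowers_le, Subgroup.mem_comap, Subgroup.mem_centralizer_iff]
        intro h hh
        rw [Set.mem_singleton_iff] at hh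
        subst hh
        rfl
    rw [hsup] at hle
    rw [Subgroup.mem_center_iff]
    intro q
    obtain ⟨g, rfl⟩ := QuotientGroup.mk'_surjective D' q
    have := hle (Subgroup.mem_top g)
    rw [Subgroup.mem_comap, Subgroup.mem_centralizer_iff] at this
    exact (this (π x) rfl).symm
  -- each n̄ is central
  have hnc : ∀ a ∈ N, π a ∈ center (P ⧸ D') := by
    intro a ha
    have hle : N ⊔ zpowers x ≤ (centralizer ({π a} : Set (P ⧸ D'))).comap π := by
      apply sup_le
      · intro b hb
        rw [Subgroup.mem_comap, Subgroup.mem_centralizer_iff]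
        intro h hh
        rw [Set.mem_singleton_iff] at hh
        subst hh
        exact (hcomm_iff a b).mpr (hNN a ha b hb)
      · rw [Subgroup.zpowers_le, Subgroup.mem_comap, Subgroup.mem_centralizer_iff]
        intro h hh
        rw [Set.mem_singleton_iff] at hh
        subst hh
        exact (Subgroup.mem_center_iff.mp hxc (π a))
    rw [hsup] at hle
    rw [Subgroup.mem_center_iff]
    intro q
    obtain ⟨g, rfl⟩ := QuotientGroup.mk'_surjective D' q
    have := hle (Subgroup.mem_top g)
    rw [Subgroup.mem_comap, Subgroup.mem_centralizer_iff] at this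
    exact (this (π a) rfl).symm
  have htop : N ⊔ zpowers x ≤ (center (P ⧸ D')).comap π := by
    apply sup_le
    · intro a ha; exact hnc a ha
    · rw [Subgroup.zpowers_le]; exact hxc
  rw [hsup] at htop
  rw [_root_.commutator_def, Subgroup.commutator_le]
  intro a _ b _
  rw [commutatorElement_def, ← hcomm_iff]
  have := htop (Subgroup.mem_top b)
  rw [Subgroup.mem_comap] at this
  exact (Subgroup.mem_center_iff.mp this (π a))

/-- The key identity: for `N` normal of prime index `p` and `x ∉ N`,
`[P : P'] * |N'| = p * #{n ∈ N | [x, n] ∈ N'}`. -/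
theorem index_commutator_mul_card {P : Type*} [Group P] [Finite P] {p : ℕ} [hp : Fact p.Prime]
    (N : Subgroup P) [N.Normal] (hN : N.index = p) (x : P) (hx : x ∉ N) :
    (_root_.commutator P).index * Nat.card (_root_.commutator N) =
      p * Nat.card {n : N // x * n * x⁻¹ * (n : P)⁻¹ ∈ (_root_.commutator N).map N.subtype} := by
  classical
  set A := Abelianization N with hA
  set ofN : N →* A := Abelianization.of with hof
  have hofs : Function.Surjective ofN := QuotientGroup.mk'_surjective _
  set α : N ≃* N := MulAut.conjNormal x with hα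
  have hαval : ∀ n : N, ((α n : N) : P) = x * n * x⁻¹ := fun n => rfl
  set α' : A ≃* A := α.abelianizationCongr with hα'
  have hα'of : ∀ n : N, α' (ofN n) = ofN (α n) := fun n => abelianizationCongr_of α n
  set δ : A →* A := α'.toMonoidHom / MonoidHom.id A with hδ
  have hδapp : ∀ a : A, δ a = α' a * a⁻¹ := by
    intro a; rw [hδ, MonoidHom.div_apply, div_eq_mul_inv]; rfl
  -- the counted set
  have hS : ∀ n : N, (x * n * x⁻¹ * (n : P)⁻¹ ∈ (_root_.commutator N).map N.subtype) ↔
      n ∈ δ.ker.comap ofN := by
    intro n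
    have h1 : x * n * x⁻¹ * (n : P)⁻¹ = N.subtype (α n * n⁻¹) := by
      simp [hαval]
    rw [h1, Subgroup.mem_map_iff_mem N.subtype_injective, ← Abelianization.ker_of,
      MonoidHom.mem_ker, Subgroup.mem_comap, MonoidHom.mem_ker, hδapp, hα'of, map_mul, map_inv]
  have hcardS : Nat.card {n : N // x * n * x⁻¹ * (n : P)⁻¹ ∈ (_root_.commutator N).map N.subtype}
      = Nat.card (δ.ker.comap ofN) := Nat.card_congr (Equiv.subtypeEquivRight hS)
  rw [hcardS]
  set S := δ.ker.comap ofN with hSdef
  set D := δ.range.comap ofN with hDdef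
  set r := Nat.card δ.range with hr
  have hrpos : 0 < r := Nat.card_pos
  have hSidx : S.index = r := by
    rw [hSdef, Subgroup.index_comap_of_surjective _ hofs, Subgroup.index_ker]
  have hDidx : D.index = δ.range.index := by
    rw [hDdef, Subgroup.index_comap_of_surjective _ hofs]
  -- δ commutes with α'
  have hcommδ : ∀ a : A, α' (δ a) = δ (α' a) := by
    intro a; rw [hδapp, hδapp, map_mul, map_inv]
  -- D is normal in N and contains the commutator subgroup
  have hDn : D.Normal := by
    rw [hDdef]; exact Subgroup.Normal.comap inferInstance ofN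
  have hcND : _root_.commutator N ≤ D := by
    intro m hm
    rw [hDdef, Subgroup.mem_comap]
    rw [← Abelianization.ker_of, MonoidHom.mem_ker] at hm
    rw [show ofN m = 1 from hm]
    exact Subgroup.one_mem _
  set D' := D.map N.subtype with hD'
  have hD'N : D' ≤ N := Subgroup.map_subtype_le D
  have hmemD' : ∀ n : N, (n : P) ∈ D' ↔ n ∈ D := by
    intro n
    exact Subgroup.mem_map_iff_mem N.subtype_injective
  -- D' is normal in P
  have hsup := sup_zpowers_eq_top_of_index_prime hp.out N hN x hx
  have hD'n : D'.Normal := by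
    rw [← Subgroup.normalizer_eq_top_iff, eq_top_iff, ← hsup]
    apply sup_le
    · intro n hn
      apply Subgroup.mem_normalizer_fintype
      intro d hd
      have hdN : d ∈ N := hD'N hd
      have h1 : (⟨d, hdN⟩ : N) ∈ D := (hmemD' ⟨d, hdN⟩).mp hd
      have h2 := hDn.conj_mem ⟨d, hdN⟩ h1 ⟨n, hn⟩
      exact (hmemD' _).mpr h2
    · rw [Subgroup.zpowers_le]
      apply Subgroup.mem_normalizer_fintype
      intro d hd
      have hdN : d ∈ N := hD'N hd
      have h1 : (⟨d, hdN⟩ : N) ∈ D := (hmemD' ⟨d, hdN⟩).mp hd
      have h2 : α ⟨d, hdN⟩ ∈ D := by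
        rw [hDdef, Subgroup.mem_comap] at h1 ⊢
        obtain ⟨a, ha⟩ := h1
        rw [← hα'of, ← ha, hcommδ]
        exact ⟨_, rfl⟩
      exact (hmemD' _).mpr h2
  -- commutator P = D'
  have hle : _root_.commutator P ≤ D' := by
    apply commutator_le_of_generators_commute N D' x hsup
    · intro a ha b hb
      have : (⟨a, ha⟩ : N) * ⟨b, hb⟩ * (⟨a, ha⟩ : N)⁻¹ * (⟨b, hb⟩ : N)⁻¹ ∈ D := by
        apply hcND
        rw [_root_.commutator_def, ← commutatorElement_def]
        exact Subgroup.commutator_mem_commutator (Subgroup.mem_top _) (Subgroup.mem_top _)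
      exact (hmemD' _).mpr this
    · intro b hb
      have : α ⟨b, hb⟩ * (⟨b, hb⟩ : N)⁻¹ ∈ D := by
        rw [hDdef, Subgroup.mem_comap, map_mul, map_inv, ← hα'of, ← hδapp]
        exact ⟨_, rfl⟩
      exact (hmemD' _).mpr this
  have hge : D' ≤ _root_.commutator P := by
    rintro _ ⟨d, hd, rfl⟩
    rw [SetLike.mem_coe, hDdef, Subgroup.mem_comap] at hd
    obtain ⟨a, ha⟩ := hd
    obtain ⟨n, rfl⟩ := hofs a
    rw [hδapp, hα'of, ← map_inv, ← map_mul] at ha
    -- d = (α n * n⁻¹) * m with m ∈ commutator N
    have hm : (α n * n⁻¹)⁻¹ * d ∈ _root_.commutator N := by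
      rw [← Abelianization.ker_of, MonoidHom.mem_ker, map_mul, map_inv]
      rw [show Abelianization.of (α n * n⁻¹) = ofN (α n * n⁻¹) from rfl, ha]
      exact inv_mul_cancel _
    have h1 : N.subtype d = N.subtype (α n * n⁻¹) * N.subtype ((α n * n⁻¹)⁻¹ * d) := by
      rw [← map_mul]; congr 1; group
    rw [h1]
    apply Subgroup.mul_mem
    · have : N.subtype (α n * n⁻¹) = ⁅x, (n : P)⁆ := by
        rw [commutatorElement_def]; simp [hαval]
      rw [this, _root_.commutator_def]
      exact Subgroup.commutator_mem_commutator (Subgroup.mem_top _) (Subgroup.mem_top _)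
    · have h2 : (_root_.commutator N).map N.subtype ≤ _root_.commutator P := by
        rw [map_subtype_commutator', _root_.commutator_def]
        exact Subgroup.commutator_mono le_top le_top
      exact h2 ⟨_, hm, rfl⟩
  have heq : _root_.commutator P = D' := le_antisymm hle hge
  -- arithmetic
  have hidx : (_root_.commutator P).index = δ.range.index * p := by
    rw [heq, hD', Subgroup.index_map_subtype, hDidx, hN]
  have h1 : δ.range.index * r = Nat.card A := Subgroup.index_mul_card _
  have h2 : Nat.card A * Nat.card (_root_.commutator N) = Nat.card N :=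
    Subgroup.index_mul_card (_root_.commutator N)
  have h3 : Nat.card S * r = Nat.card N := by
    rw [← hSidx]; exact Subgroup.card_mul_index S
  have : ((_root_.commutator P).index * Nat.card (_root_.commutator N)) * r
      = (p * Nat.card S) * r := by
    rw [hidx]
    calc δ.range.index * p * Nat.card (_root_.commutator N) * r
        = p * ((δ.range.index * r) * Nat.card (_root_.commutator N)) := by ring
      _ = p * Nat.card N := by rw [h1, h2]
      _ = p * Nat.card S * r := by rw [← h3]; ring
  exact Nat.eq_of_mul_eq_mul_right hrpos this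

end Cfsg.Agent.Helper76
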