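import Cfsg.Agent.Helper70.BTFC
import Cfsg.Agent.Helper79.PrincipalCrit

/-!
Piece (PD1) of helper54's architecture for S4501: a nonprincipal irreducible character of
`q`-power degree of a perfect simple group vanishes on the nontrivial central elements of a Sylow
`q`-subgroup (Burnside).
-/

set_option autoImplicit false

namespace Cfsg.Agent.Helper76.K4

open Cfsg

universe u

variable {G : Type u} [Group G] [Fintype G]

/-- (PD1) a nonprincipal character of `q`-power degree of a simple group vanishes on the
nontrivial central elements of a Sylow `q`-subgroup -/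
theorem vanish_center_sylow [IsSimpleGroup G] (hperf : commutator G = ⊤) (q : ℕ) [Fact q.Prime]
    (χ : IrrCharacter G) (k : ℕ) (hk : 1 ≤ k) (hdeg : charDegree (χ : G → ℂ) = q ^ k)
    (Q : Sylow q G) (z : G) (hz : z ∈ (Q : Subgroup G)) (hz1 : z ≠ 1)
    (hcent : ∀ x ∈ (Q : Subgroup G), x * z = z * x) : (χ : G → ℂ) z = 0 := by
  have hq : q.Prime := Fact.out
  have hχ : χ ≠ Cfsg.Agent.Helper79.principalIrr G := by
    intro h
    have h1 : charDegree (χ : G → ℂ) = 1 := by
      rw [h]; exact Cfsg.Agent.Helper79.charDegree_principalIrr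
    rw [hdeg] at h1
    have h2 : 2 ≤ q ^ k := le_trans hq.two_le (Nat.le_self_pow (by omega) q)
    omega
  have hle : (Q : Subgroup G) ≤ Subgroup.centralizer ({z} : Set G) := by
    intro x hx
    rw [Subgroup.mem_centralizer_iff]
    intro y hy
    rw [Set.mem_singleton_iff] at hy
    rw [hy]; exact (hcent x hx).symm
  have hdvd : (Subgroup.centralizer ({z} : Set G)).index ∣ (Q : Subgroup G).index :=
    Subgroup.index_dvd_of_le hle
  have hnd : ¬ q ∣ (Q : Subgroup G).index := Q.not_dvd_index
  have hcop : Nat.Coprime q (Subgroup.centralizer ({z} : Set G)).index := by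
    rw [hq.coprime_iff_not_dvd]
    exact fun h => hnd (h.trans hdvd)
  apply Cfsg.Agent.Helper70.BT.burnside_vanish hperf χ hχ z hz1
  rw [hdeg]
  exact hcop.pow_left k

end Cfsg.Agent.Helper76.K4
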