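import Cfsg.Agent.Helper76.K4PD1
import Cfsg.Agent.Helper74.DegP
import Cfsg.Agent.Helper82.Brauer43.EpsPlus

/-!
Piece (PD3) of helper54's architecture for S4501, core form: a perfect simple group with an
irreducible character of prime degree `q` has Sylow `q`-subgroups of order `q`; the dichotomy
(PD2) for the given Sylow subgroup is taken as a hypothesis.
-/

set_option autoImplicit false

namespace Cfsg.Agent.Helper76.K4

open Cfsg

universe u

variable {G : Type u} [Group G] [Fintype G]

/-- (PD3), core form: the statement of (PD2) for `Q` is a hypothesis -/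
theorem card_sylow_of_degree_of [IsSimpleGroup G] (hperf : commutator G = ⊤) (q : ℕ)
    [Fact q.Prime] (χ : IrrCharacter G) (hdeg : charDegree (χ : G → ℂ) = q) (Q : Sylow q G)
    (hPD2 : (∀ x ∈ (Q : Subgroup G), ∀ y ∈ (Q : Subgroup G), x * y = y * x) ∨
      (∃ z ∈ (Q : Subgroup G), z ≠ 1 ∧ (∀ x ∈ (Q : Subgroup G), x * z = z * x) ∧
        ‖(χ : G → ℂ) z‖ = (q : ℝ))) :
    Nat.card Q = q := by
  classical
  have hq : q.Prime := Fact.out
  have hvan : ∀ z ∈ (Q : Subgroup G), z ≠ 1 → (∀ x ∈ (Q : Subgroup G), x * z = z * x) →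
      (χ : G → ℂ) z = 0 := fun z hz hz1 hzc =>
    vanish_center_sylow hperf q χ 1 le_rfl (by rw [hdeg, pow_one]) Q z hz hz1 hzc
  have hchar : IsCharacter G (χ : G → ℂ) := Cfsg.Agent.Helper74.irr_isCharacter χ
  have hone : (χ : G → ℂ) 1 = (q : ℂ) := by
    rw [← Cfsg.Agent.Helper74.charDegree_cast hchar, hdeg]
  rcases hPD2 with hab | ⟨z, hz, hz1, hzc, hnorm⟩
  · -- `Q` abelian: `χ` vanishes on `Q \ 1`
    obtain ⟨a, ha⟩ := Cfsg.Agent.Helper82.Brauer43.sum_subgroup_eq_nat (Q : Subgroup G) hchar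
    have hsum : ∑ z : (Q : Subgroup G), (χ : G → ℂ) z = (q : ℂ) := by
      rw [Finset.sum_eq_single (1 : (Q : Subgroup G))]
      · simpa using hone
      · intro b _ hb
        have hb1 : (b : G) ≠ 1 := fun h => hb (Subtype.ext h)
        exact hvan b b.2 hb1 (fun x hx => hab x hx b b.2)
      · intro h; exact absurd (Finset.mem_univ _) h
    rw [hsum] at ha
    have hnat : q = Nat.card (Q : Subgroup G) * a := by exact_mod_cast ha
    have hdvd1 : Nat.card (Q : Subgroup G) ∣ q := ⟨a, hnat⟩
    have hqG : q ∣ Nat.card G := by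
      rw [← hdeg]; exact Cfsg.Agent.Helper74.charDegree_dvd_card χ
    have hdvd2 : q ∣ Nat.card (Q : Subgroup G) := by
      rw [Sylow.card_eq_multiplicity]
      apply dvd_pow_self
      intro h0
      have hpos : 0 < (Nat.card G).factorization q :=
        hq.factorization_pos_of_dvd Nat.card_pos.ne' hqG
      omega
    exact Nat.dvd_antisymm hdvd1 hdvd2
  · exfalso
    rw [hvan z hz hz1 hzc, norm_zero] at hnorm
    have : (q : ℝ) ≠ 0 := by exact_mod_cast hq.ne_zero
    exact this hnorm.symm

end Cfsg.Agent.Helper76.K4
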