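import Cfsg.Agent.Helper76.KleinFourPrincipal
import Cfsg.Prelude.Def_BlockRank
import Cfsg.Agent.Helper77.BlockRank

/-!
# The 2-regular rank of the principal block for Klein four Sylow 2-subgroups
-/

set_option autoImplicit false

namespace Cfsg.Agent.Helper76

open Cfsg
open scoped ComplexConjugate

section Rank

variable {G : Type*} [Group G] [Finite G] {M : Ideal AlgInt}

/-- The sum of the values of a non-principal irreducible character is zero. -/
theorem sum_irr_eq_zero_of_ne_principal [Fintype G] (ζ : IrrCharacter G)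
    (h : ζ ≠ Helper79.principalIrr G) : ∑ g : G, (ζ : G → ℂ) g = 0 := by
  classical
  have h1 := Helper74.irr_orthonormal ζ (Helper79.principalIrr G)
  rw [if_neg h, Helper74.classInner_def] at h1
  have h2 : ∀ g : G, (ζ : G → ℂ) g *
      conj (((Helper79.principalIrr G : IrrCharacter G) : G → ℂ) g) = (ζ : G → ℂ) g := by
    intro g
    show (ζ : G → ℂ) g * conj (1 : ℂ) = _
    rw [map_one, mul_one]
  rw [Finset.sum_congr rfl (fun g _ => h2 g)] at h1
  have h3 : (Nat.card G : ℂ)⁻¹ ≠ 0 := by
    apply inv_ne_zero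
    exact_mod_cast Nat.card_pos.ne'
  exact (mul_eq_zero.1 h1).resolve_left h3

/-- `Σ_g ζ(g) conj(ψ(g)) = #G δ_{ζψ}`. -/
theorem sum_irr_mul_conj [Fintype G] (ζ ψ : IrrCharacter G) [Decidable (ζ = ψ)] :
    ∑ g : G, (ζ : G → ℂ) g * conj ((ψ : G → ℂ) g) = if ζ = ψ then (Nat.card G : ℂ) else 0 := by
  have h1 := Helper74.irr_orthonormal ζ ψ
  rw [Helper74.classInner_def] at h1
  have h3 : (Nat.card G : ℂ) ≠ 0 := by exact_mod_cast Nat.card_pos.ne'
  split_ifs with h
  · rw [if_pos h] at h1
    field_simp at h1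
    rw [h1]
  · rw [if_neg h] at h1
    exact (mul_eq_zero.1 h1).resolve_left (inv_ne_zero h3)

/-- The principal 2-block of a group with Klein four Sylow 2-subgroups and a single class of
involutions has 2-regular rank three. -/
theorem kleinFour_blockRank (hM : IsPModular 2 M) (P : Sylow 2 G)
    (hP : Nat.card P = 4) (hexp : ∀ x : P, x * x = 1)
    (hone : ∀ s t : G, orderOf s = 2 → orderOf t = 2 → IsConj s t) :
    blockRank 2 (principalBlock M G) = 3 := by
  classical
  haveI : Fintype G := Fintype.ofFinite G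
  haveI : Fintype (IrrCharacter G) := Helper74.irrFintype G
  obtain ⟨u, -, hu⟩ := exists_involution_mem_sylow_four P hP hexp
  obtain ⟨ζ₂, ζ₃, ζ₄, ε, hε, h21, h31, h41, h23, h24, h34, hB, hv2, hv3, hv4⟩ :=
    kleinFour_principal_triple hM P hP hexp u hu
  have hmem2 : ζ₂ ∈ principalBlock M G := (hB ζ₂).2 (Or.inr (Or.inl rfl))
  have hmem3 : ζ₃ ∈ principalBlock M G := (hB ζ₃).2 (Or.inr (Or.inr (Or.inl rfl)))
  have hmem4 : ζ₄ ∈ principalBlock M G := (hB ζ₄).2 (Or.inr (Or.inr (Or.inr rfl)))
  set v : IrrCharacter G → (G → ℂ) := fun χ => pRegularPart 2 (χ : G → ℂ) with hv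
  -- the orthogonality relation on elements of odd order
  have horth : ∀ y : G, ¬ 2 ∣ orderOf y →
      1 + (ζ₂ : G → ℂ) y + (ε : ℂ) * (ζ₃ : G → ℂ) y - (ζ₄ : G → ℂ) y = 0 := by
    intro y hy2
    have horth := principal_orthogonality_involution_odd_finset hM u hu y hy2
    have hset : (Set.toFinite (principalBlock M G)).toFinset =
        {Helper79.principalIrr G, ζ₂, ζ₃, ζ₄} := by
      ext χ
      rw [Set.Finite.mem_toFinset, hB χ]
      simp only [Finset.mem_insert, Finset.mem_singleton]
    rw [hset, Finset.sum_insert, Finset.sum_insert, Finset.sum_pair h34, hv2, hv3, hv4] at horth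
    · have h1 : ((Helper79.principalIrr G : IrrCharacter G) : G → ℂ) y *
          ((Helper79.principalIrr G : IrrCharacter G) : G → ℂ) u = 1 := by
        show (1 : ℂ) * 1 = 1
        rw [mul_one]
      rw [h1] at horth
      linear_combination horth
    · simp only [Finset.mem_insert, Finset.mem_singleton]
      rintro (h | h)
      · exact h23 h
      · exact h24 h
    · simp only [Finset.mem_insert, Finset.mem_singleton]
      rintro (h | h | h)
      · exact h21 h.symm
      · exact h31 h.symm
      · exact h41 h.symm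
  -- the relation among the 2-regular parts
  have hrel : v (Helper79.principalIrr G) = -(v ζ₂) - (ε : ℂ) • v ζ₃ + v ζ₄ := by
    funext g
    simp only [hv, Pi.add_apply, Pi.sub_apply, Pi.neg_apply, Pi.smul_apply, smul_eq_mul]
    by_cases hg : 2 ∣ orderOf g
    · rw [Helper77.pRegularPart_of_sing hg, Helper77.pRegularPart_of_sing hg,
        Helper77.pRegularPart_of_sing hg, Helper77.pRegularPart_of_sing hg]
      ring
    · rw [Helper77.pRegularPart_of_reg hg, Helper77.pRegularPart_of_reg hg,
        Helper77.pRegularPart_of_reg hg, Helper77.pRegularPart_of_reg hg]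
      have h1 : ((Helper79.principalIrr G : IrrCharacter G) : G → ℂ) g = 1 := rfl
      rw [h1]
      linear_combination horth g hg
  -- the image set
  have hset : (fun χ : IrrCharacter G => pRegularPart 2 (χ : G → ℂ)) '' principalBlock M G =
      {v (Helper79.principalIrr G), v ζ₂, v ζ₃, v ζ₄} := by
    ext f
    simp only [Set.mem_image, Set.mem_insert_iff, Set.mem_singleton_iff]
    constructor
    · rintro ⟨χ, hχ, rfl⟩
      rcases (hB χ).1 hχ with h | h | h | h <;> rw [h]
      · exact Or.inl rfl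
      · exact Or.inr (Or.inl rfl)
      · exact Or.inr (Or.inr (Or.inl rfl))
      · exact Or.inr (Or.inr (Or.inr rfl))
    · rintro (h | h | h | h)
      · exact ⟨_, (hB _).2 (Or.inl rfl), h.symm⟩
      · exact ⟨_, hmem2, h.symm⟩
      · exact ⟨_, hmem3, h.symm⟩
      · exact ⟨_, hmem4, h.symm⟩
  -- linear independence of `v ζ₂, v ζ₃, v ζ₄`
  have hli : LinearIndependent ℂ ![v ζ₂, v ζ₃, v ζ₄] := by
    rw [Fintype.linearIndependent_iff]
    intro c hc
    rw [Fin.sum_univ_three] at hc
    simp only [Matrix.cons_val_zero, Matrix.cons_val_one, Matrix.cons_val_two,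
      Matrix.head_cons, Matrix.tail_cons] at hc
    set f : G → ℂ := fun g => c 0 * (ζ₂ : G → ℂ) g + c 1 * (ζ₃ : G → ℂ) g +
      c 2 * (ζ₄ : G → ℂ) g with hf
    -- `f` vanishes on odd order elements
    have hodd : ∀ g : G, ¬ 2 ∣ orderOf g → f g = 0 := by
      intro g hg
      have := congrFun hc g
      simp only [hv, Pi.add_apply, Pi.smul_apply, smul_eq_mul, Pi.zero_apply] at this
      rw [Helper77.pRegularPart_of_reg hg, Helper77.pRegularPart_of_reg hg,
        Helper77.pRegularPart_of_reg hg] at this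
      exact this
    -- `f` is constant on even order elements
    set κ : ℂ := c 0 + c 1 * (ε : ℂ) - c 2 with hκ
    have heven : ∀ g : G, 2 ∣ orderOf g → f g = κ := by
      intro g hg
      simp only [hf, hκ]
      rw [principal_apply_even hM P hP hexp hone u hu g hg ζ₂ hmem2,
        principal_apply_even hM P hP hexp hone u hu g hg ζ₃ hmem3,
        principal_apply_even hM P hP hexp hone u hu g hg ζ₄ hmem4, hv2, hv3, hv4]
      ring
    -- the sum of `f` is zero
    have hsum0 : ∑ g : G, f g = 0 := by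
      simp only [hf, Finset.sum_add_distrib, ← Finset.mul_sum]
      rw [sum_irr_eq_zero_of_ne_principal ζ₂ h21, sum_irr_eq_zero_of_ne_principal ζ₃ h31,
        sum_irr_eq_zero_of_ne_principal ζ₄ h41]
      ring
    have hκ0 : κ = 0 := by
      have h1 : ∑ g : G, f g = ∑ g : G, (if 2 ∣ orderOf g then κ else 0) := by
        refine Finset.sum_congr rfl (fun g _ => ?_)
        split_ifs with hg
        · exact heven g hg
        · exact hodd g hg
      rw [hsum0, Finset.sum_ite, Finset.sum_const_zero, add_zero, Finset.sum_const,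
        nsmul_eq_mul] at h1
      have hne : ((Finset.univ.filter (fun g : G => 2 ∣ orderOf g)).card : ℂ) ≠ 0 := by
        have : u ∈ Finset.univ.filter (fun g : G => 2 ∣ orderOf g) := by
          rw [Finset.mem_filter]
          exact ⟨Finset.mem_univ _, by rw [hu]⟩
        have hpos : 0 < (Finset.univ.filter (fun g : G => 2 ∣ orderOf g)).card :=
          Finset.card_pos.2 ⟨u, this⟩
        exact_mod_cast hpos.ne'
      exact (mul_eq_zero.1 h1.symm).resolve_left hne
    have hf0 : ∀ g : G, f g = 0 := by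
      intro g
      by_cases hg : 2 ∣ orderOf g
      · rw [heven g hg, hκ0]
      · exact hodd g hg
    -- extract coefficients
    have hcoef : ∀ ψ : IrrCharacter G, ∑ g : G, f g * conj ((ψ : G → ℂ) g) =
        (c 0 * (if ζ₂ = ψ then (Nat.card G : ℂ) else 0) +
          c 1 * (if ζ₃ = ψ then (Nat.card G : ℂ) else 0)) +
          c 2 * (if ζ₄ = ψ then (Nat.card G : ℂ) else 0) := by
      intro ψ
      rw [← sum_irr_mul_conj ζ₂ ψ, ← sum_irr_mul_conj ζ₃ ψ, ← sum_irr_mul_conj ζ₄ ψ,
        Finset.mul_sum, Finset.mul_sum, Finset.mul_sum, ← Finset.sum_add_distrib,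
        ← Finset.sum_add_distrib]
      refine Finset.sum_congr rfl (fun g _ => ?_)
      simp only [hf]
      ring
    have hz : ∀ ψ : IrrCharacter G, ∑ g : G, f g * conj ((ψ : G → ℂ) g) = 0 := by
      intro ψ
      refine Finset.sum_eq_zero (fun g _ => ?_)
      rw [hf0 g, zero_mul]
    have hG0 : (Nat.card G : ℂ) ≠ 0 := by exact_mod_cast Nat.card_pos.ne'
    have e2 := hcoef ζ₂
    rw [hz ζ₂, if_pos rfl, if_neg h23.symm, if_neg h24.symm, mul_zero, mul_zero, add_zero,
      add_zero] at e2
    have e3 := hcoef ζ₃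
    rw [hz ζ₃, if_pos rfl, if_neg h23, if_neg h34.symm, mul_zero, mul_zero, add_zero,
      zero_add] at e3
    have e4 := hcoef ζ₄
    rw [hz ζ₄, if_pos rfl, if_neg h24, if_neg h34, mul_zero, mul_zero, zero_add,
      zero_add] at e4
    have c0 : c 0 = 0 := (mul_eq_zero.1 e2.symm).resolve_right hG0
    have c1 : c 1 = 0 := (mul_eq_zero.1 e3.symm).resolve_right hG0
    have c2 : c 2 = 0 := (mul_eq_zero.1 e4.symm).resolve_right hG0
    intro i
    fin_cases i
    · exact c0
    · exact c1
    · exact c2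
  -- the span
  have hspan : Submodule.span ℂ ({v (Helper79.principalIrr G), v ζ₂, v ζ₃, v ζ₄} : Set (G → ℂ)) =
      Submodule.span ℂ (Set.range ![v ζ₂, v ζ₃, v ζ₄]) := by
    have hr : Set.range ![v ζ₂, v ζ₃, v ζ₄] = {v ζ₂, v ζ₃, v ζ₄} := by
      ext f
      simp only [Set.mem_range, Set.mem_insert_iff, Set.mem_singleton_iff]
      constructor
      · rintro ⟨i, rfl⟩
        fin_cases i
        · exact Or.inl rfl
        · exact Or.inr (Or.inl rfl)
        · exact Or.inr (Or.inr rfl)
      · rintro (h | h | h)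
        · exact ⟨0, h.symm⟩
        · exact ⟨1, h.symm⟩
        · exact ⟨2, h.symm⟩
    rw [hr]
    apply Submodule.span_insert_eq_span
    rw [hrel]
    have m2 : v ζ₂ ∈ Submodule.span ℂ ({v ζ₂, v ζ₃, v ζ₄} : Set (G → ℂ)) :=
      Submodule.subset_span (Or.inl rfl)
    have m3 : v ζ₃ ∈ Submodule.span ℂ ({v ζ₂, v ζ₃, v ζ₄} : Set (G → ℂ)) :=
      Submodule.subset_span (Or.inr (Or.inl rfl))
    have m4 : v ζ₄ ∈ Submodule.span ℂ ({v ζ₂, v ζ₃, v ζ₄} : Set (G → ℂ)) :=
      Submodule.subset_span (Or.inr (Or.inr rfl))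
    exact Submodule.add_mem _ (Submodule.sub_mem _ (Submodule.neg_mem _ m2)
      (Submodule.smul_mem _ _ m3)) m4
  unfold blockRank
  rw [hset, hspan, finrank_span_eq_card hli]
  simp

end Rank

end Cfsg.Agent.Helper76
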