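import Cfsg.Agent.Helper74.CharComplete

/-!
Piece (F8) for helper78's S4931 (WANTED #9400): a normal subgroup on which an irreducible character
has nonzero sum lies in its kernel.
-/

set_option autoImplicit false

namespace Cfsg.Agent.Helper76.NC

open Cfsg
open scoped ComplexConjugate

universe u

section G

variable {G : Type u} [Group G] [Fintype G]

/-- (F8) a normal subgroup on which an irreducible character has nonzero sum lies in its
kernel. -/
theorem apply_eq_of_sum_ne_zero (K : Subgroup G) [K.Normal] [Fintype K] (χ : IrrCharacter G)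
    (h : ∑ k : K, (χ : G → ℂ) (k : G) ≠ 0) : ∀ k ∈ K, (χ : G → ℂ) k = (χ : G → ℂ) 1 := by
  classical
  obtain ⟨n, ρ, hirr, hχ⟩ := χ.2
  set f : G → ℂ := fun g => if g ∈ K then 1 else 0 with hf
  have hcf : IsClassFunction G f := by
    intro g x
    have h1 : x * g * x⁻¹ ∈ K ↔ g ∈ K := by
      constructor
      · intro hx
        have := (inferInstance : K.Normal).conj_mem _ hx x⁻¹
        simpa [mul_assoc] using this
      · intro hg
        exact (inferInstance : K.Normal).conj_mem _ hg x
    simp only [hf, h1]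
  obtain ⟨c, hc⟩ := Cfsg.Agent.Helper74.schur_scalar ρ hirr
    (Cfsg.Agent.Helper74.classOpIntertwining hcf ρ)
  have hT : Cfsg.Agent.Helper74.classOp f ρ = c • LinearMap.id := hc
  have htr : LinearMap.trace ℂ _ (Cfsg.Agent.Helper74.classOp f ρ) =
      ∑ k : K, (χ : G → ℂ) (k : G) := by
    rw [Cfsg.Agent.Helper74.trace_classOp, hχ]
    simp only [hf, ite_mul, one_mul, zero_mul]
    rw [← Finset.sum_filter]
    rw [Finset.sum_subtype (Finset.univ.filter (fun g => g ∈ K)) (p := fun g => g ∈ K)
      (by simp) (fun g => (χ : G → ℂ) g)]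
  have hc0 : c ≠ 0 := by
    intro h0
    rw [hT, h0, zero_smul, map_zero] at htr
    exact h htr.symm
  intro k0 hk0
  have hk : ρ k0 ∘ₗ Cfsg.Agent.Helper74.classOp f ρ = Cfsg.Agent.Helper74.classOp f ρ := by
    apply LinearMap.ext
    intro v
    simp only [LinearMap.comp_apply, Cfsg.Agent.Helper74.classOp_apply, map_sum, map_smul]
    refine Fintype.sum_equiv (Equiv.mulLeft k0) _ _ (fun g => ?_)
    simp only [Equiv.coe_mulLeft]
    have h1 : f (k0 * g) = f g := by
      have : k0 * g ∈ K ↔ g ∈ K := Subgroup.mul_mem_cancel_left K hk0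
      simp only [hf, this]
    rw [h1, map_mul]
    rfl
  rw [hT] at hk
  have h2 : c • ρ k0 = c • (LinearMap.id : (Fin n → ℂ) →ₗ[ℂ] (Fin n → ℂ)) := by
    rw [LinearMap.comp_smul, LinearMap.comp_id] at hk
    exact hk
  have hρ : ρ k0 = LinearMap.id := smul_right_injective _ hc0 h2
  rw [← hχ]
  show LinearMap.trace ℂ _ (ρ k0) = LinearMap.trace ℂ _ (ρ 1)
  rw [hρ, map_one]
  rfl

end G

end Cfsg.Agent.Helper76.NC
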