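import Cfsg.Agent.Helper75.OnePDivA
import Cfsg.Agent.Helper74.Ito
import Cfsg.Agent.Helper16.Quotient

/-!
Piece (SEP) for helper78's S4931 (WANTED #9400): separation of an element outside `Q` by an
irreducible character of `p'`-degree that is trivial on `Q`, when `A / Q` is an abelian normal
subgroup of `p'`-index.
-/

set_option autoImplicit false

namespace Cfsg.Agent.Helper76.NC

open Cfsg
open scoped ComplexConjugate

universe u

/-- (SEP) separation of an element outside `Q` by an irreducible character of `p'`-degree that is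
trivial on `Q`, when `A / Q` is an abelian normal subgroup of `p'`-index. -/
theorem exists_irr_sep {N₀ : Type u} [Group N₀] [Fintype N₀] (p : ℕ) [Fact p.Prime]
    (Q A : Subgroup N₀) [Q.Normal] [A.Normal] (hQA : Q ≤ A)
    (hab : ∀ a ∈ A, ∀ b ∈ A, a * b * a⁻¹ * b⁻¹ ∈ Q) (hidx : ¬ p ∣ A.index) (x : N₀)
    (hx : x ∉ Q) :
    ∃ θ : IrrCharacter N₀, ¬ p ∣ charDegree (θ : N₀ → ℂ) ∧
      (∀ q ∈ Q, (θ : N₀ → ℂ) q = (θ : N₀ → ℂ) 1) ∧ (θ : N₀ → ℂ) x ≠ (θ : N₀ → ℂ) 1 := by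
  classical
  let _ : Fintype (N₀ ⧸ Q) := Fintype.ofFinite _
  have hx1 : (QuotientGroup.mk x : N₀ ⧸ Q) ≠ 1 := by
    intro h
    exact hx ((QuotientGroup.eq_one_iff x).1 h)
  obtain ⟨ζ, hζ⟩ := Cfsg.Agent.Helper75.exists_irr_apply_ne hx1
  -- the abelian normal subgroup `A / Q`
  set Abar : Subgroup (N₀ ⧸ Q) := A.map (QuotientGroup.mk' Q) with hAbar
  have hAn : Abar.Normal :=
    Subgroup.Normal.map inferInstance _ (QuotientGroup.mk'_surjective Q)
  have hAab : ∀ a ∈ Abar, ∀ b ∈ Abar, a * b = b * a := by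
    rintro _ ⟨a, ha, rfl⟩ _ ⟨b, hb, rfl⟩
    have h1 := hab a ha b hb
    have h2 : (QuotientGroup.mk' Q) (a * b * a⁻¹ * b⁻¹) = 1 :=
      (QuotientGroup.eq_one_iff _).2 h1
    rw [map_mul, map_mul, map_mul, map_inv, map_inv] at h2
    have h3 := mul_inv_eq_one.1 h2
    exact mul_inv_eq_iff_eq_mul.1 h3
  have hindex : Abar.index = A.index := by
    apply Subgroup.index_map_eq _ (QuotientGroup.mk'_surjective Q)
    rw [QuotientGroup.ker_mk']
    exact hQA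
  obtain ⟨n, hn1, hn2⟩ := Cfsg.Agent.Helper74.ito_degree_dvd_index Abar hAab ζ.2
  rw [hindex] at hn2
  refine ⟨Cfsg.Agent.Helper16.inflate Q ζ, ?_, ?_, ?_⟩
  · have h1 : ((Cfsg.Agent.Helper16.inflate Q ζ : IrrCharacter N₀) : N₀ → ℂ) 1 = (n : ℂ) := by
      rw [Cfsg.Agent.Helper16.inflate_coe]
      show (ζ : N₀ ⧸ Q → ℂ) (QuotientGroup.mk (1 : N₀)) = n
      rw [QuotientGroup.mk_one]
      exact hn1
    have h2 := Cfsg.Agent.Helper78.irrChar_one_eq_charDegree (Cfsg.Agent.Helper16.inflate Q ζ).2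
    rw [h1] at h2
    have h3 : n = charDegree ((Cfsg.Agent.Helper16.inflate Q ζ : IrrCharacter N₀) : N₀ → ℂ) := by
      exact_mod_cast h2
    rw [← h3]
    intro hp
    exact hidx (dvd_trans hp hn2)
  · intro q hq
    rw [Cfsg.Agent.Helper16.inflate_coe]
    show (ζ : N₀ ⧸ Q → ℂ) (QuotientGroup.mk q) = (ζ : N₀ ⧸ Q → ℂ) (QuotientGroup.mk (1 : N₀))
    rw [(QuotientGroup.eq_one_iff q).2 hq, QuotientGroup.mk_one]
  · rw [Cfsg.Agent.Helper16.inflate_coe]
    show (ζ : N₀ ⧸ Q → ℂ) (QuotientGroup.mk x) ≠ (ζ : N₀ ⧸ Q → ℂ) (QuotientGroup.mk (1 : N₀))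
    rw [QuotientGroup.mk_one]
    exact hζ

end Cfsg.Agent.Helper76.NC
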