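import Mathlib
import Cfsg.Prelude.Def_Classical
import Cfsg.Agent.Helper45.OddBN.SgDefs

/-!
# (BR3) for S2547 (helper45): `SO_n` of the antidiagonal form embeds into the isometry group of
`quadFormOdd`, and `O = {±1} × SO`
-/

set_option autoImplicit false

namespace Cfsg.Agent.Helper76.OddStBR3

open Matrix Cfsg Cfsg.Agent.Helper5.SuBN Cfsg.Agent.Helper45.OddBN

variable {F : Type*} [Field F]

section form

variable {n : ℕ}

/-- for `σ = id` the antidiagonal form is symmetric -/
theorem hermJ_id_comm (u v : Fin n → F) :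
    hermJ (RingHom.id F) u v = hermJ (RingHom.id F) v u := by
  unfold hermJ
  simp only [RingHom.id_apply]
  rw [← Equiv.sum_comp Fin.revPerm]
  apply Finset.sum_congr rfl
  intro i _
  simp [mul_comm]

theorem hermJ_id_add_add (u v : Fin n → F) :
    hermJ (RingHom.id F) (u + v) (u + v) =
      hermJ (RingHom.id F) u u + 2 * hermJ (RingHom.id F) u v + hermJ (RingHom.id F) v v := by
  have h : hermJ (RingHom.id F) (u + v) (u + v) =
      hermJ (RingHom.id F) u u + hermJ (RingHom.id F) u v + hermJ (RingHom.id F) v u +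
        hermJ (RingHom.id F) v v := by
    unfold hermJ
    simp only [RingHom.id_apply, Pi.add_apply, add_mul, mul_add, Finset.sum_add_distrib]
    ring
  rw [h, hermJ_id_comm v u]; ring

theorem hermJ_id_neg_neg (u v : Fin n → F) :
    hermJ (RingHom.id F) (-u) (-v) = hermJ (RingHom.id F) u v := by
  unfold hermJ
  simp only [RingHom.id_apply, Pi.neg_apply, neg_mul_neg]

/-- polarization -/
theorem preserve_bilin (h2 : (2 : F) ≠ 0) (M : Matrix (Fin n) (Fin n) F)
    (h : ∀ w, hermJ (RingHom.id F) (M *ᵥ w) (M *ᵥ w) = hermJ (RingHom.id F) w w) (u v : Fin n → F) :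
    hermJ (RingHom.id F) (M *ᵥ u) (M *ᵥ v) = hermJ (RingHom.id F) u v := by
  have h1 := h (u + v)
  rw [Matrix.mulVec_add, hermJ_id_add_add, hermJ_id_add_add, h u, h v] at h1
  have h3 : 2 * hermJ (RingHom.id F) (M *ᵥ u) (M *ᵥ v) = 2 * hermJ (RingHom.id F) u v := by
    linear_combination h1
  exact mul_left_cancel₀ h2 h3

theorem rel_of_preserve (M : Matrix (Fin n) (Fin n) F)
    (h : ∀ u v, hermJ (RingHom.id F) (M *ᵥ u) (M *ᵥ v) = hermJ (RingHom.id F) u v) (a b : Fin n) :
    ∑ i, M i a * M (Fin.rev i) b = if a = Fin.rev b then 1 else 0 := by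
  have h1 := h (Pi.single a 1) (Pi.single b 1)
  rw [hermJ_single, hermJ_single_single] at h1
  simpa using h1

theorem det_mul_self_of_rel (M : Matrix (Fin n) (Fin n) F)
    (hrel : ∀ a b : Fin n, ∑ i, M i a * M (Fin.rev i) b = if a = Fin.rev b then 1 else 0) :
    M.det * M.det = 1 := by
  set N : Matrix (Fin n) (Fin n) F := (Mᵀ).submatrix Fin.revPerm Fin.revPerm with hN
  have hNM : N * M = 1 := by
    ext a c
    rw [Matrix.mul_apply]
    have h1 := hrel c (Fin.rev a)
    rw [Fin.rev_rev] at h1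
    rw [Matrix.one_apply]
    have h2 : (if a = c then (1 : F) else 0) = if c = a then 1 else 0 := by
      by_cases hac : a = c
      · rw [if_pos hac, if_pos hac.symm]
      · rw [if_neg hac, if_neg (Ne.symm hac)]
    rw [h2, ← h1]
    apply Finset.sum_congr rfl
    intro i _
    simp only [hN, Matrix.submatrix_apply, Matrix.transpose_apply, Fin.revPerm_apply]
    ring
  have hdet : N.det = M.det := by
    rw [hN, Matrix.det_submatrix_equiv_self, Matrix.det_transpose]
  have h3 := congrArg Matrix.det hNM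
  rw [Matrix.det_mul, Matrix.det_one, hdet] at h3
  exact h3

end form

section bridge

variable (m : ℕ)

/-- (BR3) `SO_n` for the antidiagonal form embeds into the isometry group of `quadFormOdd`, and
`O = {±1} × SO` -/
theorem exists_hom_isometryGroup (h2 : (2 : F) ≠ 0)
    (C : Matrix (Unit ⊕ (Fin m ⊕ Fin m)) (Fin (2 * m + 1)) F)
    (C' : Matrix (Fin (2 * m + 1)) (Unit ⊕ (Fin m ⊕ Fin m)) F)
    (h1 : C * C' = 1) (h1' : C' * C = 1)
    (hQ : ∀ w : Fin (2 * m + 1) → F,
      Cfsg.quadFormOdd m F (C *ᵥ w) = hermJ (RingHom.id F) w w) :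
    ∃ f : SOJ (2 * m + 1) F →* ↥(Cfsg.isometryGroup F (Cfsg.quadFormOdd m F)),
      Function.Injective f ∧
      ∀ o : ↥(Cfsg.isometryGroup F (Cfsg.quadFormOdd m F)),
        ∃ z ∈ Subgroup.center ↥(Cfsg.isometryGroup F (Cfsg.quadFormOdd m F)),
          ∃ g : SOJ (2 * m + 1) F, o = z * f g := by
  -- the unit attached to an element of `SO`
  have hval : ∀ M N : Matrix (Fin (2 * m + 1)) (Fin (2 * m + 1)) F, M * N = 1 →
      (C * M * C') * (C * N * C') = 1 := by
    intro M N hMN
    calc (C * M * C') * (C * N * C') = C * M * (C' * C) * N * C' := by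
          simp only [Matrix.mul_assoc]
      _ = 1 := by rw [h1', Matrix.mul_one, Matrix.mul_assoc C M N, hMN, Matrix.mul_one, h1]
  let U : SOJ (2 * m + 1) F → (Matrix (Unit ⊕ (Fin m ⊕ Fin m)) (Unit ⊕ (Fin m ⊕ Fin m)) F)ˣ :=
    fun g => ⟨C * mat g * C', C * mat g⁻¹ * C', hval _ _ (mul_inv_mat g), hval _ _ (inv_mul_mat g)⟩
  have hUval : ∀ g, ((U g : (Matrix (Unit ⊕ (Fin m ⊕ Fin m)) (Unit ⊕ (Fin m ⊕ Fin m)) F)ˣ) :
      Matrix (Unit ⊕ (Fin m ⊕ Fin m)) (Unit ⊕ (Fin m ⊕ Fin m)) F) = C * mat g * C' := fun g => rfl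
  have hmem : ∀ g, U g ∈ Cfsg.isometryGroup F (Cfsg.quadFormOdd m F) := by
    intro g u v
    show Cfsg.quadFormOdd m F ((C * mat g * C') *ᵥ u) = Cfsg.quadFormOdd m F u
    have hg := g.2 (C' *ᵥ u) (C' *ᵥ u)
    rw [slToMat_apply] at hg
    have e1 : (C * mat g * C') *ᵥ u = C *ᵥ (mat g *ᵥ (C' *ᵥ u)) := by
      rw [Matrix.mulVec_mulVec, Matrix.mulVec_mulVec, Matrix.mul_assoc]
    rw [e1, hQ]
    have e2 : hermJ (RingHom.id F) (mat g *ᵥ (C' *ᵥ u)) (mat g *ᵥ (C' *ᵥ u)) =
        hermJ (RingHom.id F) (C' *ᵥ u) (C' *ᵥ u) := hg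
    rw [e2, ← hQ, Matrix.mulVec_mulVec, h1, Matrix.one_mulVec]
  let f : SOJ (2 * m + 1) F →* ↥(Cfsg.isometryGroup F (Cfsg.quadFormOdd m F)) :=
    { toFun := fun g => ⟨U g, hmem g⟩
      map_one' := by
        apply Subtype.ext
        apply Units.ext
        show C * mat (1 : SOJ (2 * m + 1) F) * C' = 1
        rw [mat_one, Matrix.mul_one, h1]
      map_mul' := by
        intro g h
        apply Subtype.ext
        apply Units.ext
        show C * mat (g * h) * C' = (C * mat g * C') * (C * mat h * C')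
        rw [mat_mul]
        calc C * (mat g * mat h) * C' = C * mat g * (C' * C) * mat h * C' := by
              rw [h1', Matrix.mul_one]; simp only [Matrix.mul_assoc]
          _ = (C * mat g * C') * (C * mat h * C') := by
              simp only [Matrix.mul_assoc] }
  have hfval : ∀ g, (((f g : ↥(Cfsg.isometryGroup F (Cfsg.quadFormOdd m F))) :
      (Matrix (Unit ⊕ (Fin m ⊕ Fin m)) (Unit ⊕ (Fin m ⊕ Fin m)) F)ˣ) :
      Matrix (Unit ⊕ (Fin m ⊕ Fin m)) (Unit ⊕ (Fin m ⊕ Fin m)) F) = C * mat g * C' := fun g => rfl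
  refine ⟨f, ?_, ?_⟩
  · -- injective
    intro g h hgh
    have h3 : C * mat g * C' = C * mat h * C' := by
      rw [← hfval g, ← hfval h, hgh]
    apply mat_injective
    calc mat g = (C' * C) * mat g * (C' * C) := by rw [h1', Matrix.one_mul, Matrix.mul_one]
      _ = C' * (C * mat g * C') * C := by simp only [Matrix.mul_assoc]
      _ = C' * (C * mat h * C') * C := by rw [h3]
      _ = (C' * C) * mat h * (C' * C) := by simp only [Matrix.mul_assoc]
      _ = mat h := by rw [h1', Matrix.one_mul, Matrix.mul_one]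
  · -- covering
    intro o
    set O : Matrix (Unit ⊕ (Fin m ⊕ Fin m)) (Unit ⊕ (Fin m ⊕ Fin m)) F :=
      ((o : (Matrix (Unit ⊕ (Fin m ⊕ Fin m)) (Unit ⊕ (Fin m ⊕ Fin m)) F)ˣ) :
        Matrix (Unit ⊕ (Fin m ⊕ Fin m)) (Unit ⊕ (Fin m ⊕ Fin m)) F) with hO
    have hoQ : ∀ u, Cfsg.quadFormOdd m F (O *ᵥ u) = Cfsg.quadFormOdd m F u := fun u => o.2 u u
    set M : Matrix (Fin (2 * m + 1)) (Fin (2 * m + 1)) F := C' * O * C with hM
    have hCMC : C * M * C' = O := by
      rw [hM]
      calc C * (C' * O * C) * C' = (C * C') * O * (C * C') := by simp only [Matrix.mul_assoc]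
        _ = O := by rw [h1, Matrix.one_mul, Matrix.mul_one]
    have hq : ∀ w, hermJ (RingHom.id F) (M *ᵥ w) (M *ᵥ w) = hermJ (RingHom.id F) w w := by
      intro w
      rw [← hQ, ← hQ, Matrix.mulVec_mulVec]
      have : C * M = O * C := by
        rw [hM]
        calc C * (C' * O * C) = (C * C') * O * C := by simp only [Matrix.mul_assoc]
          _ = O * C := by rw [h1, Matrix.one_mul]
      rw [this, ← Matrix.mulVec_mulVec, hoQ]
    have hbil := preserve_bilin h2 M hq
    have hrel := rel_of_preserve M hbil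
    have hdet := det_mul_self_of_rel M hrel
    rcases mul_self_eq_one_iff.mp hdet with hd | hd
    · -- determinant one
      have hmemM : (⟨M, hd⟩ : Matrix.SpecialLinearGroup (Fin (2 * m + 1)) F) ∈
          SUJ (2 * m + 1) (RingHom.id F) := by
        intro u v
        exact hbil u v
      refine ⟨1, Subgroup.one_mem _, ⟨⟨M, hd⟩, hmemM⟩, ?_⟩
      rw [one_mul]
      apply Subtype.ext
      apply Units.ext
      rw [hfval]
      exact hCMC.symm
    · -- determinant minus one
      have hdn : (-M).det = 1 := by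
        rw [Matrix.det_neg, Fintype.card_fin, hd, pow_succ, pow_mul]
        simp
      have hbiln : ∀ u v, hermJ (RingHom.id F) ((-M) *ᵥ u) ((-M) *ᵥ v) =
          hermJ (RingHom.id F) u v := by
        intro u v
        rw [Matrix.neg_mulVec, Matrix.neg_mulVec, hermJ_id_neg_neg, hbil]
      have hmemM : (⟨-M, hdn⟩ : Matrix.SpecialLinearGroup (Fin (2 * m + 1)) F) ∈
          SUJ (2 * m + 1) (RingHom.id F) := by
        intro u v
        exact hbiln u v
      -- the central isometry `-1`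
      have hzmem : (-1 : (Matrix (Unit ⊕ (Fin m ⊕ Fin m)) (Unit ⊕ (Fin m ⊕ Fin m)) F)ˣ) ∈
          Cfsg.isometryGroup F (Cfsg.quadFormOdd m F) := by
        intro u v
        show Cfsg.quadFormOdd m F ((-1 : Matrix (Unit ⊕ (Fin m ⊕ Fin m)) (Unit ⊕ (Fin m ⊕ Fin m)) F) *ᵥ u) =
          Cfsg.quadFormOdd m F u
        rw [Matrix.neg_mulVec, Matrix.one_mulVec]
        unfold Cfsg.quadFormOdd
        simp only [Pi.neg_apply, neg_mul_neg, neg_sq]
      refine ⟨⟨-1, hzmem⟩, ?_, ⟨⟨-M, hdn⟩, hmemM⟩, ?_⟩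
      · rw [Subgroup.mem_center_iff]
        intro h
        apply Subtype.ext
        apply Units.ext
        show ((h : (Matrix (Unit ⊕ (Fin m ⊕ Fin m)) (Unit ⊕ (Fin m ⊕ Fin m)) F)ˣ) :
            Matrix (Unit ⊕ (Fin m ⊕ Fin m)) (Unit ⊕ (Fin m ⊕ Fin m)) F) * (-1) = (-1) * _
        rw [mul_neg, mul_one, neg_mul, one_mul]
      · apply Subtype.ext
        apply Units.ext
        show O = (-1) * (C * (-M) * C')
        have h5 : (-1 : Matrix (Unit ⊕ (Fin m ⊕ Fin m)) (Unit ⊕ (Fin m ⊕ Fin m)) F) * (C * (-M) * C') =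
            C * M * C' := by
          simp [Matrix.mul_neg, Matrix.neg_mul]
        rw [h5, hCMC]

end bridge

end Cfsg.Agent.Helper76.OddStBR3
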