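import Mathlib
import Cfsg.Agent.Helper99.P4Defs
import Cfsg.Agent.Helper76.P4U2

/-!
Piece (N11) for helper99's S6000 (WANTED #8930): if an odd power of `s • pw u` is scalar then `u = 0`.
-/

set_option autoImplicit false
open scoped MatrixGroups

namespace Cfsg.Agent.Helper76.P4

open Matrix Polynomial Cfsg.Agent.Helper99.P4 Cfsg.Geo

variable {F : Type*} [Field F]

theorem pw_pow_two_mul_add_one (u : V4) (k : ℕ) :
    (pw u : Matrix (Fin 4) (Fin 4) F) ^ (2 * k + 1) = ((sg (eps u u) : F) ^ k) • pw u := by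
  induction k with
  | zero => simp
  | succ k ih =>
    have : 2 * (k + 1) + 1 = (2 * k + 1) + 2 := by ring
    rw [this, pow_add, ih, pow_two, pw_mul_self, Matrix.smul_mul, Matrix.mul_smul, Matrix.mul_one,
      smul_smul, pow_succ]

/-- (N11) -/
theorem pw_zero_of_pow_scalar (h2 : (2 : F) ≠ 0) (s : F) (hs : s ≠ 0) (u : V4) (r : ℕ) (hr : Odd r)
    (z : F) (h : (s • (pw u : Matrix (Fin 4) (Fin 4) F)) ^ r = z • 1) : u = 0 := by
  obtain ⟨k, rfl⟩ := hr
  rw [_root_.smul_pow, pw_pow_two_mul_add_one, smul_smul, ← pw_zero (F := F)] at h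
  have hc : s ^ (2 * k + 1) * (sg (eps u u) : F) ^ k ≠ 0 :=
    mul_ne_zero (pow_ne_zero _ hs) (pow_ne_zero _ (sg_ne_zero _))
  exact (pw_unique h2 _ _ u 0 hc h).1

end Cfsg.Agent.Helper76.P4
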