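import Mathlib
import Cfsg.Agent.Helper99.P4Defs
import Cfsg.Agent.Helper76.P4U2

/-!
Piece (N5) for helper99's S6000 (WANTED #8930): the permutation `σ` of `V4` induced by an element
normalising the Pauli group preserves the commutator pairing `bil`.
-/

set_option autoImplicit false
open scoped MatrixGroups

namespace Cfsg.Agent.Helper76.P4

open Matrix Polynomial Cfsg.Agent.Helper99.P4 Cfsg.Geo

variable {F : Type*} [Field F]

theorem smul_unit_cancel (M : GL (Fin 4) F) (c1 c2 : F)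
    (h : c1 • (M : Matrix (Fin 4) (Fin 4) F) = c2 • (M : Matrix (Fin 4) (Fin 4) F)) : c1 = c2 := by
  have h1 := congrArg (fun X => X * ((M⁻¹ : GL (Fin 4) F) : Matrix (Fin 4) (Fin 4) F)) h
  simp only [Matrix.smul_mul, ← Units.val_mul, mul_inv_cancel, Units.val_one] at h1
  have h2 := congrFun (congrFun h1 0) 0
  simpa using h2

theorem sg_injective (h2 : (2 : F) ≠ 0) (x y : ZMod 2) (h : (sg x : F) = sg y) : x = y := by
  have hne : (1 : F) ≠ -1 := by
    intro h1
    apply h2
    have : (2 : F) = 1 + 1 := by norm_num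
    rw [this]
    nth_rewrite 1 [h1]
    ring
  rcases zmod2_cases x with rfl | rfl <;> rcases zmod2_cases y with rfl | rfl
  · rfl
  · rw [sg_zero, sg_one] at h
    exact absurd h hne
  · rw [sg_zero, sg_one] at h
    exact absurd h.symm hne
  · rfl

theorem lam_ne_zero (g : GL (Fin 4) F) (σ : V4 → V4) (lam : V4 → F)
    (hrel : ∀ v, (g : Matrix (Fin 4) (Fin 4) F) * pw v =
      lam v • (pw (σ v) * (g : Matrix (Fin 4) (Fin 4) F))) (v : V4) : lam v ≠ 0 := by
  intro h0
  have h1 := hrel v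
  rw [h0, zero_smul] at h1
  have h3 : ((g * pwG v : GL (Fin 4) F) : Matrix (Fin 4) (Fin 4) F) = 0 := by
    rw [Units.val_mul, pwG_val, h1]
  have h4 := (g * pwG v).isUnit
  have h5 : IsUnit ((g * pwG v : GL (Fin 4) F) : Matrix (Fin 4) (Fin 4) F) :=
    ⟨g * pwG v, rfl⟩
  rw [h3] at h5
  exact not_isUnit_zero h5

/-- (N5) -/
theorem sigma_bil (h2 : (2 : F) ≠ 0) (g : GL (Fin 4) F) (σ : V4 → V4) (lam : V4 → F)
    (hrel : ∀ v, (g : Matrix (Fin 4) (Fin 4) F) * pw v =
      lam v • (pw (σ v) * (g : Matrix (Fin 4) (Fin 4) F))) (u v : V4) :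
    bil (σ u) (σ v) = bil u v := by
  set G : Matrix (Fin 4) (Fin 4) F := (g : Matrix (Fin 4) (Fin 4) F) with hG
  -- `g * pw a * pw b = (lam a * lam b) • (pw (σ a) * pw (σ b) * g)`
  have key : ∀ a b : V4, G * pw a * pw b = (lam a * lam b) • (pw (σ a) * pw (σ b) * G) := by
    intro a b
    rw [hrel a, Matrix.smul_mul, Matrix.mul_assoc, hrel b, Matrix.mul_smul, smul_smul,
      ← Matrix.mul_assoc]
  have h1 := key u v
  rw [Matrix.mul_assoc, pw_comm u v, Matrix.mul_smul, ← Matrix.mul_assoc, key v u,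
    pw_comm (σ u) (σ v), Matrix.smul_mul, smul_smul, smul_smul] at h1
  have hM : (pw (σ v) * pw (σ u) * G : Matrix (Fin 4) (Fin 4) F) =
      ((pwG (σ v) * pwG (σ u) * g : GL (Fin 4) F) : Matrix (Fin 4) (Fin 4) F) := by
    rw [Units.val_mul, Units.val_mul, pwG_val, pwG_val]
  rw [hM] at h1
  have h3 := smul_unit_cancel _ _ _ h1
  have hu := lam_ne_zero g σ lam hrel u
  have hv := lam_ne_zero g σ lam hrel v
  have h4 : (sg (bil u v) : F) * (lam u * lam v) = (sg (bil (σ u) (σ v)) : F) * (lam u * lam v) := by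
    rw [mul_comm (lam u) (lam v)]
    linear_combination h3
  have h5 := mul_right_cancel₀ (mul_ne_zero hu hv) h4
  exact (sg_injective h2 _ _ h5).symm

end Cfsg.Agent.Helper76.P4
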