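import Mathlib
import Cfsg.Prelude.Def_Blocks
import Cfsg.Prelude.Def_BlockRank
import Cfsg.Agent.Helper76.PRegularBlock
import Cfsg.Agent.Helper76.PRegularDefect

/-!
# `p ^ d * χ⁰` stays in the `ℤ`-span of the block (helper76)

`d` the defect of the `p`-block `B`, `χ⁰` the `p`-regular cut-off of `χ ∈ ℤ B`.
-/

set_option autoImplicit false

namespace Cfsg.Agent.Helper76

open Cfsg
open scoped ComplexConjugate

universe u

/-- For `ξ` in the `p`-block `B` of defect `d`: `p ^ d * ξ` on `p`-regular elements is an integer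
combination of the members of `B`. -/
theorem defect_pow_mul_pRegular_irr_in_block_span {G : Type u} [Group G] [Fintype G] (p : ℕ)
    [hp : Fact p.Prime] (M : Ideal AlgInt) (hM : IsPModular p M) (B : Set (IrrCharacter G))
    (hB : IsPBlock M B) (ξ : IrrCharacter G) (hξ : ξ ∈ B) :
    ∃ m : IrrCharacter G → ℤ, ∀ g : G,
      (p ^ blockDefect p B : ℂ) * (if p ∣ orderOf g then (0 : ℂ) else (ξ : G → ℂ) g)
        = ∑ᶠ ψ ∈ B, (m ψ : ℂ) * (ψ : G → ℂ) g := by
  classical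
  set a := (Nat.card G).factorization p with ha
  set b := (charDegree (ξ : G → ℂ)).factorization p with hb
  set d := blockDefect p B with hd
  have hle : a - b ≤ d := by
    rw [hd]
    unfold blockDefect
    have : sInf ((fun χ : IrrCharacter G => (charDegree (χ : G → ℂ)).factorization p) '' B) ≤ b :=
      Nat.sInf_le (Set.mem_image_of_mem _ hξ)
    omega
  set θ : G → ℂ := fun x : G => if p ∣ orderOf x then (0 : ℂ) else
      ((p ^ (a - b) : ℕ) : ℂ) * (ξ : G → ℂ) x with hθ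
  have hgen : IsGeneralizedCharacter G θ := isGenChar_defect_mul_pRegular p ξ.2
  have hint : ∀ ψ : IrrCharacter G, ∃ n : ℤ, classInner θ (ψ : G → ℂ) = n := fun ψ =>
    Cfsg.Agent.Helper25.isGenChar_inner_int hgen
      (Cfsg.Agent.Helper25.isGenChar_of_isCharacter (Cfsg.Agent.Helper74.irr_isCharacter ψ))
  choose n hn using hint
  refine ⟨fun ψ => (p : ℤ) ^ (d - (a - b)) * n ψ, fun g => ?_⟩
  have h := blockPart_pRegular_cutoff p M hM B hB ξ hξ ((p ^ (a - b) : ℕ) : ℂ) g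
  have hpd : (p : ℂ) ^ d = (p : ℂ) ^ (d - (a - b)) * ((p ^ (a - b) : ℕ) : ℂ) := by
    push_cast
    rw [← pow_add, Nat.sub_add_cancel hle]
  have h2 : (p : ℂ) ^ d * (if p ∣ orderOf g then (0 : ℂ) else (ξ : G → ℂ) g)
      = (p : ℂ) ^ (d - (a - b)) * θ g := by
    rw [hpd]
    simp only [hθ]
    split_ifs <;> ring
  rw [h2]
  have h3 : θ g = ∑ᶠ ψ ∈ B, classInner θ (ψ : G → ℂ) * (ψ : G → ℂ) g := h.symm
  rw [h3, finsum_mem_eq_finite_toFinset_sum _ (Set.toFinite B),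
    finsum_mem_eq_finite_toFinset_sum _ (Set.toFinite B), Finset.mul_sum]
  refine Finset.sum_congr rfl fun ψ _ => ?_
  rw [hn ψ]
  push_cast
  ring

/-- For `χ` in the `ℤ`-span of a `p`-block `B` of defect `d`, `p ^ d * χ` on `p`-regular elements is
again in the `ℤ`-span of `B`. -/
theorem defect_pow_mul_pRegularPart_in_block_span {G : Type u} [Group G] [Fintype G] (p : ℕ)
    [hp : Fact p.Prime] (M : Ideal AlgInt) (hM : IsPModular p M) (B : Set (IrrCharacter G))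
    (hB : IsPBlock M B) (χ : G → ℂ)
    (hχ : ∃ n : IrrCharacter G → ℤ, ∀ g : G, χ g = ∑ᶠ ψ ∈ B, (n ψ : ℂ) * (ψ : G → ℂ) g) :
    ∃ n : IrrCharacter G → ℤ, ∀ g : G,
      (p ^ blockDefect p B : ℂ) * pRegularPart p χ g = ∑ᶠ ψ ∈ B, (n ψ : ℂ) * (ψ : G → ℂ) g := by
  classical
  obtain ⟨n, hn⟩ := hχ
  have hex : ∀ ξ : IrrCharacter G, ∃ m : IrrCharacter G → ℤ, ξ ∈ B → ∀ g : G,
      (p ^ blockDefect p B : ℂ) * (if p ∣ orderOf g then (0 : ℂ) else (ξ : G → ℂ) g)
        = ∑ᶠ ψ ∈ B, (m ψ : ℂ) * (ψ : G → ℂ) g := by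
    intro ξ
    by_cases hξ : ξ ∈ B
    · obtain ⟨m, hm⟩ := defect_pow_mul_pRegular_irr_in_block_span p M hM B hB ξ hξ
      exact ⟨m, fun _ => hm⟩
    · exact ⟨fun _ => 0, fun h => absurd h hξ⟩
  choose m hm using hex
  set S : Finset (IrrCharacter G) := (Set.toFinite B).toFinset with hS
  have hSmem : ∀ ξ, ξ ∈ S ↔ ξ ∈ B := fun ξ => Set.Finite.mem_toFinset _
  refine ⟨fun ψ => ∑ ξ ∈ S, n ξ * m ξ ψ, fun g => ?_⟩
  have hreg : pRegularPart p χ g = if p ∣ orderOf g then (0 : ℂ) else χ g := by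
    unfold pRegularPart IsPRegular
    by_cases h : p ∣ orderOf g
    · rw [if_pos h, if_neg (not_not.2 h)]
    · rw [if_neg h, if_pos h]
  rw [hreg]
  rw [finsum_mem_eq_finite_toFinset_sum _ (Set.toFinite B)]
  -- expand χ
  have h1 : (p ^ blockDefect p B : ℂ) * (if p ∣ orderOf g then (0 : ℂ) else χ g)
      = ∑ ξ ∈ S, (n ξ : ℂ) * ((p ^ blockDefect p B : ℂ) *
          (if p ∣ orderOf g then (0 : ℂ) else (ξ : G → ℂ) g)) := by
    by_cases h : p ∣ orderOf g
    · simp only [if_pos h, mul_zero, Finset.sum_const_zero]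
    · simp only [if_neg h]
      rw [hn g, finsum_mem_eq_finite_toFinset_sum _ (Set.toFinite B), Finset.mul_sum]
      refine Finset.sum_congr rfl fun ξ _ => ?_
      ring
  rw [h1]
  have h2 : ∀ ξ ∈ S, (n ξ : ℂ) * ((p ^ blockDefect p B : ℂ) *
      (if p ∣ orderOf g then (0 : ℂ) else (ξ : G → ℂ) g))
      = ∑ ψ ∈ S, (n ξ : ℂ) * ((m ξ ψ : ℂ) * (ψ : G → ℂ) g) := by
    intro ξ hξ
    rw [hm ξ ((hSmem ξ).1 hξ) g, finsum_mem_eq_finite_toFinset_sum _ (Set.toFinite B),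
      Finset.mul_sum]
  rw [Finset.sum_congr rfl h2, Finset.sum_comm]
  refine Finset.sum_congr rfl fun ψ _ => ?_
  push_cast
  rw [Finset.sum_mul]
  refine Finset.sum_congr rfl fun ξ _ => ?_
  ring

end Cfsg.Agent.Helper76
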