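import Mathlib
import Cfsg.Prelude.Def_Blocks
import Cfsg.Agent.Helper80.Eigen
import Cfsg.Agent.Helper3.ColumnOrth

/-!
# Conjugacy of `p`-regular elements detected by character values modulo `p`

* `character_pow_prime_pow_sub`: `χ(x)^(p^n) ≡ χ(x^(p^n))` modulo `p` (Frobenius congruence).
* `isIntegral_average_character`: `|P|⁻¹ ∑_{u ∈ P} χ(g u)` is an algebraic integer when `g`
  centralizes the finite subgroup `P`.
* `isConj_of_irr_congr_mod_p`: two `p`-regular elements with `χ(g) ≡ χ(h)` modulo `p` for all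
  irreducible `χ` are conjugate.
-/

set_option autoImplicit false

namespace Cfsg.Agent.Helper76

open Module
open scoped ComplexConjugate

/-- Frobenius congruence: `(∑ aᵢ)^(p^n) ≡ ∑ aᵢ^(p^n)` modulo `p` in any commutative ring. -/
theorem sum_pow_prime_pow_sub {R : Type*} [CommRing R] (p : ℕ) [hp : Fact p.Prime] (n : ℕ)
    {ι : Type*} (s : Finset ι) (f : ι → R) :
    ∃ γ : R, (∑ i ∈ s, f i) ^ (p ^ n) - ∑ i ∈ s, f i ^ (p ^ n) = (p : R) * γ := by
  classical
  set I : Ideal R := Ideal.span {(p : R)} with hI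
  have hmem : (∑ i ∈ s, f i) ^ (p ^ n) - ∑ i ∈ s, f i ^ (p ^ n) ∈ I := by
    rw [← Ideal.Quotient.eq_zero_iff_mem]
    rcases subsingleton_or_nontrivial (R ⧸ I) with hs | hnt
    · exact Subsingleton.elim _ _
    · have hp0 : ((p : ℕ) : R ⧸ I) = 0 := by
        have : (Ideal.Quotient.mk I) (p : R) = 0 := by
          rw [Ideal.Quotient.eq_zero_iff_mem]
          exact Ideal.subset_span rfl
        simpa using this
      have hchar : CharP (R ⧸ I) p := (CharP.charP_iff_prime_eq_zero hp.out).mpr hp0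
      rw [map_sub, map_pow, map_sum, map_sum, sum_pow_char_pow]
      simp [map_pow]
  exact Ideal.mem_span_singleton'.mp hmem |>.imp fun γ h => by rw [← h, mul_comm]

/-- A natural number which is `p` times an algebraic integer is divisible by `p`. -/
theorem dvd_of_natCast_eq_mul_algInt {p m : ℕ} (hp : p ≠ 0) (γ : ℂ) (hγ : IsIntegral ℤ γ)
    (h : (m : ℂ) = (p : ℂ) * γ) : p ∣ m := by
  have hpC : (p : ℂ) ≠ 0 := by exact_mod_cast hp
  have hγ' : γ = algebraMap ℚ ℂ ((m : ℚ) / (p : ℚ)) := by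
    have : γ = (m : ℂ) / (p : ℂ) := by rw [h]; field_simp
    rw [this]; simp
  rw [hγ', isIntegral_algebraMap_iff (algebraMap ℚ ℂ).injective] at hγ
  obtain ⟨k, hk⟩ := IsIntegrallyClosed.algebraMap_eq_of_integral hγ
  have hpq : (p : ℚ) ≠ 0 := by exact_mod_cast hp
  have h2 : (m : ℚ) = (k : ℚ) * (p : ℚ) := by
    have : (k : ℚ) = (m : ℚ) / (p : ℚ) := by simpa using hk
    rw [this]; field_simp
  have h3 : (m : ℤ) = k * (p : ℤ) := by exact_mod_cast h2
  have h4 : (p : ℤ) ∣ (m : ℤ) := ⟨k, by rw [h3, mul_comm]⟩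
  exact_mod_cast h4

/-- Frobenius congruence for characters: `χ(x)^(p^n) ≡ χ(x^(p^n))` modulo `p`. -/
theorem character_pow_prime_pow_sub {G : Type*} [Group G] [Finite G] (p : ℕ) [hp : Fact p.Prime]
    (n : ℕ) (χ : G → ℂ) (hχ : Cfsg.IsCharacter G χ) (x : G) :
    ∃ γ : Cfsg.AlgInt, χ x ^ (p ^ n) - χ (x ^ (p ^ n)) = (p : ℂ) * (γ : ℂ) := by
  classical
  obtain ⟨d, ρ, rfl⟩ := hχ
  have ho : 0 < orderOf x := orderOf_pos x
  have hf : (ρ x) ^ orderOf x = 1 := by
    rw [← map_pow, pow_orderOf_eq_one, map_one]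
  obtain ⟨b, μ, -, hμ, htr⟩ := Cfsg.Agent.Helper80.exists_eigen_data (ρ x) (orderOf x) ho hf
  have hint : ∀ i, IsIntegral ℤ (μ i) := fun i =>
    IsIntegral.of_pow ho (by rw [hμ i]; exact isIntegral_one)
  let ν : Fin (Module.finrank ℂ (Fin d → ℂ)) → Cfsg.AlgInt := fun i => ⟨μ i, hint i⟩
  obtain ⟨γ, hγ⟩ := sum_pow_prime_pow_sub (R := Cfsg.AlgInt) p n Finset.univ ν
  refine ⟨γ, ?_⟩
  have h1 : ρ.character x = ∑ i, μ i := by
    have := htr 1
    simp only [pow_one] at this
    exact this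
  have h2 : ρ.character (x ^ (p ^ n)) = ∑ i, μ i ^ (p ^ n) := by
    have := htr (p ^ n)
    rw [← map_pow] at this
    exact this
  rw [h1, h2]
  have h3 := congrArg (fun z : Cfsg.AlgInt => (z : ℂ)) hγ
  simp only [ν] at h3
  push_cast at h3
  exact h3

/-- The average over a finite subgroup `P` of the character values `χ(g u)`, for `g` of finite
order centralizing `P`, is an algebraic integer (it is the trace of `g` on the `P`-fixed points). -/
theorem isIntegral_average_character {G V : Type*} [Group G] [AddCommGroup V] [Module ℂ V]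
    [FiniteDimensional ℂ V] (ρ : Representation ℂ G V) (g : G) (hg : IsOfFinOrder g)
    (P : Subgroup G) [Fintype P] (hcomm : ∀ u ∈ P, g * u = u * g) :
    IsIntegral ℤ ((Fintype.card P : ℂ)⁻¹ * ∑ u : P, ρ.character (g * (u : G))) := by
  classical
  set c : ℂ := (Fintype.card P : ℂ) with hc
  have hc0 : c ≠ 0 := by
    rw [hc]; exact_mod_cast Fintype.card_ne_zero
  set T : Module.End ℂ V := c⁻¹ • ∑ u : P, ρ (u : G) with hT
  set W : Submodule ℂ V := Representation.invariants (MonoidHom.comp ρ P.subtype : Representation ℂ P V) with hW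
  have hWmem : ∀ v, v ∈ W ↔ ∀ u : P, ρ (u : G) v = v := fun v => by
    rw [hW, Representation.mem_invariants]; rfl
  -- T maps into W
  have hTW : ∀ x, T x ∈ W := by
    intro x
    rw [hWmem]
    intro v
    rw [hT, LinearMap.smul_apply, map_smul, LinearMap.sum_apply, map_sum]
    congr 1
    have : ∀ u : P, ρ (v : G) (ρ (u : G) x) = ρ ((v * u : P) : G) x := by
      intro u
      rw [Subgroup.coe_mul, map_mul, Module.End.mul_apply]
    simp_rw [this]
    exact Fintype.sum_equiv (Equiv.mulLeft v) _ _ (fun u => rfl)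
  have hTfix : ∀ w ∈ W, T w = w := by
    intro w hw
    rw [hWmem] at hw
    rw [hT, LinearMap.smul_apply, LinearMap.sum_apply]
    simp_rw [hw]
    rw [Finset.sum_const, Finset.card_univ, ← Nat.cast_smul_eq_nsmul ℂ, smul_smul, ← hc,
      inv_mul_cancel₀ hc0, one_smul]
  have hAW : ∀ w ∈ W, ρ g w ∈ W := by
    intro w hw
    rw [hWmem] at hw ⊢
    intro u
    rw [← Module.End.mul_apply, ← map_mul, ← hcomm u u.2, map_mul, Module.End.mul_apply, hw u]
  set f : Module.End ℂ V := ρ g * T with hf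
  have hfW : ∀ x, f x ∈ W := fun x => hAW _ (hTW x)
  have hfW' : ∀ x ∈ W, f x ∈ W := fun x _ => hfW x
  have htr1 : LinearMap.trace ℂ W (f.restrict hfW') = LinearMap.trace ℂ V f :=
    LinearMap.trace_restrict_eq_of_forall_mem W f hfW hfW'
  have hrestr : f.restrict hfW' = (ρ g).restrict hAW := by
    ext w
    simp only [LinearMap.coe_restrict_apply, hf, Module.End.mul_apply]
    rw [hTfix w w.2]
  obtain ⟨n, hn, hgn⟩ := hg.exists_pow_eq_one
  have hpow : ((ρ g).restrict hAW) ^ n = 1 := by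
    ext w
    rw [Module.End.pow_restrict n hAW]
    simp only [LinearMap.coe_restrict_apply, Module.End.one_apply]
    rw [← map_pow, hgn, map_one, Module.End.one_apply]
  obtain ⟨b, μ, -, hμ, htr⟩ :=
    Cfsg.Agent.Helper80.exists_eigen_data ((ρ g).restrict hAW) n hn hpow
  have h1 := htr 1
  simp only [pow_one] at h1
  have hsum : LinearMap.trace ℂ V f = c⁻¹ * ∑ u : P, ρ.character (g * (u : G)) := by
    rw [hf, hT]
    rw [mul_smul_comm, map_smul, smul_eq_mul, Finset.mul_sum, map_sum]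
    congr 1
    refine Finset.sum_congr rfl fun u _ => ?_
    show LinearMap.trace ℂ V (ρ g * ρ (u : G)) = LinearMap.trace ℂ V (ρ (g * (u : G)))
    rw [map_mul ρ]
  rw [← hsum, ← htr1, hrestr, h1]
  refine IsIntegral.sum _ fun i _ => ?_
  exact IsIntegral.of_pow hn (by rw [hμ i]; exact isIntegral_one)

/-- If `g` is `p`-regular, `u` is a `p`-element commuting with `g`, and `g u` is conjugate to a
`p`-regular element, then `u = 1`. -/
theorem eq_one_of_isConj_mul_of_pRegular {G : Type*} [Group G] (p : ℕ)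
    [hp : Fact p.Prime] (g u z : G) (hcomm : Commute g u) (hg : ¬ p ∣ orderOf g)
    (hz : ¬ p ∣ orderOf z) (hu : ∃ k : ℕ, orderOf u = p ^ k) (hconj : IsConj (g * u) z) :
    u = 1 := by
  obtain ⟨k, hk⟩ := hu
  have ho : orderOf (g * u) = orderOf z := by
    obtain ⟨c, hc⟩ := hconj
    exact SemiconjBy.orderOf_eq _ hc
  have h1 : (g * u) ^ (orderOf z * orderOf g) = 1 := by
    rw [pow_mul, ← ho, pow_orderOf_eq_one, one_pow]
  rw [hcomm.mul_pow, mul_comm (orderOf z), pow_mul g, pow_orderOf_eq_one, one_pow, one_mul] at h1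
  have h2 : orderOf u ∣ orderOf g * orderOf z := orderOf_dvd_of_pow_eq_one h1
  have hcop : Nat.Coprime (p ^ k) (orderOf g * orderOf z) := by
    apply Nat.Coprime.pow_left
    apply Nat.Coprime.mul_right
    · exact (Nat.Prime.coprime_iff_not_dvd hp.out).mpr hg
    · exact (Nat.Prime.coprime_iff_not_dvd hp.out).mpr hz
  rw [hk] at h2
  have h3 : p ^ k = 1 := hcop.eq_one_of_dvd h2
  rw [h3] at hk
  exact orderOf_eq_one_iff.mp hk

/-- `x ^ (p^a) = x' ^ (p^a)` when `x x'⁻¹` is a `p`-element commuting with `x'`. -/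
theorem pow_eq_pow_pRegular_part {G : Type*} [Group G] [Finite G] (p : ℕ) [hp : Fact p.Prime]
    (x x' : G) (hx : (∃ k : ℕ, orderOf (x * x'⁻¹) = p ^ k) ∧ Commute (x * x'⁻¹) x') :
    x ^ (p ^ (Nat.card G).factorization p) = x' ^ (p ^ (Nat.card G).factorization p) := by
  obtain ⟨⟨k, hk⟩, hcomm⟩ := hx
  have hdvd : p ^ k ∣ Nat.card G := hk ▸ orderOf_dvd_natCard _
  have hle : k ≤ (Nat.card G).factorization p :=
    (hp.out.pow_dvd_iff_le_factorization Nat.card_pos.ne').mp hdvd
  have hu : (x * x'⁻¹) ^ (p ^ (Nat.card G).factorization p) = 1 := by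
    apply orderOf_dvd_iff_pow_eq_one.mp
    rw [hk]
    exact pow_dvd_pow p hle
  have hxe : x = (x * x'⁻¹) * x' := by group
  conv_lhs => rw [hxe]
  rw [hcomm.mul_pow, hu, one_mul]

/-- For `p`-regular `x'`, `y'`: conjugacy of the `p^a`-th powers implies conjugacy. -/
theorem isConj_of_isConj_pow_prime_pow {G : Type*} [Group G] [Finite G] (p : ℕ)
    [hp : Fact p.Prime] (a : ℕ) (x' y' : G) (hx : ¬ p ∣ orderOf x') (hy : ¬ p ∣ orderOf y')
    (h : IsConj (x' ^ (p ^ a)) (y' ^ (p ^ a))) : IsConj x' y' := by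
  set N := orderOf x' * orderOf y' with hN
  have hN0 : N ≠ 0 := Nat.mul_ne_zero (orderOf_pos x').ne' (orderOf_pos y').ne'
  have hcop : Nat.Coprime (p ^ a) N := by
    apply Nat.Coprime.pow_left
    apply Nat.Coprime.mul_right
    · exact (Nat.Prime.coprime_iff_not_dvd hp.out).mpr hx
    · exact (Nat.Prime.coprime_iff_not_dvd hp.out).mpr hy
  obtain ⟨m, -, hm⟩ := Nat.exists_mul_mod_eq_of_coprime 1 hcop hN0
  have hmod : p ^ a * m ≡ 1 [MOD N] := hm
  have hx1 : (x' ^ (p ^ a)) ^ m = x' := by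
    rw [← pow_mul]
    conv_rhs => rw [← pow_one x']
    rw [pow_eq_pow_iff_modEq]
    exact hmod.of_dvd (Dvd.intro _ rfl)
  have hy1 : (y' ^ (p ^ a)) ^ m = y' := by
    rw [← pow_mul]
    conv_rhs => rw [← pow_one y']
    rw [pow_eq_pow_iff_modEq]
    exact hmod.of_dvd (Dvd.intro_left _ rfl)
  have := h.pow m
  rwa [hx1, hy1] at this

/-- Two `p`-regular elements whose irreducible character values are all congruent modulo `p`
are conjugate. -/
theorem isConj_of_irr_congr_mod_p {G : Type*} [Group G] [Finite G] (p : ℕ) [hp : Fact p.Prime]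
    (g h : G) (hg : ¬ p ∣ orderOf g) (hh : ¬ p ∣ orderOf h)
    (hcong : ∀ χ : Cfsg.IrrCharacter G, ∃ γ : Cfsg.AlgInt,
      (χ : G → ℂ) g - (χ : G → ℂ) h = (p : ℂ) * (γ : ℂ)) :
    IsConj g h := by
  classical
  by_contra hne
  have : Fintype G := Fintype.ofFinite G
  have : Fintype (Cfsg.IrrCharacter G) := Fintype.ofFinite _
  set C := Subgroup.centralizer ({g} : Set G) with hC
  obtain ⟨P₀⟩ : Nonempty (Sylow p C) := inferInstance
  set P : Subgroup G := (P₀ : Subgroup C).map C.subtype with hP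
  have : Fintype P := Fintype.ofFinite _
  have hPcomm : ∀ u ∈ P, g * u = u * g := by
    rintro _ ⟨c, -, rfl⟩
    exact Subgroup.mem_centralizer_iff.mp c.2 g rfl
  have hPp : ∀ u ∈ P, ∃ k : ℕ, orderOf u = p ^ k := by
    rintro _ ⟨c, hc, rfl⟩
    obtain ⟨k, hk⟩ := (IsPGroup.iff_orderOf.mp P₀.2) ⟨c, hc⟩
    refine ⟨k, ?_⟩
    rw [← hk]
    simp
  have hcardP : Nat.card P = Nat.card (P₀ : Subgroup C) :=
    Subgroup.card_map_of_injective C.subtype_injective
  have hidx : Nat.card (P₀ : Subgroup C) * (P₀ : Subgroup C).index = Nat.card C :=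
    Subgroup.card_mul_index _
  have hnd : ¬ p ∣ (P₀ : Subgroup C).index := P₀.not_dvd_index
  set m := (P₀ : Subgroup C).index with hm
  set c : ℂ := (Fintype.card P : ℂ) with hc
  have hc0 : c ≠ 0 := by
    rw [hc]; exact_mod_cast Fintype.card_ne_zero
  have hcC : (Nat.card C : ℂ) = c * (m : ℂ) := by
    rw [hc, ← Nat.card_eq_fintype_card, hcardP, ← hidx]; push_cast; ring
  choose γ hγ using hcong
  let A : Cfsg.IrrCharacter G → ℂ := fun χ =>
    conj (c⁻¹ * ∑ u : P, (χ : G → ℂ) (g * (u : G)))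
  have hA : ∀ χ, IsIntegral ℤ (A χ) := by
    intro χ
    obtain ⟨n, ρ, -, hρ⟩ := χ.2
    apply map_isIntegral_int (starRingEnd ℂ)
    have := isIntegral_average_character ρ g (isOfFinOrder_of_finite g) P hPcomm
    rw [hρ] at this
    exact this
  have hsum : ∀ z : G, ∑ χ : Cfsg.IrrCharacter G, A χ * (χ : G → ℂ) z
      = c⁻¹ * ∑ u : P, (if IsConj z (g * (u : G)) then
          (Nat.card (Subgroup.centralizer ({z} : Set G)) : ℂ) else 0) := by
    intro z
    have h1 : ∀ χ : Cfsg.IrrCharacter G, A χ * (χ : G → ℂ) z =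
        conj c⁻¹ * ∑ u : P, (χ : G → ℂ) z * conj ((χ : G → ℂ) (g * (u : G))) := by
      intro χ
      simp only [A, map_mul, map_sum]
      rw [mul_assoc, Finset.sum_mul]
      congr 1
      refine Finset.sum_congr rfl fun u _ => mul_comm _ _
    simp_rw [h1]
    rw [← Finset.mul_sum, Finset.sum_comm]
    have h2 : conj c⁻¹ = c⁻¹ := by rw [hc]; simp
    rw [h2]
    congr 1
    refine Finset.sum_congr rfl fun u _ => ?_
    exact Cfsg.Agent.Helper3.column_orthogonality z (g * (u : G))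
  have hg_eval : ∑ u : P, (if IsConj g (g * (u : G)) then
      (Nat.card (Subgroup.centralizer ({g} : Set G)) : ℂ) else 0) = (Nat.card C : ℂ) := by
    rw [Finset.sum_eq_single (1 : P)]
    · have h1 : g * ((1 : P) : G) = g := by simp
      rw [h1, if_pos (IsConj.refl g)]
    · intro u _ hu1
      rw [if_neg]
      intro hcj
      apply hu1
      have : (u : G) = 1 :=
        eq_one_of_isConj_mul_of_pRegular p g u g (hPcomm u u.2) hg hg (hPp u u.2) hcj.symm
      exact Subtype.ext this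
    · intro h; exact absurd (Finset.mem_univ _) h
  have hh_eval : ∑ u : P, (if IsConj h (g * (u : G)) then
      (Nat.card (Subgroup.centralizer ({h} : Set G)) : ℂ) else 0) = 0 := by
    apply Finset.sum_eq_zero
    intro u _
    rw [if_neg]
    intro hcj
    have hu1 : (u : G) = 1 :=
      eq_one_of_isConj_mul_of_pRegular p g u h (hPcomm u u.2) hg hh (hPp u u.2) hcj.symm
    apply hne
    rw [hu1, mul_one] at hcj
    exact hcj.symm
  have hfinal : (m : ℂ) = (p : ℂ) * ∑ χ : Cfsg.IrrCharacter G, A χ * (γ χ : ℂ) := by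
    have e1 := hsum g
    have e2 := hsum h
    rw [hg_eval, hcC] at e1
    rw [hh_eval, mul_zero] at e2
    have e3 : ∑ χ : Cfsg.IrrCharacter G, A χ * ((χ : G → ℂ) g - (χ : G → ℂ) h) = (m : ℂ) := by
      simp_rw [mul_sub]
      rw [Finset.sum_sub_distrib, e1, e2, sub_zero, ← mul_assoc, inv_mul_cancel₀ hc0, one_mul]
    rw [← e3, Finset.mul_sum]
    refine Finset.sum_congr rfl fun χ _ => ?_
    rw [hγ χ]; ring
  have hΓ : IsIntegral ℤ (∑ χ : Cfsg.IrrCharacter G, A χ * (γ χ : ℂ)) := by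
    refine IsIntegral.sum _ fun χ _ => ?_
    exact (hA χ).mul (γ χ).2
  exact hnd (dvd_of_natCast_eq_mul_algInt hp.out.ne_zero _ hΓ hfinal)

end Cfsg.Agent.Helper76
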