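import Mathlib
import Cfsg.Agent.Helper77.PrimeDegDefs
import Cfsg.Agent.Helper74.RestrictIrr
import Cfsg.Agent.Helper74.DegP

/-!
helper76: piece (IP-D) of helper77's plan for S4466 / S4813 (board #5491): an irreducible
character vanishing off a normal subgroup of prime index `l` has degree divisible by `l`.
-/

set_option autoImplicit false

namespace Cfsg.Agent.Helper76.PrimeDegD

open Cfsg Cfsg.Agent.Helper77.PrimeDeg

universe u

theorem prime_dvd_degree_of_vanish {N : Type u} [Group N] [Finite N] (L : Subgroup N) [L.Normal]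
    (l : ℕ) (hl : l.Prime) (hidx : L.index = l) (θ : IrrCharacter N)
    (hv : ∀ x : N, x ∉ L → (θ : N → ℂ) x = 0) : l ∣ charDegree (θ : N → ℂ) := by
  classical
  haveI := Fintype.ofFinite N
  by_contra hnd
  have hcop : (charDegree (θ : N → ℂ)).Coprime L.index := by
    rw [hidx]
    exact ((Nat.Prime.coprime_iff_not_dvd hl).mpr hnd).symm
  obtain ⟨hirr, -⟩ := Cfsg.Agent.Helper74.restrict_irr_of_coprime L θ.2 hcop
  have h1 := Cfsg.Agent.Helper74.irr_inner_self (⟨_, hirr⟩ : IrrCharacter L)
  have h2 := Cfsg.Agent.Helper74.inner_restrict_of_vanOff θ L hv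
  have h3 : (L.index : ℂ) = 1 := by
    rw [← h2]
    exact h1
  have h4 : L.index = 1 := by exact_mod_cast h3
  rw [hidx] at h4
  exact hl.one_lt.ne' h4

end Cfsg.Agent.Helper76.PrimeDegD
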