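import Mathlib
import Cfsg.Agent.Helper77.PrimeDegDefs
import Cfsg.Agent.Helper74.CharBasic
import Cfsg.Agent.Helper79.Linear
import Cfsg.Agent.Helper76.DadeEmbed

/-!
helper76: piece (IP-G) of helper77's plan for S4466 / S4813 (board #5491): two distinct
linear characters of a finite group differ everywhere off some normal subgroup of prime index.
-/

set_option autoImplicit false

namespace Cfsg.Agent.Helper76.PrimeDegG

open Cfsg Cfsg.Agent.Helper77.PrimeDeg

universe u

theorem exists_prime_index_of_linear_ne {N : Type u} [Group N] [Finite N] (lam lam' : IrrCharacter N)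
    (h1 : charDegree (lam : N → ℂ) = 1) (h1' : charDegree (lam' : N → ℂ) = 1) (hne : lam ≠ lam') :
    ∃ (L : Subgroup N) (_ : L.Normal) (l : ℕ), l.Prime ∧ L.index = l ∧
      ∀ x : N, x ∉ L → (lam : N → ℂ) x ≠ (lam' : N → ℂ) x := by
  have hc := Cfsg.Agent.Helper74.irr_isCharacter lam
  have hc' := Cfsg.Agent.Helper74.irr_isCharacter lam'
  have e1 : (lam : N → ℂ) 1 = 1 := by
    rw [← Cfsg.Agent.Helper74.charDegree_cast hc, h1]; simp
  have e1' : (lam' : N → ℂ) 1 = 1 := by
    rw [← Cfsg.Agent.Helper74.charDegree_cast hc', h1']; simp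
  let f : N →* ℂ := Cfsg.Agent.Helper79.linearHom hc e1
  let f' : N →* ℂ := Cfsg.Agent.Helper79.linearHom hc' e1'
  let μ : N →* ℂˣ := f.toHomUnits / f'.toHomUnits
  have hK : ∀ x, x ∈ μ.ker ↔ (lam : N → ℂ) x = (lam' : N → ℂ) x := by
    intro x
    rw [MonoidHom.mem_ker]
    show f.toHomUnits x / f'.toHomUnits x = 1 ↔ _
    rw [div_eq_one, Units.ext_iff, MonoidHom.coe_toHomUnits, MonoidHom.coe_toHomUnits]
    rfl
  have hKtop : μ.ker ≠ ⊤ := by
    intro h
    apply hne
    apply Subtype.ext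
    funext x
    exact (hK x).mp (h ▸ Subgroup.mem_top x)
  haveI hsol : Group.IsSolvable (N ⧸ μ.ker) :=
    Group.isSolvable_of_isSolvable_injective (QuotientGroup.kerLift_injective μ)
  haveI hnt : Nontrivial (N ⧸ μ.ker) := by
    rw [← Finite.one_lt_card_iff_nontrivial, ← Subgroup.index_eq_card]
    have h1 : μ.ker.index ≠ 1 := fun h => hKtop (Subgroup.index_eq_one.mp h)
    have h0 : μ.ker.index ≠ 0 := Subgroup.index_ne_zero_of_finite
    omega
  obtain ⟨M, hMn, hMp⟩ := Cfsg.Agent.Helper76.dade_exists_normal_prime_index (G := N ⧸ μ.ker)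
  refine ⟨M.comap (QuotientGroup.mk' μ.ker), hMn.comap _, M.index, hMp,
    Subgroup.index_comap_of_surjective M (QuotientGroup.mk'_surjective _), ?_⟩
  intro x hx hxe
  apply hx
  rw [Subgroup.mem_comap]
  have : QuotientGroup.mk' μ.ker x = 1 := by
    rw [QuotientGroup.mk'_apply, QuotientGroup.eq_one_iff]
    exact (hK x).mpr hxe
  rw [this]
  exact M.one_mem

end Cfsg.Agent.Helper76.PrimeDegG
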