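import Mathlib
import Cfsg.Prelude.Def_Blocks
import Cfsg.Agent.Helper78.IrrBasic
import Cfsg.Agent.Helper79.Linear
import Cfsg.Agent.Helper80.Degree
import Cfsg.Agent.Helper74.CharComplete
import Cfsg.Agent.Helper76.CharCentral
import Cfsg.Agent.Helper15.IndChar

set_option autoImplicit false

namespace Cfsg.Agent.Helper76

open Cfsg
open scoped ComplexConjugate

/-- A finite group with a faithful irreducible character of prime degree `p` and order divisible
by `p ^ 2` has nontrivial centre. -/
theorem center_ne_bot_of_faithful_prime_degree {G : Type*} [Group G] [Finite G] (p : ℕ)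
    (hp : p.Prime) (χ : Cfsg.IrrCharacter G) (hdeg : χ.1 1 = p)
    (hfaith : ∀ g : G, χ.1 g = χ.1 1 → g = 1) (hdiv : p ^ 2 ∣ Nat.card G) :
    Subgroup.center G ≠ ⊥ := by
  classical
  have : Fact p.Prime := ⟨hp⟩
  intro hZ
  have hcd : Cfsg.charDegree (χ : G → ℂ) = p := by
    unfold Cfsg.charDegree
    rw [hdeg]; simp
  have P : Sylow p G := default
  set Q : Subgroup G := (P : Subgroup G) with hQ
  -- Burnside's vanishing lemma on the centre of `P`
  have hA : ∀ z : G, z ∈ Q → (∀ y ∈ Q, y * z = z * y) → z ≠ 1 → χ.1 z = 0 := by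
    intro z hzP hzc hz1
    have hle : Q ≤ Subgroup.centralizer {z} := by
      intro y hy
      rw [Subgroup.mem_centralizer_iff]
      intro w hw
      rw [Set.mem_singleton_iff] at hw
      subst hw
      exact (hzc y hy).symm
    have hcop : Nat.Coprime (Subgroup.centralizer {z}).index (Cfsg.charDegree (χ : G → ℂ)) := by
      rw [hcd]
      have h1 : (Subgroup.centralizer {z}).index ∣ Q.index :=
        Subgroup.index_dvd_of_le hle
      have h2 : ¬ p ∣ Q.index := P.not_dvd_index
      exact Nat.Coprime.symm ((Nat.Prime.coprime_iff_not_dvd hp).2 (fun h => h2 (h.trans h1)))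
    rcases Cfsg.Agent.Helper78.irrChar_eq_zero_or_central_of_coprime χ.2 z hcop with h | h
    · exact h
    · exfalso
      apply hz1
      have hzc : z ∈ Subgroup.center G := by
        rw [Subgroup.mem_center_iff]
        intro g
        have h1 := hfaith _ (h g)
        have h2 : z * g * z⁻¹ * g⁻¹ * (g * z) = g * z := by rw [h1, one_mul]
        rw [← h2]; group
      rw [hZ] at hzc
      exact Subgroup.mem_bot.1 hzc
  -- the order of `P`
  have hPcard : Nat.card Q = p ^ (Nat.card G).factorization p := P.card_eq_multiplicity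
  have hGpos : Nat.card G ≠ 0 := Nat.card_pos.ne'
  have h2le : 2 ≤ (Nat.card G).factorization p :=
    (hp.pow_dvd_iff_le_factorization hGpos).1 hdiv
  have hp2 : p ^ 2 ∣ Nat.card Q := by
    rw [hPcard]; exact pow_dvd_pow p h2le
  have hPpos : 0 < Nat.card Q := Nat.card_pos
  have hple : p ^ 2 ≤ Nat.card Q := Nat.le_of_dvd hPpos hp2
  have hp1 : 1 < p := hp.one_lt
  -- the restriction of `χ` to `P`
  set ψ : Q → ℂ := fun x => χ.1 x with hψdef
  have hψ : IsCharacter Q ψ :=
    Cfsg.Agent.Helper74.isCharacter_restrict Q (Cfsg.Agent.Helper74.irr_isCharacter χ)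
  let _ : Fintype Q := Fintype.ofFinite Q
  let _ := Cfsg.Agent.Helper74.irrFintype Q
  have hdec := Cfsg.Agent.Helper74.isCharacter_eq_sum_irr hψ
  choose m hm using fun θ => Cfsg.Agent.Helper74.isCharacter_inner_irr_nat hψ θ
  have hval : ∀ x : Q, ψ x = ∑ θ : IrrCharacter Q, (m θ : ℂ) * (θ : Q → ℂ) x := by
    intro x
    have := congrFun hdec x
    rw [Finset.sum_apply] at this
    rw [this]
    refine Finset.sum_congr rfl fun θ _ => ?_
    rw [Pi.smul_apply, smul_eq_mul, hm θ]
  set d : IrrCharacter Q → ℕ := fun θ => Cfsg.charDegree (θ : Q → ℂ) with hd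
  have hθ1 : ∀ θ : IrrCharacter Q, (θ : Q → ℂ) 1 = (d θ : ℂ) := fun θ =>
    Cfsg.Agent.Helper78.irrChar_one_eq_charDegree θ.2
  have hdpos : ∀ θ : IrrCharacter Q, 0 < d θ := fun θ =>
    Cfsg.Agent.Helper78.charDegree_pos_of_isIrrCharacter θ.2
  have hddvd : ∀ θ : IrrCharacter Q, d θ ∣ Nat.card Q := fun θ =>
    Cfsg.Agent.Helper80.IsIrrCharacter.charDegree_dvd_card θ.2
  have hsum : p = ∑ θ : IrrCharacter Q, m θ * d θ := by
    have h1 := hval 1
    have h2 : ψ 1 = (p : ℂ) := by
      show χ.1 ((1 : Q) : G) = p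
      rw [Subgroup.coe_one]; exact hdeg
    rw [h2] at h1
    simp_rw [hθ1] at h1
    exact_mod_cast h1
  by_cases hex : ∃ θ : IrrCharacter Q, m θ ≠ 0 ∧ p ∣ d θ
  · -- `ψ` is irreducible
    obtain ⟨θ, hmθ, hpd⟩ := hex
    have hle1 : m θ * d θ ≤ p := by
      rw [hsum]
      exact Finset.single_le_sum (f := fun θ => m θ * d θ) (fun _ _ => Nat.zero_le _)
        (Finset.mem_univ θ)
    have hdge : p ≤ d θ := Nat.le_of_dvd (hdpos θ) hpd
    have hm1 : m θ = 1 := by
      by_contra hne
      have : 2 ≤ m θ := by omega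
      have : 2 * p ≤ m θ * d θ := Nat.mul_le_mul this hdge
      omega
    have hdp : d θ = p := by
      rw [hm1, one_mul] at hle1
      omega
    have hrest : ∀ θ' : IrrCharacter Q, θ' ≠ θ → m θ' = 0 := by
      intro θ' hne
      have h1 : ∑ θ'' ∈ Finset.univ.erase θ, m θ'' * d θ'' = 0 := by
        have := Finset.add_sum_erase Finset.univ (fun θ => m θ * d θ) (Finset.mem_univ θ)
        rw [← hsum, hm1, hdp, one_mul] at this
        omega
      have h2 := (Finset.sum_eq_zero_iff.1 h1) θ' (Finset.mem_erase.2 ⟨hne, Finset.mem_univ _⟩)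
      rcases Nat.mul_eq_zero.1 h2 with h | h
      · exact h
      · exact absurd h (hdpos θ').ne'
    have hψθ : ∀ x : Q, ψ x = (θ : Q → ℂ) x := by
      intro x
      rw [hval x, Finset.sum_eq_single θ]
      · rw [hm1]; simp
      · intro θ' _ hne
        rw [hrest θ' hne]; simp
      · intro h; exact absurd (Finset.mem_univ _) h
    -- a nontrivial central element of `P`
    have hPg : IsPGroup p Q := P.isPGroup'
    have hnt : Nontrivial Q := by
      rw [← Finite.one_lt_card_iff_nontrivial]
      calc 1 < p ^ 2 := Nat.one_lt_pow (by norm_num) hp1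
        _ ≤ Nat.card Q := hple
    have hcn : Nontrivial (Subgroup.center Q) := hPg.center_nontrivial
    obtain ⟨z, hz⟩ := exists_ne (1 : Subgroup.center Q)
    obtain ⟨c, hc⟩ := irr_exists_central_scalar θ.2 (z : Q) z.2
    have hpow : ∀ n : ℕ, (θ : Q → ℂ) ((z : Q) ^ n) = c ^ n * (θ : Q → ℂ) 1 := by
      intro n
      induction n with
      | zero => simp
      | succ n ih => rw [pow_succ', hc, ih, pow_succ']; ring
    have hcN : c ^ Nat.card Q = 1 := by
      have := hpow (Nat.card Q)
      rw [pow_card_eq_one', hθ1, hdp] at this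
      have hp0 : (p : ℂ) ≠ 0 := by exact_mod_cast hp.ne_zero
      have h3 : (1 : ℂ) * (p : ℂ) = c ^ Nat.card Q * (p : ℂ) := by rw [one_mul]; exact this
      exact (mul_right_cancel₀ hp0 h3).symm
    have hc0 : c ≠ 0 := by
      intro h0
      rw [h0, zero_pow hPpos.ne'] at hcN
      exact zero_ne_one hcN
    have hz0 : (θ : Q → ℂ) (z : Q) ≠ 0 := by
      have := hc 1
      rw [mul_one] at this
      rw [this, hθ1, hdp]
      exact mul_ne_zero hc0 (by exact_mod_cast hp.ne_zero)
    apply hz0
    rw [← hψθ]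
    show χ.1 (((z : Q) : G)) = 0
    apply hA
    · exact (z : Q).2
    · intro y hy
      have := Subgroup.mem_center_iff.1 z.2 ⟨y, hy⟩
      exact congrArg Subtype.val this
    · intro h1
      apply hz
      apply Subtype.ext
      apply Subtype.ext
      exact h1
  · -- all constituents linear: `P` is abelian
    push Not at hex
    have hlin : ∀ θ : IrrCharacter Q, m θ ≠ 0 → (θ : Q → ℂ) 1 = 1 := by
      intro θ hmθ
      have h1 := hex θ hmθ
      have h2 := hddvd θ
      rw [hPcard] at h2
      obtain ⟨j, -, hj⟩ := (Nat.dvd_prime_pow hp).1 h2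
      have hj0 : j = 0 := by
        by_contra hne
        apply h1
        rw [hj]
        exact dvd_pow_self p hne
      rw [hθ1, hj, hj0]; simp
    have hcomm : ∀ u : Q, u ∈ commutator Q → u = 1 := by
      intro u hu
      have h1 : ψ u = ψ 1 := by
        rw [hval u, hval 1]
        refine Finset.sum_congr rfl fun θ _ => ?_
        by_cases hmθ : m θ = 0
        · rw [hmθ]; simp
        · rw [Cfsg.Agent.Helper79.isCharacter_linear_commutator
            (Cfsg.Agent.Helper74.irr_isCharacter θ) (hlin θ hmθ) hu, hlin θ hmθ]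
      have h2 : (u : G) = 1 := hfaith _ (by
        show χ.1 (u : G) = χ.1 1
        have : ψ 1 = χ.1 1 := by
          show χ.1 ((1 : Q) : G) = χ.1 1
          rw [Subgroup.coe_one]
        rw [← this, ← h1])
      exact Subtype.ext h2
    have hab : ∀ x y : Q, x * y = y * x := by
      intro x y
      have hmem : x * y * x⁻¹ * y⁻¹ ∈ commutator Q := Subgroup.commutator_mem_commutator
        (Subgroup.mem_top x) (Subgroup.mem_top y)
      have := hcomm _ hmem
      have h2 : x * y * x⁻¹ * y⁻¹ * (y * x) = y * x := by rw [this, one_mul]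
      rw [← h2]; group
    have hvan : ∀ x : Q, x ≠ 1 → ψ x = 0 := by
      intro x hx
      show χ.1 (x : G) = 0
      apply hA
      · exact x.2
      · intro y hy
        exact congrArg Subtype.val (hab ⟨y, hy⟩ x)
      · intro h1
        exact hx (Subtype.ext h1)
    obtain ⟨n, hn⟩ := Cfsg.Agent.Helper15.isCharacter_inner_nat hψ
      (Cfsg.Agent.Helper74.irr_isCharacter (Cfsg.Agent.Helper79.principalIrr Q))
    unfold Cfsg.classInner at hn
    rw [Finset.sum_eq_single (1 : Q)] at hn
    · have h2 : ψ 1 = (p : ℂ) := by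
        show χ.1 ((1 : Q) : G) = p
        rw [Subgroup.coe_one]; exact hdeg
      rw [h2] at hn
      have h3 : (Cfsg.Agent.Helper79.principalIrr Q : Q → ℂ) 1 = 1 := rfl
      rw [h3, map_one, mul_one] at hn
      have hP0 : (Nat.card Q : ℂ) ≠ 0 := by exact_mod_cast hPpos.ne'
      have h4 : (p : ℂ) = (n : ℂ) * (Nat.card Q : ℂ) := by
        rw [← hn]; field_simp
      have h5 : p = n * Nat.card Q := by exact_mod_cast h4
      have hn0 : n ≠ 0 := by
        intro h0
        rw [h0, zero_mul] at h5
        exact hp.ne_zero h5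
      have : Nat.card Q ≤ p := by
        rw [h5]
        exact Nat.le_mul_of_pos_left _ (Nat.pos_of_ne_zero hn0)
      have : p ^ 2 ≤ p := hple.trans this
      nlinarith
    · intro x _ hx
      rw [hvan x hx, zero_mul]
    · intro h; exact absurd (Finset.mem_univ _) h

end Cfsg.Agent.Helper76
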