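import Cfsg.Agent.Helper90.PronBU1.Defs

/-!
# (M8) of helper90's BU1 farm (#15500, S2225/S2226): a diagonal element normalising `P0` is a scalar
times an element of `P0`
-/

set_option autoImplicit false

namespace Cfsg.Agent.Helper76.Pron

open Matrix Cfsg.Agent.Helper99.Pron Cfsg.Agent.Helper90.Pron

section group

variable {F : Type*} [Field F] {q : ℕ} (hq : ∀ l : Fˣ, fr q (fr q l) = l)

/-- (M8) a diagonal normalising element is a scalar times an element of `P0`: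
`x * ag 1 1 * x⁻¹ = ag (x1 * x2⁻¹) (x2 * x1⁻¹) ∈ P0`, so `ρ = x1 * x2⁻¹ ∈ Lam2 F` and
`fr q ρ = ρ⁻¹` (`dg_ne_ag`, `ag_injective`); `ρ = μ * (fr q μ)⁻¹` by `hsurj`;
`x = sc (x1 * μ⁻¹) * dg μ (fr q μ)` (`sc_eq_dg`, `dg_mul_dg`). -/
theorem diag_normalizer
    (hsurj : ∀ ρ : Fˣ, ρ ∈ Lam2 F → fr q ρ = ρ⁻¹ → ∃ μ : Fˣ, μ ∈ Lam2 F ∧ μ * (fr q μ)⁻¹ = ρ)
    (x1 x2 : Fˣ) (hx : dg x1 x2 ∈ Subgroup.normalizer (P0 q hq : Set (GL (Fin 2) F))) :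
    ∃ c : Fˣ, ∃ p ∈ P0 q hq, dg x1 x2 = sc c * p := by
  have h1 : dg x1 x2 * ag 1 1 * (dg x1 x2)⁻¹ ∈ P0 q hq :=
    (Subgroup.mem_normalizer_iff.mp hx (ag 1 1)).mp (tau_mem_P0 hq)
  rw [dg_inv, dg_mul_ag, ag_mul_dg, mul_one, mul_one] at h1
  obtain ⟨l, hl, h | h⟩ := mem_P0.mp h1
  · exact absurd h.symm (dg_ne_ag _ _ _ _)
  · obtain ⟨e1, e2⟩ := ag_injective _ _ _ _ h
    have hρ : x1 * x2⁻¹ ∈ Lam2 F := e1 ▸ hl
    have hfix : fr q (x1 * x2⁻¹) = (x1 * x2⁻¹)⁻¹ := by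
      rw [e1, ← e2, ← e1, _root_.mul_inv_rev, inv_inv]
    obtain ⟨μ, hμ, hμρ⟩ := hsurj _ hρ hfix
    refine ⟨x1 * μ⁻¹, dg μ (fr q μ), dg_mem_P0 hq hμ, ?_⟩
    rw [sc_eq_dg, dg_mul_dg]
    have hfr : fr q μ = μ * (x1 * x2⁻¹)⁻¹ := by
      rw [← hμρ, _root_.mul_inv_rev, inv_inv, mul_comm (fr q μ), mul_inv_cancel_left]
    have hA : x1 * μ⁻¹ * μ = x1 := by rw [inv_mul_cancel_right]
    have hB : x1 * μ⁻¹ * fr q μ = x2 := by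
      rw [hfr, _root_.mul_inv_rev, inv_inv]
      calc x1 * μ⁻¹ * (μ * (x2 * x1⁻¹)) = x2 * (x1 * x1⁻¹) * (μ⁻¹ * μ) := by
            simp only [mul_comm, mul_left_comm, mul_assoc]
        _ = x2 := by rw [mul_inv_cancel, inv_mul_cancel, mul_one, mul_one]
    rw [hA, hB]

end group

end Cfsg.Agent.Helper76.Pron
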