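import Mathlib

/-!
# (F1A) of helper99's S2225/S2226 block II farm (#15357): a `2`-subgroup whose normaliser is
(odd central) × itself is a Sylow `2`-subgroup
-/

set_option autoImplicit false

namespace Cfsg.Agent.Helper76.Pron

open scoped Pointwise

/-- a subgroup of the centre is normal -/
theorem F1A_normal_of_le_center {G : Type*} [Group G] (Z₀ : Subgroup G)
    (hZ : Z₀ ≤ Subgroup.center G) : Z₀.Normal := by
  refine ⟨fun n hn g => ?_⟩
  have h := Subgroup.mem_center_iff.mp (hZ hn) g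
  rw [h, mul_inv_cancel_right]
  exact hn

/-- an element of `2`-power order in a subgroup of odd order is trivial -/
theorem F1A_eq_one_of_two_pow_of_odd {G : Type*} [Group G] (Z₀ : Subgroup G) [Finite Z₀]
    (hodd : Odd (Nat.card Z₀)) (z : G) (hz : z ∈ Z₀) (k : ℕ) (hk : z ^ (2 ^ k) = 1) : z = 1 := by
  have h1 : orderOf z ∣ 2 ^ k := orderOf_dvd_of_pow_eq_one hk
  have h2 : orderOf z ∣ Nat.card Z₀ := Subgroup.orderOf_dvd_natCard Z₀ hz
  have hc : Nat.Coprime (2 ^ k) (Nat.card Z₀) :=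
    Nat.Coprime.pow_left k (Nat.coprime_two_left.mpr hodd)
  have h3 : orderOf z ∣ 1 := by
    have := Nat.dvd_gcd h1 h2
    rwa [hc] at this
  exact orderOf_eq_one_iff.mp (Nat.dvd_one.mp h3)

/-- (F1A), the key step: under the hypotheses, any `2`-subgroup `P ≥ S₁` normalising... is `S₁`:
an element of a `2`-group `P ≥ S₁` which normalises `S₁` lies in `S₁`. -/
theorem F1A_mem_of_mem_normalizer {G : Type*} [Group G] [Finite G] (S₁ Z₀ : Subgroup G)
    (hZ : Z₀ ≤ Subgroup.center G) (hodd : Odd (Nat.card Z₀))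
    (hN : Subgroup.normalizer (S₁ : Set G) ≤ Z₀ ⊔ S₁)
    (P : Subgroup G) (hP : IsPGroup 2 P) (hSP : S₁ ≤ P) (x : G) (hxP : x ∈ P)
    (hxN : x ∈ Subgroup.normalizer (S₁ : Set G)) : x ∈ S₁ := by
  haveI : Z₀.Normal := F1A_normal_of_le_center Z₀ hZ
  have hx : x ∈ ((Z₀ ⊔ S₁ : Subgroup G) : Set G) := hN hxN
  rw [Subgroup.normal_mul] at hx
  obtain ⟨z, hz, s, hs, rfl⟩ := Set.mem_mul.mp hx
  have hzP : z ∈ P := by
    have h := P.mul_mem hxP (P.inv_mem (hSP hs))
    rwa [mul_inv_cancel_right] at h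
  obtain ⟨k, hk⟩ := hP ⟨z, hzP⟩
  have hk' : z ^ (2 ^ k) = 1 := by
    have := congrArg Subtype.val hk
    simpa using this
  have hz1 : z = 1 := F1A_eq_one_of_two_pow_of_odd Z₀ hodd z hz k hk'
  rw [hz1, one_mul]
  exact hs

/-- (F1A) a `2`-subgroup whose normaliser is (odd central) × itself is a Sylow `2`-subgroup:
`[N(S₁) : S₁]` divides `|Z₀|`, odd; `Sylow.card_quotient_normalizer_modEq_card_quotient` (or
`IsPGroup.index_normalizer...`) gives `[G : S₁]` odd; `Sylow.ofCard`. -/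
theorem F1A {G : Type*} [Group G] [Finite G] (S₁ Z₀ : Subgroup G) (h2 : IsPGroup 2 S₁)
    (hZ : Z₀ ≤ Subgroup.center G) (hodd : Odd (Nat.card Z₀))
    (hN : Subgroup.normalizer (S₁ : Set G) ≤ Z₀ ⊔ S₁) :
    ∃ P : Sylow 2 G, (P : Subgroup G) = S₁ := by
  have : Fact (Nat.Prime 2) := ⟨Nat.prime_two⟩
  obtain ⟨P, hSP⟩ := h2.exists_le_sylow
  refine ⟨P, le_antisymm ?_ hSP⟩
  by_contra hne
  have hnil : Group.IsNilpotent P := P.isPGroup'.isNilpotent
  have hnc : NormalizerCondition P := normalizerCondition_of_isNilpotent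
  have hlt : S₁.subgroupOf P < ⊤ := by
    rw [lt_top_iff_ne_top, Ne, Subgroup.subgroupOf_eq_top]
    exact hne
  have h3 := hnc _ hlt
  rw [← Subgroup.subgroupOf_normalizer_eq hSP] at h3
  obtain ⟨x, hx1, hx2⟩ := SetLike.exists_of_lt h3
  apply hx2
  rw [Subgroup.mem_subgroupOf] at hx1 ⊢
  exact F1A_mem_of_mem_normalizer S₁ Z₀ hZ hodd hN P P.isPGroup' hSP x x.2 hx1

end Cfsg.Agent.Helper76.Pron
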