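import Mathlib
import Cfsg.Prelude.Def_HallClasses
import Cfsg.Agent.Helper72.AltProS13

/-!
# (F1C) of helper99's S2225/S2226 block II farm (#15357): one self-normalising Sylow `2`-subgroup
makes every subgroup of odd index pronormal
-/

set_option autoImplicit false

namespace Cfsg.Agent.Helper76.Pron

open scoped Pointwise

/-- a conjugate of a self-normalising Sylow subgroup is self-normalising -/
theorem F1C_normalizer_smul {G : Type*} [Group G] [Finite G] {p : ℕ} [Fact p.Prime]
    (P : Sylow p G) (hP : Subgroup.normalizer ((P : Subgroup G) : Set G) = P) (g : G) :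
    Subgroup.normalizer (((g • P : Sylow p G) : Subgroup G) : Set G) = (g • P : Sylow p G) := by
  ext x
  have hx : x ∈ Subgroup.normalizer (((g • P : Sylow p G) : Subgroup G) : Set G)
      ↔ x • (g • P) = g • P :=
    (Sylow.smul_eq_iff_mem_normalizer (g := x) (P := g • P)).symm
  have hy : (g⁻¹ * x * g) • P = P
      ↔ g⁻¹ * x * g ∈ Subgroup.normalizer ((P : Subgroup G) : Set G) :=
    Sylow.smul_eq_iff_mem_normalizer
  have h1 : x • (g • P) = g • P ↔ (g⁻¹ * x * g) • P = P := by
    constructor
    · intro h
      rw [mul_smul, mul_smul, h, inv_smul_smul]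
    · intro h
      calc x • g • P = (x * g) • P := (mul_smul _ _ _).symm
        _ = (g * (g⁻¹ * x * g)) • P := by
          congr 1
          group
        _ = g • ((g⁻¹ * x * g) • P) := mul_smul _ _ _
        _ = g • P := by rw [h]
  rw [hx, h1, hy, hP, Sylow.coe_subgroup_smul,
    Subgroup.mem_pointwise_smul_iff_inv_smul_mem, MulAut.smul_def, MulAut.conj_inv_apply]

/-- (F1C) if one Sylow `2`-subgroup is self-normalising, every subgroup of odd index is pronormal
(all Sylow `2`-subgroups are conjugate, so all are self-normalising;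
`Cfsg.Agent.Helper72.AltPro.exists_sylow_le_of_odd_index`, `isPronormal_of_sylow_le` in
Cfsg/Agent/Helper72/AltProS13.lean). -/
theorem F1C {G : Type*} [Group G] [Finite G]
    (h : ∃ P : Sylow 2 G, Subgroup.normalizer ((P : Subgroup G) : Set G) = P)
    (H : Subgroup G) (hH : Odd H.index) : Cfsg.IsPronormal H := by
  have : Fact (Nat.Prime 2) := ⟨Nat.prime_two⟩
  obtain ⟨P, hP⟩ := h
  obtain ⟨Q, hQ⟩ := Cfsg.Agent.Helper72.AltPro.exists_sylow_le_of_odd_index H hH
  obtain ⟨g, hg⟩ := MulAction.exists_smul_eq G P Q
  have hQn : Subgroup.normalizer ((Q : Subgroup G) : Set G) = Q := by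
    rw [← hg]
    exact F1C_normalizer_smul P hP g
  exact Cfsg.Agent.Helper72.AltPro.isPronormal_of_sylow_le Q hQn H hQ

end Cfsg.Agent.Helper76.Pron
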