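import Mathlib
import Cfsg.Prelude.Def_BlockRank
import Cfsg.Agent.Helper16.Quotient
import Cfsg.Agent.Helper74.CharComplete
import Cfsg.Agent.Helper77.BlockRank
import Cfsg.Agent.Helper76.PRegularBlock
import Cfsg.Agent.Helper78.IrrTransport
import Cfsg.Agent.Helper78.LocalRing
import Cfsg.Agent.Helper78.BlockBasic

set_option autoImplicit false
open Cfsg
open scoped Pointwise

/-!
# Principal blocks modulo a normal `p`-subgroup `Q` with `G = Q C_G(Q)` (helper76)

`blockRank_principalBlock_quotient`: `l(B₀(G)) = l(B₀(G ⧸ Q))`.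

Ingredients: `p`-regular elements centralize `Q`; `p`-regular elements of `G ⧸ Q` lift uniquely to
`p`-regular elements and class sizes are preserved, so `ψ ∈ B₀(G ⧸ Q)` iff its inflation lies in
`B₀(G)` (`sameBlock_of_comp_mk_of_pRegular_central`); the `p`-regular part of every class function
is a combination of `p`-regular parts of inflated characters
(`exists_pRegularPart_eq_sum_inflate`); the operator `irrProj B` (`f ↦ ∑_{ψ ∈ B} ⟨f, ψ⟩ ψ`) fixes
`ξ⁰` for `ξ ∈ B` and kills `ξ⁰` for `ξ ∉ B` (`B` a block).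
-/

namespace Cfsg.Agent.Helper76

universe u

section grp
variable {G : Type u} [Group G]

/-- If `G = Q C_G(Q)` for a normal `p`-subgroup `Q`, the `p`-regular elements centralize `Q`. -/
theorem pRegular_mem_centralizer_of_sup_eq_top (p : ℕ) [hp : Fact p.Prime] (Q : Subgroup G) [Q.Normal]
    (hQ : IsPGroup p Q) (hsup : Q ⊔ Subgroup.centralizer (Q : Set G) = ⊤) (x : G)
    (hx : ¬ p ∣ orderOf x) : x ∈ Subgroup.centralizer (Q : Set G) := by
  set C := Subgroup.centralizer (Q : Set G) with hC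
  have hxtop : x ∈ Q ⊔ C := by rw [hsup]; trivial
  have hxmul : x ∈ (Q : Set G) * (C : Set G) := by
    rw [← Subgroup.normal_mul]; exact hxtop
  obtain ⟨u, hu, c, hc, rfl⟩ := Set.mem_mul.1 hxmul
  obtain ⟨k, hk⟩ := hQ ⟨u, hu⟩
  have hk' : u ^ p ^ k = 1 := by
    have := congrArg Subtype.val hk
    simpa using this
  -- in the quotient by `C`
  have h1 : (QuotientGroup.mk (u * c) : G ⧸ C) = QuotientGroup.mk u := by
    rw [QuotientGroup.mk_mul, (QuotientGroup.eq_one_iff c).2 hc, mul_one]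
  have h2 : (QuotientGroup.mk (u * c) : G ⧸ C) ^ p ^ k = 1 := by
    rw [h1, ← QuotientGroup.mk_pow, hk', QuotientGroup.mk_one]
  have h3 : (QuotientGroup.mk (u * c) : G ⧸ C) ^ orderOf (u * c) = 1 := by
    rw [← QuotientGroup.mk_pow, pow_orderOf_eq_one, QuotientGroup.mk_one]
  have h4 : orderOf (QuotientGroup.mk (u * c) : G ⧸ C) ∣ Nat.gcd (p ^ k) (orderOf (u * c)) :=
    Nat.dvd_gcd (orderOf_dvd_of_pow_eq_one h2) (orderOf_dvd_of_pow_eq_one h3)
  have hcop : Nat.Coprime (p ^ k) (orderOf (u * c)) :=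
    Nat.Coprime.pow_left _ ((Nat.Prime.coprime_iff_not_dvd hp.out).2 hx)
  rw [hcop.gcd_eq_one, Nat.dvd_one, orderOf_eq_one_iff] at h4
  exact (QuotientGroup.eq_one_iff _).1 h4

/-- Two `p`-regular elements centralizing the normal `p`-subgroup `Q` with the same image in
`G ⧸ Q` are equal. -/
theorem pRegular_lift_unique (p : ℕ) [hp : Fact p.Prime] (Q : Subgroup G) [Q.Normal]
    (hQ : IsPGroup p Q) (x y : G) (hx : ¬ p ∣ orderOf x) (hy : ¬ p ∣ orderOf y)
    (hyc : y ∈ Subgroup.centralizer (Q : Set G))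
    (h : (QuotientGroup.mk x : G ⧸ Q) = QuotientGroup.mk y) : x = y := by
  have hu : y⁻¹ * x ∈ Q := QuotientGroup.eq.1 h.symm
  set u := y⁻¹ * x with hu_def
  have hxu : x = y * u := by rw [hu_def]; group
  have hcomm : Commute y u := (Subgroup.mem_centralizer_iff.1 hyc u hu).symm
  obtain ⟨k, hk⟩ := hQ ⟨u, hu⟩
  have hk' : u ^ p ^ k = 1 := by
    have := congrArg Subtype.val hk
    simpa using this
  set m := orderOf x * orderOf y with hm
  have hxm : x ^ m = 1 := by rw [hm, pow_mul, pow_orderOf_eq_one, one_pow]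
  have hym : y ^ m = 1 := by rw [hm, mul_comm, pow_mul, pow_orderOf_eq_one, one_pow]
  have hum : u ^ m = 1 := by
    have h1 := hcomm.mul_pow m
    rw [← hxu, hxm, hym, one_mul] at h1
    exact h1.symm
  have hcop : Nat.Coprime (p ^ k) m := by
    apply Nat.Coprime.pow_left
    rw [hm]
    exact Nat.Coprime.mul_right ((Nat.Prime.coprime_iff_not_dvd hp.out).2 hx)
      ((Nat.Prime.coprime_iff_not_dvd hp.out).2 hy)
  have h4 : orderOf u ∣ Nat.gcd (p ^ k) m :=
    Nat.dvd_gcd (orderOf_dvd_of_pow_eq_one hk') (orderOf_dvd_of_pow_eq_one hum)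
  rw [hcop.gcd_eq_one, Nat.dvd_one, orderOf_eq_one_iff] at h4
  rw [hxu, h4, mul_one]

/-- Class sizes of `p`-regular elements do not change modulo `Q`. -/
theorem index_centralizer_mk_eq_of_pRegular (p : ℕ) [hp : Fact p.Prime] (Q : Subgroup G)
    [Q.Normal] (hQ : IsPGroup p Q)
    (hcent : ∀ x : G, ¬ p ∣ orderOf x → x ∈ Subgroup.centralizer (Q : Set G))
    (x : G) (hx : ¬ p ∣ orderOf x) :
    (Subgroup.centralizer ({(QuotientGroup.mk x : G ⧸ Q)} : Set (G ⧸ Q))).index =
      (Subgroup.centralizer ({x} : Set G)).index := by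
  have h1 : ((Subgroup.centralizer ({(QuotientGroup.mk x : G ⧸ Q)} : Set (G ⧸ Q))).comap
      (QuotientGroup.mk' Q)).index =
      (Subgroup.centralizer ({(QuotientGroup.mk x : G ⧸ Q)} : Set (G ⧸ Q))).index :=
    Subgroup.index_comap_of_surjective _ (QuotientGroup.mk'_surjective Q)
  rw [← h1]
  congr 1
  ext g
  rw [Subgroup.mem_comap, Subgroup.mem_centralizer_singleton_iff,
    Subgroup.mem_centralizer_singleton_iff]
  constructor
  · intro hg
    have hord : orderOf (g * x * g⁻¹) = orderOf x := by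
      have : g * x * g⁻¹ = MulAut.conj g x := by simp
      rw [this, MulEquiv.orderOf_eq]
    have hreg : ¬ p ∣ orderOf (g * x * g⁻¹) := by rw [hord]; exact hx
    have hmk : (QuotientGroup.mk (g * x * g⁻¹) : G ⧸ Q) = QuotientGroup.mk x := by
      have h2 : (QuotientGroup.mk' Q g) * (QuotientGroup.mk x : G ⧸ Q)
          = (QuotientGroup.mk x : G ⧸ Q) * (QuotientGroup.mk' Q g) := hg
      rw [QuotientGroup.mk_mul, QuotientGroup.mk_mul, QuotientGroup.mk_inv]
      rw [QuotientGroup.mk'_apply] at h2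
      rw [h2, mul_inv_cancel_right]
    have h3 := pRegular_lift_unique p Q hQ (g * x * g⁻¹) x hreg hx (hcent x hx) hmk
    calc g * x = g * x * g⁻¹ * g := by group
      _ = x * g := by rw [h3]
  · intro hg
    show (QuotientGroup.mk g : G ⧸ Q) * QuotientGroup.mk x = QuotientGroup.mk x * QuotientGroup.mk g
    rw [← QuotientGroup.mk_mul, ← QuotientGroup.mk_mul, hg]

/-- `p`-regular elements of `G ⧸ Q` lift to `p`-regular elements. -/
theorem exists_pRegular_lift (p : ℕ) [hp : Fact p.Prime] (Q : Subgroup G) [Q.Normal]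
    (hQ : IsPGroup p Q) (q : G ⧸ Q) (hq : ¬ p ∣ orderOf q) :
    ∃ x : G, ¬ p ∣ orderOf x ∧ (QuotientGroup.mk x : G ⧸ Q) = q := by
  obtain ⟨x₀, rfl⟩ := QuotientGroup.mk_surjective q
  set m := orderOf (QuotientGroup.mk x₀ : G ⧸ Q) with hm
  have hmem : x₀ ^ m ∈ Q := by
    rw [← QuotientGroup.eq_one_iff, QuotientGroup.mk_pow, hm, pow_orderOf_eq_one]
  obtain ⟨j, hj⟩ := hQ ⟨x₀ ^ m, hmem⟩
  have hj' : (x₀ ^ m) ^ p ^ j = 1 := by
    have := congrArg Subtype.val hj
    simpa using this
  have hcop : Nat.Coprime m (p ^ j) :=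
    (Nat.Coprime.pow_left _ ((Nat.Prime.coprime_iff_not_dvd hp.out).2 hq)).symm
  obtain ⟨k, hk1, hk0⟩ := Nat.chineseRemainder hcop 1 0
  refine ⟨x₀ ^ k, ?_, ?_⟩
  · have hpow : (x₀ ^ k) ^ m = 1 := by
      obtain ⟨t, ht⟩ := (Nat.modEq_zero_iff_dvd.1 hk0)
      rw [← pow_mul, mul_comm, pow_mul, ht, pow_mul, hj', one_pow]
    intro hdvd
    exact hq (hdvd.trans (orderOf_dvd_of_pow_eq_one hpow))
  · rw [QuotientGroup.mk_pow]
    have := (pow_eq_pow_iff_modEq (x := (QuotientGroup.mk x₀ : G ⧸ Q)) (n := k) (m := 1)).2 hk1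
    rw [this, pow_one]

end grp

section blocks
variable {G : Type u} [Group G] [Fintype G] {M : Ideal AlgInt}

/-- Deflation preserves `SameBlock` modulo a normal `p`-subgroup centralized by all `p`-regular
elements. -/
theorem sameBlock_of_comp_mk_of_pRegular_central (p : ℕ) [hp : Fact p.Prime]
    (hM : IsPModular p M) (Q : Subgroup G) [Q.Normal] (hQ : IsPGroup p Q)
    (hcent : ∀ x : G, ¬ p ∣ orderOf x → x ∈ Subgroup.centralizer (Q : Set G))
    (χ ψ : IrrCharacter (G ⧸ Q))
    (h : SameBlock M (fun g : G => (χ : G ⧸ Q → ℂ) (QuotientGroup.mk g))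
      (fun g : G => (ψ : G ⧸ Q → ℂ) (QuotientGroup.mk g))) :
    SameBlock M (χ : G ⧸ Q → ℂ) (ψ : G ⧸ Q → ℂ) := by
  classical
  let _ : Fintype (G ⧸ Q) := Fintype.ofFinite _
  refine Helper16.sameBlock_of_forall_pRegular hM fun q hq => ?_
  obtain ⟨x, hx, rfl⟩ := exists_pRegular_lift p Q hQ q hq
  have h1 := h x
  unfold centralChar at h1 ⊢
  rw [index_centralizer_mk_eq_of_pRegular p Q hQ hcent x hx]
  simpa using h1

theorem isClassFunction_pRegularPart (p : ℕ) {f : G → ℂ} (hf : IsClassFunction G f) :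
    IsClassFunction G (pRegularPart p f) := by
  intro g h
  have h1 : orderOf (h * g * h⁻¹) = orderOf g := by
    have : h * g * h⁻¹ = MulAut.conj h g := by simp
    rw [this, MulEquiv.orderOf_eq]
  by_cases hg : p ∣ orderOf g
  · rw [Helper77.pRegularPart_of_sing hg, Helper77.pRegularPart_of_sing (by rw [h1]; exact hg)]
  · rw [Helper77.pRegularPart_of_reg hg, Helper77.pRegularPart_of_reg (by rw [h1]; exact hg),
      hf g h]

/-- The `p`-regular part of a class function of `G` is a combination of `p`-regular parts of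
inflated irreducible characters of `G ⧸ Q`. -/
theorem exists_pRegularPart_eq_sum_inflate (p : ℕ) [hp : Fact p.Prime] (Q : Subgroup G)
    [Q.Normal] (hQ : IsPGroup p Q)
    (hcent : ∀ x : G, ¬ p ∣ orderOf x → x ∈ Subgroup.centralizer (Q : Set G))
    [Fintype (IrrCharacter (G ⧸ Q))] (f : G → ℂ) (hf : IsClassFunction G f) :
    ∃ c : IrrCharacter (G ⧸ Q) → ℂ, pRegularPart p f =
      ∑ ψ : IrrCharacter (G ⧸ Q), c ψ •
        pRegularPart p (fun g : G => (ψ : G ⧸ Q → ℂ) (QuotientGroup.mk g)) := by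
  classical
  let _ : Fintype (G ⧸ Q) := Fintype.ofFinite _
  have hscf : IsClassFunction G (pRegularPart p f) := isClassFunction_pRegularPart p hf
  have hcf : IsClassFunction (G ⧸ Q) (Helper16.pushQ Q (pRegularPart p f)) := Helper16.isClassFunction_pushQ Q hscf
  have hexp := Helper74.classFunction_eq_sum_irr hcf
  refine ⟨fun ψ => classInner (Helper16.pushQ Q (pRegularPart p f)) (ψ : G ⧸ Q → ℂ), ?_⟩
  funext x
  rw [Finset.sum_apply]
  by_cases hx : p ∣ orderOf x
  · rw [Helper77.pRegularPart_of_sing hx]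
    symm
    apply Finset.sum_eq_zero
    intro ψ _
    rw [Pi.smul_apply, Helper77.pRegularPart_of_sing hx, smul_zero]
  · have hpush : Helper16.pushQ Q (pRegularPart p f) (QuotientGroup.mk x) = pRegularPart p f x := by
      unfold Helper16.pushQ
      rw [Finset.sum_eq_single x]
      · rw [if_pos rfl]
      · intro y _ hy
        split_ifs with hxy
        · by_cases hyr : p ∣ orderOf y
          · exact Helper77.pRegularPart_of_sing hyr
          · exact absurd (pRegular_lift_unique p Q hQ y x hyr hx (hcent x hx) hxy) hy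
        · rfl
      · intro h; exact absurd (Finset.mem_univ _) h
    have h2 := congrFun hexp (QuotientGroup.mk x)
    rw [hpush, Finset.sum_apply] at h2
    rw [h2]
    refine Finset.sum_congr rfl fun ψ _ => ?_
    rw [Pi.smul_apply, Pi.smul_apply, Helper77.pRegularPart_of_reg hx]

/-- The operator `f ↦ ∑_{ψ ∈ B} ⟨f, ψ⟩ ψ`. -/
noncomputable def irrProj (B : Set (IrrCharacter G)) : (G → ℂ) →ₗ[ℂ] (G → ℂ) :=
  ∑ ψ ∈ (Set.toFinite B).toFinset, (Helper77.innerL (ψ : G → ℂ)).smulRight (ψ : G → ℂ)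

theorem irrProj_apply (B : Set (IrrCharacter G)) (f : G → ℂ) :
    irrProj B f = ∑ ψ ∈ (Set.toFinite B).toFinset, classInner f (ψ : G → ℂ) • (ψ : G → ℂ) := by
  unfold irrProj
  rw [LinearMap.sum_apply]
  rfl

theorem irrProj_irr_of_mem {B : Set (IrrCharacter G)} {ξ : IrrCharacter G} (hξ : ξ ∈ B) :
    irrProj B (ξ : G → ℂ) = (ξ : G → ℂ) := by
  rw [irrProj_apply, Finset.sum_eq_single ξ]
  · rw [Helper74.irr_inner_self, one_smul]
  · intro ψ _ hne
    rw [Helper74.irr_inner_ne hne.symm, zero_smul]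
  · intro h
    exfalso; apply h
    rw [Set.Finite.mem_toFinset]; exact hξ

theorem irrProj_irr_of_not_mem {B : Set (IrrCharacter G)} {ξ : IrrCharacter G} (hξ : ξ ∉ B) :
    irrProj B (ξ : G → ℂ) = 0 := by
  rw [irrProj_apply]
  apply Finset.sum_eq_zero
  intro ψ hψ
  rw [Set.Finite.mem_toFinset] at hψ
  have hne : ξ ≠ ψ := fun h => hξ (h ▸ hψ)
  rw [Helper74.irr_inner_ne hne, zero_smul]

theorem irrProj_pRegularPart_of_mem (p : ℕ) [hp : Fact p.Prime] (hM : IsPModular p M)
    {B : Set (IrrCharacter G)} (hB : IsPBlock M B) {ξ : IrrCharacter G} (hξ : ξ ∈ B) :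
    irrProj B (pRegularPart p (ξ : G → ℂ)) = pRegularPart p (ξ : G → ℂ) := by
  classical
  have hfun : (fun y : G => if p ∣ orderOf y then (0 : ℂ) else 1 * (ξ : G → ℂ) y)
      = pRegularPart p (ξ : G → ℂ) := by
    funext y
    by_cases hy : p ∣ orderOf y
    · rw [if_pos hy, Helper77.pRegularPart_of_sing hy]
    · rw [if_neg hy, Helper77.pRegularPart_of_reg hy, one_mul]
  funext x
  have h := blockPart_pRegular_cutoff p M hM B hB ξ hξ 1 x
  rw [hfun, finsum_mem_eq_finite_toFinset_sum _ (Set.toFinite B)] at h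
  have h2 := congrFun hfun x
  rw [h2] at h
  rw [irrProj_apply, Finset.sum_apply]
  simpa using h

theorem irrProj_pRegularPart_of_not_mem (p : ℕ) [hp : Fact p.Prime] (hM : IsPModular p M)
    {B : Set (IrrCharacter G)} (hB : IsPBlock M B) {ξ : IrrCharacter G} (hξ : ξ ∉ B) :
    irrProj B (pRegularPart p (ξ : G → ℂ)) = 0 := by
  classical
  have hMp : M.IsPrime := Helper78.isPrime_of_isPModular hM
  set B' := blockOf M (ξ : G → ℂ) with hB'def
  have hB' : IsPBlock M B' := ⟨ξ, rfl⟩
  have hξ' : ξ ∈ B' := Helper78.mem_blockOf_self hMp ξ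
  have h1 := irrProj_pRegularPart_of_mem p hM hB' hξ'
  have h2 : irrProj B (pRegularPart p (ξ : G → ℂ))
      = irrProj B (irrProj B' (pRegularPart p (ξ : G → ℂ))) := by rw [h1]
  rw [h2, irrProj_apply B', map_sum]
  apply Finset.sum_eq_zero
  intro ψ hψ
  rw [Set.Finite.mem_toFinset] at hψ
  have hψB : ψ ∉ B := by
    intro h
    have := Helper78.isPBlock_eq_of_mem_of_mem hMp hB hB' h hψ
    exact hξ (this ▸ hξ')
  rw [map_smul, irrProj_irr_of_not_mem hψB, smul_zero]

/-- Pull back a function on `G ⧸ Q` to `G` and cut it off at the `p`-singular elements. -/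
noncomputable def pullCut (p : ℕ) (Q : Subgroup G) [Q.Normal] : (G ⧸ Q → ℂ) →ₗ[ℂ] (G → ℂ) where
  toFun f := pRegularPart p (fun g : G => f (QuotientGroup.mk g))
  map_add' f g := by
    funext x
    by_cases hx : p ∣ orderOf x
    · simp [Helper77.pRegularPart_of_sing hx]
    · simp [Helper77.pRegularPart_of_reg hx]
  map_smul' c f := by
    funext x
    by_cases hx : p ∣ orderOf x
    · simp [Helper77.pRegularPart_of_sing hx]
    · simp [Helper77.pRegularPart_of_reg hx]

theorem pullCut_pRegularPart (p : ℕ) (Q : Subgroup G) [Q.Normal] [Fintype (G ⧸ Q)]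
    (f : G ⧸ Q → ℂ) :
    pullCut p Q (pRegularPart p f) = pRegularPart p (fun g : G => f (QuotientGroup.mk g)) := by
  funext x
  show pRegularPart p (fun g : G => pRegularPart p f (QuotientGroup.mk g)) x = _
  by_cases hx : p ∣ orderOf x
  · rw [Helper77.pRegularPart_of_sing hx, Helper77.pRegularPart_of_sing hx]
  · rw [Helper77.pRegularPart_of_reg hx, Helper77.pRegularPart_of_reg hx]
    have h1 : ¬ p ∣ orderOf (QuotientGroup.mk x : G ⧸ Q) := by
      intro h
      apply hx
      refine h.trans (orderOf_dvd_of_pow_eq_one ?_)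
      rw [← QuotientGroup.mk_pow, pow_orderOf_eq_one, QuotientGroup.mk_one]
    rw [Helper77.pRegularPart_of_reg h1]

/-- **Principal blocks modulo a central-like normal `p`-subgroup.**  If `G = Q C_G(Q)` for a
normal `p`-subgroup `Q`, the principal blocks of `G` and `G ⧸ Q` have the same `p`-regular
rank. -/
theorem blockRank_principalBlock_quotient (p : ℕ) [hp : Fact p.Prime] (hM : IsPModular p M)
    (Q : Subgroup G) [Q.Normal] (hQ : IsPGroup p Q)
    (hsup : Q ⊔ Subgroup.centralizer (Q : Set G) = ⊤) :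
    blockRank p (principalBlock M G) = blockRank p (principalBlock M (G ⧸ Q)) := by
  classical
  let _ : Fintype (G ⧸ Q) := Fintype.ofFinite _
  let _ := Helper74.irrFintype (G ⧸ Q)
  have hMp : M.IsPrime := Helper78.isPrime_of_isPModular hM
  have hcent : ∀ x : G, ¬ p ∣ orderOf x → x ∈ Subgroup.centralizer (Q : Set G) := fun x hx =>
    pRegular_mem_centralizer_of_sup_eq_top p Q hQ hsup x hx
  set B := principalBlock M G with hBdef
  set Bq := principalBlock M (G ⧸ Q) with hBqdef
  have hB : IsPBlock M B := Helper78.isPBlock_principalBlock M G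
  -- inflation and the principal blocks
  have hmem : ∀ ψ : IrrCharacter (G ⧸ Q), Helper16.inflate Q ψ ∈ B ↔ ψ ∈ Bq := by
    intro ψ
    constructor
    · intro h
      exact sameBlock_of_comp_mk_of_pRegular_central p hM Q hQ hcent
        (Helper79.principalIrr (G ⧸ Q)) ψ h
    · intro h
      exact Helper16.sameBlock_comp_mk Q (χ := Helper79.principalIrr (G ⧸ Q)) (ψ := ψ) h
  set gen : IrrCharacter (G ⧸ Q) → (G → ℂ) := fun ψ =>
    pRegularPart p (fun g : G => (ψ : G ⧸ Q → ℂ) (QuotientGroup.mk g)) with hgen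
  have hgen' : ∀ ψ : IrrCharacter (G ⧸ Q),
      gen ψ = pRegularPart p ((Helper16.inflate Q ψ : IrrCharacter G) : G → ℂ) := fun ψ => rfl
  -- the two spans in `G → ℂ` coincide
  have hspan : Submodule.span ℂ ((fun χ : IrrCharacter G => pRegularPart p (χ : G → ℂ)) '' B)
      = Submodule.span ℂ (gen '' Bq) := by
    apply le_antisymm
    · rw [Submodule.span_le]
      rintro _ ⟨χ, hχ, rfl⟩
      obtain ⟨c, hc⟩ := exists_pRegularPart_eq_sum_inflate p Q hQ hcent (χ : G → ℂ)
        (Helper74.irr_isClassFunction χ)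
      have h1 := irrProj_pRegularPart_of_mem p hM hB hχ
      have h2 : pRegularPart p (χ : G → ℂ) = ∑ ψ : IrrCharacter (G ⧸ Q),
          c ψ • irrProj B (gen ψ) := by
        conv_lhs => rw [← h1, hc, map_sum]
        refine Finset.sum_congr rfl fun ψ _ => ?_
        rw [map_smul]
      show pRegularPart p (χ : G → ℂ) ∈ _
      rw [h2]
      refine Submodule.sum_mem _ fun ψ _ => Submodule.smul_mem _ _ ?_
      by_cases hψ : Helper16.inflate Q ψ ∈ B
      · rw [hgen' ψ, irrProj_pRegularPart_of_mem p hM hB hψ, ← hgen' ψ]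
        exact Submodule.subset_span ⟨ψ, (hmem ψ).1 hψ, rfl⟩
      · rw [hgen' ψ, irrProj_pRegularPart_of_not_mem p hM hB hψ]
        exact Submodule.zero_mem _
    · rw [Submodule.span_le]
      rintro _ ⟨ψ, hψ, rfl⟩
      exact Submodule.subset_span ⟨Helper16.inflate Q ψ, (hmem ψ).2 hψ, (hgen' ψ).symm⟩
  -- transport to `G ⧸ Q`
  set SQ := Submodule.span ℂ
    ((fun ψ : IrrCharacter (G ⧸ Q) => pRegularPart p (ψ : G ⧸ Q → ℂ)) '' Bq) with hSQ
  have hmap : Submodule.span ℂ (gen '' Bq) = SQ.map (pullCut p Q) := by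
    rw [hSQ, Submodule.map_span, Set.image_image]
    congr 1
    apply Set.image_congr
    intro ψ _
    exact (pullCut_pRegularPart p Q (ψ : G ⧸ Q → ℂ)).symm
  have hvan : ∀ f ∈ SQ, ∀ q : G ⧸ Q, p ∣ orderOf q → f q = 0 := by
    intro f hf
    induction hf using Submodule.span_induction with
    | mem f hf =>
      obtain ⟨ψ, _, rfl⟩ := hf
      intro q hq
      exact Helper77.pRegularPart_of_sing hq
    | zero => intro q _; rfl
    | add f g _ _ hf hg => intro q hq; rw [Pi.add_apply, hf q hq, hg q hq, add_zero]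
    | smul c f _ hf => intro q hq; rw [Pi.smul_apply, hf q hq, smul_zero]
  have hinj : Function.Injective ((pullCut p Q).domRestrict SQ) := by
    rw [← LinearMap.ker_eq_bot, LinearMap.ker_eq_bot']
    rintro ⟨f, hf⟩ h0
    rw [LinearMap.domRestrict_apply] at h0
    apply Subtype.ext
    show f = 0
    funext q
    by_cases hq : p ∣ orderOf q
    · exact hvan f hf q hq
    · obtain ⟨x, hx, rfl⟩ := exists_pRegular_lift p Q hQ q hq
      have h1 := congrFun h0 x
      have h2 : pullCut p Q f x = f (QuotientGroup.mk x) := by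
        show pRegularPart p (fun g : G => f (QuotientGroup.mk g)) x = _
        rw [Helper77.pRegularPart_of_reg hx]
      rw [h2] at h1
      exact h1
  have hfin := LinearMap.finrank_range_of_inj hinj
  rw [LinearMap.range_domRestrict] at hfin
  unfold blockRank
  rw [hspan, hmap, hfin]

end blocks

end Cfsg.Agent.Helper76
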