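import Cfsg.Agent.Helper76.PRegularBlockDefect
import Cfsg.Agent.Helper76.PRegularDefect
import Cfsg.Agent.Helper77.BlockRank
import Cfsg.Agent.Helper77.DefectOrder
import Cfsg.Agent.Helper78.BlockBasic
import Cfsg.Agent.Helper80.Degree

set_option autoImplicit false
open Cfsg
open scoped ComplexConjugate

/-!
# Blocks with a single irreducible Brauer character (helper76)

`rank_one_block`: if the `p`-block `B` has `p`-regular rank one, then all `χ ∈ B` are natural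
multiples `d_χ φ` (on `p`-regular elements) of a function `φ` which is there an integer combination
of `B`, and `∑ d_χ² = p ^ d` with `d` the defect of `B` (the single Cartan invariant).

Proof without Brauer characters: `φ = (g / χ₀(1)) χ₀` with `g` the gcd of the degrees in `B`;
`p ^ d φ⁰` is an integer combination `∑ m_χ χ` of `B` (`defect_pow_mul_pRegularPart_in_block_span`)
and `c m_χ = p ^ d d_χ` for `c = ∑ d_χ²`, so `c ∣ p ^ d`; if `c = p ^ j` with `j < d` then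
`p ^ (d - 1) χ₁⁰` would be a generalized character for `χ₁` of height zero, contradicting
`not_isGenChar_defect_pred_mul_pRegular`.
-/

namespace Cfsg.Agent.Helper76

universe u

/-- Bezout for the gcd of a finite family of natural numbers. -/
theorem exists_int_sum_eq_finset_gcd {ι : Type*} [DecidableEq ι] (s : Finset ι) (f : ι → ℕ) :
    ∃ n : ι → ℤ, ∑ i ∈ s, n i * (f i : ℤ) = ((s.gcd f : ℕ) : ℤ) := by
  induction s using Finset.induction_on with
  | empty => exact ⟨fun _ => 0, by simp⟩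
  | insert a s ha ih =>
    obtain ⟨n, hn⟩ := ih
    rw [Finset.gcd_insert]
    refine ⟨fun i => if i = a then Nat.gcdA (f a) (s.gcd f) else Nat.gcdB (f a) (s.gcd f) * n i, ?_⟩
    rw [Finset.sum_insert ha]
    dsimp only
    rw [if_pos rfl]
    have h1 : ∑ i ∈ s, (if i = a then Nat.gcdA (f a) (s.gcd f)
        else Nat.gcdB (f a) (s.gcd f) * n i) * (f i : ℤ)
        = Nat.gcdB (f a) (s.gcd f) * ∑ i ∈ s, n i * (f i : ℤ) := by
      rw [Finset.mul_sum]
      refine Finset.sum_congr rfl fun i hi => ?_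
      have : i ≠ a := fun h => ha (h ▸ hi)
      rw [if_neg this]; ring
    rw [h1, hn]
    have h2 := Nat.gcd_eq_gcd_ab (f a) (s.gcd f)
    show _ = ((Nat.gcd (f a) (s.gcd f) : ℕ) : ℤ)
    rw [h2]; ring

section rankone
variable {G : Type u} [Group G] [Fintype G] {M : Ideal AlgInt}

/-- In a block of `p`-regular rank one all characters are proportional on `p`-regular elements. -/
theorem proportional_of_blockRank_eq_one (p : ℕ) (B : Set (IrrCharacter G))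
    (hl : blockRank p B = 1) (χ₀ χ : IrrCharacter G) (hχ₀ : χ₀ ∈ B) (hχ : χ ∈ B)
    (h0 : (χ₀ : G → ℂ) 1 ≠ 0) (hp1 : ¬ p ∣ 1) (x : G) (hx : ¬ p ∣ orderOf x) :
    (χ : G → ℂ) x * (χ₀ : G → ℂ) 1 = (χ : G → ℂ) 1 * (χ₀ : G → ℂ) x := by
  set V := Submodule.span ℂ ((fun χ : IrrCharacter G => pRegularPart p (χ : G → ℂ)) '' B) with hV
  have hmem : ∀ ψ ∈ B, pRegularPart p (ψ : G → ℂ) ∈ V := fun ψ hψ =>
    Submodule.subset_span ⟨ψ, hψ, rfl⟩
  have h1reg : ¬ p ∣ orderOf (1 : G) := by rw [orderOf_one]; exact hp1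
  have hv0 : (⟨pRegularPart p (χ₀ : G → ℂ), hmem χ₀ hχ₀⟩ : V) ≠ 0 := by
    intro h
    have h2 := congrArg (fun v : V => (v : G → ℂ) 1) h
    simp only [Submodule.coe_zero, Pi.zero_apply] at h2
    rw [Helper77.pRegularPart_of_reg h1reg] at h2
    exact h0 h2
  have hfin : Module.finrank ℂ V = 1 := hl
  obtain ⟨c, hc⟩ := (finrank_eq_one_iff_of_nonzero' _ hv0).1 hfin
    ⟨pRegularPart p (χ : G → ℂ), hmem χ hχ⟩
  have hc' : c • pRegularPart p (χ₀ : G → ℂ) = pRegularPart p (χ : G → ℂ) := by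
    have := congrArg (fun v : V => (v : G → ℂ)) hc
    simpa using this
  have e1 := congrFun hc' 1
  have ex := congrFun hc' x
  rw [Pi.smul_apply, Helper77.pRegularPart_of_reg h1reg, Helper77.pRegularPart_of_reg h1reg,
    smul_eq_mul] at e1
  rw [Pi.smul_apply, Helper77.pRegularPart_of_reg hx, Helper77.pRegularPart_of_reg hx,
    smul_eq_mul] at ex
  rw [← e1, ← ex]; ring

/-- **Blocks with a single irreducible Brauer character.**  If `l(B) = 1` there are `φ` (an integer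
combination of `B` on `p`-regular elements) and naturals `d_χ` with `χ = d_χ φ` on `p`-regular
elements and `∑ d_χ² = p ^ d`, `d` the defect of `B`. -/
theorem rank_one_block (p : ℕ) [hp : Fact p.Prime] (hM : IsPModular p M)
    (B : Set (IrrCharacter G)) (hB : IsPBlock M B) (hl : blockRank p B = 1) :
    ∃ φ : G → ℂ, ∃ d : IrrCharacter G → ℕ,
      (∃ n : IrrCharacter G → ℤ, ∀ x : G, IsPRegular p x →
        φ x = ∑ᶠ ψ ∈ B, (n ψ : ℂ) * (ψ : G → ℂ) x) ∧
      (∀ χ ∈ B, ∀ x : G, IsPRegular p x → (χ : G → ℂ) x = (d χ : ℂ) * φ x) ∧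
      ∑ᶠ χ ∈ B, d χ ^ 2 = p ^ blockDefect p B := by
  classical
  let _ := Helper74.irrFintype G
  have hMp : M.IsPrime := Helper78.isPrime_of_isPModular hM
  obtain ⟨χ₀, hχ₀⟩ := Helper78.isPBlock_nonempty hMp hB
  set Bf := (Set.toFinite B).toFinset with hBf
  have hmemBf : ∀ ψ, ψ ∈ Bf ↔ ψ ∈ B := fun ψ => Set.Finite.mem_toFinset _
  set deg : IrrCharacter G → ℕ := fun χ => charDegree (χ : G → ℂ) with hdeg
  have hdeg1 : ∀ χ : IrrCharacter G, (χ : G → ℂ) 1 = (deg χ : ℂ) := fun χ =>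
    Helper78.irrChar_one_eq_charDegree χ.2
  have hdegpos : ∀ χ : IrrCharacter G, 0 < deg χ := fun χ =>
    Helper78.charDegree_pos_of_isIrrCharacter χ.2
  set g := Bf.gcd deg with hg
  have hg0 : g ≠ 0 := by
    intro h
    rw [hg, Finset.gcd_eq_zero_iff] at h
    exact (hdegpos χ₀).ne' (h χ₀ ((hmemBf χ₀).2 hχ₀))
  set d : IrrCharacter G → ℕ := fun χ => deg χ / g with hd
  have hdg : ∀ χ ∈ B, deg χ = g * d χ := fun χ hχ =>
    (Nat.mul_div_cancel' (Finset.gcd_dvd ((hmemBf χ).2 hχ))).symm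
  obtain ⟨n, hn⟩ := exists_int_sum_eq_finset_gcd Bf deg
  set φ : G → ℂ := fun x => (g : ℂ) / (deg χ₀ : ℂ) * (χ₀ : G → ℂ) x with hφ
  have hp1 : ¬ p ∣ 1 := fun h => hp.out.one_lt.ne' (Nat.dvd_one.1 h)
  have hdeg0 : (deg χ₀ : ℂ) ≠ 0 := by exact_mod_cast (hdegpos χ₀).ne'
  have hgC : (g : ℂ) ≠ 0 := by exact_mod_cast hg0
  have hprop : ∀ χ ∈ B, ∀ x : G, ¬ p ∣ orderOf x →
      (χ : G → ℂ) x * (deg χ₀ : ℂ) = (deg χ : ℂ) * (χ₀ : G → ℂ) x := by
    intro χ hχ x hx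
    have := proportional_of_blockRank_eq_one p B hl χ₀ χ hχ₀ hχ
      (by rw [hdeg1]; exact hdeg0) hp1 x hx
    rwa [hdeg1, hdeg1] at this
  have hdgC : ∀ χ ∈ B, (deg χ : ℂ) = (g : ℂ) * (d χ : ℂ) := fun χ hχ => by
    exact_mod_cast hdg χ hχ
  have hii : ∀ χ ∈ B, ∀ x : G, ¬ p ∣ orderOf x → (χ : G → ℂ) x = (d χ : ℂ) * φ x := by
    intro χ hχ x hx
    have h1 := hprop χ hχ x hx
    rw [hdgC χ hχ] at h1
    simp only [hφ]
    field_simp
    linear_combination h1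
  have hi : ∀ x : G, ¬ p ∣ orderOf x → φ x = ∑ ψ ∈ Bf, (n ψ : ℂ) * (ψ : G → ℂ) x := by
    intro x hx
    have h1 : ∀ ψ ∈ Bf, (n ψ : ℂ) * (ψ : G → ℂ) x =
        ((n ψ : ℂ) * (deg ψ : ℂ)) * ((χ₀ : G → ℂ) x / (deg χ₀ : ℂ)) := by
      intro ψ hψ
      have := hprop ψ ((hmemBf ψ).1 hψ) x hx
      field_simp
      linear_combination (n ψ : ℂ) * this
    rw [Finset.sum_congr rfl h1, ← Finset.sum_mul]
    have h2 : ∑ ψ ∈ Bf, (n ψ : ℂ) * (deg ψ : ℂ) = (g : ℂ) := by exact_mod_cast hn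
    rw [h2]
    simp only [hφ]
    ring
  -- the Cartan invariant
  set D := blockDefect p B with hD
  set c : ℕ := ∑ ψ ∈ Bf, d ψ ^ 2 with hc
  have hfinsum : ∑ᶠ χ ∈ B, d χ ^ 2 = c := by
    rw [finsum_mem_eq_finite_toFinset_sum _ (Set.toFinite B)]
  refine ⟨φ, d, ⟨n, fun x hx => ?_⟩, fun χ hχ x hx => hii χ hχ x hx, ?_⟩
  · rw [finsum_mem_eq_finite_toFinset_sum _ (Set.toFinite B)]
    exact hi x hx
  rw [hfinsum]
  -- `Θ`, an integer combination of `B` equal to `φ` on `p`-regular elements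
  set Θ : G → ℂ := fun x => ∑ᶠ ψ ∈ B, (n ψ : ℂ) * (ψ : G → ℂ) x with hΘ
  have hΘφ : ∀ x : G, ¬ p ∣ orderOf x → Θ x = φ x := by
    intro x hx
    simp only [hΘ]
    rw [finsum_mem_eq_finite_toFinset_sum _ (Set.toFinite B)]
    exact (hi x hx).symm
  obtain ⟨m, hm⟩ := defect_pow_mul_pRegularPart_in_block_span p M hM B hB Θ ⟨n, fun _ => rfl⟩
  have hm' : ∀ x : G, ((p : ℂ) ^ D) * pRegularPart p Θ x = ∑ ψ ∈ Bf, (m ψ : ℂ) * (ψ : G → ℂ) x := by
    intro x
    rw [← finsum_mem_eq_finite_toFinset_sum _ (Set.toFinite B)]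
    exact hm x
  -- the norm `t` of `φ` on `p`-regular elements
  set t : ℂ := classInner (pRegularPart p φ) φ with ht
  have hpD0 : ((p : ℂ) ^ D) ≠ 0 := pow_ne_zero _ (by exact_mod_cast hp.out.ne_zero)
  -- (1) `m χ = p^D d_χ t`
  have h1 : ∀ χ ∈ B, (m χ : ℂ) = (p : ℂ) ^ D * (d χ : ℂ) * t := by
    intro χ hχ
    have e1 : classInner (fun x : G => ∑ ψ ∈ Bf, (m ψ : ℂ) * (ψ : G → ℂ) x) (χ : G → ℂ)
        = (m χ : ℂ) := by
      have hfun : (fun x : G => ∑ ψ ∈ Bf, (m ψ : ℂ) * (ψ : G → ℂ) x)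
          = ∑ ψ ∈ Bf, (m ψ : ℂ) • (ψ : G → ℂ) := by
        funext x
        rw [Finset.sum_apply]
        rfl
      rw [hfun, Helper74.classInner_sum_left, Finset.sum_eq_single χ]
      · rw [Helper74.classInner_smul_left, Helper74.irr_inner_self, mul_one]
      · intro ψ _ hne
        rw [Helper74.classInner_smul_left, Helper74.irr_inner_ne hne, mul_zero]
      · intro h
        exact absurd ((hmemBf χ).2 hχ) h
    have e2 : classInner (fun x : G => ((p : ℂ) ^ D) * pRegularPart p Θ x) (χ : G → ℂ)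
        = (p : ℂ) ^ D * (d χ : ℂ) * t := by
      rw [ht, Helper74.classInner_def, Helper74.classInner_def]
      rw [mul_comm ((p : ℂ) ^ D * (d χ : ℂ)), mul_assoc, Finset.sum_mul]
      congr 1
      refine Finset.sum_congr rfl fun x _ => ?_
      by_cases hx : p ∣ orderOf x
      · rw [Helper77.pRegularPart_of_sing hx, Helper77.pRegularPart_of_sing hx]
        ring
      · rw [Helper77.pRegularPart_of_reg hx, Helper77.pRegularPart_of_reg hx, hΘφ x hx,
          hii χ hχ x hx, map_mul, Complex.conj_natCast]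
        ring
    rw [← e1, ← e2]
    congr 1
    funext x
    exact (hm' x).symm
  -- (2) evaluate at `1`
  have h1reg : ¬ p ∣ orderOf (1 : G) := by rw [orderOf_one]; exact hp1
  have hφ1 : φ 1 = (g : ℂ) := by
    simp only [hφ]
    rw [hdeg1]
    field_simp
  have h2 : (p : ℂ) ^ D = ∑ ψ ∈ Bf, (m ψ : ℂ) * (d ψ : ℂ) := by
    have e := hm' 1
    rw [Helper77.pRegularPart_of_reg h1reg, hΘφ 1 h1reg, hφ1] at e
    have e' : ∑ ψ ∈ Bf, (m ψ : ℂ) * (ψ : G → ℂ) 1 = (g : ℂ) * ∑ ψ ∈ Bf, (m ψ : ℂ) * (d ψ : ℂ) := by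
      rw [Finset.mul_sum]
      refine Finset.sum_congr rfl fun ψ hψ => ?_
      rw [hdeg1, hdgC ψ ((hmemBf ψ).1 hψ)]
      ring
    rw [e', mul_comm] at e
    exact mul_left_cancel₀ hgC e
  -- (3) `t c = 1`
  have h3 : t * (c : ℂ) = 1 := by
    have e : (p : ℂ) ^ D = (p : ℂ) ^ D * (t * (c : ℂ)) := by
      conv_lhs => rw [h2]
      rw [hc]
      push_cast
      rw [Finset.mul_sum, Finset.mul_sum]
      refine Finset.sum_congr rfl fun ψ hψ => ?_
      rw [h1 ψ ((hmemBf ψ).1 hψ)]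
      ring
    have e2 : (p : ℂ) ^ D * 1 = (p : ℂ) ^ D * (t * (c : ℂ)) := by rw [mul_one]; exact e
    exact (mul_left_cancel₀ hpD0 e2).symm
  -- (4) `c m_χ = p^D d_χ`
  have h4 : ∀ χ ∈ B, (c : ℤ) * m χ = (p : ℤ) ^ D * (d χ : ℤ) := by
    intro χ hχ
    have e : ((c : ℤ) : ℂ) * ((m χ : ℤ) : ℂ) = ((p : ℤ) : ℂ) ^ D * ((d χ : ℤ) : ℂ) := by
      push_cast
      rw [h1 χ hχ]
      linear_combination ((p : ℂ) ^ D * (d χ : ℂ)) * h3
    exact_mod_cast e
  -- the `d_χ` are coprime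
  have hgcdd : Bf.gcd d = 1 := by
    have e1 : Bf.gcd deg = Bf.gcd (fun χ => g * d χ) :=
      Finset.gcd_congr rfl fun χ hχ => hdg χ ((hmemBf χ).1 hχ)
    rw [Finset.gcd_mul_left, normalize_eq, ← hg] at e1
    exact (Nat.eq_of_mul_eq_mul_left (Nat.pos_of_ne_zero hg0) (by rw [mul_one]; exact e1)).symm
  obtain ⟨k, hk⟩ := exists_int_sum_eq_finset_gcd Bf d
  rw [hgcdd] at hk
  have hcdvd : (c : ℤ) ∣ (p : ℤ) ^ D := by
    refine ⟨∑ ψ ∈ Bf, k ψ * m ψ, ?_⟩
    rw [Finset.mul_sum]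
    have e : (p : ℤ) ^ D = ∑ ψ ∈ Bf, k ψ * ((p : ℤ) ^ D * (d ψ : ℤ)) := by
      have : ∑ ψ ∈ Bf, k ψ * ((p : ℤ) ^ D * (d ψ : ℤ)) = (p : ℤ) ^ D * ∑ ψ ∈ Bf, k ψ * (d ψ : ℤ) := by
        rw [Finset.mul_sum]
        refine Finset.sum_congr rfl fun ψ _ => ?_
        ring
      rw [this, hk]
      simp
    rw [e]
    refine Finset.sum_congr rfl fun ψ hψ => ?_
    rw [← h4 ψ ((hmemBf ψ).1 hψ)]
    ring
  have hcdvd' : c ∣ p ^ D := by
    have : ((c : ℕ) : ℤ) ∣ ((p ^ D : ℕ) : ℤ) := by push_cast; exact hcdvd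
    exact Int.natCast_dvd_natCast.1 this
  obtain ⟨j, hjD, hcj⟩ := (Nat.dvd_prime_pow hp.out).1 hcdvd'
  rw [hcj]
  by_contra hne
  have hjlt : j < D := lt_of_le_of_ne hjD (fun h => hne (by rw [h]))
  have hpC : (p : ℂ) ≠ 0 := by exact_mod_cast hp.out.ne_zero
  have hpZ : (p : ℤ) ≠ 0 := by exact_mod_cast hp.out.ne_zero
  have hmχ : ∀ χ ∈ B, m χ = (p : ℤ) ^ (D - j) * (d χ : ℤ) := by
    intro χ hχ
    have e := h4 χ hχ
    rw [hcj] at e
    have e3 : (p : ℤ) ^ D = (p : ℤ) ^ j * (p : ℤ) ^ (D - j) := by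
      rw [← pow_add, Nat.add_sub_cancel' hjD]
    rw [e3] at e
    push_cast at e
    refine mul_left_cancel₀ (pow_ne_zero j hpZ) ?_
    rw [e]; ring
  set Ξ : G → ℂ := ∑ ψ ∈ Bf, ((d ψ : ℕ) : ℤ) • (ψ : G → ℂ) with hΞ
  have hΞgen : IsGeneralizedCharacter G Ξ := Helper25.isGenChar_sum _ fun ψ _ =>
    Helper25.isGenChar_zsmul _ (Helper25.isGenChar_of_isCharacter (Helper74.irr_isCharacter ψ))
  have hΞeq : ∀ x : G, Ξ x = (p : ℂ) ^ j * pRegularPart p Θ x := by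
    intro x
    have e := hm' x
    have e2 : ∑ ψ ∈ Bf, (m ψ : ℂ) * (ψ : G → ℂ) x = (p : ℂ) ^ (D - j) * Ξ x := by
      rw [hΞ, Finset.sum_apply, Finset.mul_sum]
      refine Finset.sum_congr rfl fun ψ hψ => ?_
      rw [hmχ ψ ((hmemBf ψ).1 hψ), Pi.smul_apply, zsmul_eq_mul]
      push_cast
      ring
    rw [e2] at e
    have e3 : (p : ℂ) ^ D = (p : ℂ) ^ (D - j) * (p : ℂ) ^ j := by
      rw [← pow_add, Nat.sub_add_cancel hjD]
    rw [e3, mul_assoc] at e
    exact (mul_left_cancel₀ (pow_ne_zero _ hpC) e).symm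
  -- a character of height zero
  set S : Set ℕ := (fun χ : IrrCharacter G => (charDegree (χ : G → ℂ)).factorization p) '' B
    with hS
  have hSne : S.Nonempty := ⟨_, χ₀, hχ₀, rfl⟩
  obtain ⟨χ₁, hχ₁, hχ₁s⟩ := Nat.sInf_mem hSne
  set a := (Nat.card G).factorization p with ha
  have hDdef : D = a - sInf S := rfl
  have hsle : sInf S ≤ a := by
    rw [← hχ₁s]
    have hdvd : charDegree (χ₁ : G → ℂ) ∣ Nat.card G :=
      Helper80.IsIrrCharacter.charDegree_dvd_card χ₁.2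
    exact (hp.out.pow_dvd_iff_le_factorization Nat.card_pos.ne').1
      ((Nat.ordProj_dvd _ _).trans hdvd)
  apply not_isGenChar_defect_pred_mul_pRegular p χ₁.2
  have hs : (charDegree (χ₁ : G → ℂ)).factorization p = sInf S := hχ₁s
  rw [hs]
  have hDs : a = (D - 1) + (sInf S + 1) := by omega
  have hfun : (fun x : G => if p ∣ orderOf x then (0 : ℂ) else
      ((p ^ a : ℕ) : ℂ) / ((p ^ (sInf S + 1) : ℕ) : ℂ) * (χ₁ : G → ℂ) x)
      = ((p ^ (D - 1 - j) * d χ₁ : ℕ) : ℤ) • Ξ := by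
    funext x
    rw [Pi.smul_apply, zsmul_eq_mul, hΞeq x]
    by_cases hx : p ∣ orderOf x
    · rw [if_pos hx, Helper77.pRegularPart_of_sing hx]
      ring
    · rw [if_neg hx, Helper77.pRegularPart_of_reg hx, hΘφ x hx, hii χ₁ hχ₁ x hx]
      have e1 : ((p ^ a : ℕ) : ℂ) / ((p ^ (sInf S + 1) : ℕ) : ℂ) = (p : ℂ) ^ (D - 1) := by
        rw [hDs]
        push_cast
        rw [pow_add]
        field_simp
      have e2 : (p : ℂ) ^ (D - 1) = (p : ℂ) ^ (D - 1 - j) * (p : ℂ) ^ j := by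
        rw [← pow_add]
        congr 1
        omega
      rw [e1, e2]
      push_cast
      ring
  rw [hfun]
  exact Helper25.isGenChar_zsmul _ hΞgen

end rankone

end Cfsg.Agent.Helper76
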