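import Cfsg.Agent.Helper21.SC3C.Defs
import Cfsg.Agent.S0840
import Cfsg.Agent.Helper17.G4320d
import Cfsg.Agent.Helper17.InvolPairs
import Cfsg.Agent.Helper74.DefectZero
import Cfsg.Agent.Helper79.Counting

/-!
# (CC) of helper21's SC3C farm (#15586, S3331 block C): class multiplication constants
-/

set_option autoImplicit false

namespace Cfsg.Agent.Helper76.SC3C

open Cfsg Cfsg.Agent Cfsg.Agent.Helper62.SC3 Cfsg.Agent.Helper21.SC3C
open scoped ComplexConjugate

universe u

variable {G : Type u} [Group G]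

/-- (CC) class multiplication constants: `Cfsg.Agent.S0840.result` plus the collapse of the
`finsum` over `IrrCharacter G` to the three characters `1, χ, ψ` (every other `θ` has
`θ(x) = 0`, and `θ` is a class function). -/
theorem class_const [Finite G] (S : Setup G) (D : CData S) : HCC S D := by
  classical
  intro a b g hx
  have hmain := Cfsg.Agent.S0840.result a b g
  set p1 : IrrCharacter G := Helper79.principalIrr G with hp1
  set pχ : IrrCharacter G := ⟨D.χ, D.hχ⟩ with hpχ
  set pψ : IrrCharacter G := ⟨D.ψ, D.hψ⟩ with hpψ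
  have h1χ : p1 ≠ pχ := by
    intro h
    exact D.hχ_ne (congrArg Subtype.val h).symm
  have h1ψ : p1 ≠ pψ := by
    intro h
    exact D.hψ_ne (congrArg Subtype.val h).symm
  have hχψ : pχ ≠ pψ := by
    intro h
    exact D.hχψ (congrArg Subtype.val h)
  -- vanishing of the other terms
  have hvan : ∀ θ : IrrCharacter G, θ ≠ p1 → θ ≠ pχ → θ ≠ pψ →
      (θ : G → ℂ) a * (θ : G → ℂ) b * conj ((θ : G → ℂ) g) / (θ : G → ℂ) 1 = 0 := by
    intro θ ht1 htχ htψ
    have hθx : (θ : G → ℂ) S.x = 0 := by
      apply D.hother θ.1 θ.2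
      · intro h
        exact ht1 (Subtype.ext h)
      · intro h
        exact htχ (Subtype.ext h)
      · intro h
        exact htψ (Subtype.ext h)
    have hθc : IsCharacter G (θ : G → ℂ) := Helper79.irr_isCharacter θ
    rcases hx with h | h | h
    · have : (θ : G → ℂ) a = 0 := by
        rw [← Helper80.IsCharacter.eq_of_isConj hθc h]; exact hθx
      rw [this]; simp
    · have : (θ : G → ℂ) b = 0 := by
        rw [← Helper80.IsCharacter.eq_of_isConj hθc h]; exact hθx
      rw [this]; simp
    · have : (θ : G → ℂ) g = 0 := by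
        rw [← Helper80.IsCharacter.eq_of_isConj hθc h]; exact hθx
      rw [this]; simp
  have hsupp : (Function.support fun θ : IrrCharacter G =>
      (θ : G → ℂ) a * (θ : G → ℂ) b * conj ((θ : G → ℂ) g) / (θ : G → ℂ) 1) ⊆
      (({p1, pχ, pψ} : Finset (IrrCharacter G)) : Set (IrrCharacter G)) := by
    intro θ hθ
    rw [Function.mem_support] at hθ
    by_contra hnot
    apply hθ
    simp only [Finset.coe_insert, Finset.coe_singleton, Set.mem_insert_iff,
      Set.mem_singleton_iff, not_or] at hnot
    exact hvan θ hnot.1 hnot.2.1 hnot.2.2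
  rw [finsum_eq_sum_of_support_subset _ hsupp] at hmain
  rw [Finset.sum_insert (by simp [h1χ, h1ψ]), Finset.sum_insert (by simp [hχψ]),
    Finset.sum_singleton] at hmain
  have hG : (Nat.card G : ℂ) ≠ 0 := by
    exact_mod_cast (Nat.card_pos (α := G)).ne'
  have e1 : ((p1 : IrrCharacter G) : G → ℂ) = fun _ => 1 := rfl
  have eχ : ((pχ : IrrCharacter G) : G → ℂ) = D.χ := rfl
  have eψ : ((pψ : IrrCharacter G) : G → ℂ) = D.ψ := rfl
  rw [e1, eχ, eψ, D.hχ1, D.hψ1] at hmain
  have hone : ((fun _ : G => (1 : ℂ)) a * (fun _ : G => (1 : ℂ)) b *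
      conj ((fun _ : G => (1 : ℂ)) g) / (fun _ : G => (1 : ℂ)) 1) = 1 := by simp
  rw [hone] at hmain
  rw [hmain]
  have hcancel : ∀ A B T : ℂ, A * B / (Nat.card G : ℂ) * T * (Nat.card G : ℂ) = A * B * T := by
    intro A B T
    field_simp
  rw [hcancel]
  ring

end Cfsg.Agent.Helper76.SC3C
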