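import Cfsg.Agent.Helper21.SC3C.Defs
import Cfsg.Agent.S0840
import Cfsg.Agent.Helper17.G4320d
import Cfsg.Agent.Helper17.InvolPairs
import Cfsg.Agent.Helper74.DefectZero
import Cfsg.Agent.Helper79.Counting

/-!
# (CD) of helper21's SC3C farm (#15586, S3331 block C): the character data from (PM) and (COL)
-/

set_option autoImplicit false

namespace Cfsg.Agent.Helper76.SC3C

open Cfsg Cfsg.Agent Cfsg.Agent.Helper62.SC3 Cfsg.Agent.Helper21.SC3C
open scoped ComplexConjugate

universe u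

variable {G : Type u} [Group G]

/-- conjugate elements have the same order -/
theorem CD_orderOf_eq_of_isConj {x g : G} (h : IsConj x g) : orderOf x = orderOf g := by
  obtain ⟨c, hc⟩ := h
  exact SemiconjBy.orderOf_eq (c : G) hc

/-- (CD) with the signs fixed: `a(x) = 1`, `b(x) = -1`. -/
theorem CD_build [Finite G] (S : Setup G) (a b : IrrCharacter G)
    (ha : a ≠ Helper79.principalIrr G) (hb : b ≠ Helper79.principalIrr G) (hab : a ≠ b)
    (hax : (a : G → ℂ) S.x = 1) (hbx : (b : G → ℂ) S.x = -1)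
    (hother : ∀ θ : IrrCharacter G, θ ≠ Helper79.principalIrr G → θ ≠ a → θ ≠ b →
        (θ : G → ℂ) S.x = 0)
    (hcol : ∀ g : G, ¬ IsConj S.x g →
      1 + (a : G → ℂ) g * (a : G → ℂ) S.x + (b : G → ℂ) g * (b : G → ℂ) S.x = 0) :
    Nonempty (CData S) := by
  classical
  have hx1 : S.x ≠ 1 := by
    intro h
    have := S.hx
    rw [h, orderOf_one] at this
    omega
  have hnc1 : ¬ IsConj S.x 1 := fun h => hx1 (isConj_one_left.mp h)
  have h1 := hcol 1 hnc1
  rw [hax, hbx] at h1
  have ha1 : (a : G → ℂ) 1 = (charDegree (a : G → ℂ) : ℂ) := Helper79.irr_one a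
  have hb1 : (b : G → ℂ) 1 = (charDegree (a : G → ℂ) : ℂ) + 1 := by
    rw [← ha1]
    linear_combination -h1
  obtain ⟨n, k, hn, hkn, hk⟩ :=
    Helper17.G4320.involution_values (Helper79.irr_isCharacter a) S.t S.ht
  refine ⟨{
    χ := (a : G → ℂ)
    ψ := (b : G → ℂ)
    f := charDegree (a : G → ℂ)
    c := (n : ℤ) - 2 * (k : ℤ)
    hχ := a.2
    hψ := b.2
    hχ1 := ha1
    hψ1 := hb1
    hχx := hax
    hψx := hbx
    hχt := by rw [hk]; push_cast; ring
    hχ_ne := fun h => ha (Subtype.ext h)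
    hψ_ne := fun h => hb (Subtype.ext h)
    hχψ := fun h => hab (Subtype.ext h)
    hother := ?_
    hrel := ?_ }⟩
  · intro θ hθ h1' h2 h3
    exact hother ⟨θ, hθ⟩ (fun h => h1' (congrArg Subtype.val h))
      (fun h => h2 (congrArg Subtype.val h)) (fun h => h3 (congrArg Subtype.val h))
  · intro g hg
    have hnc : ¬ IsConj S.x g := by
      intro h
      apply hg
      rw [← CD_orderOf_eq_of_isConj h, S.hx]
    have h2 := hcol g hnc
    rw [hax, hbx] at h2
    linear_combination -h2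

/-- (CD) the character data: from (INT), (PM), (COL) at `g = 1` (signs: `1 ± a(1) ± b(1) = 0` with
positive degrees forces opposite signs and `ψ(1) = χ(1) + 1`), (COL) at `g` of order `≠ 3`, and
`Helper17.G4320.involution_values` for `c = χ(t) ∈ ℤ`. -/
theorem exists_cdata [Finite G] (S : Setup G)
    (hpm : ∃ a b : IrrCharacter G, a ≠ Helper79.principalIrr G ∧ b ≠ Helper79.principalIrr G ∧
      a ≠ b ∧ ((a : G → ℂ) S.x = 1 ∨ (a : G → ℂ) S.x = -1) ∧
      ((b : G → ℂ) S.x = 1 ∨ (b : G → ℂ) S.x = -1) ∧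
      ∀ θ : IrrCharacter G, θ ≠ Helper79.principalIrr G → θ ≠ a → θ ≠ b →
        (θ : G → ℂ) S.x = 0)
    (hcol : ∀ a b : IrrCharacter G, a ≠ Helper79.principalIrr G → b ≠ Helper79.principalIrr G →
      a ≠ b → ((a : G → ℂ) S.x = 1 ∨ (a : G → ℂ) S.x = -1) →
      ((b : G → ℂ) S.x = 1 ∨ (b : G → ℂ) S.x = -1) →
      (∀ θ : IrrCharacter G, θ ≠ Helper79.principalIrr G → θ ≠ a → θ ≠ b →
        (θ : G → ℂ) S.x = 0) → ∀ g : G, ¬ IsConj S.x g →
      1 + (a : G → ℂ) g * (a : G → ℂ) S.x + (b : G → ℂ) g * (b : G → ℂ) S.x = 0) :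
    Nonempty (CData S) := by
  classical
  obtain ⟨a, b, ha, hb, hab, hax, hbx, hother⟩ := hpm
  have hx1 : S.x ≠ 1 := by
    intro h
    have := S.hx
    rw [h, orderOf_one] at this
    omega
  have hnc1 : ¬ IsConj S.x 1 := fun h => hx1 (isConj_one_left.mp h)
  have hcolab := hcol a b ha hb hab hax hbx hother
  have h1 := hcolab 1 hnc1
  have ha1 : (a : G → ℂ) 1 = (charDegree (a : G → ℂ) : ℂ) := Helper79.irr_one a
  have hb1 : (b : G → ℂ) 1 = (charDegree (b : G → ℂ) : ℂ) := Helper79.irr_one b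
  have hapos : 0 < charDegree (a : G → ℂ) := Helper79.irr_charDegree_pos a
  have hbpos : 0 < charDegree (b : G → ℂ) := Helper79.irr_charDegree_pos b
  rw [ha1, hb1] at h1
  rcases hax with hax | hax <;> rcases hbx with hbx | hbx
  · -- `1 + a(1) + b(1) = 0`: impossible
    exfalso
    rw [hax, hbx] at h1
    have h2 : ((1 + charDegree (a : G → ℂ) + charDegree (b : G → ℂ) : ℕ) : ℂ) = 0 := by
      push_cast
      linear_combination h1
    have h3 : 1 + charDegree (a : G → ℂ) + charDegree (b : G → ℂ) = 0 := by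
      exact_mod_cast h2
    omega
  · exact CD_build S a b ha hb hab hax hbx hother hcolab
  · -- swap the roles
    have hother' : ∀ θ : IrrCharacter G, θ ≠ Helper79.principalIrr G → θ ≠ b → θ ≠ a →
        (θ : G → ℂ) S.x = 0 := fun θ h1 h2 h3 => hother θ h1 h3 h2
    have hcolba := hcol b a hb ha (Ne.symm hab) (Or.inl hbx) (Or.inr hax) hother'
    exact CD_build S b a hb ha (Ne.symm hab) hbx hax hother' hcolba
  · -- `1 - a(1) - b(1) = 0`: impossible
    exfalso
    rw [hax, hbx] at h1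
    have h2 : ((charDegree (a : G → ℂ) + charDegree (b : G → ℂ) : ℕ) : ℂ) = ((1 : ℕ) : ℂ) := by
      push_cast
      linear_combination -h1
    have h3 : charDegree (a : G → ℂ) + charDegree (b : G → ℂ) = 1 := by
      exact_mod_cast h2
    omega

end Cfsg.Agent.Helper76.SC3C
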