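import Mathlib
import Cfsg.Prelude.Def_PLocal
import Cfsg.Agent.Lib.Cores
import Cfsg.Agent.Helper88.SimsD.Defs

/-!
# (SQ) of helper88's farm #13205 (S2772): `|S| = 2 |O_2(Γ)|` when `Γ / O_2(Γ)` is dihedral of order `2q`
-/

set_option autoImplicit false

namespace Cfsg.Agent.Helper76.SimsD

open Cfsg.Agent.Helper88.SimsD Subgroup

/-- (SQ) `|S| = 2 |O_2(Γ)|` when `Γ / O_2(Γ)` is dihedral of order `2q`, `q` odd. -/
theorem card_sylow_eq {Γ : Type*} [Group Γ] [Finite Γ] (S : Sylow 2 Γ) (q : ℕ) (hq : q.Prime)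
    (hq2 : q ≠ 2) (e : Γ ⧸ Cfsg.pCore 2 Γ ≃* DihedralGroup q) :
    Nat.card (S : Subgroup Γ) = 2 * Nat.card (Cfsg.pCore 2 Γ) := by
  have h1 : Nat.card Γ = Nat.card (Γ ⧸ Cfsg.pCore 2 Γ) * Nat.card (Cfsg.pCore 2 Γ) :=
    Subgroup.card_eq_card_quotient_mul_card_subgroup _
  have h2 : Nat.card (Γ ⧸ Cfsg.pCore 2 Γ) = 2 * q := by
    rw [Nat.card_congr e.toEquiv, DihedralGroup.nat_card]
  obtain ⟨a, ha⟩ := (IsPGroup.iff_card).mp (Cfsg.Agent.Lib.isPGroup_pCore (G := Γ) 2)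
  have hq0 : q ≠ 0 := hq.ne_zero
  have hfac : (Nat.card Γ).factorization 2 = a + 1 := by
    rw [h1, h2, ha]
    have e1 : 2 * q * 2 ^ a = 2 ^ (a + 1) * q := by ring
    rw [e1, Nat.factorization_mul (pow_ne_zero _ two_ne_zero) hq0, Nat.factorization_pow,
      Finsupp.add_apply, Finsupp.smul_apply, Nat.prime_two.factorization_self,
      Nat.factorization_eq_zero_of_not_dvd, smul_eq_mul, mul_one, add_zero]
    intro hdvd
    exact hq2 ((Nat.prime_dvd_prime_iff_eq Nat.prime_two hq).mp hdvd).symm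
  rw [Sylow.card_eq_multiplicity, hfac, ha, pow_succ, mul_comm]

end Cfsg.Agent.Helper76.SimsD
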