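import Mathlib
import Cfsg.Prelude.Def_Classical
import Cfsg.Agent.Helper51.SqComm
import Cfsg.Agent.Helper84.PSLnGenU
import Cfsg.Agent.Helper84.PSUMain

/-!
# (U) for helper51's S4625, part a: the reduction to the squares of the elements of `Q`

The Sylow 2-subgroups of `PSU_n(q)`, `q` even, `n = 2k + r ≥ 3`, have elementary abelian commutator
quotient as soon as `x ^ 2 ∈ ⁅U0, U0⁆` for all `x ∈ Q` (the unipotent radical of the stabiliser of the
maximal isotropic subspace) in the hyperbolic model of helper84.  For `r = 0` this holds since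
`Q = R` is elementary abelian.
-/

set_option autoImplicit false
set_option linter.unusedVariables false
set_option linter.unusedSectionVars false

namespace Cfsg.Agent.Helper76.SqU

open Matrix Cfsg Cfsg.Agent.Helper51.SQ Cfsg.Agent.Helper14.AutPSL Cfsg.Agent.Helper84.PSLn
  Cfsg.Agent.Helper84.PSU

/-- the elements of `R` are involutions in characteristic 2 -/
theorem squ_sq_eq_one_of_mem_R {K : Type*} [Field K] [CharP K 2] {k r : ℕ} (bar : K →+* K)
    {g : SUm k r bar} (hg : g ∈ R bar) : g ^ 2 = 1 := by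
  have h1 := eq_EF_of_mem_R bar hg
  have h2 := mt_mul_of_EF bar h1 h1
  apply mt_injective
  rw [sq, mt_one]
  have h3 : (Matrix.of fun i j => (mt bar g - 1) (eI i) (fI j) : Matrix (Fin k) (Fin k) K) +
      (Matrix.of fun i j => (mt bar g - 1) (eI i) (fI j)) = 0 := by
    ext i j
    rw [Matrix.add_apply, CharTwo.add_self_eq_zero]
    rfl
  rw [h3, EF_zero] at h2
  exact sub_eq_zero.mp h2

/-- `U0` has elementary abelian commutator quotient as soon as the squares of the elements of `Q`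
lie in its derived subgroup -/
theorem squ_sqComm_U0 {K : Type*} [Field K] [CharP K 2] {k r : ℕ} (bar : K →+* K)
    (hb : ∀ x, bar (bar x) = x) (hr : r ≤ 1)
    (hQ : ∀ q ∈ (Q bar : Subgroup (SUm k r bar)), q ^ 2 ∈ ⁅(U0 bar : Subgroup (SUm k r bar)), U0 bar⁆) :
    SqComm (U0 bar : Subgroup (SUm k r bar)) := by
  classical
  have hcl : Subgroup.closure (rootSet k K) = UT k K := by
    apply le_antisymm
    · rw [Subgroup.closure_le]
      rintro x ⟨i, j, hij, t, rfl⟩
      exact tv_single_mem_UT hij t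
    · exact UT_le_closure_rootSet
  refine sqComm_of_closure (U0 bar)
    (((Q bar : Subgroup (SUm k r bar)) : Set (SUm k r bar)) ∪
      (lv bar hb : _ →* SUm k r bar) '' rootSet k K) ?_ ?_
  · apply le_antisymm
    · rw [Subgroup.closure_le]
      rintro g (hg | ⟨x, hx, rfl⟩)
      · exact Q_le_U0 bar hg
      · rw [SetLike.mem_coe, lv_mem_U0_iff, ← hcl]
        exact Subgroup.subset_closure hx
    · intro g hg
      obtain ⟨q, hq, A, hA, rfl⟩ := exists_Q_mul_lv bar hb hr hg
      apply mul_mem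
      · exact Subgroup.subset_closure (Or.inl hq)
      · have h1 : (lv bar hb A : SUm k r bar) ∈
            (Subgroup.closure (rootSet k K)).map (lv bar hb : _ →* SUm k r bar) := by
          rw [hcl]
          exact Subgroup.mem_map_of_mem _ hA
        rw [MonoidHom.map_closure] at h1
        exact Subgroup.closure_mono Set.subset_union_right h1
  · rintro g (hg | ⟨x, ⟨i, j, hij, t, rfl⟩, rfl⟩)
    · exact hQ g hg
    · rw [← map_pow, sq, tv_mul_center]
      have hφ : (Pi.single j 1 : Fin k → K) + Pi.single j 1 = 0 := by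
        ext l
        rw [Pi.add_apply, CharTwo.add_self_eq_zero]
        rfl
      have h1 : tv (t • Pi.single i 1) ((Pi.single j 1 : Fin k → K) + Pi.single j 1)
          (by rw [hφ, zero_dotProduct]) = 1 := by
        apply Subtype.ext
        rw [tv_coe, hφ, vecMulVec_zero, add_zero]
        rfl
      rw [h1, map_one]
      exact one_mem _

/-- for `r = 0` the group `Q` is `R` -/
theorem squ_Q_even {K : Type*} [Field K] [CharP K 2] {k : ℕ} (bar : K →+* K)
    (hb : ∀ x, bar (bar x) = x) {q : SUm k 0 bar} (hq : q ∈ Q bar) : q ^ 2 = 1 := by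
  apply squ_sq_eq_one_of_mem_R bar
  apply mem_R_of_bX bar hb hq
  ext i b
  exact b.elim0

/-- the transfer from the model to `PSU_{2k+r}(q)` -/
theorem squ_transfer {F : Type*} [Field F] [Fintype F] [CharP F 2] (q : ℕ)
    (hF : Fintype.card F = q ^ 2) (k r : ℕ) (hr : r ≤ 1) (hk1 : 1 ≤ k)
    (hQ : ∀ (bar : F →+* F), (∀ x, bar (bar x) = x) → (∀ x : F, bar x = x → ∃ y, y + bar y = x) →
      ∀ g ∈ (Q bar : Subgroup (SUm k r bar)), g ^ 2 ∈ ⁅(U0 bar : Subgroup (SUm k r bar)), U0 bar⁆)
    (P : Sylow 2 (PSU (2 * k + r) F q)) : SqComm (P : Subgroup (PSU (2 * k + r) F q)) := by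
  classical
  have : Fact (Nat.Prime 2) := ⟨Nat.prime_two⟩
  obtain ⟨bar, hq⟩ := Cfsg.Agent.Helper45.GU.exists_bar hF
  have hb : ∀ x, bar (bar x) = x := by
    intro x
    rw [hq, hq]
    exact Cfsg.Agent.Helper13.frob_frob hF x
  have htr : ∀ y : F, bar y = y → ∃ t, t + bar t = y := by
    intro y hy
    obtain ⟨t, ht⟩ := Cfsg.Agent.Helper13.exists_trace_eq_of_fixed hF (a := y) (by rw [← hq]; exact hy)
    exact ⟨t, by rw [hq]; exact ht⟩
  have hnm : ∀ y : F, bar y = y → ∃ t, t * bar t = y := by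
    intro y hy
    obtain ⟨t, ht⟩ := Cfsg.Agent.Helper13.exists_norm_eq_of_fixed hF (a := y) (by rw [← hq]; exact hy)
    exact ⟨t, by rw [hq]; exact ht⟩
  obtain ⟨c₀, hc₀, hc₀q⟩ := Cfsg.Agent.Helper5.exists_trace_zero hF
  have hc₀' : c₀ + bar c₀ = 0 := by rw [hq, hc₀q, add_neg_cancel]
  obtain ⟨s₀, hs₀⟩ : ∃ s₀ : F, bar s₀ ≠ s₀ := by
    by_contra hcon
    push Not at hcon
    exact Cfsg.Agent.Helper45.GU.bar_ne_id hF bar hq (RingHom.ext hcon)
  obtain ⟨φ⟩ := exists_iso (k := k) (r := r) bar hb q hq hnm hs₀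
  have : Finite (Matrix.SpecialLinearGroup (I k r) F) := by
    unfold Matrix.SpecialLinearGroup
    infer_instance
  have : Finite (Matrix.SpecialLinearGroup (Fin (2 * k + r)) F) := by
    unfold Matrix.SpecialLinearGroup
    infer_instance
  obtain ⟨f, hfdef⟩ : ∃ f : ↥(SUm k r bar) →* Cfsg.PSU (2 * k + r) F q,
      f = (QuotientGroup.mk' (Subgroup.center (Cfsg.SU (2 * k + r) F q))).comp φ.toMonoidHom := ⟨_, rfl⟩
  have hfa : ∀ g, f g = QuotientGroup.mk' (Subgroup.center (Cfsg.SU (2 * k + r) F q)) (φ g) := by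
    intro g
    rw [hfdef]
    rfl
  have hf : Function.Surjective f := by
    intro y
    obtain ⟨x, rfl⟩ := QuotientGroup.mk'_surjective _ y
    refine ⟨φ.symm x, ?_⟩
    rw [hfa, MulEquiv.apply_symm_apply]
  obtain ⟨S₀', hS₀'⟩ := exists_sylow_U0 (K := F) (k := k) (r := r) bar hb 2 hr hk1 hc₀ hc₀'
  have h0 : ∀ S : Sylow 2 ↥(SUm k r bar), SqComm (S : Subgroup ↥(SUm k r bar)) :=
    sylow_all_of_one S₀' (by rw [hS₀']; exact squ_sqComm_U0 bar hb hr (hQ bar hb htr))
  exact sylow_all_of_surjective f hf h0 P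

end Cfsg.Agent.Helper76.SqU
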