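import Mathlib
import Cfsg.Agent.Helper84.PSUMain

/-!
# (U) for helper51's S4625, part b: `R` centralizes `Q`
-/

set_option autoImplicit false
set_option linter.unusedVariables false
set_option linter.unusedSectionVars false

namespace Cfsg.Agent.Helper76.SqU

open Matrix Cfsg.Agent.Helper40.UT Cfsg.Agent.Helper84.PSU

/-- `R` centralizes `Q` -/
theorem squ_R_comm_Q {K : Type*} [Field K] {k r : ℕ} (bar : K →+* K)
    {g h : SUm k r bar} (hg : g ∈ R bar) (hh : h ∈ Q bar) : g * h = h * g := by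
  have hg' : RaisesBy lvc 2 (mt bar g - 1) := hg
  have hh' : RaisesBy lvc 1 (mt bar h - 1) := hh
  have h1 : (mt bar g - 1) * (mt bar h - 1) = 0 := by
    have := hg'.mul hh'
    exact RaisesBy.eq_zero (fun x y => lvc_bound x y) (by simpa using this)
  have h2 : (mt bar h - 1) * (mt bar g - 1) = 0 := by
    have := hh'.mul hg'
    exact RaisesBy.eq_zero (fun x y => lvc_bound x y) (by simpa using this)
  apply mt_injective
  rw [mt_mul, mt_mul]
  have e1 : mt bar g * mt bar h = (mt bar g - 1) * (mt bar h - 1) + (mt bar g - 1) + (mt bar h - 1) + 1 := by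
    noncomm_ring
  have e2 : mt bar h * mt bar g = (mt bar h - 1) * (mt bar g - 1) + (mt bar g - 1) + (mt bar h - 1) + 1 := by
    noncomm_ring
  rw [e1, e2, h1, h2]

/-- if `q = e * ρ` with `ρ ∈ R`, `e ∈ Q`, in characteristic 2, then `q ^ 2 = e ^ 2` -/
theorem squ_sq_of_mul_R {K : Type*} [Field K] [CharP K 2] {k r : ℕ} (bar : K →+* K)
    {e ρ : SUm k r bar} (he : e ∈ Q bar) (hρ : ρ ∈ R bar) (hρ2 : ρ ^ 2 = 1) : (e * ρ) ^ 2 = e ^ 2 := by
  have hc := squ_R_comm_Q bar hρ he
  calc (e * ρ) ^ 2 = e * (ρ * e) * ρ := by rw [sq]; group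
    _ = e * (e * ρ) * ρ := by rw [hc]
    _ = e ^ 2 * ρ ^ 2 := by rw [sq, sq]; group
    _ = e ^ 2 := by rw [hρ2, mul_one]

end Cfsg.Agent.Helper76.SqU
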