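import Mathlib
import Cfsg.Agent.Helper84.PSUMain

/-!
# (U) for helper51's S4625, part c: a commutator of Eichler elements in characteristic 2
-/

set_option autoImplicit false
set_option linter.unusedVariables false
set_option linter.unusedSectionVars false

namespace Cfsg.Agent.Helper76.SqU

open Matrix Cfsg.Agent.Helper84.PSU
open scoped commutatorElement

/-- matrix form: `E * E' = E * E * E' * E` for `E = eichM u w c1`, `E' = eichM u (lam • w) c2` -/
theorem squ_eichM_comm {K : Type*} [Field K] [CharP K 2] {k r : ℕ} (bar : K →+* K)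
    (hb : ∀ x, bar (bar x) = x) {u w : I k r → K} (lam c1 c2 : K) (huu : hf bar u u = 0)
    (hwu : hf bar w u = 0) (hww : hf bar w w = 1) (hlam : lam + bar lam = 1) :
    eichM bar u w c1 * eichM bar u (lam • w) c2 =
      eichM bar u w c1 * eichM bar u w c1 * eichM bar u (lam • w) c2 * eichM bar u w c1 := by
  have hlwu : hf bar (lam • w) u = 0 := by rw [hf_smul_left, hwu, mul_zero]
  have h0u : hf bar (0 : I k r → K) u = 0 := hf_zero_left bar u
  have hw2 : w + w = 0 := by
    ext x
    rw [Pi.add_apply, CharTwo.add_self_eq_zero]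
    rfl
  have h1 : eichM bar u w c1 * eichM bar u w c1 = eichM bar u 0 1 := by
    rw [eichM_mul bar hb c1 c1 huu hwu hwu, hw2, hww, CharTwo.add_self_eq_zero, zero_sub,
      CharTwo.neg_eq]
  have h2 : eichM bar u 0 1 * eichM bar u (lam • w) c2 = eichM bar u (lam • w) (1 + c2) := by
    rw [eichM_mul bar hb 1 c2 huu h0u hlwu, zero_add, hf_zero_right, sub_zero]
  have h3 : eichM bar u (lam • w) (1 + c2) * eichM bar u w c1 =
      eichM bar u (lam • w + w) (1 + c2 + c1 - bar lam) := by
    rw [eichM_mul bar hb (1 + c2) c1 huu hlwu hwu, hf_smul_right, hww, mul_one]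
  have h4 : eichM bar u w c1 * eichM bar u (lam • w) c2 = eichM bar u (w + lam • w) (c1 + c2 - lam) := by
    rw [eichM_mul bar hb c1 c2 huu hwu hlwu, hf_smul_left, hww, mul_one]
  rw [h1, h2, h3, h4, add_comm w (lam • w)]
  congr 1
  have h5 : bar lam = 1 - lam := by rw [← hlam]; ring
  rw [h5]
  have h6 : (1 : K) + 1 = 0 := CharTwo.add_self_eq_zero 1
  linear_combination (-lam) * h6

/-- group form: `⁅ε, ε'⁆ = ε ^ 2` -/
theorem squ_eich_comm {K : Type*} [Field K] [CharP K 2] {k r : ℕ} (bar : K →+* K)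
    (hb : ∀ x, bar (bar x) = x) {u w : I k r → K} (lam c1 c2 : K) (huu : hf bar u u = 0)
    (hwu : hf bar w u = 0) (hww : hf bar w w = 1) (hlam : lam + bar lam = 1)
    (hlwu : hf bar (lam • w) u = 0)
    (hc1 : c1 + bar c1 + hf bar w w = 0) (hc2 : c2 + bar c2 + hf bar (lam • w) (lam • w) = 0) :
    ⁅(eich bar hb u w c1 huu hwu hc1 : SUm k r bar), eich bar hb u (lam • w) c2 huu hlwu hc2⁆ =
      (eich bar hb u w c1 huu hwu hc1) ^ 2 := by
  have h : (eich bar hb u w c1 huu hwu hc1 : SUm k r bar) * eich bar hb u (lam • w) c2 huu hlwu hc2 =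
      eich bar hb u w c1 huu hwu hc1 * eich bar hb u w c1 huu hwu hc1 *
        eich bar hb u (lam • w) c2 huu hlwu hc2 * eich bar hb u w c1 huu hwu hc1 := by
    apply mt_injective
    rw [mt_mul, mt_mul, mt_mul, mt_mul, mt_eich, mt_eich]
    exact squ_eichM_comm bar hb lam c1 c2 huu hwu hww hlam
  rw [commutatorElement_def, h, sq]
  group

end Cfsg.Agent.Helper76.SqU
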