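import Mathlib
import Cfsg.Agent.Helper84.PSUMain
import Cfsg.Agent.Helper76.SqUa
import Cfsg.Agent.Helper76.SqUb
import Cfsg.Agent.Helper76.SqUc

/-!
# (U) for helper51's S4625, part d: the squares of the elements of `Q` for `r = 1`
-/

set_option autoImplicit false
set_option linter.unusedVariables false
set_option linter.unusedSectionVars false

namespace Cfsg.Agent.Helper76.SqU

open Matrix Cfsg.Agent.Helper84.PSU
open scoped commutatorElement

/-- Eichler elements with centre in the span of the `e_i` and direction without `f`-components lie in `Q` -/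
theorem squ_eich_mem_Q {K : Type*} [Field K] {k r : ℕ} (bar : K →+* K) (hb : ∀ x, bar (bar x) = x)
    {u y : I k r → K} (hu : InE u) (hy : ∀ j : Fin k, y (fI j) = 0) (c : K) (huu : hf bar u u = 0)
    (hyu : hf bar y u = 0) (hc : c + bar c + hf bar y y = 0) :
    (eich bar hb u y c huu hyu hc : SUm k r bar) ∈ Q bar := by
  intro a b hab
  rw [mt_eich, eichM_sub_one_apply] at hab
  rcases a with i | a' | i <;> rcases b with j | b' | j <;>
    simp [hu.1, hu.2, hy] at hab ⊢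

/-- the squares of the elements of `Q` are commutators, `r = 1` -/
theorem sq_mem_commutator_of_mem_Q_odd {K : Type*} [Field K] [CharP K 2] {k : ℕ}
    (bar : K →+* K) (hb : ∀ x, bar (bar x) = x)
    (htr : ∀ x : K, bar x = x → ∃ y, y + bar y = x)
    {q : SUm k 1 bar} (hq : q ∈ Q bar) :
    q ^ 2 ∈ ⁅(U0 bar : Subgroup (SUm k 1 bar)), U0 bar⁆ := by
  obtain ⟨lam, hlam⟩ := htr 1 (map_one bar)
  have hlamfix : bar (lam * bar lam) = lam * bar lam := by rw [map_mul, hb, mul_comm]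
  obtain ⟨c2, hc2⟩ := htr (lam * bar lam) hlamfix
  obtain ⟨x, hx⟩ : ∃ x : Fin k → K, x = fun i => bX (mt bar q) i 0 := ⟨_, rfl⟩
  obtain ⟨u, hudef⟩ : ∃ u : I k 1 → K, u = embE x := ⟨_, rfl⟩
  obtain ⟨w, hwdef⟩ : ∃ w : I k 1 → K, w = bv (wI 0) := ⟨_, rfl⟩
  have hu : InE u := by rw [hudef]; exact inE_embE x
  have huu : hf bar u u = 0 := hf_of_inE bar hu hu
  have hwu : hf bar w u = 0 := by
    rw [hwdef, hf_bv_left, op_wI, hu.1, map_zero]
  have hww : hf bar w w = 1 := by rw [hwdef, hf_bv_ww, if_pos rfl]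
  have hc1 : lam + bar lam + hf bar w w = 0 := by
    rw [hww, hlam]
    exact CharTwo.add_self_eq_zero 1
  have hlwu : hf bar (lam • w) u = 0 := by rw [hf_smul_left, hwu, mul_zero]
  have hc2' : c2 + bar c2 + hf bar (lam • w) (lam • w) = 0 := by
    rw [hf_smul_left, hf_smul_right, hww, mul_one, hc2]
    exact CharTwo.add_self_eq_zero _
  have hwf : ∀ j : Fin k, w (fI j) = 0 := by
    intro j
    rw [hwdef, bv_apply, if_neg (by simp)]
  have hlwf : ∀ j : Fin k, (lam • w) (fI j) = 0 := by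
    intro j
    rw [Pi.smul_apply, hwf, smul_zero]
  obtain ⟨ε, hε⟩ : ∃ ε : SUm k 1 bar, ε = eich bar hb u w lam huu hwu hc1 := ⟨_, rfl⟩
  obtain ⟨ε', hε'⟩ : ∃ ε' : SUm k 1 bar, ε' = eich bar hb u (lam • w) c2 huu hlwu hc2' := ⟨_, rfl⟩
  have hεQ : ε ∈ Q bar := by rw [hε]; exact squ_eich_mem_Q bar hb hu hwf lam huu hwu hc1
  have hε'Q : ε' ∈ Q bar := by rw [hε']; exact squ_eich_mem_Q bar hb hu hlwf c2 huu hlwu hc2'
  have hbX : bX (mt bar ε) = bX (mt bar q) := by
    ext i b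
    have hb0 : b = 0 := Subsingleton.elim _ _
    subst hb0
    rw [bX_apply, bX_apply, hε, mt_eich, eichM_apply, if_neg (by simp), op_wI, hu.1, map_zero, mul_zero,
      mul_zero, mul_zero, add_zero, zero_add, hwdef, bv_apply, if_pos rfl, map_one, mul_one, zero_sub,
      hudef, hx, CharTwo.neg_eq]
    rfl
  have hρ : ε⁻¹ * q ∈ R bar := by
    apply mem_R_of_bX bar hb (mul_mem (inv_mem hεQ) hq)
    rw [bX_mul_Q bar (inv_mem hεQ) hq, bX_inv_Q bar hεQ, hbX, neg_add_cancel]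
  have hq2 : q ^ 2 = ε ^ 2 := by
    have h1 := squ_sq_of_mul_R bar hεQ hρ (squ_sq_eq_one_of_mem_R bar hρ)
    rwa [mul_inv_cancel_left] at h1
  rw [hq2, hε, ← squ_eich_comm bar hb lam lam c2 huu hwu hww hlam hlwu hc1 hc2']
  rw [← hε, ← hε']
  exact Subgroup.commutator_mem_commutator (Q_le_U0 bar hεQ) (Q_le_U0 bar hε'Q)

end Cfsg.Agent.Helper76.SqU
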