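import Mathlib
import Cfsg.Prelude.Def_Classical
import Cfsg.Agent.Helper51.SqComm
import Cfsg.Agent.Helper76.SqUa
import Cfsg.Agent.Helper76.SqUd

/-!
# (U) for helper51's S4625: the Sylow 2-subgroups of `PSU_n(q)`, `q` even, `n ≥ 3`, have
elementary abelian commutator quotient
-/

set_option autoImplicit false
set_option linter.unusedVariables false

namespace Cfsg.Agent.Helper76.SqU

open Matrix Cfsg Cfsg.Agent.Helper51.SQ Cfsg.Agent.Helper84.PSU

/-- (U) -/
theorem sq_PSU {F : Type*} [Field F] [Fintype F] [CharP F 2] (n q : ℕ)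
    (hF : Fintype.card F = q ^ 2) (hn : 3 ≤ n) (P : Sylow 2 (PSU n F q)) :
    SqComm (P : Subgroup (PSU n F q)) := by
  obtain ⟨k, r, hr, hk1, rfl⟩ : ∃ k r : ℕ, r ≤ 1 ∧ 1 ≤ k ∧ n = 2 * k + r :=
    ⟨n / 2, n % 2, by omega, by omega, by omega⟩
  refine squ_transfer q hF k r hr hk1 ?_ P
  intro bar hb htr g hg
  obtain rfl | rfl : r = 0 ∨ r = 1 := by omega
  · rw [squ_Q_even bar hb hg]
    exact one_mem _
  · exact sq_mem_commutator_of_mem_Q_odd bar hb htr hg

end Cfsg.Agent.Helper76.SqU
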