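import Mathlib

/-!
# Discriminants of isometric diagonal forms differ by a square (piece (N4) for helper99, #4578)
-/

set_option autoImplicit false

namespace Cfsg.Agent.Helper76.USpSq

universe u v w

theorem isSquare_prod_mul_prod {F : Type u} [Field F] {K : Type v} {K' : Type w}
    [AddCommGroup K] [Module F K] [AddCommGroup K'] [Module F K']
    (h : LinearMap.BilinForm F K) (h' : LinearMap.BilinForm F K') (T : K →ₗ[F] K')
    (hT : ∀ x y, h' (T x) (T y) = h x y) {ι : Type} [Fintype ι] [DecidableEq ι]
    (e : ι → K) (e' : ι → K') (α α' : ι → F)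
    (he : ∀ a b, h (e a) (e b) = if a = b then α a else 0)
    (he' : ∀ a b, h' (e' a) (e' b) = if a = b then α' a else 0)
    (hdec : ∀ x : K', ∃ c : ι → F, ∃ r : K', x = ∑ a, c a • e' a + r ∧
      ∀ y, h' r y = 0 ∧ h' y r = 0) :
    IsSquare ((∏ a, α a) * ∏ a, α' a) := by
  classical
  choose c r hx hr using hdec
  -- the coefficient matrix of `T (e a)`
  let P : Matrix ι ι F := fun a b => c (T (e a)) b
  have hbil : ∀ x y : K', h' x y = ∑ k, c x k * α' k * c y k := by
    intro x y
    have z1 : ∀ w, h' (r x) w = 0 := fun w => (hr x w).1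
    have z2 : ∀ w, h' w (r y) = 0 := fun w => (hr y w).2
    have e1 : h' x y = h' (∑ k, c x k • e' k + r x) (∑ k, c y k • e' k + r y) := by
      rw [← hx x, ← hx y]
    rw [e1]
    simp only [map_add, LinearMap.add_apply, z1, z2, add_zero]
    simp only [map_sum, LinearMap.sum_apply, map_smul, LinearMap.smul_apply, he', smul_eq_mul,
      mul_ite, mul_zero, Finset.sum_ite_eq, Finset.sum_ite_eq', Finset.mem_univ, if_true]
    refine Finset.sum_congr rfl (fun k _ => ?_)
    ring
  have hform : ∀ a b, h (e a) (e b) = ∑ k, P a k * α' k * P b k := by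
    intro a b
    rw [← hT (e a) (e b), hbil]
  have hmat : Matrix.diagonal α = P * Matrix.diagonal α' * P.transpose := by
    ext a b
    rw [Matrix.diagonal_apply, ← he a b, hform a b, Matrix.mul_apply]
    refine Finset.sum_congr rfl (fun k _ => ?_)
    rw [Matrix.mul_diagonal, Matrix.transpose_apply]
  have hdet := congrArg Matrix.det hmat
  rw [Matrix.det_diagonal, Matrix.det_mul, Matrix.det_mul, Matrix.det_diagonal,
    Matrix.det_transpose] at hdet
  refine ⟨P.det * ∏ a, α' a, ?_⟩
  rw [hdet]
  ring

end Cfsg.Agent.Helper76.USpSq
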