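import Mathlib
import Cfsg.Prelude.Def_Blocks
import Cfsg.Agent.Helper80.Eigen
import Cfsg.Agent.Helper82.BurnsideSum
import Cfsg.Agent.Helper15.IndChar

/-!
# Gallagher's vanishing-coset criterion (helper76)

For `N ⊴ G` and `χ ∈ Irr(G)`: `χ_N` is reducible iff `χ` vanishes on a whole coset of `N`.
The proof is the Burnside-type Galois averaging argument applied to the coset averages
`|N|⁻¹ ∑_{u ∈ N} ‖χ (g u)‖²`, which are power sums of roots of unity (eigenvalues of `g` on the
`N`-fixed points of `End V`).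
-/

set_option autoImplicit false

namespace Cfsg.Agent.Helper76

open Module
open scoped ComplexConjugate

/-- For a representation `τ`, a finite subgroup `P` and an element `g` of finite order
normalizing `P`: the averages `|P|⁻¹ ∑_{u ∈ P} τ.character (g^k u)` are the power sums of a family
of roots of unity (the eigenvalues of `g` on the `P`-fixed points). -/
theorem exists_eigen_average {G U : Type*} [Group G] [AddCommGroup U] [Module ℂ U]
    [FiniteDimensional ℂ U] (τ : Representation ℂ G U) (P : Subgroup G) [Fintype P] (g : G)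
    (hnorm : ∀ u ∈ P, g⁻¹ * u * g ∈ P) (M : ℕ) (hM : 0 < M) (hgM : g ^ M = 1) :
    ∃ (r : ℕ) (μ : Fin r → ℂ), (∀ i, μ i ^ M = 1) ∧
      ∀ k : ℕ, (Fintype.card P : ℂ)⁻¹ * ∑ u : P, τ.character (g ^ k * (u : G)) = ∑ i, μ i ^ k := by
  classical
  set c : ℂ := (Fintype.card P : ℂ) with hc
  have hc0 : c ≠ 0 := by
    rw [hc]; exact_mod_cast Fintype.card_ne_zero
  set T : Module.End ℂ U := c⁻¹ • ∑ u : P, τ (u : G) with hT
  set W : Submodule ℂ U :=
    Representation.invariants (MonoidHom.comp τ P.subtype : Representation ℂ P U) with hW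
  have hWmem : ∀ v, v ∈ W ↔ ∀ u : P, τ (u : G) v = v := fun v => by
    rw [hW, Representation.mem_invariants]; rfl
  have hTW : ∀ x, T x ∈ W := by
    intro x
    rw [hWmem]
    intro v
    rw [hT, LinearMap.smul_apply, map_smul, LinearMap.sum_apply, map_sum]
    congr 1
    have : ∀ u : P, τ (v : G) (τ (u : G) x) = τ ((v * u : P) : G) x := by
      intro u
      rw [Subgroup.coe_mul, map_mul, Module.End.mul_apply]
    simp_rw [this]
    exact Fintype.sum_equiv (Equiv.mulLeft v) _ _ (fun u => rfl)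
  have hTfix : ∀ w ∈ W, T w = w := by
    intro w hw
    rw [hWmem] at hw
    rw [hT, LinearMap.smul_apply, LinearMap.sum_apply]
    simp_rw [hw]
    rw [Finset.sum_const, Finset.card_univ, ← Nat.cast_smul_eq_nsmul ℂ, smul_smul, ← hc,
      inv_mul_cancel₀ hc0, one_smul]
  have hAW : ∀ w ∈ W, τ g w ∈ W := by
    intro w hw
    rw [hWmem] at hw ⊢
    intro u
    have h1 : (u : G) * g = g * (g⁻¹ * u * g) := by group
    rw [← Module.End.mul_apply, ← map_mul, h1, map_mul, Module.End.mul_apply]
    have := hw ⟨g⁻¹ * u * g, hnorm u u.2⟩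
    rw [this]
  have hpow : ((τ g).restrict hAW) ^ M = 1 := by
    ext w
    rw [Module.End.pow_restrict M hAW]
    simp only [LinearMap.coe_restrict_apply, Module.End.one_apply]
    rw [← map_pow, hgM, map_one, Module.End.one_apply]
  obtain ⟨b, μ, -, hμ, htr⟩ :=
    Cfsg.Agent.Helper80.exists_eigen_data ((τ g).restrict hAW) M hM hpow
  refine ⟨_, μ, hμ, fun k => ?_⟩
  rw [← htr k]
  -- the operator τ(g^k) T
  have hAWk : ∀ w ∈ W, (τ g ^ k) w ∈ W := by
    intro w hw
    induction k with
    | zero => simpa using hw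
    | succ k ih => rw [pow_succ', Module.End.mul_apply]; exact hAW _ ih
  set f : Module.End ℂ U := (τ g ^ k) * T with hf
  have hfW : ∀ x, f x ∈ W := fun x => hAWk _ (hTW x)
  have hfW' : ∀ x ∈ W, f x ∈ W := fun x _ => hfW x
  have htr1 : LinearMap.trace ℂ W (f.restrict hfW') = LinearMap.trace ℂ U f :=
    LinearMap.trace_restrict_eq_of_forall_mem W f hfW hfW'
  have hrestr : f.restrict hfW' = ((τ g).restrict hAW) ^ k := by
    ext w
    rw [Module.End.pow_restrict k hAW]
    simp only [LinearMap.coe_restrict_apply, hf, Module.End.mul_apply]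
    rw [hTfix w w.2]
  have hsum : LinearMap.trace ℂ U f = c⁻¹ * ∑ u : P, τ.character (g ^ k * (u : G)) := by
    rw [hf, hT]
    rw [mul_smul_comm, map_smul, smul_eq_mul, Finset.mul_sum, map_sum]
    congr 1
    refine Finset.sum_congr rfl fun u _ => ?_
    show LinearMap.trace ℂ U (τ g ^ k * τ (u : G)) = LinearMap.trace ℂ U (τ (g ^ k * (u : G)))
    rw [map_mul τ, map_pow]
  rw [← hsum, ← htr1, hrestr]

/-- AM–GM form of the Galois norm argument, without squares. -/
theorem totient_le_sum_norm_powersum {ι : Type*} [Fintype ι] (n : ℕ) (hn : 0 < n) (μ : ι → ℂ)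
    (hμ : ∀ i, μ i ^ n = 1) (h0 : ∑ i, μ i ≠ 0) :
    (n.totient : ℝ) ≤
      ∑ k ∈ (Finset.range n).filter (fun k => k.Coprime n), ‖∑ i, μ i ^ k‖ := by
  classical
  have hprod := Cfsg.Agent.Helper82.one_le_prod_norm_powersum n hn μ hμ h0
  set s := (Finset.range n).filter (fun k => k.Coprime n) with hs
  have hcard : s.card = n.totient := by
    rw [Nat.totient_eq_card_coprime]
    congr 1
    ext k
    simp only [hs, Finset.mem_filter, Finset.mem_range, Nat.coprime_comm]
  have hpos : ∀ k ∈ s, 0 < ‖∑ i, μ i ^ k‖ := by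
    intro k hk
    rcases (norm_nonneg (∑ i, μ i ^ k)).lt_or_eq with h | h
    · exact h
    · exfalso
      have : ∏ k ∈ s, ‖∑ i, μ i ^ k‖ = 0 := Finset.prod_eq_zero hk h.symm
      rw [this] at hprod
      linarith
  have := Cfsg.Agent.Helper82.card_le_sum_of_one_le_prod s (fun k => ‖∑ i, μ i ^ k‖) hpos hprod
  rwa [hcard] at this

/-- The average of `‖χ‖²` over the coset `g N`. -/
noncomputable def cosetAvg {G : Type*} [Group G] (N : Subgroup G) [Fintype N] (χ : G → ℂ)
    (g : G) : ℝ :=
  (Fintype.card N : ℝ)⁻¹ * ∑ u : N, ‖χ (g * (u : G))‖ ^ 2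

theorem cosetAvg_nonneg {G : Type*} [Group G] (N : Subgroup G) [Fintype N] (χ : G → ℂ)
    (g : G) : 0 ≤ cosetAvg N χ g := by
  unfold cosetAvg
  apply mul_nonneg
  · positivity
  · exact Finset.sum_nonneg fun u _ => sq_nonneg _

theorem cosetAvg_eq_zero_iff {G : Type*} [Group G] (N : Subgroup G) [Fintype N] (χ : G → ℂ)
    (g : G) : cosetAvg N χ g = 0 ↔ ∀ u : N, χ (g * (u : G)) = 0 := by
  unfold cosetAvg
  have hc : (Fintype.card N : ℝ)⁻¹ ≠ 0 := by
    apply inv_ne_zero
    exact_mod_cast Fintype.card_ne_zero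
  rw [mul_eq_zero, or_iff_right hc,
    Finset.sum_eq_zero_iff_of_nonneg (fun u _ => sq_nonneg _)]
  constructor
  · intro h u
    have := h u (Finset.mem_univ u)
    rwa [sq_eq_zero_iff, norm_eq_zero] at this
  · intro h u _
    rw [h u, norm_zero]; ring

theorem exists_eigen_cosetAvg {G V : Type*} [Group G] [Finite G] [AddCommGroup V] [Module ℂ V]
    [FiniteDimensional ℂ V] (ρ : Representation ℂ G V) (N : Subgroup G) [N.Normal] [Fintype N]
    (g : G) :
    ∃ (r : ℕ) (μ : Fin r → ℂ), (∀ i, μ i ^ (Nat.card G) = 1) ∧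
      ∀ k : ℕ, ((cosetAvg N ρ.character (g ^ k) : ℝ) : ℂ) = ∑ i, μ i ^ k := by
  obtain ⟨r, μ, hμ, h⟩ := exists_eigen_average (Representation.linHom ρ ρ) N g
    (fun u hu => by
      have := ‹N.Normal›.conj_mem u hu g⁻¹
      simpa using this) (Nat.card G) Nat.card_pos pow_card_eq_one'
  refine ⟨r, μ, hμ, fun k => ?_⟩
  rw [← h k]
  unfold cosetAvg
  push_cast
  congr 1
  refine Finset.sum_congr rfl fun u _ => ?_
  rw [Representation.char_linHom, Cfsg.Agent.Helper79.char_inv, Complex.conj_mul']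

theorem totient_le_sum_cosetAvg {G V : Type*} [Group G] [Finite G] [AddCommGroup V] [Module ℂ V]
    [FiniteDimensional ℂ V] (ρ : Representation ℂ G V) (N : Subgroup G) [N.Normal] [Fintype N]
    (g : G) (h0 : cosetAvg N ρ.character g ≠ 0) :
    ((Nat.card G).totient : ℝ) ≤
      ∑ k ∈ (Finset.range (Nat.card G)).filter (fun k => k.Coprime (Nat.card G)),
        cosetAvg N ρ.character (g ^ k) := by
  obtain ⟨r, μ, hμ, h⟩ := exists_eigen_cosetAvg ρ N g
  have h1 : ∑ i, μ i ≠ 0 := by
    have := h 1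
    simp only [pow_one] at this
    rw [← this]
    exact_mod_cast h0
  have := totient_le_sum_norm_powersum (Nat.card G) Nat.card_pos μ hμ h1
  refine this.trans (le_of_eq ?_)
  refine Finset.sum_congr rfl fun k _ => ?_
  rw [← h k, Complex.norm_real, Real.norm_eq_abs, abs_of_nonneg (cosetAvg_nonneg N _ _)]

/-- **Burnside-type inequality for coset averages.** -/
theorem card_nonvanishing_cosetAvg_le_sum {G V : Type*} [Group G] [Fintype G] [DecidableEq G]
    [AddCommGroup V] [Module ℂ V] [FiniteDimensional ℂ V] (ρ : Representation ℂ G V)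
    (N : Subgroup G) [N.Normal] [Fintype N] (T : Finset G)
    (hT : ∀ g ∈ T, ∀ k : ℕ, k.Coprime (Nat.card G) → g ^ k ∈ T) :
    ((T.filter (fun g => cosetAvg N ρ.character g ≠ 0)).card : ℝ) ≤
      ∑ g ∈ T, cosetAvg N ρ.character g := by
  classical
  set χ := ρ.character with hχ
  set M := Nat.card G with hMdef
  have hM : 0 < M := Nat.card_pos
  set K := (Finset.range M).filter (fun k => k.Coprime M) with hK
  have hφ : (0 : ℝ) < (M.totient : ℝ) := by exact_mod_cast Nat.totient_pos.2 hM
  have h1 : ∑ k ∈ K, ∑ g ∈ T, cosetAvg N χ (g ^ k) = (K.card : ℝ) * ∑ g ∈ T, cosetAvg N χ g := by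
    rw [Finset.sum_congr rfl (fun k hk => Cfsg.Agent.Helper82.sum_pow_coprime_eq T k
      (Finset.mem_filter.1 hk).2
      (fun g hg => hT g hg k (Finset.mem_filter.1 hk).2) (fun g => cosetAvg N χ g))]
    rw [Finset.sum_const, nsmul_eq_mul]
  have hcard : K.card = M.totient := by
    rw [Nat.totient_eq_card_coprime]
    congr 1
    ext k
    simp only [hK, Finset.mem_filter, Finset.mem_range, Nat.coprime_comm]
  have h2 : ((T.filter (fun g => cosetAvg N χ g ≠ 0)).card : ℝ) * (M.totient : ℝ) ≤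
      ∑ g ∈ T, ∑ k ∈ K, cosetAvg N χ (g ^ k) := by
    calc ((T.filter (fun g => cosetAvg N χ g ≠ 0)).card : ℝ) * (M.totient : ℝ)
        = ∑ g ∈ T.filter (fun g => cosetAvg N χ g ≠ 0), (M.totient : ℝ) := by
          rw [Finset.sum_const, nsmul_eq_mul]
      _ ≤ ∑ g ∈ T.filter (fun g => cosetAvg N χ g ≠ 0), ∑ k ∈ K, cosetAvg N χ (g ^ k) := by
          apply Finset.sum_le_sum
          intro g hg
          exact totient_le_sum_cosetAvg ρ N g (Finset.mem_filter.1 hg).2
      _ ≤ ∑ g ∈ T, ∑ k ∈ K, cosetAvg N χ (g ^ k) := by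
          apply Finset.sum_le_sum_of_subset_of_nonneg (Finset.filter_subset _ _)
          intro g _ _
          exact Finset.sum_nonneg (fun k _ => cosetAvg_nonneg N _ _)
  rw [Finset.sum_comm, h1, hcard] at h2
  have h3 : ((T.filter (fun g => cosetAvg N χ g ≠ 0)).card : ℝ) * (M.totient : ℝ) ≤
      (∑ g ∈ T, cosetAvg N χ g) * (M.totient : ℝ) := by
    rw [mul_comm (∑ g ∈ T, cosetAvg N χ g) (M.totient : ℝ)]; exact h2
  exact le_of_mul_le_mul_right h3 hφ

/-- The coset averages of an irreducible character sum to `|G|`. -/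
theorem sum_cosetAvg_irr {G : Type*} [Group G] [Fintype G] (N : Subgroup G) [Fintype N]
    (χ : Cfsg.IrrCharacter G) :
    ∑ g : G, cosetAvg N (χ : G → ℂ) g = (Nat.card G : ℝ) := by
  unfold cosetAvg
  rw [← Finset.mul_sum, Finset.sum_comm]
  have : ∀ u : N, ∑ g : G, ‖(χ : G → ℂ) (g * (u : G))‖ ^ 2 = (Nat.card G : ℝ) := by
    intro u
    rw [← Cfsg.Agent.Helper82.sum_normSq_irr χ]
    exact Fintype.sum_equiv (Equiv.mulRight (u : G)) _ _ (fun g => rfl)
  simp_rw [this]
  rw [Finset.sum_const, Finset.card_univ, nsmul_eq_mul, ← mul_assoc, inv_mul_cancel₀, one_mul]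
  exact_mod_cast Fintype.card_ne_zero

/-- `cosetAvg N χ 1` is the norm of the restriction of `χ` to `N`. -/
theorem cosetAvg_one_eq_classInner {G : Type*} [Group G] (N : Subgroup G) [Fintype N]
    (χ : G → ℂ) :
    ((cosetAvg N χ 1 : ℝ) : ℂ) =
      Cfsg.classInner (fun n : N => χ n) (fun n : N => χ n) := by
  unfold cosetAvg Cfsg.classInner
  push_cast
  rw [Nat.card_eq_fintype_card]
  congr 1
  refine Finset.sum_congr rfl fun u _ => ?_
  rw [one_mul, Complex.mul_conj']

/-- **Gallagher's criterion**: the restriction of an irreducible character to a normal subgroup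
is reducible iff the character vanishes on a whole coset. -/
theorem restriction_reducible_iff_vanishes_on_coset {G : Type*} [Group G] [Finite G]
    (N : Subgroup G) [N.Normal] (χ : Cfsg.IrrCharacter G) :
    ¬ Cfsg.IsIrrCharacter ↥N (fun n : ↥N => (χ : G → ℂ) n) ↔
      ∃ x : G, ∀ n : ↥N, (χ : G → ℂ) ((n : G) * x) = 0 := by
  classical
  have := Fintype.ofFinite G
  have : Fintype N := Fintype.ofFinite N
  obtain ⟨χf, d, ρ, hirr, hρ⟩ := χ
  set χ : Cfsg.IrrCharacter G := ⟨χf, d, ρ, hirr, hρ⟩ with hχdef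
  have hχN : Cfsg.IsCharacter ↥N (fun n : ↥N => χf n) := by
    refine ⟨d, ρ.comp N.subtype, ?_⟩
    funext n
    rw [← hρ]
    rfl
  have hiff := Cfsg.Agent.Helper15.isIrrCharacter_iff_inner_self hχN
  have hinner := cosetAvg_one_eq_classInner N χf
  -- cosets: left vs right
  have hcoset : ∀ x : G, (∀ n : ↥N, χf ((n : G) * x) = 0) ↔ cosetAvg N χf x = 0 := by
    intro x
    rw [cosetAvg_eq_zero_iff]
    constructor
    · intro h u
      have hmem : x * (u : G) * x⁻¹ ∈ N := ‹N.Normal›.conj_mem u u.2 x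
      have := h ⟨_, hmem⟩
      simpa using this
    · intro h n
      have hmem : x⁻¹ * (n : G) * x ∈ N := by
        have := ‹N.Normal›.conj_mem n n.2 x⁻¹
        simpa using this
      have := h ⟨_, hmem⟩
      simpa [mul_assoc] using this
  show ¬ Cfsg.IsIrrCharacter ↥N (fun n : ↥N => χf n) ↔ ∃ x : G, ∀ n : ↥N, χf ((n : G) * x) = 0
  constructor
  · intro hred
    by_contra hcon
    push Not at hcon
    have hall : ∀ g : G, cosetAvg N χf g ≠ 0 := by
      intro g h0
      obtain ⟨n, hn⟩ := hcon g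
      exact hn (((hcoset g).2 h0) n)
    -- Burnside count on T = univ.erase 1
    have hT : ∀ g ∈ (Finset.univ.erase (1 : G)), ∀ k : ℕ, k.Coprime (Nat.card G) →
        g ^ k ∈ (Finset.univ.erase (1 : G)) := by
      intro g hg k hk
      rw [Finset.mem_erase] at hg ⊢
      exact ⟨Cfsg.Agent.Helper82.pow_ne_one_of_coprime hg.1 hk, Finset.mem_univ _⟩
    have hB := card_nonvanishing_cosetAvg_le_sum ρ N (Finset.univ.erase (1 : G)) hT
    rw [hρ] at hB
    rw [Finset.filter_true_of_mem (fun g _ => hall g)] at hB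
    have hsum := sum_cosetAvg_irr N χ
    rw [← Finset.add_sum_erase _ _ (Finset.mem_univ (1 : G))] at hsum
    have hχ' : (χ : G → ℂ) = χf := rfl
    rw [hχ'] at hsum
    rw [Finset.card_erase_of_mem (Finset.mem_univ _), Finset.card_univ,
      ← Nat.card_eq_fintype_card] at hB
    have hGpos : 1 ≤ Nat.card G := Nat.card_pos
    rw [Nat.cast_sub hGpos] at hB
    have hle : cosetAvg N χf 1 ≤ 1 := by
      push_cast at hB
      linarith
    obtain ⟨m, hm⟩ := Cfsg.Agent.Helper15.isCharacter_inner_nat hχN hχN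
    rw [← hinner] at hm
    have hm' : cosetAvg N χf 1 = (m : ℝ) := by exact_mod_cast hm
    have hm1 : m = 1 := by
      have h1 : m ≤ 1 := by
        rw [hm'] at hle
        exact_mod_cast hle
      have h2 : m ≠ 0 := by
        intro h
        apply hall 1
        rw [hm', h]; simp
      omega
    apply hred
    rw [hiff, ← hinner, hm', hm1]
    simp
  · rintro ⟨x, hx⟩ hirrN
    rw [hiff, ← hinner] at hirrN
    have h1 : cosetAvg N χf 1 = 1 := by exact_mod_cast hirrN
    have h0 : cosetAvg N χf x = 0 := (hcoset x).1 hx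
    obtain ⟨r, μ, hμ, h⟩ := exists_eigen_cosetAvg ρ N x
    rw [hρ] at h
    have hr : r = 1 := by
      have := h 0
      simp only [pow_zero, Finset.sum_const, Finset.card_univ, Fintype.card_fin, nsmul_eq_mul,
        mul_one] at this
      rw [h1] at this
      exact_mod_cast this.symm
    subst hr
    have := h 1
    simp only [pow_one, Fin.sum_univ_one] at this
    rw [h0] at this
    have hμ0 := hμ 0
    rw [← this] at hμ0
    simp only [Complex.ofReal_zero] at hμ0
    rw [zero_pow Nat.card_pos.ne'] at hμ0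
    exact zero_ne_one hμ0

end Cfsg.Agent.Helper76
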